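import Groth.Agent.LimTop61.Points
import Mathlib.AlgebraicGeometry.Morphisms.QuasiSeparated
import Mathlib.AlgebraicGeometry.Morphisms.UnderlyingMap

set_option autoImplicit false
set_option backward.isDefEq.respectTransparency false
set_option backward.defeqAttrib.useBackward true
universe u

open CategoryTheory CategoryTheory.Limits AlgebraicGeometry TopologicalSpace

namespace Groth.Agent.LimTop61

variable {I : Type u} [SmallCategory I] (D : I ⥤ Scheme.{u}) (c : Cone D)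
  [∀ (i j : I) (f : i ⟶ j), IsAffineHom (D.map f)]

lemma compactSpace_of_map {i i₀ : I} (φ : i ⟶ i₀) [CompactSpace (D.obj i₀)] :
    CompactSpace (D.obj i) :=
  QuasiCompact.compactSpace_of_compactSpace (D.map φ)

lemma quasiSeparatedSpace_of_map {i i₀ : I} (φ : i ⟶ i₀) [QuasiSeparatedSpace (D.obj i₀)] :
    QuasiSeparatedSpace (D.obj i) :=
  quasiSeparatedSpace_of_quasiSeparated (D.map φ)

lemma isCompact_preimage_map {i j : I} (φ : j ⟶ i) {U : (D.obj i).Opens}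
    (hU : IsCompact (U : Set (D.obj i))) :
    IsCompact ((D.map φ ⁻¹ᵁ U : (D.obj j).Opens) : Set (D.obj j)) :=
  QuasiCompact.isCompact_preimage _ U.2 hU

variable [IsCofiltered I] (hc : IsLimit c)

include hc

/-- A limit over a quasi-compact stage is quasi-compact. -/
lemma compactSpace_pt (i₀ : I) [CompactSpace (D.obj i₀)] : CompactSpace c.pt :=
  haveI := isAffineHom_π_app D c hc i₀
  QuasiCompact.compactSpace_of_compactSpace (c.π.app i₀)

/-- Quasi-compact opens descend to a stage over any given index. -/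
lemma exists_preimage_eq_over (i₀ : I) (U : c.pt.Opens) (hU : IsCompact (U : Set c.pt)) :
    ∃ (i : I) (_ : i ⟶ i₀) (V : (D.obj i).Opens),
      IsCompact (V : Set (D.obj i)) ∧ c.π.app i ⁻¹ᵁ V = U := by
  obtain ⟨k, W, hW, rfl⟩ := exists_preimage_eq D c hc U hU
  obtain ⟨i, a, b, -⟩ := IsCofilteredOrEmpty.cone_objs k i₀
  exact ⟨i, b, D.map a ⁻¹ᵁ W, isCompact_preimage_map D a hW,
    by rw [← Scheme.Hom.comp_preimage, c.w]⟩

/-- Two quasi-compact opens descend to a common stage over any given index. -/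
lemma exists_preimage_eq_over₂ (i₀ : I) (U U' : c.pt.Opens) (hU : IsCompact (U : Set c.pt))
    (hU' : IsCompact (U' : Set c.pt)) :
    ∃ (i : I) (_ : i ⟶ i₀) (V V' : (D.obj i).Opens),
      IsCompact (V : Set (D.obj i)) ∧ IsCompact (V' : Set (D.obj i)) ∧
        c.π.app i ⁻¹ᵁ V = U ∧ c.π.app i ⁻¹ᵁ V' = U' := by
  obtain ⟨k, φ, W, hW, rfl⟩ := exists_preimage_eq_over D c hc i₀ U hU
  obtain ⟨i, ψ, W', hW', rfl⟩ := exists_preimage_eq_over D c hc k U' hU'
  exact ⟨i, ψ ≫ φ, D.map ψ ⁻¹ᵁ W, W', isCompact_preimage_map D ψ hW, hW',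
    by rw [← Scheme.Hom.comp_preimage, c.w], rfl⟩

/-- A quasi-compact stage whose limit is empty becomes empty at some stage. -/
lemma exists_isEmpty_stage (i₀ : I) [CompactSpace (D.obj i₀)] [IsEmpty c.pt] :
    ∃ (i : I) (_ : i ⟶ i₀), IsEmpty (D.obj i) := by
  obtain ⟨i, φ, hi⟩ := exists_map_preimage_le_map_preimage D c hc (i := i₀) (U := ⊤) (V := ⊥)
    isCompact_univ (fun x _ => IsEmpty.false (α := c.pt) x |>.elim)
  exact ⟨i, φ, ⟨fun x => hi (show x ∈ D.map φ ⁻¹ᵁ ⊤ from trivial)⟩⟩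

/-- If all transition maps are dominant, an open of a stage with empty preimage in the
limit is empty. -/
lemma eq_bot_of_preimage_eq_bot (hd : ∀ (i j : I) (φ : i ⟶ j), IsDominant (D.map φ)) {i : I}
    (V : (D.obj i).Opens) (h : c.π.app i ⁻¹ᵁ V = ⊥) : V = ⊥ := by
  by_contra hne
  obtain ⟨x, hx⟩ : (V : Set (D.obj i)).Nonempty := by
    rw [← Opens.ne_bot_iff_nonempty]; exact hne
  obtain ⟨_, ⟨W, hW, rfl⟩, hxW, hWV⟩ :=
    (D.obj i).isBasis_affineOpens.exists_subset_of_mem_open hx V.2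
  have (j : Over i) : Nonempty ((opensDiagram D i W).obj j) := by
    obtain ⟨y, hy⟩ := (hd _ _ j.hom).denseRange.exists_mem_open W.2 ⟨x, hxW⟩
    exact ⟨⟨y, hy⟩⟩
  have (j : Over i) : CompactSpace ((opensDiagram D i W).obj j) :=
    isCompact_iff_compactSpace.mp (hW.preimage (D.map j.hom)).isCompact
  obtain ⟨z⟩ := Scheme.nonempty_of_isLimit _ _ (isLimitOpensCone D c hc i W)
  have : z.1 ∈ c.π.app i ⁻¹ᵁ V := hWV z.2
  rw [h] at this
  exact this

/-- With dominant transition maps, all projections are dominant. -/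
lemma denseRange_π (hd : ∀ (i j : I) (φ : i ⟶ j), IsDominant (D.map φ)) (i : I) :
    DenseRange (c.π.app i) := by
  rw [DenseRange, dense_iff_inter_open]
  intro U hU hne
  by_contra h
  have : (⟨U, hU⟩ : (D.obj i).Opens) = ⊥ := eq_bot_of_preimage_eq_bot D c hc hd _ <| by
    ext x
    simp only [Opens.coe_bot, Set.mem_empty_iff_false, iff_false]
    exact fun hx => h ⟨_, hx, x, rfl⟩
  exact hne.ne_empty congr(($this : Set (D.obj i)))

/-- A disconnected limit comes from eventually disconnected stages. -/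
lemma eventually_not_preconnected (i₀ : I) [CompactSpace (D.obj i₀)]
    (hdisj : ∀ (i : I) (_ : i ⟶ i₀) (V V' : (D.obj i).Opens), IsCompact (V : Set (D.obj i)) →
      IsCompact (V' : Set (D.obj i)) → c.π.app i ⁻¹ᵁ (V ⊓ V') = ⊥ →
        ∃ (j : I) (φ : j ⟶ i), D.map φ ⁻¹ᵁ (V ⊓ V') = ⊥)
    (h : ¬ PreconnectedSpace c.pt) :
    ∃ (i : I) (_ : i ⟶ i₀), ∀ (j : I) (_ : j ⟶ i), ¬ PreconnectedSpace (D.obj j) := by
  have := compactSpace_pt D c hc i₀
  obtain ⟨s, hs, hs₁, hs₂⟩ : ∃ s : Set c.pt, IsClopen s ∧ s.Nonempty ∧ sᶜ.Nonempty := by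
    by_contra! H
    refine h (preconnectedSpace_iff_clopen.mpr fun s hs => ?_)
    rcases s.eq_empty_or_nonempty with hs' | hs'
    · exact .inl hs'
    · exact .inr (Set.compl_empty_iff.mp (H s hs hs'))
  obtain ⟨k, φ, V, V', hV, hV', hVs, hV's⟩ := exists_preimage_eq_over₂ D c hc i₀ ⟨s, hs.2⟩
    ⟨sᶜ, hs.1.isOpen_compl⟩ hs.1.isCompact hs.2.isClosed_compl.isCompact
  obtain ⟨a, α, ha⟩ := hdisj k φ V V' hV hV' <| by
    rw [Scheme.Hom.preimage_inf, hVs, hV's]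
    ext x
    simp
  have := compactSpace_of_map D φ
  obtain ⟨b, β, hb⟩ := exists_map_preimage_le_map_preimage D c hc (i := k) (U := ⊤) (V := V ⊔ V')
    isCompact_univ (by rw [Scheme.Hom.preimage_sup, hVs, hV's]; intro x _; exact em (x ∈ s))
  obtain ⟨i, a', b', hab⟩ := IsCofiltered.cospan α β
  refine ⟨i, a' ≫ α ≫ φ, fun j ψ => fun hj => ?_⟩
  let χ : j ⟶ k := ψ ≫ a' ≫ α
  have hcov : ∀ x : D.obj j, D.map χ x ∈ V ⊔ V' := by
    intro x
    have := hb (show D.map (ψ ≫ b') x ∈ D.map β ⁻¹ᵁ ⊤ from trivial)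
    change D.map β (D.map (ψ ≫ b') x) ∈ V ⊔ V' at this
    rw [← Scheme.Hom.comp_apply, ← D.map_comp] at this
    simpa [χ, hab] using this
  have hdis : ∀ x : D.obj j, D.map χ x ∈ V → D.map χ x ∈ V' → False := by
    intro x hx hx'
    have : D.map (ψ ≫ a') x ∈ D.map α ⁻¹ᵁ (V ⊓ V') := by
      change D.map α (D.map (ψ ≫ a') x) ∈ V ⊓ V'
      rw [← Scheme.Hom.comp_apply, ← D.map_comp]
      simp only [Category.assoc]
      exact ⟨hx, hx'⟩
    rw [ha] at this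
    exact this
  have hclopen : IsClopen (D.map χ ⁻¹' (V : Set (D.obj k))) := by
    refine ⟨⟨?_⟩, V.2.preimage (D.map χ).continuous⟩
    convert V'.2.preimage (D.map χ).continuous using 1
    ext x
    exact ⟨fun hx => (hcov x).resolve_left hx, fun hx hx' => hdis x hx' hx⟩
  obtain ⟨x, hx⟩ := hs₁
  obtain ⟨y, hy⟩ := hs₂
  rcases isClopen_iff.mp hclopen with h0 | h1
  · have : c.π.app j x ∈ D.map χ ⁻¹' (V : Set (D.obj k)) := by
      show D.map χ (c.π.app j x) ∈ V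
      rw [π_apply]
      show x ∈ c.π.app k ⁻¹ᵁ V
      rw [hVs]; exact hx
    rw [h0] at this
    exact this
  · have : c.π.app j y ∈ D.map χ ⁻¹' (V : Set (D.obj k)) := h1 ▸ trivial
    change D.map χ (c.π.app j y) ∈ V at this
    rw [π_apply] at this
    have : y ∈ c.π.app k ⁻¹ᵁ V := this
    rw [hVs] at this
    exact hy this

/-- Intersection of quasi-compact opens with empty limit preimage, quasi-separated case. -/
lemma exists_map_preimage_inf_eq_bot (i₀ : I) [QuasiSeparatedSpace (D.obj i₀)] (i : I)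
    (φ : i ⟶ i₀) (V V' : (D.obj i).Opens) (hV : IsCompact (V : Set (D.obj i)))
    (hV' : IsCompact (V' : Set (D.obj i))) (h : c.π.app i ⁻¹ᵁ (V ⊓ V') = ⊥) :
    ∃ (j : I) (ψ : j ⟶ i), D.map ψ ⁻¹ᵁ (V ⊓ V') = ⊥ := by
  have := quasiSeparatedSpace_of_map D φ
  obtain ⟨j, ψ, hj⟩ := exists_map_preimage_le_map_preimage D c hc
    (U := V ⊓ V') (V := ⊥) (hV.inter_of_isOpen hV' V.2 V'.2) (by rw [h]; exact bot_le)
  exact ⟨j, ψ, le_bot_iff.mp (hj.trans fun x hx => hx)⟩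

/-- Non-irreducibility of a nonempty limit is detected at the stages. -/
lemma eventually_not_irreducible (i₀ : I) [CompactSpace (D.obj i₀)]
    (hdisj : ∀ (i : I) (_ : i ⟶ i₀) (V V' : (D.obj i).Opens), IsCompact (V : Set (D.obj i)) →
      IsCompact (V' : Set (D.obj i)) → c.π.app i ⁻¹ᵁ (V ⊓ V') = ⊥ →
        ∃ (j : I) (φ : j ⟶ i), D.map φ ⁻¹ᵁ (V ⊓ V') = ⊥)
    (h : ¬ IrreducibleSpace c.pt) :
    ∃ (i : I) (_ : i ⟶ i₀), ∀ (j : I) (_ : j ⟶ i), ¬ IrreducibleSpace (D.obj j) := by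
  rcases isEmpty_or_nonempty c.pt with he | hne
  · obtain ⟨i, φ, hi⟩ := exists_isEmpty_stage D c hc i₀
    exact ⟨i, φ, fun j ψ hj => (Function.isEmpty (D.map ψ)).false hj.toNonempty.some⟩
  · obtain ⟨U, U', hU, hU', ⟨x, hx⟩, ⟨y, hy⟩, hUU'⟩ : ∃ U U' : Set c.pt, IsOpen U ∧ IsOpen U' ∧
        U.Nonempty ∧ U'.Nonempty ∧ U ∩ U' = ∅ := by
      by_contra! H
      refine h { isPreirreducible_univ := fun U U' hU hU' hne hne' => ?_, toNonempty := hne }
      rw [Set.univ_inter] at hne hne' ⊢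
      exact H U U' hU hU' hne hne'
    obtain ⟨_, ⟨A, hA, rfl⟩, hxA, hAU⟩ := c.pt.isBasis_affineOpens.exists_subset_of_mem_open hx hU
    obtain ⟨_, ⟨B, hB, rfl⟩, hyB, hBU⟩ :=
      c.pt.isBasis_affineOpens.exists_subset_of_mem_open hy hU'
    obtain ⟨k, φ, V, V', hV, hV', hVA, hV'B⟩ :=
      exists_preimage_eq_over₂ D c hc i₀ A B hA.isCompact hB.isCompact
    obtain ⟨a, α, ha⟩ := hdisj k φ V V' hV hV' <| by
      rw [Scheme.Hom.preimage_inf, hVA, hV'B]
      ext z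
      simp only [Opens.coe_inf, Opens.coe_bot, Set.mem_empty_iff_false, iff_false]
      exact fun hz => hUU'.le ⟨hAU hz.1, hBU hz.2⟩
    refine ⟨a, α ≫ φ, fun j ψ hj => ?_⟩
    have h₁ : (D.map (ψ ≫ α) ⁻¹ᵁ V : Set (D.obj j)).Nonempty := by
      refine ⟨c.π.app j x, ?_⟩
      show D.map (ψ ≫ α) (c.π.app j x) ∈ V
      rw [π_apply]
      show x ∈ c.π.app k ⁻¹ᵁ V
      rw [hVA]; exact hxA
    have h₂ : (D.map (ψ ≫ α) ⁻¹ᵁ V' : Set (D.obj j)).Nonempty := by
      refine ⟨c.π.app j y, ?_⟩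
      show D.map (ψ ≫ α) (c.π.app j y) ∈ V'
      rw [π_apply]
      show y ∈ c.π.app k ⁻¹ᵁ V'
      rw [hV'B]; exact hyB
    obtain ⟨z, hz, hz'⟩ := nonempty_preirreducible_inter (D.map (ψ ≫ α) ⁻¹ᵁ V).2
      (D.map (ψ ≫ α) ⁻¹ᵁ V').2 h₁ h₂
    have : D.map ψ z ∈ D.map α ⁻¹ᵁ (V ⊓ V') := by
      change D.map α (D.map ψ z) ∈ V ⊓ V'
      rw [← Scheme.Hom.comp_apply, ← D.map_comp]
      exact ⟨hz, hz'⟩
    rw [ha] at this
    exact this

end Groth.Agent.LimTop61
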