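import Groth.Agent.LimTop61.Stalks

set_option autoImplicit false
set_option backward.isDefEq.respectTransparency false
universe u

open CategoryTheory CategoryTheory.Limits AlgebraicGeometry

namespace Groth.Agent.LimTop61

/-- The source of reducedness descends along a flat surjective morphism. -/
lemma isReduced_of_flat_surjective {X Y : Scheme.{u}} (f : X ⟶ Y) [Flat f] [Surjective f]
    [IsReduced X] : IsReduced Y := by
  have (y : Y) : _root_.IsReduced (Y.presheaf.stalk y) := by
    obtain ⟨x, rfl⟩ := f.surjective y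
    algebraize [(f.stalkMap x).hom]
    have : Module.Flat (Y.presheaf.stalk (f x)) (X.presheaf.stalk x) := Flat.stalkMap f x
    have : IsLocalHom (algebraMap (Y.presheaf.stalk (f x)) (X.presheaf.stalk x)) :=
      inferInstanceAs (IsLocalHom (f.stalkMap x).hom)
    have : Module.FaithfullyFlat (Y.presheaf.stalk (f x)) (X.presheaf.stalk x) :=
      Module.FaithfullyFlat.of_flat_of_isLocalHom
    exact isReduced_of_injective (f.stalkMap x).hom
      (FaithfulSMul.algebraMap_injective (Y.presheaf.stalk (f x)) (X.presheaf.stalk x))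
  exact isReduced_of_isReduced_stalk Y

variable {I : Type u} [SmallCategory I] [IsCofiltered I] (D : I ⥤ Scheme.{u}) (c : Cone D)
  (hc : IsLimit c) [∀ (i j : I) (f : i ⟶ j), IsAffineHom (D.map f)]

include hc

/-- A non-reduced limit has non-reduced stages eventually. -/
lemma eventually_not_isReduced (h : ¬ IsReduced c.pt) :
    ∃ i : I, ∀ (j : I) (_ : j ⟶ i), ¬ IsReduced (D.obj j) := by
  obtain ⟨s, hs⟩ : ∃ s : c.pt, ¬ _root_.IsReduced (c.pt.presheaf.stalk s) := by
    by_contra! H
    exact h (isReduced_of_isReduced_stalk c.pt)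
  obtain ⟨g, hg, hg0⟩ : ∃ g : c.pt.presheaf.stalk s, IsNilpotent g ∧ g ≠ 0 := by
    by_contra! H
    exact hs ⟨H⟩
  obtain ⟨n, hn⟩ := hg
  obtain ⟨k, x, rfl⟩ := exists_stalkMap_π_eq D c hc s g
  obtain ⟨i, φ, hi⟩ := exists_stalkTrans_eq_zero D c hc s (x ^ n) (by rw [map_pow]; exact hn)
  refine ⟨i, fun j ψ hj => hg0 ?_⟩
  rw [← π_stalkMap_stalkTrans D c (ψ ≫ φ) s x]
  have : IsNilpotent (stalkTrans D c (ψ ≫ φ) s x) := by
    refine ⟨n, ?_⟩
    rw [← map_pow, ← stalkTrans_comp, hi, map_zero]
  rw [this.eq_zero, map_zero]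

end Groth.Agent.LimTop61
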