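import Groth.Agent.LimTop61.ImmDescent
import Mathlib.AlgebraicGeometry.Morphisms.Separated

set_option autoImplicit false
set_option backward.isDefEq.respectTransparency false
set_option backward.defeqAttrib.useBackward true
universe u

open CategoryTheory CategoryTheory.Limits AlgebraicGeometry Topology

namespace Groth.Agent.LimTop61

/-- A morphism between a finitely presented and a finite type scheme is of finite presentation. -/
lemma locallyOfFinitePresentation_of_comp {X Y Z : Scheme.{u}} (f : X ⟶ Y) (g : Y ⟶ Z)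
    [LocallyOfFinitePresentation (f ≫ g)] [LocallyOfFiniteType g] :
    LocallyOfFinitePresentation f := by
  rw [HasRingHomProperty.iff_exists_appLE (P := @LocallyOfFinitePresentation)
    (RingHom.finitePresentation_stableUnderComposition.stableUnderCompositionWithLocalizationAway
      RingHom.finitePresentation_holdsForLocalizationAway).left]
  intro x
  obtain ⟨_, ⟨U, hU, rfl⟩, hxU, -⟩ :=
    Z.isBasis_affineOpens.exists_subset_of_mem_open (Set.mem_univ (g (f x))) isOpen_univ
  obtain ⟨_, ⟨V, hV, rfl⟩, hxV, hVU⟩ :=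
    Y.isBasis_affineOpens.exists_subset_of_mem_open (show f x ∈ g ⁻¹ᵁ U from hxU) (g ⁻¹ᵁ U).2
  obtain ⟨_, ⟨W, hW, rfl⟩, hxW, hWV⟩ :=
    X.isBasis_affineOpens.exists_subset_of_mem_open (show x ∈ f ⁻¹ᵁ V from hxV) (f ⁻¹ᵁ V).2
  refine ⟨⟨V, hV⟩, ⟨W, hW⟩, hxW, hWV, ?_⟩
  have h1 := HasRingHomProperty.appLE @LocallyOfFinitePresentation (f ≫ g) inferInstance
    ⟨U, hU⟩ ⟨W, hW⟩ (fun y hy => hVU (hWV hy))
  have h2 := HasRingHomProperty.appLE @LocallyOfFiniteType g inferInstance ⟨U, hU⟩ ⟨V, hV⟩ hVU
  rw [← Scheme.Hom.appLE_comp_appLE f g U V W hVU hWV, CommRingCat.hom_comp] at h1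
  exact RingHom.FinitePresentation.of_comp_finiteType _ h1 h2

/-- The diagonal of a base change is the base change of the diagonal. -/
lemma diagonal_isPullback_of_isPullback {X Y X' Y' : Scheme.{u}} {f : X ⟶ Y} {f' : X' ⟶ Y'}
    {p : X' ⟶ X} {q : Y' ⟶ Y} (h : IsPullback p f' f q) :
    IsPullback p (pullback.diagonal f') (pullback.diagonal f)
      (pullback.map f' f' f f p p q h.w.symm h.w.symm) := by
  have w : p ≫ pullback.diagonal f =
      pullback.diagonal f' ≫ pullback.map f' f' f f p p q h.w.symm h.w.symm := by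
    apply pullback.hom_ext <;> simp [pullback.map]
  refine ⟨⟨w⟩, ⟨PullbackCone.IsLimit.mk w (fun s => s.snd ≫ pullback.fst f' f')
    (fun s => ?_) (fun s => ?_) (fun s m hm₁ hm₂ => ?_)⟩⟩
  · have := congrArg (fun z => z ≫ pullback.fst f f) s.condition
    simp [pullback.map] at this
    simp [this]
  · have h1 := congrArg (fun z => z ≫ pullback.fst f f) s.condition
    have h2 := congrArg (fun z => z ≫ pullback.snd f f) s.condition
    simp [pullback.map] at h1 h2
    apply pullback.hom_ext
    · simp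
    · simp only [Category.assoc, pullback.diagonal_snd, Category.comp_id]
      refine h.hom_ext ?_ ?_
      · simp only [Category.assoc]; exact h1.symm.trans h2
      · simp only [Category.assoc]; rw [pullback.condition]
  · rw [← hm₂]; simp

/-- A base change is separated iff the preimage of the range of the diagonal is closed. -/
lemma isSeparated_iff_isClosed_preimage {X Y X' Y' : Scheme.{u}} {f : X ⟶ Y} {f' : X' ⟶ Y'}
    {p : X' ⟶ X} {q : Y' ⟶ Y} (h : IsPullback p f' f q) :
    IsSeparated f' ↔ IsClosed (⇑(pullback.map f' f' f f p p q h.w.symm h.w.symm) ⁻¹'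
      Set.range (pullback.diagonal f) : Set ↥(pullback f' f')) := by
  have hr : Set.range (pullback.diagonal f') =
      ⇑(pullback.map f' f' f f p p q h.w.symm h.w.symm) ⁻¹' Set.range (pullback.diagonal f) := by
    rw [← Set.image_univ, ← Set.image_univ,
      ← Scheme.image_preimage_eq_of_isPullback (diagonal_isPullback_of_isPullback h) Set.univ]
    rfl
  rw [← hr]
  exact ⟨fun hs => (pullback.diagonal f').isClosedEmbedding.isClosed_range,
    fun hc => ⟨IsClosedImmersion.of_isPreimmersion _ hc⟩⟩

/-- The self product of a base change is the base change of the self product. -/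
lemma diagonalObj_isPullback {X Y X' Y' S S' : Scheme.{u}} {f : X ⟶ Y} {f' : X' ⟶ Y'}
    {p : X' ⟶ X} {q : Y' ⟶ Y} (h : IsPullback p f' f q) {g : Y ⟶ S} {g' : Y' ⟶ S'} {r : S' ⟶ S}
    (hY : IsPullback q g' g r) :
    IsPullback (pullback.map f' f' f f p p q h.w.symm h.w.symm) (pullback.snd f' f' ≫ f' ≫ g')
      (pullback.snd f f ≫ f ≫ g) r := by
  have h1 := (IsPullback.of_hasPullback f' f').paste_horiz h
  rw [← h.w] at h1
  have h2 : IsPullback (pullback.map f' f' f f p p q h.w.symm h.w.symm) (pullback.snd f' f')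
      (pullback.snd f f) p := by
    refine IsPullback.of_right (h₁₂ := pullback.fst f f) (h₂₂ := f) (v₁₃ := f) ?_
      (by simp [pullback.map]) (IsPullback.of_hasPullback f f)
    simpa [pullback.map] using h1
  exact h2.paste_vert (h.paste_vert hY)

variable {I : Type u} [SmallCategory I] [IsCofiltered I] (D : I ⥤ Scheme.{u}) (c : Cone D)
  (hc : IsLimit c) [∀ (i j : I) (f : i ⟶ j), IsAffineHom (D.map f)]

include hc

/-- Separatedness descends to a stage. -/
theorem exists_isSeparated_stage {i₀ : I} {X₀ Y₀ : Scheme.{u}} (f₀ : X₀ ⟶ Y₀)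
    (g₀ : Y₀ ⟶ D.obj i₀) [CompactSpace Y₀]
    [LocallyOfFiniteType f₀] [QuasiCompact f₀] [QuasiSeparated f₀]
    {X Y : Scheme.{u}} (f : X ⟶ Y) (g : Y ⟶ c.pt) (qY : Y ⟶ Y₀) (qX : X ⟶ X₀)
    (hY : IsPullback qY g g₀ (c.π.app i₀)) (hX : IsPullback qX f f₀ qY) [IsSeparated f] :
    ∃ (j : I) (φ : j ⟶ i₀), IsSeparated (pullback.snd f₀ (pullback.fst g₀ (D.map φ))) := by
  have : CompactSpace X₀ := QuasiCompact.compactSpace_of_compactSpace f₀
  have : CompactSpace ↥(pullback f₀ f₀) :=
    QuasiCompact.compactSpace_of_compactSpace (pullback.fst f₀ f₀)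
  have : LocallyOfFinitePresentation (pullback.diagonal f₀ ≫ pullback.fst f₀ f₀) := by
    rw [pullback.diagonal_fst]; infer_instance
  have : LocallyOfFinitePresentation (pullback.diagonal f₀) :=
    locallyOfFinitePresentation_of_comp _ (pullback.fst f₀ f₀)
  let a := pullback.snd f₀ f₀ ≫ f₀ ≫ g₀
  have hP := diagonalObj_isPullback hX hY
  let top : Over i₀ := Over.mk (𝟙 i₀)
  let e : (bcDiagram D a).obj top ⟶ pullback f₀ f₀ := pullback.fst a (D.map top.hom)
  let R : Set ↥((bcDiagram D a).obj top) := (⇑e ⁻¹' Set.range (pullback.diagonal f₀))ᶜ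
  obtain ⟨j, φ, hj⟩ := exists_isOpen_preimage _ _ (isLimitBcCone D c hc a _ _ hP) R
    (((isConsClosed_compl_range (pullback.diagonal f₀)).preimage e))
    (by rw [compl_compl]; exact (isConsClosed_range (pullback.diagonal f₀)).preimage e) (by
      rw [Set.preimage_compl, isOpen_compl_iff]
      have hcl := (isSeparated_iff_isClosed_preimage hX).mp ‹_›
      have he : (bcCone D c a _ _ hP.w).π.app top ≫ e =
          pullback.map f f f₀ f₀ qX qX qY hX.w.symm hX.w.symm := pullback.lift_fst _ _ _
      rw [← he] at hcl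
      exact hcl)
  refine ⟨j.left, j.hom, ?_⟩
  have hXj := IsPullback.of_hasPullback f₀ (pullback.fst g₀ (D.map j.hom))
  have hYj := IsPullback.of_hasPullback g₀ (D.map j.hom)
  rw [isSeparated_iff_isClosed_preimage hXj]
  have hm := diagonalObj_isPullback hXj hYj
  rw [← hm.isoPullback_hom_fst]
  rw [Set.preimage_compl, isOpen_compl_iff] at hj
  have he : (bcDiagram D a).map φ ≫ e = pullback.fst a (D.map j.hom) := pullback.lift_fst _ _ _
  have hj' : IsClosed (⇑(pullback.fst a (D.map j.hom)) ⁻¹' Set.range (pullback.diagonal f₀)) := by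
    rw [← he]; exact hj
  exact hj'.preimage hm.isoPullback.hom.continuous

end Groth.Agent.LimTop61
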