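import Groth.Agent.LimTop61.IdealDescent
import Groth.Agent.LimTop61.Descent

set_option autoImplicit false
set_option backward.isDefEq.respectTransparency false
set_option backward.defeqAttrib.useBackward true
universe u

open CategoryTheory CategoryTheory.Limits AlgebraicGeometry TopologicalSpace

namespace Groth.Agent.LimTop61

/-- Restriction to an open subscheme commutes with finite infima of ideal sheaves. -/
lemma comap_iInf_of_isOpenImmersion {X Y : Scheme.{u}} {ι : Type*} [Finite ι]
    (K : ι → Y.IdealSheafData) (g : X ⟶ Y) [IsOpenImmersion g] :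
    (⨅ a, K a).comap g = ⨅ a, (K a).comap g := by
  ext1
  funext W
  simp [Scheme.IdealSheafData.ideal_comap_of_isOpenImmersion, Ideal.comap_iInf]

/-- Gluing of ideal sheaves along a finite open covering. -/
theorem exists_glue {X : Scheme.{u}} {ι : Type*} [Finite ι] (V : ι → X.Opens)
    [∀ a, QuasiCompact (V a).ι] (K : ∀ a, (V a).toScheme.IdealSheafData)
    (h : ∀ a b, (K a).comap (pullback.fst (V a).ι (V b).ι) =
      (K b).comap (pullback.snd (V a).ι (V b).ι)) :
    ∃ J : X.IdealSheafData, ∀ b, J.comap (V b).ι = K b := by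
  refine ⟨⨅ a, (K a).map (V a).ι, fun b => le_antisymm
    ((Scheme.IdealSheafData.comap_mono _ (iInf_le _ b)).trans
      (Scheme.IdealSheafData.comap_map_le _ _)) ?_⟩
  rw [comap_iInf_of_isOpenImmersion]
  refine le_iInf fun a => ?_
  have H := (((IsPullback.of_hasPullback (pullback.fst (V a).ι (V b).ι) (K a).subschemeι).flip.paste_vert
    (IsPullback.of_hasPullback (V a).ι (V b).ι))).flip
  rw [Scheme.IdealSheafData.map, ker_comap_of_isOpenImmersion _ _ _ _ H,
    ← map_comap_eq_ker (K a) _ _ _ _ (IsPullback.of_hasPullback _ _), h a b]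
  exact Scheme.IdealSheafData.le_map_comap _ _

/-- Ideal sheaves are determined by their restrictions to an affine open covering. -/
theorem ext_of_comap_eq {X : Scheme.{u}} {ι : Type u} (U : ι → X.Opens)
    (hU : ∀ a, IsAffineOpen (U a)) (hcov : (⨆ a, U a) = ⊤) (I J : X.IdealSheafData)
    (h : ∀ a, I.comap (U a).ι = J.comap (U a).ι) : I = J := by
  refine Scheme.IdealSheafData.ext_of_iSup_eq_top (fun a => (⟨U a, hU a⟩ : X.affineOpens)) hcov
    fun a => ?_
  have : IsAffine (U a).toScheme := hU a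
  have h' := congrArg
    (fun L : (U a).toScheme.IdealSheafData => L.ideal ⟨⊤, isAffineOpen_top (U a).toScheme⟩) (h a)
  simp only [Scheme.IdealSheafData.ideal_comap_of_isOpenImmersion] at h'
  have key : ∀ (W : X.affineOpens), W = ⟨U a, hU a⟩ →
      ∀ (e : Γ(X, W) ≅ Γ(U a, ⊤)), (I.ideal W).comap e.inv.hom = (J.ideal W).comap e.inv.hom →
      I.ideal ⟨U a, hU a⟩ = J.ideal ⟨U a, hU a⟩ := by
    rintro W rfl e he
    exact Ideal.comap_injective_of_surjective _ (ConcreteCategory.bijective_of_isIso e.inv).2 he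
  exact key _ (Subtype.ext (U a).ι_image_top) _ h'

variable {I : Type u} [SmallCategory I] [IsCofiltered I] (D : I ⥤ Scheme.{u}) (c : Cone D)
  (hc : IsLimit c) [∀ (i j : I) (f : i ⟶ j), IsAffineHom (D.map f)]

include hc

/-- On a member of an affine open covering, a finitely presented ideal sheaf descends. -/
theorem exists_comap_eq_local {i : I} (V : (D.obj i).Opens) (hV : IsAffineOpen V)
    (J : c.pt.IdealSheafData) [LocallyOfFinitePresentation J.subschemeι] :
    ∃ (j : I) (φ : j ⟶ i) (K : (D.map φ ⁻¹ᵁ V).toScheme.IdealSheafData),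
      LocallyOfFinitePresentation K.subschemeι ∧
      K.comap ((c.π.app j).resLE (D.map φ ⁻¹ᵁ V) (c.π.app i ⁻¹ᵁ V)
        (by rw [← Scheme.Hom.comp_preimage, c.w])) = J.comap (c.π.app i ⁻¹ᵁ V).ι := by
  have (j : Over i) : IsAffine ((opensDiagram D i V).obj j) := hV.preimage (D.map j.hom)
  have : LocallyOfFinitePresentation
      (J.comap (c.π.app i ⁻¹ᵁ V).ι).subschemeι := lfp_comap _ _
  obtain ⟨j, K, hK, hKc⟩ := exists_comap_eq_of_isAffine (opensDiagram D i V) (opensCone D c i V)
    (isLimitOpensCone D c hc i V) (J.comap (c.π.app i ⁻¹ᵁ V).ι)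
  exact ⟨j.left, j.hom, K, hK, hKc⟩

/-- A finitely presented ideal sheaf on the limit of quasi-compact quasi-separated schemes
comes from a stage. -/
theorem exists_idealSheaf_descend [∀ i, CompactSpace (D.obj i)]
    [∀ i, QuasiSeparatedSpace (D.obj i)] (J : c.pt.IdealSheafData)
    [LocallyOfFinitePresentation J.subschemeι] :
    ∃ (n : I) (Jn : (D.obj n).IdealSheafData), LocallyOfFinitePresentation Jn.subschemeι ∧
      Jn.comap (c.π.app n) = J := by
  classical
  have : CompactSpace c.pt := Scheme.compactSpace_of_isLimit D c hc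
  obtain ⟨s, hs⟩ := isCompact_univ.elim_finite_subcover
    (fun U : c.pt.affineOpens => (U.1 : Set c.pt)) (fun U => U.1.2) (fun x _ => by
      obtain ⟨_, ⟨U, hU, rfl⟩, hxU, -⟩ :=
        c.pt.isBasis_affineOpens.exists_subset_of_mem_open (Set.mem_univ x) isOpen_univ
      exact Set.mem_iUnion.mpr ⟨⟨U, hU⟩, hxU⟩)
  obtain ⟨i, V, hVcov, hV⟩ := Scheme.exists_isOpenCover_and_isAffine_of_finite D c hc
    (fun U : s => U.1.1) (TopologicalSpace.IsOpenCover.mk (top_le_iff.mp fun x _ => by
      obtain ⟨U, hU, hxU⟩ := Set.mem_iUnion₂.mp (hs (Set.mem_univ x))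
      exact Opens.mem_iSup.mpr ⟨⟨U, hU⟩, hxU⟩)) (fun U => U.1.2)
  choose j φ K hK hKc using fun a => exists_comap_eq_local D c hc (V a) (hV a).1 J
  obtain ⟨m, ψ, χ, hχ⟩ := LimDesc62.DescProp.exists_common φ
  let W (a) : (D.obj m).Opens := D.map ψ ⁻¹ᵁ V a
  have hW (a) : IsAffineOpen (W a) := (hV a).1.preimage _
  have hWe (a) : W a ≤ D.map (χ a) ⁻¹ᵁ D.map (φ a) ⁻¹ᵁ V a := by
    rw [← Scheme.Hom.comp_preimage, ← D.map_comp, hχ]
  let L (a) := (K a).comap ((D.map (χ a)).resLE _ _ (hWe a))
  have hL (a) : LocallyOfFinitePresentation (L a).subschemeι :=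
    have := hK a; lfp_comap _ _
  have hUW (a) : c.π.app i ⁻¹ᵁ V a ≤ c.π.app m ⁻¹ᵁ W a := by
    rw [← Scheme.Hom.comp_preimage, c.w]
  have hLc (a) : (L a).comap ((c.π.app m).resLE (W a) (c.π.app i ⁻¹ᵁ V a) (hUW a)) =
      J.comap (c.π.app i ⁻¹ᵁ V a).ι := by
    rw [← Scheme.IdealSheafData.comap_comp, Scheme.Hom.resLE_comp_resLE, ← hKc a]
    simp only [c.w]
  have : ∀ a, CompactSpace (W a).toScheme := fun a => isCompact_iff_compactSpace.mp (hW a).isCompact
  have step (p : s × s) : ∃ (n : I) (θ : n ⟶ m),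
      ((L p.1).comap (pullback.fst (W p.1).ι (W p.2).ι)).comap
          (pullback.fst (pullback.fst (W p.1).ι (W p.2).ι ≫ (W p.1).ι) (D.map θ)) =
        ((L p.2).comap (pullback.snd (W p.1).ι (W p.2).ι)).comap
          (pullback.fst (pullback.fst (W p.1).ι (W p.2).ι ≫ (W p.1).ι) (D.map θ)) := by
    obtain ⟨a, b⟩ := p
    have : CompactSpace ↥(pullback (W a).ι (W b).ι) :=
      QuasiCompact.compactSpace_of_compactSpace (pullback.fst (W a).ι (W b).ι)
    have := hL a
    have := hL b
    have := lfp_comap (L a) (pullback.fst (W a).ι (W b).ι)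
    have := lfp_comap (L b) (pullback.snd (W a).ι (W b).ι)
    refine exists_comap_eq_stage D c hc (pullback.fst (W a).ι (W b).ι ≫ (W a).ι) _ _ ?_
    simp only [← Scheme.IdealSheafData.comap_comp]
    have lift_eq (e : s) (g : pullback (W a).ι (W b).ι ⟶ W e)
        (hg : g ≫ (W e).ι = pullback.fst (W a).ι (W b).ι ≫ (W a).ι) :
        (L e).comap (pullback.fst (pullback.fst (W a).ι (W b).ι ≫ (W a).ι) (c.π.app m) ≫ g) =
          J.comap (pullback.snd (pullback.fst (W a).ι (W b).ι ≫ (W a).ι) (c.π.app m)) := by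
      have hr : Set.range (pullback.snd (pullback.fst (W a).ι (W b).ι ≫ (W a).ι) (c.π.app m)) ⊆
          Set.range (c.π.app i ⁻¹ᵁ V e).ι := by
        rw [Scheme.Opens.range_ι]
        rintro _ ⟨z, rfl⟩
        have hz : pullback.fst (pullback.fst (W a).ι (W b).ι ≫ (W a).ι) (c.π.app m) ≫ g ≫ (W e).ι =
            pullback.snd _ _ ≫ c.π.app m := by rw [hg]; exact pullback.condition
        show c.π.app i _ ∈ V e
        rw [← π_apply D c ψ]
        show c.π.app m _ ∈ W e
        rw [← Scheme.Hom.comp_apply, ← hz, Scheme.Hom.comp_apply, Scheme.Hom.comp_apply]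
        exact Subtype.prop _
      let u := IsOpenImmersion.lift (c.π.app i ⁻¹ᵁ V e).ι
        (pullback.snd (pullback.fst (W a).ι (W b).ι ≫ (W a).ι) (c.π.app m)) hr
      have hu : u ≫ (c.π.app i ⁻¹ᵁ V e).ι = pullback.snd _ _ := IsOpenImmersion.lift_fac _ _ _
      have : pullback.fst (pullback.fst (W a).ι (W b).ι ≫ (W a).ι) (c.π.app m) ≫ g =
          u ≫ (c.π.app m).resLE (W e) _ (hUW e) := by
        rw [← cancel_mono (W e).ι, Category.assoc, Category.assoc, Scheme.Hom.resLE_comp_ι,
          reassoc_of% hu, hg]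
        exact pullback.condition
      rw [this, Scheme.IdealSheafData.comap_comp, hLc, ← Scheme.IdealSheafData.comap_comp, hu]
    rw [lift_eq a _ rfl, lift_eq b _ pullback.condition.symm]
  choose n' θ' hθ' using step
  obtain ⟨n, θ, ξ, hξ⟩ := LimDesc62.DescProp.exists_common θ'
  let W' (a) : (D.obj n).Opens := D.map θ ⁻¹ᵁ W a
  have hW' (a) : IsAffineOpen (W' a) := (hW a).preimage _
  let r (a) : (W' a).toScheme ⟶ W a := (D.map θ).resLE _ _ le_rfl
  let M (a) := (L a).comap (r a)
  have : ∀ a, CompactSpace (W' a).toScheme :=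
    fun a => isCompact_iff_compactSpace.mp (hW' a).isCompact
  obtain ⟨Jn, hJn⟩ := exists_glue W' M (fun a b => by
    let v : pullback (W' a).ι (W' b).ι ⟶
        pullback (pullback.fst (W a).ι (W b).ι ≫ (W a).ι) (D.map (θ' (a, b))) :=
      pullback.lift
        (pullback.map _ _ _ _ (r a) (r b) (D.map θ) (by simp [r]) (by simp [r]))
        (pullback.fst _ _ ≫ (W' a).ι ≫ D.map (ξ (a, b))) (by
          simp [r, pullback.map, ← D.map_comp, hξ])
    have := congrArg (fun Z => Scheme.IdealSheafData.comap Z v) (hθ' (a, b))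
    simpa [M, ← Scheme.IdealSheafData.comap_comp, v, pullback.map] using this)
  have hcov' : IsOpenCover W' := (hVcov.comap (D.map ψ).base.hom).comap (D.map θ).base.hom
  refine ⟨n, Jn, ?_, ?_⟩
  · refine (IsZariskiLocalAtTarget.iff_of_openCover (P := @LocallyOfFinitePresentation)
      ((D.obj n).openCoverOfIsOpenCover W' hcov')).mpr fun (a : s) => ?_
    change LocallyOfFinitePresentation (pullback.snd Jn.subschemeι (W' a).ι)
    have : LocallyOfFinitePresentation (Jn.comap (W' a).ι).subschemeι := by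
      rw [hJn a]
      exact have := hL a; lfp_comap _ _
    rw [← pullbackSymmetry_hom_comp_fst, ← Scheme.IdealSheafData.comapIso_inv_subschemeι]
    infer_instance
  · refine ext_of_comap_eq (fun a : s => c.π.app i ⁻¹ᵁ V a) (fun a => by rw [← (hV a).2]; exact a.1.2)
      (hVcov.comap (c.π.app i).base.hom).iSup_eq_top _ _ fun a => ?_
    have hle : c.π.app i ⁻¹ᵁ V a ≤ c.π.app n ⁻¹ᵁ W' a := by
      simp only [W', W, ← Scheme.Hom.comp_preimage, ← D.map_comp, c.w]
      rfl
    rw [← Scheme.IdealSheafData.comap_comp, ← Scheme.Hom.resLE_comp_ι (c.π.app n) hle,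
      Scheme.IdealSheafData.comap_comp, hJn a, ← hLc a]
    simp only [M, r, ← Scheme.IdealSheafData.comap_comp, Scheme.Hom.resLE_comp_resLE, c.w]

end Groth.Agent.LimTop61
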