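import Mathlib.AlgebraicGeometry.AffineTransitionLimit

set_option autoImplicit false
set_option backward.isDefEq.respectTransparency false
set_option backward.defeqAttrib.useBackward true
universe u

open CategoryTheory CategoryTheory.Limits AlgebraicGeometry

namespace Groth.Agent.LimTop61

variable {I : Type u} [SmallCategory I] (D : I ⥤ Scheme.{u})

/-- The base change of a diagram along `a : T ⟶ D.obj i`. -/
@[simps]
noncomputable def bcDiagram {i : I} {T : Scheme.{u}} (a : T ⟶ D.obj i) : Over i ⥤ Scheme.{u} where
  obj j := pullback a (D.map j.hom)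
  map {j k} f := pullback.lift (pullback.fst a (D.map j.hom))
    (pullback.snd a (D.map j.hom) ≫ D.map f.left)
    (by rw [pullback.condition, Category.assoc, ← D.map_comp, Over.w f])
  map_id j := by ext <;> simp
  map_comp f g := by ext <;> simp

/-- The second projection of the base-changed diagram. -/
@[simps]
noncomputable def bcSnd {i : I} {T : Scheme.{u}} (a : T ⟶ D.obj i) :
    bcDiagram D a ⟶ Over.forget i ⋙ D where
  app j := pullback.snd a (D.map j.hom)

lemma bcDiagram_map_isPullback {i : I} {T : Scheme.{u}} (a : T ⟶ D.obj i) {j k : Over i}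
    (f : j ⟶ k) :
    IsPullback ((bcDiagram D a).map f) (pullback.snd a (D.map j.hom))
      (pullback.snd a (D.map k.hom)) (D.map f.left) := by
  refine IsPullback.of_right ?_ (by simp) (IsPullback.of_hasPullback a (D.map k.hom))
  convert IsPullback.of_hasPullback a (D.map j.hom) using 1 <;> simp [← D.map_comp]

lemma isAffineHom_bcDiagram_map {i : I} {T : Scheme.{u}} (a : T ⟶ D.obj i) {j k : Over i}
    (f : j ⟶ k) [IsAffineHom (D.map f.left)] : IsAffineHom ((bcDiagram D a).map f) :=
  MorphismProperty.of_isPullback (bcDiagram_map_isPullback D a f).flip ‹_›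

instance bcDiagram_isAffineHom {i : I} {T : Scheme.{u}} (a : T ⟶ D.obj i)
    [∀ (i j : I) (f : i ⟶ j), IsAffineHom (D.map f)] {j k : Over i}
    (f : j ⟶ k) : IsAffineHom ((bcDiagram D a).map f) :=
  isAffineHom_bcDiagram_map D a f

variable (c : Cone D)

/-- The base-changed cone with a given pullback as vertex. -/
@[simps]
noncomputable def bcCone {i : I} {T : Scheme.{u}} (a : T ⟶ D.obj i) {X : Scheme.{u}}
    (q : X ⟶ T) (p : X ⟶ c.pt) (h : q ≫ a = p ≫ c.π.app i) : Cone (bcDiagram D a) where
  pt := X
  π :=
  { app j := pullback.lift q (p ≫ c.π.app j.left) (by simpa using h)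
    naturality j k f := by dsimp; ext <;> simp }

/-- The base-changed cone is a limit. -/
noncomputable def isLimitBcCone [IsCofiltered I] (hc : IsLimit c) {i : I} {T : Scheme.{u}}
    (a : T ⟶ D.obj i) {X : Scheme.{u}}
    (q : X ⟶ T) (p : X ⟶ c.pt) (h : IsPullback q p a (c.π.app i)) :
    IsLimit (bcCone D c a q p h.w) :=
  haveI : IsConnected (Over i) := CategoryTheory.isConnected_of_hasTerminal (Over i)
  isLimitOfIsPullbackOfIsConnected (bcSnd D a) (bcCone D c a q p h.w)
    (c.whisker (Over.forget i))
    { hom := p
      w := fun j => by simp }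
    (fun j => by
      dsimp
      refine IsPullback.of_right (h₁₂ := pullback.fst a (D.map j.hom)) (h₂₂ := D.map j.hom)
        (v₁₃ := a) ?_ (by simp [bcSnd]) (IsPullback.of_hasPullback a (D.map j.hom)).flip.flip
      convert h using 1 <;> simp)
    ((Functor.Initial.isLimitWhiskerEquiv (Over.forget i) c).symm hc)

instance bcDiagram_compactSpace {i : I} {T : Scheme.{u}} (a : T ⟶ D.obj i)
    [∀ (i j : I) (f : i ⟶ j), IsAffineHom (D.map f)] [CompactSpace T] (j : Over i) :
    CompactSpace ((bcDiagram D a).obj j) :=
  haveI : IsAffineHom (pullback.fst a (D.map j.hom)) :=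
    MorphismProperty.pullback_fst (P := @IsAffineHom) a (D.map j.hom) inferInstance
  QuasiCompact.compactSpace_of_compactSpace (pullback.fst a (D.map j.hom))

instance bcDiagram_quasiSeparatedSpace {i : I} {T : Scheme.{u}} (a : T ⟶ D.obj i)
    [∀ (i j : I) (f : i ⟶ j), IsAffineHom (D.map f)] [QuasiSeparatedSpace T] (j : Over i) :
    QuasiSeparatedSpace ((bcDiagram D a).obj j) :=
  haveI : IsAffineHom (pullback.fst a (D.map j.hom)) :=
    MorphismProperty.pullback_fst (P := @IsAffineHom) a (D.map j.hom) inferInstance
  haveI : QuasiSeparated (pullback.fst a (D.map j.hom)) := inferInstance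
  quasiSeparatedSpace_of_quasiSeparated (pullback.fst a (D.map j.hom))

end Groth.Agent.LimTop61
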