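import Groth.Prelude.Def_Red
import Groth.Agent.SGA3a.SubGrpOfMono
import Groth.Agent.LimDesc62.Points
import Groth.Agent.LimTop61.BaseChange
import Mathlib.CategoryTheory.Comma.Over.Pullback
import Mathlib.AlgebraicGeometry.Morphisms.ClosedImmersion

/-!
Descent of closed subgroup schemes (and of normality) along limits.
-/

set_option autoImplicit false
set_option backward.isDefEq.respectTransparency false
set_option backward.defeqAttrib.useBackward true

universe u

open CategoryTheory CategoryTheory.Limits AlgebraicGeometry MonoidalCategory CartesianMonoidalCategory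
  MonObj Opposite
open Groth.Agent.LimDesc62

noncomputable section

namespace Groth.Agent.LimTop61

variable {S S' : Scheme.{u}}

/-- After base change along `m`, the morphism `a` factors through `em`. -/
def FactorsBC (m : S' ⟶ S) {T H G : Over S} (a : T ⟶ G) (em : H ⟶ G) : Prop :=
  ∃ z, z ≫ (Over.pullback m).map em = (Over.pullback m).map a

theorem factorsBC_iff_isIso (m : S' ⟶ S) {T H G : Over S} (a : T ⟶ G) (em : H ⟶ G) [Mono em.left] :
    FactorsBC m a em ↔
      IsIso (pullback.snd (pullback.snd em.left a.left) (pullback.fst T.hom m)) := by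
  let s := pullback.snd em.left a.left
  let b := pullback.fst T.hom m
  constructor
  · rintro ⟨z, hz⟩
    have h0 : (z.left ≫ pullback.fst H.hom m) ≫ em.left = b ≫ a.left := by
      have := congrArg (fun k => k.left ≫ pullback.fst G.hom m) hz
      simpa [b] using this
    let σ : pullback T.hom m ⟶ pullback s b :=
      pullback.lift (pullback.lift (z.left ≫ pullback.fst H.hom m) b h0) (𝟙 _) (by simp [s])
    have : IsSplitEpi (pullback.snd s b) := IsSplitEpi.mk' ⟨σ, pullback.lift_snd _ _ _⟩
    exact isIso_of_mono_of_isSplitEpi _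
  · intro hiso
    let w : pullback T.hom m ⟶ H.left :=
      inv (pullback.snd s b) ≫ pullback.fst s b ≫ pullback.fst em.left a.left
    have hw : w ≫ em.left = b ≫ a.left := by
      simp only [w, Category.assoc, pullback.condition]
      rw [show pullback.snd em.left a.left = s from rfl, pullback.condition_assoc, IsIso.inv_hom_id_assoc]
    refine ⟨Over.homMk (pullback.lift w (pullback.snd T.hom m) ?_) (pullback.lift_snd _ _ _), ?_⟩
    · rw [← Over.w em, ← Category.assoc, hw, Category.assoc, Over.w a]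
      exact pullback.condition
    · ext : 1
      apply pullback.hom_ext
      · simpa [b] using hw
      · simp

variable {I : Type u} [SmallCategory I] (D : I ⥤ Scheme.{u})

theorem factorsBC_mono {i₀ i j : I} (φ : i ⟶ i₀) (ψ : j ⟶ i) {T H G : Over (D.obj i₀)} (a : T ⟶ G)
    (em : H ⟶ G) [Mono em.left] (h : FactorsBC (D.map φ) a em) : FactorsBC (D.map (ψ ≫ φ)) a em := by
  rw [factorsBC_iff_isIso] at h ⊢
  let w : pullback T.hom (D.map (ψ ≫ φ)) ⟶ pullback T.hom (D.map φ) :=
    pullback.lift (pullback.fst _ _) (pullback.snd _ _ ≫ D.map ψ)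
      (by rw [Category.assoc, ← D.map_comp]; exact pullback.condition)
  exact prop_snd_of_eq_comp (P := MorphismProperty.isomorphisms Scheme.{u}) w
    (pullback.lift_fst _ _ _).symm h

variable [IsCofiltered I] [∀ (i j : I) (a : i ⟶ j), IsAffineHom (D.map a)] (c : Cone D)

theorem exists_factorsBC_stage (hc : IsLimit c) (i₀ : I) {T H G : Over (D.obj i₀)}
    [CompactSpace T.left] [QuasiSeparatedSpace T.left] (a : T ⟶ G) (em : H ⟶ G)
    [IsClosedImmersion em.left] [LocallyOfFinitePresentation em.left]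
    (h : FactorsBC (c.π.app i₀) a em) :
    ∃ (j : I) (φ : j ⟶ i₀), FactorsBC (D.map φ) a em := by
  rw [factorsBC_iff_isIso] at h
  have := respectsIso_lfp.{u}
  have : LocallyOfFinitePresentation (pullback.snd em.left a.left) :=
    MorphismProperty.pullback_snd (P := @LocallyOfFinitePresentation) _ _ inferInstance
  obtain ⟨j, φ, hj⟩ := descProp_isIso.rel D c hc i₀ T.hom (pullback.snd em.left a.left) this h
  exact ⟨j, φ, (factorsBC_iff_isIso _ a em).mpr hj⟩

/-- The universal conjugation. -/
def conjMap {G H : Over S} [GrpObj G] (em : H ⟶ G) : G ⊗ H ⟶ G :=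
  fst G H * (snd G H ≫ em) * (fst G H)⁻¹

/-- The product of two points of `H` in `G`. -/
def mulMap {G H : Over S} [GrpObj G] (em : H ⟶ G) : H ⊗ H ⟶ G :=
  (fst H H ≫ em) * (snd H H ≫ em)

variable (m : S' ⟶ S) {G H : Over S} [GrpObj G] (em : H ⟶ G)

theorem map_fst' (A B : Over S) :
    Functor.LaxMonoidal.μ (Over.pullback m) A B ≫ (Over.pullback m).map (fst A B) = fst _ _ :=
  Functor.Monoidal.μ_fst _ _ _

theorem map_snd' (A B : Over S) :
    Functor.LaxMonoidal.μ (Over.pullback m) A B ≫ (Over.pullback m).map (snd A B) = snd _ _ :=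
  Functor.Monoidal.μ_snd _ _ _

/-- A group structure on the base change is equivalent to the three factorisations. -/
theorem factors_of_grpObj [GrpObj (Red.bc m H)] [IsMonHom ((Over.pullback m).map em)] :
    FactorsBC m (1 : 𝟙_ (Over S) ⟶ G) em ∧ FactorsBC m (mulMap em) em ∧ FactorsBC m em⁻¹ em := by
  let F := Over.pullback m
  refine ⟨⟨1, ?_⟩, ⟨F.map (fst H H) * F.map (snd H H), ?_⟩, ⟨(𝟙 (Red.bc m H))⁻¹, ?_⟩⟩
  · rw [MonObj.one_comp, Functor.map_one]
  · rw [MonObj.mul_comp, mulMap, Functor.map_mul, Functor.map_comp, Functor.map_comp]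
  · rw [GrpObj.inv_comp, Category.id_comp, Functor.map_inv']

theorem exists_grpObj_of_factors [Mono ((Over.pullback m).map em)]
    (h1 : FactorsBC m (1 : 𝟙_ (Over S) ⟶ G) em) (hmul : FactorsBC m (mulMap em) em)
    (hinv : FactorsBC m em⁻¹ em) :
    ∃ (_ : GrpObj (Red.bc m H)), IsMonHom ((Over.pullback m).map em) := by
  let F := Over.pullback m
  obtain ⟨z1, hz1⟩ := h1
  obtain ⟨z2, hz2⟩ := hmul
  obtain ⟨z3, hz3⟩ := hinv
  have e1 : ∃ z, z ≫ F.map em = (1 : 𝟙_ _ ⟶ F.obj G) := by
    refine ⟨Functor.LaxMonoidal.ε F ≫ z1, ?_⟩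
    rw [Category.assoc, hz1, Functor.map_one, MonObj.comp_one]
  have e2 : ∃ z, z ≫ F.map em = (fst (F.obj H) (F.obj H) ≫ F.map em) * (snd _ _ ≫ F.map em) := by
    refine ⟨Functor.LaxMonoidal.μ F H H ≫ z2, ?_⟩
    rw [Category.assoc, hz2, mulMap, Functor.map_mul, MonObj.comp_mul, F.map_comp, F.map_comp,
      ← Category.assoc, ← Category.assoc, map_fst', map_snd']
  have e3 : ∃ z, z ≫ F.map em = (F.map em)⁻¹ := ⟨z3, by rw [hz3, Functor.map_inv']⟩
  exact ⟨SGA3a.grpObjOfMono (F.map em) e1 e2 e3, SGA3a.isMonHom_grpObjOfMono (F.map em) e1 e2 e3⟩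

theorem isNormalHom_of_factors [GrpObj (Red.bc m H)]
    (h : FactorsBC m (conjMap em) em) : AlgGrp.IsNormalHom ((Over.pullback m).map em) := by
  intro T g n
  obtain ⟨z, hz⟩ := h
  refine ⟨lift g n ≫ Functor.LaxMonoidal.μ (Over.pullback m) G H ≫ z, ?_⟩
  simp only [Category.assoc]
  rw [hz, conjMap]
  simp only [Functor.map_mul, Functor.map_comp, Functor.map_inv', MonObj.comp_mul, GrpObj.comp_inv]
  rw [← Category.assoc (Functor.LaxMonoidal.μ _ G H), map_fst', map_snd', lift_fst,
    lift_snd_assoc]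

theorem factors_of_isNormalHom [GrpObj (Red.bc m H)]
    (h : AlgGrp.IsNormalHom ((Over.pullback m).map em)) : FactorsBC m (conjMap em) em := by
  obtain ⟨n', hn'⟩ := h _ ((Over.pullback m).map (fst G H)) ((Over.pullback m).map (snd G H))
  refine ⟨n', ?_⟩
  rw [← hn', conjMap]
  simp only [Functor.map_mul, Functor.map_comp, Functor.map_inv']

end Groth.Agent.LimTop61
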