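import Mathlib.AlgebraicGeometry.FunctionField
import Mathlib.AlgebraicGeometry.Morphisms.Finite
import Mathlib.AlgebraicGeometry.Morphisms.Integral
import Mathlib.AlgebraicGeometry.Morphisms.IsIso
import Mathlib.RingTheory.LocalProperties.IntegrallyClosed

set_option autoImplicit false
set_option backward.isDefEq.respectTransparency false
set_option backward.defeqAttrib.useBackward true
universe u

open CategoryTheory CategoryTheory.Limits AlgebraicGeometry TopologicalSpace

namespace Groth.Agent.LimTop61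

/-- The sections of a normal integral scheme on an affine open form an integrally closed ring. -/
lemma isIntegrallyClosed_affineOpen {Y : Scheme.{u}} [IsIntegral Y]
    (hN : ∀ y : Y, IsIntegrallyClosed (Y.presheaf.stalk y)) {V : Y.Opens} (hV : IsAffineOpen V)
    [Nonempty V] : IsIntegrallyClosed Γ(Y, V) := by
  have hmem : ∀ (P : Ideal Γ(Y, V)) (hP : P.IsMaximal), hV.fromSpec ⟨P, hP.isPrime⟩ ∈ V :=
    fun P hP => (hV.isoSpec.inv _).2
  refine IsIntegrallyClosed.of_localization_maximal fun P _ hP => ?_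
  let : Algebra Γ(Y, V) (Y.presheaf.stalk (hV.fromSpec ⟨P, hP.isPrime⟩)) :=
    TopCat.Presheaf.algebra_section_stalk Y.presheaf ⟨_, hmem P hP⟩
  have : IsLocalization.AtPrime (Y.presheaf.stalk (hV.fromSpec ⟨P, hP.isPrime⟩)) P :=
    hV.isLocalization_stalk' ⟨P, hP.isPrime⟩ (hmem P hP)
  have := hN (hV.fromSpec ⟨P, hP.isPrime⟩)
  exact IsIntegrallyClosed.of_equiv (IsLocalization.algEquiv P.primeCompl
    (Y.presheaf.stalk (hV.fromSpec ⟨P, hP.isPrime⟩)) (Localization.AtPrime P)).toRingEquiv

/-- An integral element of the function field comes from the sections on a normal affine open. -/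
lemma exists_germ_eq_of_isIntegralElem {Y : Scheme.{u}} [IsIntegral Y]
    (hN : ∀ y : Y, IsIntegrallyClosed (Y.presheaf.stalk y)) {V : Y.Opens} (hV : IsAffineOpen V)
    [Nonempty V] {y : Y} (hy : y = genericPoint Y) (hyV : y ∈ V) (k : Y.presheaf.stalk y)
    (hk : (Y.presheaf.germ V y hyV).hom.IsIntegralElem k) :
    ∃ a, Y.presheaf.germ V y hyV a = k := by
  subst hy
  have := functionField_isFractionRing_of_isAffineOpen Y V hV
  have := isIntegrallyClosed_affineOpen hN hV
  exact (IsIntegrallyClosed.isIntegral_iff (R := Γ(Y, V)) (K := Y.functionField)).mp hk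

/-- An integral birational morphism onto a normal scheme is an isomorphism. -/
theorem isIso_of_isIntegralHom_birational {Y' Y : Scheme.{u}} [IsIntegral Y'] [IsIntegral Y]
    (hN : ∀ y : Y, IsIntegrallyClosed (Y.presheaf.stalk y)) (u : Y' ⟶ Y) [IsIntegralHom u]
    (hgen : u (genericPoint Y') = genericPoint Y)
    (hbir : IsIso (u.stalkMap (genericPoint Y'))) : IsIso u := by
  refine (IsZariskiLocalAtTarget.iff_of_iSup_eq_top (P := MorphismProperty.isomorphisms Scheme)
    (fun V : Y.affineOpens => V.1) (iSup_affineOpens_eq_top Y)).mpr ?_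
  rintro ⟨V, hV⟩
  change IsIso (u ∣_ V)
  by_cases hne : Nonempty V
  swap
  · have : IsEmpty V := not_nonempty_iff.mp hne
    infer_instance
  have hyV : u (genericPoint Y') ∈ V := by
    rw [hgen]
    exact ((genericPoint_spec Y).mem_open_set_iff V.2).mpr (by
      obtain ⟨v⟩ := hne; exact ⟨v.1, trivial, v.2⟩)
  have hne' : Nonempty ↥(u ⁻¹ᵁ V) := ⟨⟨_, hyV⟩⟩
  have key : Function.Bijective (u.app V) := by
    have hinj := germ_injective_of_isIntegral Y' (genericPoint Y') (show _ ∈ u ⁻¹ᵁ V from hyV)
    have hsm : Function.Bijective (u.stalkMap (genericPoint Y')) :=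
      ConcreteCategory.bijective_of_isIso _
    have hgerm : ∀ a, u.stalkMap (genericPoint Y') (Y.presheaf.germ V _ hyV a) =
        Y'.presheaf.germ (u ⁻¹ᵁ V) (genericPoint Y') hyV (u.app V a) :=
      Scheme.Hom.germ_stalkMap_apply u V (genericPoint Y') hyV
    refine ⟨fun a a' h => germ_injective_of_isIntegral Y _ hyV (hsm.1 ?_), fun b => ?_⟩
    · rw [hgerm, hgerm, h]
    obtain ⟨k, hk⟩ := hsm.2 (Y'.presheaf.germ (u ⁻¹ᵁ V) (genericPoint Y') hyV b)
    obtain ⟨p, hp, hpb⟩ := IsIntegralHom.isIntegral_app u V hV b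
    obtain ⟨a, ha⟩ := exists_germ_eq_of_isIntegralElem hN hV hgen hyV k ⟨p, hp, by
      refine hsm.1 ?_
      rw [map_zero, Polynomial.hom_eval₂, hk,
        show ((u.stalkMap (genericPoint Y')).hom.comp (Y.presheaf.germ V _ hyV).hom) =
          ((Y'.presheaf.germ (u ⁻¹ᵁ V) (genericPoint Y') hyV).hom.comp (u.app V).hom) from
          RingHom.ext hgerm,
        ← Polynomial.hom_eval₂, hpb, map_zero]⟩
    exact ⟨a, hinj (by rw [← hgerm, ha, hk])⟩
  have : IsIso (u.app V) := (ConcreteCategory.isIso_iff_bijective _).mpr key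
  have : IsAffine V.toScheme := hV
  refine (HasAffineProperty.iff_of_isAffine (P := MorphismProperty.isomorphisms Scheme)).mpr
    ⟨hV.preimage u, ?_⟩
  have h' : ∀ W : Y.Opens, W = V → IsIso (u.app W) := fun W hW => by subst hW; infer_instance
  have := h' _ V.ι_image_top
  simp only [Scheme.Hom.appTop, morphismRestrict_app]
  infer_instance

/-- A finite birational morphism onto a normal scheme is an isomorphism. -/
theorem isIso_of_isFinite_birational {Y' Y : Scheme.{u}} [IsIntegral Y'] [IsIntegral Y]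
    (hN : ∀ y : Y, IsIntegrallyClosed (Y.presheaf.stalk y)) (u : Y' ⟶ Y) [IsFinite u]
    (hgen : u (genericPoint Y') = genericPoint Y)
    (hbir : IsIso (u.stalkMap (genericPoint Y'))) : IsIso u :=
  isIso_of_isIntegralHom_birational hN u hgen hbir

end Groth.Agent.LimTop61
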