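import Groth.Agent.LimTop61.PullBC
import Groth.Agent.CAlg5.ColimSys
import Mathlib.AlgebraicGeometry.AffineTransitionLimit
import Groth.Agent.QC70.FiniteType

/-!
Homomorphisms of quasi-coherent modules killed by the limit are killed at a stage.
-/

set_option autoImplicit false
set_option backward.isDefEq.respectTransparency.types false

noncomputable section

universe u

open CategoryTheory Limits AlgebraicGeometry TopologicalSpace Opposite TensorProduct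
open Groth.Agent.QC70 Groth.Agent.QCPull72

namespace Groth.Agent.LimTop61

section Generic

variable {X Y Z : Scheme.{u}}

/-- Naturality of `unitSec`. -/
lemma pullback_map_app_unitSec (f : Y ⟶ X) {F G : X.Modules} (d : F ⟶ G) {U : X.Opens}
    {V : Y.Opens} (e : V ≤ f ⁻¹ᵁ U) (x : Γ(F, U)) :
    ((Scheme.Modules.pullback f).map d).app V (unitSec f F e x) = unitSec f G e (d.app U x) := by
  rw [unitSec, unitSec, app_res]
  refine congrArg (res ((Scheme.Modules.pullback f).obj G) e) ?_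
  have h := (Scheme.Modules.pullbackPushforwardAdjunction f).unit.naturality d
  exact congr(Scheme.Modules.Hom.app $h U x).symm

/-- A homomorphism killed after pullback: criterion on an affine cover. -/
lemma pullback_map_eq_zero_of_forall (f : Y ⟶ X) [IsAffineHom f] {F G : X.Modules}
    [F.IsQuasicoherent] (d : F ⟶ G) {κ : Type*} (U : κ → X.Opens) (hU : ∀ a, IsAffineOpen (U a))
    (hcov : ⨆ a, U a = ⊤)
    (h : ∀ a x, unitSec f G (le_refl (f ⁻¹ᵁ U a)) (d.app (U a) x) = 0) :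
    (Scheme.Modules.pullback f).map d = 0 := by
  have := isQuasicoherent_pullback f F
  refine Scheme.Modules.hom_ext _ _ fun W => ?_
  ext s
  refine section_ext _ _ _ fun p hp => ?_
  obtain ⟨a, ha⟩ := Opens.mem_iSup.mp (hcov.ge (Set.mem_univ (f p) : f p ∈ (⊤ : X.Opens)))
  refine ⟨W ⊓ f ⁻¹ᵁ U a, inf_le_left, ⟨hp, ha⟩, ?_⟩
  rw [← app_res, ← app_res]
  refine Omega57.hom_ext_le ((hU a).preimage f) _ _ (fun m => ?_) inf_le_right _
  have hm := (span_unitSec_eq_top f F (hU a) ((hU a).preimage f) le_rfl).ge (Submodule.mem_top (x := m))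
  induction hm using Submodule.span_induction with
  | mem y hy =>
    obtain ⟨x, rfl⟩ := hy
    rw [pullback_map_app_unitSec, h]
    simp
  | zero => rw [map_zero, map_zero]
  | add y z _ _ hy hz => rw [map_add, map_add, hy, hz]
  | smul r y _ hy => rw [Scheme.Modules.Hom.app_smul, Scheme.Modules.Hom.app_smul, hy]

end Generic

section Stage

variable {I : Type u} [SmallCategory I] [IsCofiltered I] {D : I ⥤ Scheme.{u}} {c : Cone D}
  (hc : IsLimit c) [∀ {i j : I} (f : i ⟶ j), IsAffineHom (D.map f)] {i₀ : I}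

instance isAffineHom_opensDiagram_map (U : (D.obj i₀).Opens) {j k : Over i₀} (f : j ⟶ k) :
    IsAffineHom ((opensDiagram D i₀ U).map f) := inferInstance

include hc in
/-- A section of the limit over the preimage of an affine open comes from a stage. -/
theorem exists_section_stage {U : (D.obj i₀).Opens} (hU : IsAffineOpen U)
    (a : Γ(c.pt, c.π.app i₀ ⁻¹ᵁ U)) :
    ∃ (j : Over i₀) (x : Γ(D.obj j.left, D.map j.hom ⁻¹ᵁ U)),
      (c.π.app j.left).appLE (D.map j.hom ⁻¹ᵁ U) (c.π.app i₀ ⁻¹ᵁ U)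
        (by rw [← Scheme.Hom.comp_preimage, c.w]) x = a := by
  have : ∀ j, IsAffine ((opensDiagram D i₀ U).obj j) := fun j => hU.preimage (D.map j.hom)
  obtain ⟨j, t, ht⟩ := exists_appTop_π_eq_of_isAffine_of_isLimit (opensDiagram D i₀ U)
    (opensCone D c i₀ U) (isLimitOpensCone D c hc i₀ U) ((c.π.app i₀ ⁻¹ᵁ U).topIso.inv a)
  refine ⟨j, (D.map j.hom ⁻¹ᵁ U).topIso.hom t, ?_⟩
  have e : c.π.app i₀ ⁻¹ᵁ U ≤ c.π.app j.left ⁻¹ᵁ (D.map j.hom ⁻¹ᵁ U) := by
    rw [← Scheme.Hom.comp_preimage, c.w]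
  have h := congr(((c.π.app i₀ ⁻¹ᵁ U).topIso.hom : _ → _) $ht)
  rw [Iso.inv_hom_id_apply] at h
  rw [← h]
  have h2 : ((c.π.app j.left).resLE _ _ e).appTop ≫ (c.π.app i₀ ⁻¹ᵁ U).topIso.hom =
      (D.map j.hom ⁻¹ᵁ U).topIso.hom ≫ (c.π.app j.left).appLE _ _ e := by
    rw [Scheme.Hom.appTop, Scheme.Hom.resLE_app_top, Category.assoc, Category.assoc]
    erw [Iso.inv_hom_id, Category.comp_id]
  exact congr($h2 t).symm

include hc in
/-- Ring sections over an affine open of a stage: the limit is a filtered colimit. -/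
theorem colimSys_sections {U : (D.obj i₀).Opens} (hU : IsAffineOpen U) :
    letI : ∀ j : Over i₀, Algebra Γ(D.obj i₀, U) Γ(D.obj j.left, D.map j.hom ⁻¹ᵁ U) :=
      fun j => ((D.map j.hom).app U).hom.toAlgebra
    letI : Algebra Γ(D.obj i₀, U) Γ(c.pt, c.π.app i₀ ⁻¹ᵁ U) := ((c.π.app i₀).app U).hom.toAlgebra
    ∃ g : ∀ j : Over i₀, Γ(D.obj j.left, D.map j.hom ⁻¹ᵁ U) →ₐ[Γ(D.obj i₀, U)]
        Γ(c.pt, c.π.app i₀ ⁻¹ᵁ U),
      CAlg5.ColimSys Γ(D.obj i₀, U) (fun j : Over i₀ => Γ(D.obj j.left, D.map j.hom ⁻¹ᵁ U))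
        Γ(c.pt, c.π.app i₀ ⁻¹ᵁ U) g := by
  let _ : ∀ j : Over i₀, Algebra Γ(D.obj i₀, U) Γ(D.obj j.left, D.map j.hom ⁻¹ᵁ U) :=
    fun j => ((D.map j.hom).app U).hom.toAlgebra
  let _ : Algebra Γ(D.obj i₀, U) Γ(c.pt, c.π.app i₀ ⁻¹ᵁ U) := ((c.π.app i₀).app U).hom.toAlgebra
  have eg : ∀ j : Over i₀, c.π.app i₀ ⁻¹ᵁ U ≤ c.π.app j.left ⁻¹ᵁ (D.map j.hom ⁻¹ᵁ U) := fun j => by
    rw [← Scheme.Hom.comp_preimage, c.w]
  have et : ∀ {j k : Over i₀} (f : k ⟶ j),
      D.map k.hom ⁻¹ᵁ U ≤ D.map f.left ⁻¹ᵁ (D.map j.hom ⁻¹ᵁ U) := fun f => by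
    rw [← Scheme.Hom.comp_preimage, ← D.map_comp, Over.w]
  let g : ∀ j : Over i₀, Γ(D.obj j.left, D.map j.hom ⁻¹ᵁ U) →ₐ[Γ(D.obj i₀, U)]
      Γ(c.pt, c.π.app i₀ ⁻¹ᵁ U) := fun j =>
    AlgHom.mk ((c.π.app j.left).appLE _ _ (eg j)).hom fun r => by
      show ((D.map j.hom).app U ≫ (c.π.app j.left).appLE _ _ (eg j)) r = (c.π.app i₀).app U r
      rw [Scheme.Hom.app_eq_appLE, Scheme.Hom.appLE_comp_appLE, Scheme.Hom.app_eq_appLE]
      simp only [c.w]
  let tr : ∀ {j k : Over i₀} (_ : k ⟶ j), Γ(D.obj j.left, D.map j.hom ⁻¹ᵁ U) →ₐ[Γ(D.obj i₀, U)]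
      Γ(D.obj k.left, D.map k.hom ⁻¹ᵁ U) := fun {j k} f =>
    AlgHom.mk ((D.map f.left).appLE _ _ (et f)).hom fun r => by
      show ((D.map j.hom).app U ≫ (D.map f.left).appLE _ _ (et f)) r = (D.map k.hom).app U r
      rw [Scheme.Hom.app_eq_appLE, Scheme.Hom.appLE_comp_appLE, Scheme.Hom.app_eq_appLE]
      simp only [← D.map_comp, Over.w]
  have htr : ∀ {j k : Over i₀} (f : k ⟶ j), (g k).comp (tr f) = g j := fun {j k} f =>
    AlgHom.ext fun r => by
      show ((D.map f.left).appLE _ _ (et f) ≫ (c.π.app k.left).appLE _ _ (eg k)) r =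
        (c.π.app j.left).appLE _ _ (eg j) r
      rw [Scheme.Hom.appLE_comp_appLE]
      simp only [c.w]
  refine ⟨g, fun a => exists_section_stage hc hU a, fun j k => ?_, fun j x hx => ?_, ⟨Over.mk (𝟙 i₀)⟩⟩
  · obtain ⟨l, u, v, -⟩ := IsCofilteredOrEmpty.cone_objs j k
    exact ⟨l, ⟨tr u, htr u⟩, tr v, htr v⟩
  · have h0 : (c.π.app j.left).app (D.map j.hom ⁻¹ᵁ U) x = 0 := by
      have e : c.π.app j.left ⁻¹ᵁ (D.map j.hom ⁻¹ᵁ U) ≤ c.π.app i₀ ⁻¹ᵁ U := by
        rw [← Scheme.Hom.comp_preimage, c.w]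
      rw [← map_zero (c.pt.presheaf.map (homOfLE e).op).hom, ← hx]
      show _ = ((c.π.app j.left).appLE _ _ (eg j) ≫ c.pt.presheaf.map _) x
      rw [Scheme.Hom.app_eq_appLE]
      exact congr($((c.π.app j.left).appLE_map (eg j) (homOfLE e).op) x).symm

    obtain ⟨k, f, hf⟩ := exists_app_map_eq_zero_of_isLimit D c hc
      (hU.preimage (D.map j.hom)).isCompact x h0
    refine ⟨Over.mk (f ≫ j.hom), tr (Over.homMk f), htr _, ?_⟩
    show (D.map f).appLE _ _ _ x = 0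
    rw [Scheme.Hom.appLE, CommRingCat.comp_apply, hf, map_zero]

include hc in
/-- A section killed in the limit is killed at every late enough stage. -/
theorem exists_unitSec_eq_zero (G₀ : (D.obj i₀).Modules) [G₀.IsQuasicoherent]
    {U : (D.obj i₀).Opens} (hU : IsAffineOpen U) (y : Γ(G₀, U))
    (hy : unitSec (c.π.app i₀) G₀ (le_refl (c.π.app i₀ ⁻¹ᵁ U)) y = 0) :
    ∃ j : Over i₀, ∀ (k : Over i₀) (_ : k ⟶ j),
      unitSec (D.map k.hom) G₀ (le_refl (D.map k.hom ⁻¹ᵁ U)) y = 0 := by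
  let _ : ∀ j : Over i₀, Algebra Γ(D.obj i₀, U) Γ(D.obj j.left, D.map j.hom ⁻¹ᵁ U) :=
    fun j => ((D.map j.hom).app U).hom.toAlgebra
  let _ : Algebra Γ(D.obj i₀, U) Γ(c.pt, c.π.app i₀ ⁻¹ᵁ U) := ((c.π.app i₀).app U).hom.toAlgebra
  obtain ⟨g, hs⟩ := colimSys_sections hc hU
  have : IsAffineHom (c.π.app i₀) := isAffineHom_π_app D c hc i₀
  let R := Γ(D.obj i₀, U)
  -- move to tensor products
  have key : ∀ {Y : Scheme.{u}} (f : Y ⟶ D.obj i₀) (hf : IsAffineOpen (f ⁻¹ᵁ U)),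
      letI := (f.app U).hom.toAlgebra
      unitSec f G₀ (le_refl (f ⁻¹ᵁ U)) y = 0 ↔ y ⊗ₜ[R] (1 : Γ(Y, f ⁻¹ᵁ U)) = 0 := by
    intro Y f hf
    have hh := exists_baseChange_equiv f G₀ hU hf (le_refl (f ⁻¹ᵁ U))
    rw [← Scheme.Hom.app_eq_appLE] at hh
    let _ := (f.app U).hom.toAlgebra
    obtain ⟨E, hE⟩ := hh
    rw [← E.map_eq_zero_iff, hE, ← (TensorProduct.comm R _ _).map_eq_zero_iff,
      TensorProduct.comm_tmul]
  have hcpt : IsAffineOpen (c.π.app i₀ ⁻¹ᵁ U) := hU.preimage _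
  have h0 := (key (c.π.app i₀) hcpt).mp hy
  let j₀ : Over i₀ := Over.mk (𝟙 i₀)
  obtain ⟨l, h, hh, hl⟩ := hs.exists_tensor_kill Γ(G₀, U) j₀ (y ⊗ₜ 1)
    (by rw [LinearMap.lTensor_tmul, AlgHom.toLinearMap_apply, map_one]; exact h0)
  rw [LinearMap.lTensor_tmul, AlgHom.toLinearMap_apply, map_one] at hl
  refine ⟨l, fun k q => (key (D.map k.hom) (hU.preimage _)).mpr ?_⟩
  have et : D.map k.hom ⁻¹ᵁ U ≤ D.map q.left ⁻¹ᵁ (D.map l.hom ⁻¹ᵁ U) := by
    rw [← Scheme.Hom.comp_preimage, ← D.map_comp, Over.w]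
  let tr : Γ(D.obj l.left, D.map l.hom ⁻¹ᵁ U) →ₐ[R] Γ(D.obj k.left, D.map k.hom ⁻¹ᵁ U) :=
    AlgHom.mk ((D.map q.left).appLE _ _ et).hom fun r => by
      show ((D.map l.hom).app U ≫ (D.map q.left).appLE _ _ et) r = (D.map k.hom).app U r
      rw [Scheme.Hom.app_eq_appLE, Scheme.Hom.appLE_comp_appLE, Scheme.Hom.app_eq_appLE]
      simp only [← D.map_comp, Over.w]
  have := congr(tr.toLinearMap.lTensor Γ(G₀, U) $hl)
  rwa [map_zero, LinearMap.lTensor_tmul, AlgHom.toLinearMap_apply, map_one] at this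

include hc in
/-- A homomorphism killed by the limit is killed at a stage. -/
theorem exists_pullback_map_eq_zero [CompactSpace (D.obj i₀)] {F₀ G₀ : (D.obj i₀).Modules}
    [F₀.IsQuasicoherent] [F₀.IsFiniteType] [G₀.IsQuasicoherent] (d : F₀ ⟶ G₀)
    (hd : (Scheme.Modules.pullback (c.π.app i₀)).map d = 0) :
    ∃ (j : I) (φ : j ⟶ i₀), (Scheme.Modules.pullback (D.map φ)).map d = 0 := by
  classical
  obtain ⟨s, hs, hcov⟩ := isCompact_iff_finite_and_eq_biUnion_affineOpens.mp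
    (show IsCompact ((⊤ : (D.obj i₀).Opens) : Set (D.obj i₀)) from isCompact_univ)
  have hgen : ∀ U : (D.obj i₀).affineOpens, ∃ t : Finset Γ(F₀, U.1),
      Submodule.span Γ(D.obj i₀, U.1) (t : Set Γ(F₀, U.1)) = ⊤ := fun U =>
    (finite_sections_of_isFiniteType F₀ U.2).fg_top
  choose t ht using hgen
  have hkill : ∀ (U : (D.obj i₀).affineOpens) (x : Γ(F₀, U.1)), ∃ j : Over i₀, ∀ (k : Over i₀)
      (_ : k ⟶ j), unitSec (D.map k.hom) G₀ (le_refl (D.map k.hom ⁻¹ᵁ U.1)) (d.app U.1 x) = 0 := by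
    intro U x
    refine exists_unitSec_eq_zero hc G₀ U.2 _ ?_
    rw [← pullback_map_app_unitSec, hd]
    simp
  choose j hj using hkill
  let O : Finset (Over i₀) := hs.toFinset.biUnion fun U => (t U).image (j U)
  obtain ⟨k, hk⟩ := IsCofiltered.inf_objs_exists O
  refine ⟨k.left, k.hom, pullback_map_eq_zero_of_forall (D.map k.hom) d
    (fun U : s => U.1.1) (fun U => U.1.2) ?_ fun U x => ?_⟩
  · refine top_le_iff.mp fun p _ => ?_
    obtain ⟨U, hpU⟩ := Opens.mem_iSup.mp (hcov.le (Set.mem_univ p : p ∈ (⊤ : (D.obj i₀).Opens)))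
    obtain ⟨hU, hpU⟩ := Opens.mem_iSup.mp hpU
    exact Opens.mem_iSup.mpr ⟨⟨U, hU⟩, hpU⟩
  · have hx := (ht U.1).ge (Submodule.mem_top (x := x))
    induction hx using Submodule.span_induction with
    | mem y hy =>
      obtain ⟨q⟩ := hk (X := j U.1 y)
        (Finset.mem_biUnion.mpr ⟨U.1, hs.mem_toFinset.mpr U.2, Finset.mem_image_of_mem _ hy⟩)
      exact hj _ y k q
    | zero => rw [map_zero, unitSec_zero]
    | add a b _ _ ha hb => rw [map_add, unitSec_add, ha, hb, add_zero]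
    | smul r a _ ha => rw [Scheme.Modules.Hom.app_smul, unitSec_smul, ha, smul_zero]

end Stage

end Groth.Agent.LimTop61
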