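import Groth.Agent.LimTop61.FpCrit
import Groth.Agent.LimTop61.BaseChange
import Mathlib.AlgebraicGeometry.Morphisms.FinitePresentation
import Mathlib.AlgebraicGeometry.Morphisms.ClosedImmersion
import Mathlib.AlgebraicGeometry.Fiber

set_option autoImplicit false
set_option backward.isDefEq.respectTransparency false
set_option backward.defeqAttrib.useBackward true
universe u

open CategoryTheory CategoryTheory.Limits AlgebraicGeometry Opposite

namespace Groth.Agent.LimTop61

section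

variable (A B : CommRingCat.{u}) [Algebra A B]

/-- The finitely generated subalgebras. -/
abbrev FgSubalg : Type u := {S : Subalgebra A B // S.FG}

instance : IsDirected (FgSubalg A B) (· ≤ ·) :=
  ⟨fun S T => ⟨⟨S.1 ⊔ T.1, S.2.sup T.2⟩, le_sup_left (a := S.1), le_sup_right (a := S.1)⟩⟩

instance : Nonempty (FgSubalg A B) := ⟨⟨⊥, Subalgebra.fg_bot⟩⟩

/-- The cocone with vertex the algebra. -/
def subalgCocone : Cocone (subalgDiagram (A := A) (B := B)) where
  pt := Under.mk (CommRingCat.ofHom (algebraMap A B))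
  ι := { app := fun S => Under.homMk (CommRingCat.ofHom S.1.val.toRingHom) }

/-- An algebra is the colimit of its finitely generated subalgebras. -/
noncomputable def isColimitSubalgCocone : IsColimit (subalgCocone A B) :=
  isColimitOfElements _ _
    (fun x => ⟨⟨Algebra.adjoin A {x}, ⟨{x}, by simp⟩⟩, ⟨x, Algebra.subset_adjoin rfl⟩, rfl⟩)
    (fun S y z h => ⟨S, 𝟙 S, by rw [show y = z from Subtype.ext h]⟩)

/-- The spectra of the finitely generated subalgebras. -/
noncomputable def subalgSpec : (FgSubalg A B)ᵒᵖ ⥤ Scheme.{u} :=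
  (subalgDiagram (A := A) (B := B) ⋙ Under.forget _).op ⋙ Scheme.Spec

instance (j : (FgSubalg A B)ᵒᵖ) : IsAffine ((subalgSpec A B).obj j) :=
  inferInstanceAs (IsAffine (Spec _))

instance (i j : (FgSubalg A B)ᵒᵖ) (f : i ⟶ j) : IsAffineHom ((subalgSpec A B).map f) :=
  isAffineHom_of_isAffine _

/-- `Spec` of the algebra as a cone. -/
noncomputable def subalgCone : Cone (subalgSpec A B) :=
  Scheme.Spec.mapCone ((Under.forget _).mapCocone (subalgCocone A B)).op

/-- `Spec` of an algebra is the limit of the spectra of its finitely generated subalgebras. -/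
noncomputable def isLimitSubalgCone : IsLimit (subalgCone A B) :=
  have : IsConnected (FgSubalg A B) := IsFiltered.isConnected _
  isLimitOfPreserves Scheme.Spec (isColimitOfPreserves (Under.forget _) (isColimitSubalgCocone A B)).op

end

/-- A closed set missing a fibre of a quasi-compact morphism is missed after descending the base
to a scheme of finite presentation. -/
theorem exists_lfp_closed_avoiding_fibre {X S T : Scheme.{u}} (f : X ⟶ S) [QuasiCompact f]
    (g : T ⟶ S) (t : T)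
    (Z : Set ↥(pullback f g)) (hZ : IsClosed Z) (hZt : ∀ z ∈ Z, (pullback.snd f g).base z ≠ t) :
    ∃ (V : T.Opens) (ht : t ∈ V) (T' : Scheme.{u}) (b : T' ⟶ S) (a : (V : Scheme.{u}) ⟶ T')
      (n : pullback f (V.ι ≫ g) ⟶ pullback f g) (m : pullback f (V.ι ≫ g) ⟶ pullback f b)
      (Z' : Set ↥(pullback f b)),
      IsAffineOpen V ∧ IsAffine T' ∧ LocallyOfFinitePresentation b ∧ a ≫ b = V.ι ≫ g ∧
      n ≫ pullback.fst f g = pullback.fst f (V.ι ≫ g) ∧ n ≫ pullback.snd f g = pullback.snd f (V.ι ≫ g) ≫ V.ι ∧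
      m ≫ pullback.fst f b = pullback.fst f (V.ι ≫ g) ∧ m ≫ pullback.snd f b = pullback.snd f (V.ι ≫ g) ≫ a ∧
      IsClosed Z' ∧ (∀ z' ∈ Z', (pullback.snd f b).base z' ≠ a.base ⟨t, ht⟩) ∧
      ∀ z : ↥(pullback f (V.ι ≫ g)), n.base z ∈ Z → m.base z ∈ Z' := by
  obtain ⟨_, ⟨(W : S.Opens), hW, rfl⟩, (htW : g t ∈ W), -⟩ :=
    S.isBasis_affineOpens.exists_subset_of_mem_open (Set.mem_univ (g t)) isOpen_univ
  obtain ⟨_, ⟨(V : T.Opens), hV, rfl⟩, (ht : t ∈ V), (hVW : V ≤ g ⁻¹ᵁ W)⟩ :=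
    T.isBasis_affineOpens.exists_subset_of_mem_open (show t ∈ g ⁻¹ᵁ W from htW) (g ⁻¹ᵁ W).2
  let φ : Γ(S, W) ⟶ Γ(T, V) := g.appLE W V hVW
  let : Algebra Γ(S, W) Γ(T, V) := φ.hom.toAlgebra
  have hVg : hV.isoSpec.hom ≫ Spec.map φ ≫ hW.fromSpec = V.ι ≫ g := by
    rw [hW.SpecMap_appLE_fromSpec g hV hVW, IsAffineOpen.isoSpec_hom_fromSpec_assoc]
  let D := subalgSpec Γ(S, W) Γ(T, V)
  let cS := subalgCone Γ(S, W) Γ(T, V)
  let j₀ : (FgSubalg Γ(S, W) Γ(T, V))ᵒᵖ := op ⟨⊥, Subalgebra.fg_bot⟩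
  let tS (j : (FgSubalg Γ(S, W) Γ(T, V))ᵒᵖ) : D.obj j ⟶ S :=
    Spec.map (CommRingCat.ofHom (algebraMap Γ(S, W) j.unop.1)) ≫ hW.fromSpec
  have htS {j k : (FgSubalg Γ(S, W) Γ(T, V))ᵒᵖ} (h : j ⟶ k) : D.map h ≫ tS k = tS j := by
    simp only [D, tS, subalgSpec, Functor.comp_map, Functor.op_map, Scheme.Spec_map,
      Quiver.Hom.unop_op]
    rw [← Spec.map_comp_assoc]
    rfl
  have hπ (j : (FgSubalg Γ(S, W) Γ(T, V))ᵒᵖ) : cS.π.app j ≫ tS j = Spec.map φ ≫ hW.fromSpec := by
    simp only [cS, tS, subalgCone, Functor.mapCone_π_app]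
    erw [← Spec.map_comp_assoc]
    rfl
  let P := pullback f (V.ι ≫ g)
  let n : P ⟶ pullback f g := pullback.lift (pullback.fst _ _) (pullback.snd _ _ ≫ V.ι)
    (by rw [Category.assoc, pullback.condition])
  let p : P ⟶ Spec Γ(T, V) := pullback.snd _ _ ≫ hV.isoSpec.hom
  have hpsq {T' : Scheme.{u}} (b : T' ⟶ S) (a' : Spec Γ(T, V) ⟶ T')
      (hab : a' ≫ b = Spec.map φ ≫ hW.fromSpec) :
      IsPullback (pullback.lift (pullback.fst f (V.ι ≫ g)) (p ≫ a') (by
        rw [Category.assoc, hab, pullback.condition, Category.assoc, hVg] : _))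
        p (pullback.snd f b) a' := by
    refine IsPullback.of_right ?_ (pullback.lift_snd _ _ _) (IsPullback.of_hasPullback f b)
    rw [pullback.lift_fst, hab]
    exact (IsPullback.of_hasPullback f (V.ι ≫ g)).of_iso (Iso.refl _) (Iso.refl _) hV.isoSpec
      (Iso.refl _) (by simp) (by simp [p]) (by simp) (by simp [hVg])
  have hP := hpsq (tS j₀) (cS.π.app j₀) (hπ j₀)
  -- a quasi-compact open containing the fibre and missing `Z`
  obtain ⟨s, hs⟩ := ((pullback.snd f (V.ι ≫ g)).isCompact_preimage_singleton ⟨t, ht⟩).elim_finite_subcover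
    (fun O : {O : P.affineOpens // (O.1 : Set P) ⊆ (n ⁻¹' Z)ᶜ} => (O.1.1 : Set P))
    (fun O => O.1.1.2) (fun z hz => by
      have hz' : z ∈ ((n ⁻¹' Z)ᶜ : Set P) := fun h => by
        refine hZt _ h ?_
        rw [← Scheme.Hom.comp_apply, pullback.lift_snd, Scheme.Hom.comp_apply,
          (hz : pullback.snd f (V.ι ≫ g) z = ⟨t, ht⟩)]
        rfl
      obtain ⟨_, ⟨O, hO, rfl⟩, hzO, hOZ⟩ :=
        P.isBasis_affineOpens.exists_subset_of_mem_open hz' (hZ.preimage n.continuous).isOpen_compl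
      exact Set.mem_iUnion.mpr ⟨⟨⟨O, hO⟩, hOZ⟩, hzO⟩)
  let U₀ : P.Opens := ⟨⋃ O ∈ s, (O.1.1 : Set P), isOpen_biUnion fun O _ => O.1.1.2⟩
  have hU₀ : IsCompact (U₀ : Set P) := s.isCompact_biUnion fun O _ => O.1.2.isCompact
  have hU₀Z : ∀ z ∈ U₀, n z ∉ Z := fun z hz => by
    obtain ⟨O, -, hzO⟩ := Set.mem_iUnion₂.mp hz
    exact O.2 hzO
  obtain ⟨j, Uj, -, hUj⟩ := exists_preimage_eq (bcDiagram D (pullback.snd f (tS j₀))) _
    (isLimitBcCone D cS (isLimitSubalgCone _ _) (pullback.snd f (tS j₀)) _ p hP) U₀ hU₀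
  -- a finitely presented envelope of the stage
  let C := j.left.unop
  have hC : Algebra.FiniteType Γ(S, W) C.1 := ⟨(Subalgebra.fg_top _).mpr C.2⟩
  obtain ⟨N, π, hπs⟩ := Algebra.FiniteType.iff_quotient_mvPolynomial''.mp hC
  let R : CommRingCat.{u} := CommRingCat.of (MvPolynomial (Fin N) Γ(S, W))
  let T' : Scheme.{u} := Spec R
  let b : T' ⟶ S := Spec.map (CommRingCat.ofHom (algebraMap Γ(S, W) R)) ≫ hW.fromSpec
  have hb : LocallyOfFinitePresentation b := by
    have : LocallyOfFinitePresentation (Spec.map (CommRingCat.ofHom (algebraMap Γ(S, W) R))) := by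
      rw [HasRingHomProperty.Spec_iff (P := @LocallyOfFinitePresentation),
        CommRingCat.hom_ofHom, RingHom.finitePresentation_algebraMap]
      infer_instance
    infer_instance
  let ι' : D.obj j.left ⟶ T' := Spec.map (CommRingCat.ofHom π.toRingHom)
  have : IsClosedImmersion ι' := IsClosedImmersion.spec_of_surjective _ hπs
  have hι' : ι' ≫ b = tS j.left := by
    simp only [ι', b, tS]
    rw [← Spec.map_comp_assoc]
    congr 2
    ext a
    exact π.commutes a
  let i : (bcDiagram D (pullback.snd f (tS j₀))).obj j ⟶ pullback f b :=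
    pullback.lift (pullback.fst _ _ ≫ pullback.fst _ _) (pullback.snd _ _ ≫ ι') (by
      rw [Category.assoc, Category.assoc, pullback.condition, pullback.condition_assoc, hι', htS])
  have hi : IsPullback i (pullback.snd _ (D.map j.hom)) (pullback.snd f b) ι' := by
    refine IsPullback.of_right ?_ (pullback.lift_snd _ _ _) (IsPullback.of_hasPullback f b)
    rw [pullback.lift_fst, hι', ← htS j.hom]
    exact (IsPullback.of_hasPullback _ _).paste_horiz (IsPullback.of_hasPullback _ _)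
  have : IsClosedImmersion i :=
    have := IsClosedImmersion.isStableUnderBaseChange.{u}
    MorphismProperty.of_isPullback (P := @IsClosedImmersion) hi.flip ‹_›
  obtain ⟨U', hU', hUi⟩ := i.isEmbedding.isInducing.isOpen_iff.mp Uj.2
  let a' : Spec Γ(T, V) ⟶ T' := cS.π.app j.left ≫ ι'
  have ha' : a' ≫ b = Spec.map φ ≫ hW.fromSpec := by rw [Category.assoc, hι', hπ]
  let a : V.toScheme ⟶ T' := hV.isoSpec.hom ≫ a'
  have hab : a ≫ b = V.ι ≫ g := by rw [Category.assoc, ha', hVg]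
  let m : P ⟶ pullback f b := pullback.lift (pullback.fst f (V.ι ≫ g)) (p ≫ a') (by
    rw [Category.assoc, ha', pullback.condition, Category.assoc, hVg])
  have hm : IsPullback m p (pullback.snd f b) a' := hpsq b a' ha'
  have hmi : (bcCone D cS (pullback.snd f (tS j₀)) _ p hP.w).π.app j ≫ i = m := by
    apply pullback.hom_ext
    · simp [i, m]
    · simp [i, m, a']
  have hU₀' : (U₀ : Set P) = m ⁻¹' U' := by
    rw [← hUj, ← hmi]
    change ⇑((bcCone D cS (pullback.snd f (tS j₀)) _ p hP.w).π.app j) ⁻¹' (Uj : Set _) = _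
    ext z
    exact (Set.ext_iff.mp hUi ((bcCone D cS (pullback.snd f (tS j₀)) _ p hP.w).π.app j z)).symm
  refine ⟨V, ht, T', b, a, n, m, closure (m '' (n ⁻¹' Z)), hV, inferInstanceAs (IsAffine (Spec R)),
    hb, hab, pullback.lift_fst _ _ _, pullback.lift_snd _ _ _, pullback.lift_fst _ _ _, ?_,
    isClosed_closure, ?_, fun z hz => subset_closure ⟨z, hz, rfl⟩⟩
  · rw [pullback.lift_snd, Category.assoc]
  · intro z' hz' heq
    obtain ⟨w, hw₁, hw₂⟩ := Scheme.exists_preimage_of_isPullback hm z' (hV.isoSpec.hom ⟨t, ht⟩) heq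
    have hwU : w ∈ (U₀ : Set P) := hs (by
      show pullback.snd f (V.ι ≫ g) w = _
      exact hV.isoSpec.hom.homeomorph.injective ((Scheme.Hom.comp_apply _ _ w).symm.trans hw₂))
    have hzU : z' ∈ U' := by
      rw [← hw₁]
      exact hU₀'.le hwU
    obtain ⟨_, hxU, x, hx, rfl⟩ := mem_closure_iff.mp hz' U' hU' hzU
    exact hU₀Z x (hU₀'.ge hxU) hx

end Groth.Agent.LimTop61
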