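import Groth.Agent.LimDesc62.Points

/-! Descent of properties of morphisms to a quasi-compact, not necessarily quasi-separated, target. -/

set_option autoImplicit false
universe u

open CategoryTheory CategoryTheory.Limits AlgebraicGeometry

namespace Groth.Agent.LimTop61

variable {H P : MorphismProperty Scheme.{u}}

/-- Pullback along a composite is an iterated pullback. -/
lemma prop_snd_snd_iff [P.RespectsIso] {T U V S : Scheme.{u}} (a : T ⟶ S) (b : U ⟶ S) (m : V ⟶ U) :
    P (pullback.snd (pullback.snd a b) m) ↔ P (pullback.snd a (m ≫ b)) :=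
  LimDesc62.prop_iff_of_isPullback
    ((IsPullback.of_hasPullback (pullback.snd a b) m).paste_horiz (IsPullback.of_hasPullback a b))

/-- Descent of a property local on the target when the target is quasi-compact. -/
theorem descend_of_compact_target [P.IsStableUnderBaseChange] [IsZariskiLocalAtTarget P]
    [H.RespectsIso] [H.IsStableUnderBaseChange] (hd : LimDesc62.DescProp H P)
    {I : Type u} [SmallCategory I] [IsCofiltered I] (D : I ⥤ Scheme.{u}) (c : Cone D) (hc : IsLimit c)
    [∀ (i j : I) (f : i ⟶ j), IsAffineHom (D.map f)] (i : I)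
    {X₀ Y₀ : Scheme.{u}} [CompactSpace Y₀] (f₀ : X₀ ⟶ Y₀) (g₀ : Y₀ ⟶ D.obj i)
    [QuasiCompact f₀] [QuasiSeparated f₀] (hH : H f₀)
    (h : P (pullback.snd f₀ (pullback.fst g₀ (c.π.app i)))) :
    ∃ (j : I) (φ : j ⟶ i), P (pullback.snd f₀ (pullback.fst g₀ (D.map φ))) := by
  let 𝒰 := Y₀.affineCover.finiteSubcover
  have hstep (k : 𝒰.I₀) : ∃ (j : I) (φ : j ⟶ i),
      P (pullback.snd (pullback.snd f₀ (𝒰.f k)) (pullback.fst (𝒰.f k ≫ g₀) (D.map φ))) := by
    have : IsAffine (𝒰.X k) := inferInstanceAs (IsAffine (Y₀.affineCover.X _))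
    refine hd.rel D c hc i (𝒰.f k ≫ g₀) (pullback.snd f₀ (𝒰.f k))
      (MorphismProperty.pullback_snd _ _ hH) ?_
    refine (prop_snd_snd_iff (P := P) _ _ _).mpr ?_
    exact LimDesc62.prop_snd_of_eq_comp
      (pullback.lift (pullback.fst _ _ ≫ 𝒰.f k) (pullback.snd _ _)
        (by rw [Category.assoc, pullback.condition]))
      (pullback.lift_fst _ _ _).symm h
  choose j φ hφ using hstep
  obtain ⟨m, ψ, χ, hχ⟩ := LimDesc62.DescProp.exists_common φ
  have key (k : 𝒰.I₀) : P (pullback.snd (pullback.snd f₀ (pullback.fst g₀ (D.map ψ)))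
      (pullback.fst (pullback.fst g₀ (D.map ψ)) (𝒰.f k))) := by
    refine (prop_snd_snd_iff (P := P) _ _ _).mpr ?_
    have e : pullback.fst (pullback.fst g₀ (D.map ψ)) (𝒰.f k) ≫ pullback.fst g₀ (D.map ψ) =
        pullback.snd (pullback.fst g₀ (D.map ψ)) (𝒰.f k) ≫ 𝒰.f k := pullback.condition
    rw [e]
    refine (prop_snd_snd_iff (P := P) _ _ _).mp ?_
    refine LimDesc62.prop_snd_of_eq_comp
      (pullback.lift (pullback.snd (pullback.fst g₀ (D.map ψ)) (𝒰.f k))
        (pullback.fst _ _ ≫ pullback.snd g₀ (D.map ψ) ≫ D.map (χ k)) ?_)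
      (pullback.lift_fst _ _ _).symm (hφ k)
    rw [← pullback.condition_assoc, pullback.condition, ← hχ k, D.map_comp]
    simp
  exact ⟨m, ψ, (IsZariskiLocalAtTarget.iff_of_openCover (P := P)
    (𝒰.pullback₁ (pullback.fst g₀ (D.map ψ)))).mpr key⟩

end Groth.Agent.LimTop61
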