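import Groth.Agent.LimTop61.BaseChange
import Groth.Agent.LimTop61.WrapQC
import Groth.Agent.LimTop61.Diag

set_option autoImplicit false
set_option backward.isDefEq.respectTransparency false
set_option backward.defeqAttrib.useBackward true
universe u

open CategoryTheory CategoryTheory.Limits AlgebraicGeometry

namespace Groth.Agent.LimTop61

variable {I : Type u} [SmallCategory I] [IsCofiltered I] (D : I ⥤ Scheme.{u}) (c : Cone D)
  (hc : IsLimit c) [∀ (i j : I) (f : i ⟶ j), IsAffineHom (D.map f)] {i₀ : I}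

include hc

/-- A morphism over the limit descends to a stage. -/
theorem exists_hom_descend {X₀ Y₀ : Scheme.{u}} (a₀ : X₀ ⟶ D.obj i₀) (b₀ : Y₀ ⟶ D.obj i₀)
    [CompactSpace X₀] [QuasiSeparatedSpace X₀] [LocallyOfFinitePresentation b₀]
    {X : Scheme.{u}} (a : X ⟶ c.pt) (qX : X ⟶ X₀) (hX : IsPullback qX a a₀ (c.π.app i₀))
    (u : X ⟶ Y₀) (hu : u ≫ b₀ = a ≫ c.π.app i₀) :
    ∃ (j : I) (φ : j ⟶ i₀) (g : pullback a₀ (D.map φ) ⟶ Y₀),
      g ≫ b₀ = pullback.fst a₀ (D.map φ) ≫ a₀ ∧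
      pullback.lift qX (a ≫ c.π.app j) (by rw [Category.assoc, c.w φ]; exact hX.w) ≫ g = u := by
  let t : bcDiagram D a₀ ⟶ (Functor.const (Over i₀)).obj (D.obj i₀) :=
    { app := fun j => pullback.fst a₀ (D.map j.hom) ≫ a₀
      naturality := fun j k f => by simp }
  obtain ⟨j, g, hg, hg'⟩ := Scheme.exists_π_app_comp_eq_of_locallyOfFinitePresentation
    (bcDiagram D a₀) t b₀ _ (isLimitBcCone D c hc a₀ qX a hX) u (by
      ext j
      simp [t, hu, hX.w])
  exact ⟨j.left, j.hom, g, hg', hg⟩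

/-- An isomorphism over the limit descends to a stage. -/
theorem exists_iso_descend [CompactSpace (D.obj i₀)] [QuasiSeparatedSpace (D.obj i₀)]
    {X₀ Y₀ : Scheme.{u}} (a₀ : X₀ ⟶ D.obj i₀) (b₀ : Y₀ ⟶ D.obj i₀)
    [LocallyOfFinitePresentation a₀] [QuasiCompact a₀] [QuasiSeparated a₀]
    [LocallyOfFinitePresentation b₀] [QuasiCompact b₀] [QuasiSeparated b₀]
    {X Y : Scheme.{u}} (a : X ⟶ c.pt) (b : Y ⟶ c.pt) (qX : X ⟶ X₀) (qY : Y ⟶ Y₀)
    (hX : IsPullback qX a a₀ (c.π.app i₀)) (hY : IsPullback qY b b₀ (c.π.app i₀))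
    (e : X ≅ Y) (he : e.hom ≫ b = a) :
    ∃ (j : I) (φ : j ⟶ i₀) (Xj Yj : Scheme.{u}) (aj : Xj ⟶ D.obj j) (bj : Yj ⟶ D.obj j)
        (pX : Xj ⟶ X₀) (pY : Yj ⟶ Y₀), IsPullback pX aj a₀ (D.map φ) ∧
        IsPullback pY bj b₀ (D.map φ) ∧ ∃ e : Xj ≅ Yj, e.hom ≫ bj = aj := by
  have : CompactSpace X₀ := QuasiCompact.compactSpace_of_compactSpace a₀
  have : QuasiSeparatedSpace X₀ := quasiSeparatedSpace_of_quasiSeparated a₀
  have : CompactSpace Y₀ := QuasiCompact.compactSpace_of_compactSpace b₀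
  obtain ⟨j, φ, g, hg, hgu⟩ := exists_hom_descend D c hc a₀ b₀ a qX hX (e.hom ≫ qY)
    (by rw [Category.assoc, hY.w, reassoc_of% he])
  let aj := pullback.snd a₀ (D.map φ)
  let bj := pullback.snd b₀ (D.map φ)
  let h : pullback a₀ (D.map φ) ⟶ pullback b₀ (D.map φ) :=
    pullback.lift g aj (by rw [hg, pullback.condition])
  have hh : h ≫ bj = aj := pullback.lift_snd _ _ _
  let πX : X ⟶ pullback a₀ (D.map φ) :=
    pullback.lift qX (a ≫ c.π.app j) (by rw [Category.assoc, c.w φ]; exact hX.w)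
  let πY : Y ⟶ pullback b₀ (D.map φ) :=
    pullback.lift qY (b ≫ c.π.app j) (by rw [Category.assoc, c.w φ]; exact hY.w)
  have hXj : IsPullback πX a aj (c.π.app j) := IsPullback.of_right
    (by simpa [πX, c.w φ] using hX) (pullback.lift_snd _ _ _) (IsPullback.of_hasPullback _ _)
  have hYj : IsPullback πY b bj (c.π.app j) := IsPullback.of_right
    (by simpa [πY, c.w φ] using hY) (pullback.lift_snd _ _ _) (IsPullback.of_hasPullback _ _)
  have hbc : IsPullback πX e.hom h πY := by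
    refine IsPullback.of_bot (by rw [he, hh]; exact hXj) ?_ hYj
    apply pullback.hom_ext
    · simpa [h, πY] using hgu
    · simp [h, πX, πY, aj, reassoc_of% he]
  have hX' : IsPullback πX (e.hom ≫ hYj.isoPullback.hom) h (pullback.fst bj (c.π.app j)) :=
    hbc.of_iso (Iso.refl _) (Iso.refl _) hYj.isoPullback (Iso.refl _)
      (by simp) (by simp) (by simp) (by simp)
  have hlfp := LimDesc62.isStableUnderBaseChange_lfp.{u}
  have hlfp' := LimDesc62.respectsIso_lfp.{u}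
  have : LocallyOfFinitePresentation aj := MorphismProperty.pullback_snd _ _ ‹_›
  have : LocallyOfFinitePresentation bj := MorphismProperty.pullback_snd _ _ ‹_›
  have : QuasiCompact aj := inferInstanceAs (QuasiCompact (pullback.snd a₀ (D.map φ)))
  have : QuasiSeparated aj := inferInstanceAs (QuasiSeparated (pullback.snd a₀ (D.map φ)))
  have : LocallyOfFinitePresentation (h ≫ bj) := hh.symm ▸ ‹_›
  have : QuasiCompact (h ≫ bj) := hh.symm ▸ ‹_›
  have : QuasiSeparated (h ≫ bj) := hh.symm ▸ ‹_›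
  have : QuasiCompact h := QuasiCompact.of_comp h bj
  have : QuasiSeparated h := QuasiSeparated.of_comp h bj
  have := locallyOfFinitePresentation_of_comp h bj
  have : CompactSpace ↥(pullback b₀ (D.map φ)) :=
    QuasiCompact.compactSpace_of_compactSpace (pullback.fst b₀ (D.map φ))
  obtain ⟨k, ψ, hk⟩ := descend_of_compact_target LimDesc62.descProp_isIso D c hc j h bj ‹_›
    ((LimDesc62.prop_iff_of_isPullback hX').mp
      (show IsIso (e.hom ≫ hYj.isoPullback.hom) from inferInstance))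
  have hs := (IsPullback.of_hasPullback h (pullback.fst bj (D.map ψ))).paste_vert
    (IsPullback.of_hasPullback bj (D.map ψ))
  rw [hh] at hs
  have : IsIso (pullback.snd h (pullback.fst bj (D.map ψ))) := hk
  refine ⟨k, ψ ≫ φ, _, _, pullback.snd h (pullback.fst bj (D.map ψ)) ≫ pullback.snd bj (D.map ψ),
    pullback.snd bj (D.map ψ), pullback.fst _ _ ≫ pullback.fst a₀ (D.map φ),
    pullback.fst _ _ ≫ pullback.fst b₀ (D.map φ), ?_, ?_,
    asIso (pullback.snd h (pullback.fst bj (D.map ψ))), rfl⟩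
  · rw [D.map_comp]; exact hs.paste_horiz (IsPullback.of_hasPullback _ _)
  · rw [D.map_comp]
    exact (IsPullback.of_hasPullback bj (D.map ψ)).paste_horiz (IsPullback.of_hasPullback _ _)

omit hc in
omit [IsCofiltered I] [∀ (i j : I) (f : i ⟶ j), IsAffineHom (D.map f)] in
/-- An isomorphism at a stage gives one over the limit. -/
theorem exists_iso_of_stage {X₀ Y₀ : Scheme.{u}} {a₀ : X₀ ⟶ D.obj i₀} {b₀ : Y₀ ⟶ D.obj i₀}
    {X Y : Scheme.{u}} {a : X ⟶ c.pt} {b : Y ⟶ c.pt} {qX : X ⟶ X₀} {qY : Y ⟶ Y₀}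
    (hX : IsPullback qX a a₀ (c.π.app i₀)) (hY : IsPullback qY b b₀ (c.π.app i₀))
    {j : I} (φ : j ⟶ i₀) {Xj Yj : Scheme.{u}} {aj : Xj ⟶ D.obj j} {bj : Yj ⟶ D.obj j}
    {pX : Xj ⟶ X₀} {pY : Yj ⟶ Y₀} (hXj : IsPullback pX aj a₀ (D.map φ))
    (hYj : IsPullback pY bj b₀ (D.map φ)) (e : Xj ≅ Yj) (he : e.hom ≫ bj = aj) :
    ∃ e : X ≅ Y, e.hom ≫ b = a := by
  have hu : IsPullback (hXj.lift qX (a ≫ c.π.app j) (by rw [Category.assoc, c.w φ]; exact hX.w))
      a aj (c.π.app j) := IsPullback.of_right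
    (by simpa [c.w φ] using hX) (hXj.lift_snd _ _ _) hXj
  have hv : IsPullback (hYj.lift qY (b ≫ c.π.app j) (by rw [Category.assoc, c.w φ]; exact hY.w))
      b bj (c.π.app j) := IsPullback.of_right
    (by simpa [c.w φ] using hY) (hYj.lift_snd _ _ _) hYj
  have hu' : IsPullback (hXj.lift qX (a ≫ c.π.app j) (by rw [Category.assoc, c.w φ]; exact hX.w)
      ≫ e.hom) a bj (c.π.app j) :=
    hu.of_iso (Iso.refl _) e (Iso.refl _) (Iso.refl _) (by simp) (by simp) (by simp [he]) (by simp)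
  exact ⟨hu'.isoIsPullback _ _ hv, hu'.isoIsPullback_hom_snd _ _ hv⟩

end Groth.Agent.LimTop61
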