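import Groth.Agent.CAlg5.ColimSys
import Mathlib.Algebra.Module.Projective
import Mathlib.Algebra.Module.FinitePresentation

/-!
Projectivity of a finitely presented module descends along filtered colimits of algebras.
-/

set_option autoImplicit false

universe u v

namespace Groth.Agent.LimTop61

open TensorProduct CAlg5

variable {R : Type u} [CommRing R] {ι : Type v} {G : ι → Type u} [∀ i, CommRing (G i)]
  [∀ i, Algebra R (G i)] {A : Type u} [CommRing A] [Algebra R A] {g : ∀ i, G i →ₐ[R] A}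

theorem exists_projective_stage (hs : ColimSys R G A g) (M : Type u) [AddCommGroup M] [Module R M]
    [Module.FinitePresentation R M] [Module.Projective A (A ⊗[R] M)] :
    ∃ l, Module.Projective (G l) (G l ⊗[R] M) := by
  classical
  obtain ⟨n, p, hp⟩ := Module.Finite.exists_fin' R M
  obtain ⟨w, hw⟩ := Module.FinitePresentation.fg_ker p hp
  have hpA : Function.Surjective (p.baseChange A) := LinearMap.lTensor_surjective A hp
  obtain ⟨σ, hσ⟩ := Module.projective_lifting_property (p.baseChange A) LinearMap.id hpA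
  let eA := (TensorProduct.piScalarRight R A A (Fin n))
  let e : Fin n → (Fin n → R) := fun a => Pi.single a 1
  -- the idempotent matrix
  let v : Fin n × Fin n → A := fun ab => eA (σ (1 ⊗ₜ p (e ab.1))) ab.2
  obtain ⟨i₀⟩ := hs.nonempty
  obtain ⟨l, -, -, x, hx⟩ := hs.exists_lift Finset.univ v i₀
  -- relations
  have hlin : ∀ (r : Fin n → R) (b : Fin n),
      ∑ a, r a • v (a, b) = eA (σ (1 ⊗ₜ p r)) b := by
    intro r b
    conv_rhs => rw [pi_eq_sum_univ' r, map_sum, tmul_sum, map_sum, map_sum, Finset.sum_apply]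
    refine Finset.sum_congr rfl fun a _ => ?_
    rw [p.map_smul, ← TensorProduct.smul_tmul]
    show r a • v (a, b) = (eA.toLinearMap.comp σ) ((r a • (1 : A)) ⊗ₜ[R] p (e a)) b
    rw [← TensorProduct.smul_tmul', LinearMap.map_smul_of_tower]
    rfl
  obtain ⟨l₁, h₁, hh₁, hk₁⟩ := hs.exists_kill (w ×ˢ (Finset.univ : Finset (Fin n))) l
    (fun rb => ∑ a, rb.1 a • x (a, rb.2)) (by
      rintro ⟨r, b⟩ hr
      have hr0 : p r = 0 := LinearMap.mem_ker.mp (hw.le (Submodule.subset_span (Finset.mem_product.mp hr).1))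
      rw [map_sum]
      simp only [map_smul, hx _ (Finset.mem_univ _), hlin, hr0, tmul_zero, map_zero, Pi.zero_apply])
  let x₁ : Fin n × Fin n → G l₁ := fun ab => h₁ (x ab)
  have hx₁ : ∀ ab, g l₁ (x₁ ab) = v ab := fun ab => by
    rw [ColimSys.comp_apply hh₁, hx _ (Finset.mem_univ _)]
  let y : (Fin n → M) ⊗[R] G l₁ :=
    ∑ a, ((∑ b, Pi.single a (p (e b)) ⊗ₜ x₁ (a, b)) - Pi.single a (p (e a)) ⊗ₜ 1)
  obtain ⟨l₂, h₂, hh₂, hk₂⟩ := hs.exists_tensor_kill (Fin n → M) l₁ y (by
    simp only [y, map_sum, map_sub, LinearMap.lTensor_tmul, AlgHom.toLinearMap_apply, hx₁, map_one]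
    refine Finset.sum_eq_zero fun a _ => sub_eq_zero.mpr ?_
    have h1 : ∀ t : A ⊗[R] M, ((TensorProduct.comm R A M).toLinearMap t) =
        TensorProduct.comm R A M t := fun _ => rfl
    have h0 : σ (1 ⊗ₜ p (e a)) = ∑ b, v (a, b) ⊗ₜ[R] e b := by
      apply eA.injective
      rw [map_sum]
      funext b
      simp [e, eA, v, Pi.single_apply, TensorProduct.piScalarRight_apply,
        TensorProduct.piScalarRightHom_tmul, Finset.sum_ite_eq, apply_ite (fun r : R => r • v (a, b))]
    have h2 := congrArg (fun t => (LinearMap.single R (fun _ : Fin n => M) a).rTensor A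
      (TensorProduct.comm R A M (p.baseChange A t))) h0
    have h3 := LinearMap.congr_fun hσ (1 ⊗ₜ p (e a))
    simp only [LinearMap.comp_apply, LinearMap.id_apply] at h3
    rw [h3] at h2
    simp only [map_sum, LinearMap.baseChange_tmul, TensorProduct.comm_tmul, LinearMap.rTensor_tmul,
      LinearMap.single_apply] at h2
    exact h2.symm)
  let x₂ : Fin n × Fin n → G l₂ := fun ab => h₂ (x₁ ab)
  -- the splitting over the stage
  let b₀ : (Fin n → R) →ₗ[R] (Fin n → G l₂) :=
    LinearMap.pi fun b => ∑ a, (LinearMap.proj a).smulRight (x₂ (a, b))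
  have hb₀ : LinearMap.ker p ≤ LinearMap.ker b₀ := by
    rw [← hw, Submodule.span_le]
    intro r hr
    funext b
    have := congrArg h₂ (hk₁ (r, b) (Finset.mem_product.mpr ⟨hr, Finset.mem_univ b⟩))
    simp only [map_sum, map_smul, map_zero] at this
    simpa [b₀, x₂, x₁, Finset.sum_apply] using this
  let b₁ : M →ₗ[R] (Fin n → G l₂) :=
    ((LinearMap.ker p).liftQ b₀ hb₀).comp (p.quotKerEquivOfSurjective hp).symm.toLinearMap
  have hb₁ : ∀ r, b₁ (p r) = b₀ r := fun r => by
    rw [LinearMap.comp_apply, LinearEquiv.coe_coe,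
      show (p.quotKerEquivOfSurjective hp).symm (p r) = Submodule.Quotient.mk r from
        (p.quotKerEquivOfSurjective hp).injective ((LinearEquiv.apply_symm_apply _ _).trans rfl),
      Submodule.liftQ_apply]
  let s : G l₂ ⊗[R] M →ₗ[G l₂] (Fin n → G l₂) := b₁.liftBaseChange (G l₂)
  let q : (Fin n → G l₂) →ₗ[G l₂] G l₂ ⊗[R] M :=
    (p.baseChange (G l₂)).comp (TensorProduct.piScalarRight R (G l₂) (G l₂) (Fin n)).symm.toLinearMap
  refine ⟨l₂, Module.Projective.of_split s q ?_⟩
  refine TensorProduct.AlgebraTensorModule.ext fun c m => ?_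
  obtain ⟨r, rfl⟩ := hp m
  have hbasis : ∀ a, q (s (1 ⊗ₜ p (e a))) = 1 ⊗ₜ p (e a) := by
    intro a
    have h4 := congrArg (fun t => TensorProduct.comm R M (G l₂) ((LinearMap.proj a).rTensor (G l₂) t)) hk₂
    simp only [y, map_sum, map_sub, LinearMap.lTensor_tmul, LinearMap.rTensor_tmul, LinearMap.proj_apply,
      AlgHom.toLinearMap_apply, map_one, map_zero, TensorProduct.comm_tmul] at h4
    rw [Finset.sum_eq_single a (fun a' _ ha' => by
      simp [Pi.single_eq_of_ne' ha']) (by simp)] at h4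
    simp only [Pi.single_eq_same] at h4
    conv_rhs => rw [← sub_eq_zero.mp h4]
    have hse : s (1 ⊗ₜ p (e a)) = fun b => x₂ (a, b) := by
      rw [LinearMap.liftBaseChange_tmul, one_smul, hb₁]
      funext b
      simp [b₀, e, Pi.single_apply, Finset.sum_apply]
    rw [hse]
    have hsum : (TensorProduct.piScalarRight R (G l₂) (G l₂) (Fin n)).symm (fun b => x₂ (a, b)) =
        ∑ b, x₂ (a, b) ⊗ₜ[R] e b := by
      rw [LinearEquiv.symm_apply_eq, map_sum]
      funext b
      simp [e, Pi.single_apply, TensorProduct.piScalarRight_apply, TensorProduct.piScalarRightHom_tmul]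
    simp only [q, LinearMap.comp_apply, LinearEquiv.coe_coe, hsum, map_sum, LinearMap.baseChange_tmul]
    rfl
  show q (s (c ⊗ₜ p r)) = c ⊗ₜ p r
  rw [show (c : G l₂) ⊗ₜ[R] p r = c • ((1 : G l₂) ⊗ₜ p r) by rw [TensorProduct.smul_tmul', smul_eq_mul, mul_one],
    map_smul, map_smul]
  congr 1
  conv_rhs => rw [pi_eq_sum_univ' r, map_sum, tmul_sum]
  conv_lhs => rw [pi_eq_sum_univ' r, map_sum, tmul_sum, map_sum, map_sum]
  refine Finset.sum_congr rfl fun a _ => ?_
  rw [p.map_smul, tmul_smul, LinearMap.map_smul_of_tower, LinearMap.map_smul_of_tower]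
  exact congrArg (r a • ·) (hbasis a)

end Groth.Agent.LimTop61
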