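import Groth.Agent.LimTop61.ModDescent
import Groth.Agent.LimTop61.ProjStage
import Groth.Agent.Props58.LocFree.Affine
import Groth.Agent.FlatMor68.LocFree
import Groth.Agent.FlatMor68.PullbackStalk

/-!
Local freeness descends to a stage of a limit.
-/

set_option autoImplicit false
set_option backward.isDefEq.respectTransparency.types false

noncomputable section

universe u

open CategoryTheory Limits AlgebraicGeometry TopologicalSpace Opposite TensorProduct
open Groth.Agent.QC70 Groth.Agent.QCPull72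

namespace Groth.Agent.LimTop61

section Gen

variable {X Y Z : Scheme.{u}}

/-- Pullback along an affine morphism preserves finite local freeness. -/
theorem isFinLocFree_pullback (f : Y ⟶ X) [IsAffineHom f] {M : X.Modules}
    (h : FlatMod.IsFinLocFree M) : FlatMod.IsFinLocFree ((Scheme.Modules.pullback f).obj M) := by
  have := Props58.LocFree.isQuasicoherent_of_isFinLocFree h
  have := Props58.LocFree.isFP_of_isFinLocFree h
  have := isQuasicoherent_pullback f M
  refine FlatMor68.LocFree.isFinLocFree_of_projective_sections _ fun y => ?_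
  obtain ⟨_, ⟨U, hU, rfl⟩, hyU, -⟩ :=
    X.isBasis_affineOpens.exists_subset_of_mem_open (Set.mem_univ (f y)) isOpen_univ
  refine ⟨f ⁻¹ᵁ U, hU.preimage f, hyU, ?_⟩
  let _ := (f.appLE U (f ⁻¹ᵁ U) le_rfl).hom.toAlgebra
  obtain ⟨E, -⟩ := exists_baseChange_equiv f M hU (hU.preimage f) (le_refl (f ⁻¹ᵁ U))
  have := Props58.LocFree.projective_sections h hU
  have := Props58.LocFree.finitePresentation_sections M hU
  exact ⟨Module.Projective.of_equiv E.symm, Module.Finite.equiv E.symm⟩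

lemma isFinLocFree_of_iso {M N : X.Modules} (e : M ≅ N) (h : FlatMod.IsFinLocFree M) :
    FlatMod.IsFinLocFree N := fun x => by
  obtain ⟨U, n, hx, ⟨i⟩⟩ := h x
  exact ⟨U, n, hx, ⟨((Scheme.Modules.restrictFunctor U.ι).mapIso e).symm ≪≫ i⟩⟩

lemma isFinLocFreeOfRank_of_iso {n : ℕ} {M N : X.Modules} (e : M ≅ N)
    (h : FlatMod.IsFinLocFreeOfRank n M) : FlatMod.IsFinLocFreeOfRank n N := fun x => by
  obtain ⟨U, hx, ⟨i⟩⟩ := h x
  exact ⟨U, hx, ⟨((Scheme.Modules.restrictFunctor U.ι).mapIso e).symm ≪≫ i⟩⟩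

/-- Rank of a stalk. -/
def stalkRk (M : X.Modules) (x : X) : ℕ := Module.finrank (X.presheaf.stalk x) (M.presheaf.stalk x)

lemma stalkRk_eq_of_stalkBasis {M : X.Modules} {U : X.Opens} {n : ℕ} {s : Fin n → Γ(M, U)}
    (hs : Props58.LocFree.StalkBasis s) (y : X) (hy : y ∈ U) : stalkRk M y = n := by
  rw [stalkRk, ← (hs.stalkEquiv y hy).finrank_eq, Module.finrank_fin_fun]

theorem isFinLocFreeOfRank_iff {n : ℕ} {M : X.Modules} :
    FlatMod.IsFinLocFreeOfRank n M ↔ FlatMod.IsFinLocFree M ∧ ∀ x, stalkRk M x = n := by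
  constructor
  · intro h
    refine ⟨fun x => ?_, fun x => ?_⟩
    · obtain ⟨U, hx, hi⟩ := h x
      exact ⟨U, n, hx, hi⟩
    · obtain ⟨U, hx, ⟨i⟩⟩ := h x
      obtain ⟨s, hs⟩ := Props58.LocFree.exists_stalkBasis_of_iso i
      exact stalkRk_eq_of_stalkBasis hs x hx
  · rintro ⟨h, hn⟩ x
    obtain ⟨U, m, s, hx, hs⟩ := Props58.LocFree.isFinLocFree_iff.mp h x
    obtain rfl : m = n := (stalkRk_eq_of_stalkBasis hs x hx).symm.trans (hn x)
    exact ⟨U, hx, Props58.LocFree.nonempty_iso_of_stalkBasis hs⟩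

lemma isOpen_stalkRk_eq {M : X.Modules} (h : FlatMod.IsFinLocFree M) (n : ℕ) :
    IsOpen {x | stalkRk M x = n} := by
  refine isOpen_iff_forall_mem_open.mpr fun x hx => ?_
  obtain ⟨U, m, s, hxU, hs⟩ := Props58.LocFree.isFinLocFree_iff.mp h x
  exact ⟨U, fun y hy => (stalkRk_eq_of_stalkBasis hs y hy).trans
    ((stalkRk_eq_of_stalkBasis hs x hxU).symm.trans hx), U.2, hxU⟩

lemma stalkRk_pullback (f : Y ⟶ X) {M : X.Modules} (h : FlatMod.IsFinLocFree M) (y : Y) :
    stalkRk ((Scheme.Modules.pullback f).obj M) y = stalkRk M (f y) := by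
  have := Props58.LocFree.isQuasicoherent_of_isFinLocFree h
  have := Props58.LocFree.free_stalk_of_isFinLocFree h (f y)
  let _ := (f.stalkMap y).hom.toAlgebra
  obtain ⟨e⟩ := FlatMor68.PullbackStalk.nonempty_stalkPullbackEquiv f M y
  exact e.finrank_eq.trans (Module.finrank_baseChange (R := Y.presheaf.stalk y)
    (S := X.presheaf.stalk (f y)) (M' := M.presheaf.stalk (f y)))

/-- Finite local freeness of a pullback along an affine morphism persists. -/
theorem isFinLocFree_pullback_comp (f : Y ⟶ X) (g : Z ⟶ Y) [IsAffineHom g] {h : Z ⟶ X}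
    (e : g ≫ f = h) {M : X.Modules}
    (hM : FlatMod.IsFinLocFree ((Scheme.Modules.pullback f).obj M)) :
    FlatMod.IsFinLocFree ((Scheme.Modules.pullback h).obj M) :=
  isFinLocFree_of_iso ((pullbackCompIso f g e).app M) (isFinLocFree_pullback g hM)

theorem isFinLocFreeOfRank_pullback_comp {n : ℕ} (f : Y ⟶ X) (g : Z ⟶ Y) [IsAffineHom g] {h : Z ⟶ X}
    (e : g ≫ f = h) {M : X.Modules}
    (hM : FlatMod.IsFinLocFreeOfRank n ((Scheme.Modules.pullback f).obj M)) :
    FlatMod.IsFinLocFreeOfRank n ((Scheme.Modules.pullback h).obj M) := by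
  obtain ⟨hM, hn⟩ := isFinLocFreeOfRank_iff.mp hM
  exact isFinLocFreeOfRank_of_iso ((pullbackCompIso f g e).app M)
    (isFinLocFreeOfRank_iff.mpr ⟨isFinLocFree_pullback g hM,
      fun z => (stalkRk_pullback g hM z).trans (hn _)⟩)

/-- Sections of a module with finite locally free pullback have projective base change. -/
theorem projective_baseChange (f : Y ⟶ X) (F : X.Modules) [F.IsQuasicoherent]
    (h : FlatMod.IsFinLocFree ((Scheme.Modules.pullback f).obj F)) {U : X.Opens}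
    (hU : IsAffineOpen U) (hV : IsAffineOpen (f ⁻¹ᵁ U)) :
    letI := (f.app U).hom.toAlgebra
    Module.Projective Γ(Y, f ⁻¹ᵁ U) (Γ(Y, f ⁻¹ᵁ U) ⊗[Γ(X, U)] Γ(F, U)) := by
  have hh := exists_baseChange_equiv f F hU hV (le_refl (f ⁻¹ᵁ U))
  rw [← Scheme.Hom.app_eq_appLE] at hh
  let _ := (f.app U).hom.toAlgebra
  obtain ⟨E, -⟩ := hh
  have := Props58.LocFree.projective_sections h hV
  exact Module.Projective.of_equiv E

end Gen

section Stage

variable {I : Type u} [SmallCategory I] [IsCofiltered I] {D : I ⥤ Scheme.{u}} {c : Cone D}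
  (hc : IsLimit c) [∀ {i j : I} (f : i ⟶ j), IsAffineHom (D.map f)] {i₀ : I}
  [CompactSpace (D.obj i₀)]

include hc in
omit [CompactSpace (D.obj i₀)] in
/-- Projectivity of sections over an affine open appears at a stage and persists. -/
theorem exists_projective_sections (F₀ : (D.obj i₀).Modules) [F₀.IsQuasicoherent] [CohB1.IsFP F₀]
    (hlim : FlatMod.IsFinLocFree ((Scheme.Modules.pullback (c.π.app i₀)).obj F₀))
    {U : (D.obj i₀).Opens} (hU : IsAffineOpen U) :
    ∃ j : Over i₀, ∀ (k : Over i₀) (_ : k ⟶ j), Module.Projective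
      Γ(D.obj k.left, D.map k.hom ⁻¹ᵁ U)
      Γ((Scheme.Modules.pullback (D.map k.hom)).obj F₀, D.map k.hom ⁻¹ᵁ U) := by
  let _ : ∀ j : Over i₀, Algebra Γ(D.obj i₀, U) Γ(D.obj j.left, D.map j.hom ⁻¹ᵁ U) :=
    fun j => ((D.map j.hom).app U).hom.toAlgebra
  let _ : Algebra Γ(D.obj i₀, U) Γ(c.pt, c.π.app i₀ ⁻¹ᵁ U) := ((c.π.app i₀).app U).hom.toAlgebra
  obtain ⟨g, hs⟩ := colimSys_sections hc hU
  have : IsAffineHom (c.π.app i₀) := isAffineHom_π_app D c hc i₀
  have := Props58.LocFree.finitePresentation_sections F₀ hU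
  have : Module.Projective Γ(c.pt, c.π.app i₀ ⁻¹ᵁ U)
      (Γ(c.pt, c.π.app i₀ ⁻¹ᵁ U) ⊗[Γ(D.obj i₀, U)] Γ(F₀, U)) :=
    projective_baseChange (Y := c.pt) (c.π.app i₀) F₀ hlim hU (hU.preimage _)
  obtain ⟨l, hl⟩ := exists_projective_stage hs Γ(F₀, U)
  refine ⟨l, fun k q => ?_⟩
  have et : D.map k.hom ⁻¹ᵁ U ≤ D.map q.left ⁻¹ᵁ (D.map l.hom ⁻¹ᵁ U) := by
    rw [← Scheme.Hom.comp_preimage, ← D.map_comp, Over.w]
  let _ := ((D.map q.left).appLE _ _ et).hom.toAlgebra
  have : IsScalarTower Γ(D.obj i₀, U) Γ(D.obj l.left, D.map l.hom ⁻¹ᵁ U)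
      Γ(D.obj k.left, D.map k.hom ⁻¹ᵁ U) := IsScalarTower.of_algebraMap_eq fun r => by
    show (D.map k.hom).app U r = ((D.map l.hom).app U ≫ (D.map q.left).appLE _ _ et) r
    rw [Scheme.Hom.app_eq_appLE, Scheme.Hom.app_eq_appLE, Scheme.Hom.appLE_comp_appLE]
    simp only [← D.map_comp, Over.w]
  have hh := exists_baseChange_equiv (D.map k.hom) F₀ hU (hU.preimage _) (le_refl (D.map k.hom ⁻¹ᵁ U))
  rw [← Scheme.Hom.app_eq_appLE] at hh
  obtain ⟨Ek, -⟩ := hh
  exact Module.Projective.of_equiv ((TensorProduct.AlgebraTensorModule.cancelBaseChange Γ(D.obj i₀, U)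
    Γ(D.obj l.left, D.map l.hom ⁻¹ᵁ U) Γ(D.obj k.left, D.map k.hom ⁻¹ᵁ U)
    Γ(D.obj k.left, D.map k.hom ⁻¹ᵁ U) Γ(F₀, U)).trans Ek.symm)

include hc in
theorem isFinLocFree_iff_eventually (F₀ : (D.obj i₀).Modules) [F₀.IsQuasicoherent] [CohB1.IsFP F₀] :
    FlatMod.IsFinLocFree ((Scheme.Modules.pullback (c.π.app i₀)).obj F₀) ↔
      ∃ (j : I) (φ : j ⟶ i₀), FlatMod.IsFinLocFree ((Scheme.Modules.pullback (D.map φ)).obj F₀) := by
  classical
  refine ⟨fun hlim => ?_, fun ⟨j, φ, h⟩ => ?_⟩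
  · obtain ⟨s, hs, hcov⟩ := isCompact_iff_finite_and_eq_biUnion_affineOpens.mp
      (show IsCompact ((⊤ : (D.obj i₀).Opens) : Set (D.obj i₀)) from isCompact_univ)
    have hj := fun U : (D.obj i₀).affineOpens => exists_projective_sections hc F₀ hlim U.2
    choose jU hjU using hj
    obtain ⟨j, hj⟩ := IsCofiltered.inf_objs_exists (hs.toFinset.image jU ∪ {Over.mk (𝟙 i₀)})
    have := isQuasicoherent_pullback (D.map j.hom) F₀
    refine ⟨j.left, j.hom, FlatMor68.LocFree.isFinLocFree_of_projective_sections _ fun y => ?_⟩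
    obtain ⟨U, hyU⟩ := Opens.mem_iSup.mp
      (hcov.le (Set.mem_univ (D.map j.hom y) : D.map j.hom y ∈ (⊤ : (D.obj i₀).Opens)))
    obtain ⟨hUs, hyU⟩ := Opens.mem_iSup.mp hyU
    refine ⟨D.map j.hom ⁻¹ᵁ U.1, U.2.preimage _, hyU, hjU U j (hj (Finset.mem_union_left _
      (Finset.mem_image_of_mem _ (hs.mem_toFinset.mpr hUs)))).some, ?_⟩
    have := isFP_pullback (D.map j.hom) F₀
    have := Props58.LocFree.finitePresentation_sections
      ((Scheme.Modules.pullback (D.map j.hom)).obj F₀) (U.2.preimage (D.map j.hom))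
    infer_instance
  · have : IsAffineHom (c.π.app j) := isAffineHom_π_app D c hc j
    exact isFinLocFree_pullback_comp (D.map φ) (c.π.app j) (c.w φ) h

include hc in
theorem isFinLocFreeOfRank_iff_eventually (n : ℕ) (F₀ : (D.obj i₀).Modules) [F₀.IsQuasicoherent]
    [CohB1.IsFP F₀] :
    FlatMod.IsFinLocFreeOfRank n ((Scheme.Modules.pullback (c.π.app i₀)).obj F₀) ↔
      ∃ (j : I) (φ : j ⟶ i₀),
        FlatMod.IsFinLocFreeOfRank n ((Scheme.Modules.pullback (D.map φ)).obj F₀) := by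
  refine ⟨fun hlim => ?_, fun ⟨j, φ, h⟩ => ?_⟩
  · obtain ⟨j, φ, hj⟩ :=
      (isFinLocFree_iff_eventually hc F₀).mp (isFinLocFreeOfRank_iff.mp hlim).1
    have : CompactSpace (D.obj j) := QuasiCompact.compactSpace_of_compactSpace (D.map φ)
    let Fj := (Scheme.Modules.pullback (D.map φ)).obj F₀
    let V : (D.obj j).Opens := ⟨{x | stalkRk Fj x = n}, isOpen_stalkRk_eq hj n⟩
    have hpull : FlatMod.IsFinLocFreeOfRank n ((Scheme.Modules.pullback (c.π.app j)).obj Fj) :=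
      isFinLocFreeOfRank_of_iso ((pullbackCompIso (D.map φ) (c.π.app j) (c.w φ)).app F₀).symm hlim
    obtain ⟨k, ψ, hk⟩ := exists_map_preimage_le_map_preimage D c hc (U := ⊤) (V := V)
      (show IsCompact ((⊤ : (D.obj j).Opens) : Set (D.obj j)) from isCompact_univ)
      (fun x _ => (stalkRk_pullback (c.π.app j) hj x).symm.trans ((isFinLocFreeOfRank_iff.mp hpull).2 x))
    refine ⟨k, ψ ≫ φ, isFinLocFreeOfRank_iff.mpr
      ⟨isFinLocFree_pullback_comp (D.map φ) (D.map ψ) (D.map_comp ψ φ).symm hj, fun x => ?_⟩⟩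
    have h1 : FlatMod.IsFinLocFreeOfRank n ((Scheme.Modules.pullback (D.map ψ)).obj Fj) :=
      isFinLocFreeOfRank_iff.mpr ⟨isFinLocFree_pullback (D.map ψ) hj,
        fun y => (stalkRk_pullback (D.map ψ) hj y).trans (hk (Set.mem_univ y : y ∈ D.map ψ ⁻¹ᵁ ⊤))⟩
    exact (isFinLocFreeOfRank_iff.mp
      (isFinLocFreeOfRank_of_iso ((pullbackCompIso (D.map φ) (D.map ψ) (D.map_comp ψ φ).symm).app F₀) h1)).2 x
  · have : IsAffineHom (c.π.app j) := isAffineHom_π_app D c hc j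
    exact isFinLocFreeOfRank_pullback_comp (D.map φ) (c.π.app j) (c.w φ) h

end Stage

end Groth.Agent.LimTop61
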