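import Groth.Agent.LimTop61.HomDescent
import Groth.Agent.Props58.Ext.FPExt
import Groth.Agent.QCqs72.Basic

/-!
Finitely presented modules and their quotients descend to a stage of a limit.
-/

set_option autoImplicit false
set_option backward.isDefEq.respectTransparency.types false

noncomputable section

universe u

open CategoryTheory Limits AlgebraicGeometry TopologicalSpace Opposite
open Groth.Agent.QC70 Groth.Agent.QCPull72

namespace Groth.Agent.LimTop61

section Gen

variable {X Y : Scheme.{u}} [CompactSpace X] [QuasiSeparatedSpace X]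

/-- Finitely many sections over an affine open come from a finitely presented module. -/
theorem exists_fp_hom_sections (F : X.Modules) [F.IsQuasicoherent] {U : X.Opens}
    (hU : IsAffineOpen U) (s : Finset Γ(F, U)) :
    ∃ (P : X.Modules) (ψ : P ⟶ F), CohB1.IsFP P ∧ ∀ z ∈ s, ∃ x, ψ.app U x = z := by
  obtain ⟨Q, hQ, hQP⟩ := SubMod72.exists_extension_qcqs hU.isCompact
    (SubMod72.fg_locSpan (S := (s : Set Γ(F, U))) s.finite_toSet)
  obtain ⟨h1, h2⟩ := SubMod72.isQuasicoherent_isFiniteType_toMod hQ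
  obtain ⟨P, φ, hP, hφ⟩ := Props58.Ext.exists_fp_epi (SubMod72.toMod Q)
  have hPq : P.IsQuasicoherent := by
    have := hP
    infer_instance
  have hK := isQuasicoherent_kernel φ
  have : (ShortComplex.mk (kernel.ι φ) φ (kernel.condition φ)).X₁.IsQuasicoherent := hK
  have hsurj := app_surjective_of_isAffineOpen _ (Props58.Ext.shortExact_kernel φ) hU
  refine ⟨P, φ ≫ SubMod72.toModι Q, hP, fun z hz => ?_⟩
  have hmem : z ∈ Q.carrier U := by
    rw [hQP U le_rfl]
    have := SubMod72.self_mem_locSpan (W := U) le_rfl (S := (s : Set Γ(F, U))) (Finset.mem_coe.mpr hz)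
    rwa [res_self] at this
  obtain ⟨y, hy⟩ := (SubMod72.mem_iff_exists Q z).mp hmem
  obtain ⟨x, rfl⟩ := hsurj y
  exact ⟨x, hy⟩

/-- Finitely many sections over affine opens come from one finitely presented module. -/
theorem exists_fp_hom_sections_finset (F : X.Modules) [F.IsQuasicoherent]
    (T : Finset X.affineOpens) (s : ∀ U : X.affineOpens, Finset Γ(F, U.1)) :
    ∃ (P : X.Modules) (ψ : P ⟶ F), CohB1.IsFP P ∧
      ∀ U ∈ T, ∀ z ∈ s U, ∃ x, ψ.app U.1 x = z := by
  classical
  induction T using Finset.induction with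
  | empty =>
    have := Props58.Ext.isQuasicoherent_freeMod X 0
    exact ⟨FlatMod.freeMod X 0, 0, Props58.Ext.isFP_of_fpOn _
      fun T _ _ => Props58.Ext.finitePresentation_free_sections 0 T, fun U hU => absurd hU (Finset.notMem_empty U)⟩
  | insert V T hV ih =>
    obtain ⟨P, ψ, hP, hψ⟩ := ih
    obtain ⟨P', ψ', hP', hψ'⟩ := exists_fp_hom_sections F V.2 (s V)
    refine ⟨P ⊞ P', biprod.desc ψ ψ', Props58.Ext.isFP_biprod hP hP', fun U hU z hz => ?_⟩
    rcases Finset.mem_insert.mp hU with rfl | hU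
    · obtain ⟨x, rfl⟩ := hψ' z hz
      refine ⟨(biprod.inr : P' ⟶ P ⊞ P').app _ x, ?_⟩
      rw [← Props58.Ext.comp_app_apply, biprod.inr_desc]
    · obtain ⟨x, rfl⟩ := hψ U hU z hz
      refine ⟨(biprod.inl : P ⟶ P ⊞ P').app _ x, ?_⟩
      rw [← Props58.Ext.comp_app_apply, biprod.inl_desc]

/-- A finite type module on a scheme affine over a qcqs scheme is a quotient of the inverse image
of a finitely presented module. -/
theorem exists_fp_epi_pullback (f : Y ⟶ X) [IsAffineHom f] (F : Y.Modules) [F.IsQuasicoherent]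
    [F.IsFiniteType] :
    ∃ (P : X.Modules) (p : (Scheme.Modules.pullback f).obj P ⟶ F), CohB1.IsFP P ∧ Epi p := by
  classical
  obtain ⟨s, hs, hcov⟩ := isCompact_iff_finite_and_eq_biUnion_affineOpens.mp
    (show IsCompact ((⊤ : X.Opens) : Set X) from isCompact_univ)
  have := QCqs72.isQuasicoherent_pushforward F f
  have hgen : ∀ U : X.affineOpens, ∃ t : Finset Γ(F, f ⁻¹ᵁ U.1),
      Submodule.span Γ(Y, f ⁻¹ᵁ U.1) (t : Set Γ(F, f ⁻¹ᵁ U.1)) = ⊤ := fun U =>
    (finite_sections_of_isFiniteType F (U.2.preimage f)).fg_top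
  choose t ht using hgen
  obtain ⟨P, ψ, hP, hψ⟩ := exists_fp_hom_sections_finset ((Scheme.Modules.pushforward f).obj F)
    hs.toFinset t
  let p := ((Scheme.Modules.pullbackPushforwardAdjunction f).homEquiv P F).symm ψ
  have hu : pullUnit f P ≫ (Scheme.Modules.pushforward f).map p = ψ :=
    ((Scheme.Modules.pullbackPushforwardAdjunction f).homEquiv_unit _ _ p).symm.trans
      (Equiv.apply_symm_apply _ _)
  refine ⟨P, p, hP, Preadditive.epi_of_cancel_zero _ fun {N} a ha => ?_⟩
  refine Scheme.Modules.hom_ext _ _ fun W => ?_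
  ext z
  refine section_ext _ _ _ fun y hy => ?_
  obtain ⟨U, hyU⟩ := Opens.mem_iSup.mp (hcov.le (Set.mem_univ (f y) : f y ∈ (⊤ : X.Opens)))
  obtain ⟨hUs, hyU⟩ := Opens.mem_iSup.mp hyU
  refine ⟨W ⊓ f ⁻¹ᵁ U.1, inf_le_left, ⟨hy, hyU⟩, ?_⟩
  rw [← app_res, ← app_res]
  refine Omega57.hom_ext_le (U.2.preimage f) a 0 (fun m => ?_) inf_le_right _
  have hm := (ht U).ge (Submodule.mem_top (x := m))
  induction hm using Submodule.span_induction with
  | mem v hv =>
    obtain ⟨x, rfl⟩ := hψ U (hs.mem_toFinset.mpr hUs) v hv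
    have h2 : p.app (f ⁻¹ᵁ U.1) (unitSec f P (le_refl _) x) = ψ.app U.1 x := by
      rw [unitSec, res_self]
      exact congr(Scheme.Modules.Hom.app $hu U.1 x)
    rw [← h2]
    exact congr(Scheme.Modules.Hom.app $ha (f ⁻¹ᵁ U.1) (unitSec f P (le_refl _) x))
  | zero => rw [map_zero, map_zero]
  | add v w _ _ hv hw => rw [map_add, map_add, hv, hw]
  | smul r v _ hv => rw [Scheme.Modules.Hom.app_smul, Scheme.Modules.Hom.app_smul, hv]

omit [CompactSpace X] [QuasiSeparatedSpace X] in
/-- The cokernel of a homomorphism of finitely presented modules is finitely presented. -/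
theorem isFP_cokernel {P' P : X.Modules} (a : P' ⟶ P) (hP' : CohB1.IsFP P') (hP : CohB1.IsFP P) :
    CohB1.IsFP (cokernel a) := by
  have := hP'
  have := hP
  have : P'.IsQuasicoherent := inferInstance
  have : P.IsQuasicoherent := inferInstance
  have : P'.IsFiniteType := SheafOfModules.instIsFiniteTypeOfIsFinitePresentation P'
  have := isQuasicoherent_abelianImage a
  have := isQuasicoherent_cokernel (Abelian.image.ι a)
  have : (Abelian.image a).IsFiniteType := isFiniteType_of_epi (Abelian.factorThruImage a)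
  have h := Props58.Ext.isFP_of_fpOn _ (Props58.Ext.fpOn_cokernel (Abelian.image.ι a)
    (Props58.Ext.fpOn_of_isFP P ⊤) fun D hD _ => finite_sections_of_isFiniteType (Abelian.image a) hD)
  have e : cokernel (Abelian.image.ι a) ≅ cokernel a :=
    (cokernelEpiComp (Abelian.factorThruImage a) (Abelian.image.ι a)).symm ≪≫
      cokernelIsoOfEq (Abelian.image.fac a)
  have := isQuasicoherent_cokernel a
  exact Props58.Ext.isFP_of_fpOn _ ((Props58.Ext.fpOn_of_isFP _ ⊤).of_bijective e.hom
    fun T _ => ConcreteCategory.bijective_of_isIso (e.hom.app T))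

end Gen

section Stage

variable {I : Type u} [SmallCategory I] [IsCofiltered I] {D : I ⥤ Scheme.{u}} {c : Cone D}
  (hc : IsLimit c) [∀ {i j : I} (f : i ⟶ j), IsAffineHom (D.map f)] {i₀ : I}
  [CompactSpace (D.obj i₀)] [QuasiSeparatedSpace (D.obj i₀)]

include hc in
theorem exists_quotient_descend (F₀ : (D.obj i₀).Modules) [F₀.IsQuasicoherent] [CohB1.IsFP F₀]
    {G : c.pt.Modules} [G.IsQuasicoherent] [CohB1.IsFP G]
    (p : (Scheme.Modules.pullback (c.π.app i₀)).obj F₀ ⟶ G) [Epi p] :
    ∃ (j : I) (φ : j ⟶ i₀) (Gj : (D.obj j).Modules) (_ : Coh.IsQCoh Gj)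
      (pj : (Scheme.Modules.pullback (D.map φ)).obj F₀ ⟶ Gj)
      (e : (Scheme.Modules.pullback (c.π.app j)).obj Gj ≅ G), CohB1.IsFP Gj ∧ Epi pj ∧
        ((pullbackCompIso (D.map φ) (c.π.app j) (c.w φ)).app F₀).inv ≫
          (Scheme.Modules.pullback (c.π.app j)).map pj ≫ e.hom = p := by
  have : IsAffineHom (c.π.app i₀) := isAffineHom_π_app D c hc i₀
  have := isQuasicoherent_pullback (c.π.app i₀) F₀
  have : F₀.IsFiniteType := SheafOfModules.instIsFiniteTypeOfIsFinitePresentation F₀
  have := isFiniteType_pullback (c.π.app i₀) F₀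
  have := isQuasicoherent_kernel p
  have := isFiniteType_kernel p
  obtain ⟨P', χ, hP', hχ⟩ := exists_fp_epi_pullback (c.π.app i₀) (kernel p)
  have := hP'
  have : P'.IsQuasicoherent := inferInstance
  obtain ⟨j, φ, hj, hh⟩ := exists_hom_pullback_eq hc P' F₀ (χ ≫ kernel.ι p)
  have hqF := isQuasicoherent_pullback (D.map φ) F₀
  have hqP := isQuasicoherent_pullback (D.map φ) P'
  let L := Scheme.Modules.pullback (c.π.app j)
  let i := pullbackCompIso (D.map φ) (c.π.app j) (c.w φ)
  refine ⟨j, φ, cokernel hj, isQuasicoherent_cokernel hj, cokernel.π hj, ?_⟩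
  have hL := isColimitOfHasCokernelOfPreservesColimit L hj
  have hp := Abelian.epiIsCokernelOfKernel _ (kernelIsKernel p)
  have h1 : L.map hj ≫ (i.hom.app F₀ ≫ p) = 0 := by
    have := congrArg (fun t => (i.app P').hom ≫ t ≫ p) hh
    simp only [Category.assoc, kernel.condition, comp_zero] at this
    exact (Iso.hom_inv_id_assoc (i.app P') _).symm.trans this
  obtain ⟨l, hl⟩ := CokernelCofork.IsColimit.desc' hL (i.hom.app F₀ ≫ p) h1
  change L.map (cokernel.π hj) ≫ l = _ at hl
  have h2 : kernel.ι p ≫ ((i.app F₀).inv ≫ L.map (cokernel.π hj)) = 0 := by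
    rw [← cancel_epi χ, comp_zero, ← Category.assoc, ← hh]
    simp only [Category.assoc]
    rw [Iso.hom_inv_id_assoc, ← Functor.map_comp, cokernel.condition, Functor.map_zero, comp_zero]
  obtain ⟨m, hm⟩ := CokernelCofork.IsColimit.desc' hp ((i.app F₀).inv ≫ L.map (cokernel.π hj)) h2
  change p ≫ m = _ at hm
  have : Epi (L.map (cokernel.π hj)) := inferInstance
  let e : L.obj (cokernel hj) ≅ G :=
    { hom := l, inv := m,
      hom_inv_id := by
        rw [← cancel_epi (L.map (cokernel.π hj)), ← Category.assoc, hl, Category.assoc, hm]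
        exact (Iso.hom_inv_id_assoc (i.app F₀) _).trans (Category.comp_id _).symm
      inv_hom_id := by
        rw [← cancel_epi p, ← Category.assoc, hm, Category.assoc, hl]
        exact (Iso.inv_hom_id_assoc (i.app F₀) _).trans (Category.comp_id _).symm }
  refine ⟨e, isFP_cokernel hj (isFP_pullback (D.map φ) P') (isFP_pullback (D.map φ) F₀),
    inferInstance, ?_⟩
  show (i.app F₀).inv ≫ L.map (cokernel.π hj) ≫ l = p
  rw [hl]
  exact Iso.inv_hom_id_assoc (i.app F₀) p

include hc in
theorem exists_fp_descend (F : c.pt.Modules) [F.IsQuasicoherent] [CohB1.IsFP F] :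
    ∃ (i : I) (_ : i ⟶ i₀) (Fi : (D.obj i).Modules), Coh.IsQCoh Fi ∧ CohB1.IsFP Fi ∧
      Nonempty ((Scheme.Modules.pullback (c.π.app i)).obj Fi ≅ F) := by
  have : IsAffineHom (c.π.app i₀) := isAffineHom_π_app D c hc i₀
  have : F.IsFiniteType := SheafOfModules.instIsFiniteTypeOfIsFinitePresentation F
  obtain ⟨P, p, hP, hp⟩ := exists_fp_epi_pullback (c.π.app i₀) F
  have := hP
  have : P.IsQuasicoherent := inferInstance
  obtain ⟨j, φ, Gj, hq, pj, e, hfp, -, -⟩ := exists_quotient_descend hc P p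
  exact ⟨j, φ, Gj, hq, hfp, ⟨e⟩⟩

end Stage

end Groth.Agent.LimTop61
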