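import Groth.Agent.LimTop61.ModStage
import Groth.Agent.QC70.Closure
import Groth.Agent.QC70.Coherent
import Groth.Agent.Props58.LocFree.FP

/-!
Descent of properties of homomorphisms of quasi-coherent modules to a stage of a limit.
-/

set_option autoImplicit false
set_option backward.isDefEq.respectTransparency.types false

noncomputable section

universe u

open CategoryTheory Limits AlgebraicGeometry TopologicalSpace Opposite TensorProduct
open Groth.Agent.QC70 Groth.Agent.QCPull72

namespace Groth.Agent.LimTop61

section Generic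

variable {X Y Z : Scheme.{u}} (f : Y ⟶ X)

/-- Pullback along a composite, on morphisms. -/
def pullbackCompIso (g : Z ⟶ Y) {h : Z ⟶ X} (e : g ≫ f = h) :
    Scheme.Modules.pullback f ⋙ Scheme.Modules.pullback g ≅ Scheme.Modules.pullback h :=
  Scheme.Modules.pullbackComp g f ≪≫ Scheme.Modules.pullbackCongr e

instance preservesColimits_pullback :
    PreservesColimitsOfSize.{0, 0} (Scheme.Modules.pullback f) :=
  (Scheme.Modules.pullbackPushforwardAdjunction f).leftAdjoint_preservesColimits

instance additive_pullback : (Scheme.Modules.pullback f).Additive :=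
  have := preservesBinaryBiproducts_of_preservesBinaryCoproducts (Scheme.Modules.pullback f)
  Functor.additive_of_preservesBinaryBiproducts _

/-- Pullback of a homomorphism is an epimorphism iff it kills the cokernel. -/
theorem epi_pullback_map_iff {F G : X.Modules} (a : F ⟶ G) :
    Epi ((Scheme.Modules.pullback f).map a) ↔
      (Scheme.Modules.pullback f).map (cokernel.π a) = 0 := by
  constructor
  · intro h
    rw [← cancel_epi ((Scheme.Modules.pullback f).map a), ← Functor.map_comp, cokernel.condition,
      Functor.map_zero, comp_zero]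
  · intro h
    refine Preadditive.epi_of_cancel_zero _ fun {W} k hk => ?_
    have hc := isColimitOfHasCokernelOfPreservesColimit (Scheme.Modules.pullback f) a
    obtain ⟨l, hl⟩ := CokernelCofork.IsColimit.desc' hc k hk
    rw [← hl]
    exact (congrArg (· ≫ l) h).trans zero_comp

/-- If an epimorphism with kernel killed by pullback, the pullback is an isomorphism. -/
theorem isIso_pullback_map_of_kernel {F G : X.Modules} (a : F ⟶ G) [Epi a]
    (h : (Scheme.Modules.pullback f).map (kernel.ι a) = 0) :
    IsIso ((Scheme.Modules.pullback f).map a) := by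
  have hc := (CokernelCofork.isColimitMapCoconeEquiv _ (Scheme.Modules.pullback f)) (isColimitOfPreserves
    (Scheme.Modules.pullback f) (Abelian.epiIsCokernelOfKernel _ (kernelIsKernel a)))
  exact CokernelCofork.IsColimit.isIso_π _ hc h

/-- Pullback preserves finite presentation. -/
theorem isFP_pullback (F : X.Modules) [CohB1.IsFP F] :
    CohB1.IsFP ((Scheme.Modules.pullback f).obj F) := by
  have : F.IsQuasicoherent := by
    obtain ⟨σ, -⟩ := SheafOfModules.IsFinitePresentation.exists_quasicoherentData
      (R := X.ringCatSheaf) (M := F)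
    exact σ.isQuasicoherent
  have := isQuasicoherent_pullback f F
  choose U V hU hV hy e using exists_affine_le f
  refine Props58.LocFree.isFP_of_sections _ V
    (IsOpenCover.mk (top_le_iff.mp fun y _ => Opens.mem_iSup.mpr ⟨y, hy y⟩)) hV fun y => ?_
  let _ := (f.appLE (U y) (V y) (e y)).hom.toAlgebra
  obtain ⟨E, -⟩ := exists_baseChange_equiv f F (hU y) (hV y) (e y)
  have := Props58.LocFree.finitePresentation_sections F (hU y)
  exact Module.FinitePresentation.of_equiv E.symm

/-- The kernel of an epimorphism from finite type to finite presentation is of finite type. -/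
theorem isFiniteType_kernel {F G : X.Modules} (a : F ⟶ G) [Epi a] [F.IsQuasicoherent]
    [F.IsFiniteType] [CohB1.IsFP G] [G.IsQuasicoherent] :
    (kernel a).IsFiniteType := by
  have := isQuasicoherent_kernel a
  refine isFiniteType_of_finite_sections _ (fun i : X.affineOpens => i.1)
    (iSup_affineOpens_eq_top X) (fun i => i.2) fun i => ?_
  let S := ShortComplex.mk (kernel.ι a) a (kernel.condition a)
  have hS : S.ShortExact :=
    { exact := ShortComplex.exact_of_f_is_kernel _ (kernelIsKernel a) }
  have : S.X₁.IsQuasicoherent := ‹(kernel a).IsQuasicoherent›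
  have := finite_sections_of_isFiniteType F i.2
  have := Props58.LocFree.finitePresentation_sections G i.2
  have hsurj := app_surjective_of_isAffineOpen S hS i.2
  have hfg := Module.FinitePresentation.fg_ker (appLinear a i.1) hsurj
  have hr : LinearMap.range (appLinear (kernel.ι a) i.1) = LinearMap.ker (appLinear a i.1) := by
    refine le_antisymm ?_ fun x hx => exists_kernel_app_eq a i.1 x hx
    rintro _ ⟨y, rfl⟩
    show a.app i.1 ((kernel.ι a).app i.1 y) = 0
    exact (congr(Scheme.Modules.Hom.app $(kernel.condition a) i.1 y)).trans (by simp)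
  have := Module.Finite.iff_fg.mpr (hr.symm ▸ hfg)
  exact Module.Finite.equiv
    (LinearEquiv.ofInjective (appLinear (kernel.ι a) i.1) (app_injective_of_mono (kernel.ι a) i.1)).symm

section Transfer

variable {f} (g : Z ⟶ Y) {h : Z ⟶ X} (e : g ≫ f = h) {F G : X.Modules}

include g e in
theorem map_eq_zero_comp {a : F ⟶ G} (ha : (Scheme.Modules.pullback f).map a = 0) :
    (Scheme.Modules.pullback h).map a = 0 := by
  rw [← NatIso.naturality_1 (pullbackCompIso f g e) a, Functor.comp_map, ha, Functor.map_zero,
    zero_comp, comp_zero]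

include g e in
theorem map_map_eq_zero_iff {a : F ⟶ G} :
    (Scheme.Modules.pullback g).map ((Scheme.Modules.pullback f).map a) = 0 ↔
      (Scheme.Modules.pullback h).map a = 0 := by
  refine ⟨fun ha => ?_, fun ha => ?_⟩
  · rw [← NatIso.naturality_1 (pullbackCompIso f g e) a, Functor.comp_map, ha, zero_comp, comp_zero]
  · rw [← Functor.comp_map, ← NatIso.naturality_2 (pullbackCompIso f g e) a, ha, zero_comp,
      comp_zero]

include g e in
theorem isIso_map_map_iff {a : F ⟶ G} :
    IsIso ((Scheme.Modules.pullback g).map ((Scheme.Modules.pullback f).map a)) ↔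
      IsIso ((Scheme.Modules.pullback h).map a) :=
  NatIso.isIso_map_iff (pullbackCompIso f g e) a

include g e in
theorem mono_map_map_iff {a : F ⟶ G} :
    Mono ((Scheme.Modules.pullback g).map ((Scheme.Modules.pullback f).map a)) ↔
      Mono ((Scheme.Modules.pullback h).map a) := by
  refine ⟨fun hm => ?_, fun hm => ?_⟩
  · have : Mono ((Scheme.Modules.pullback f ⋙ Scheme.Modules.pullback g).map a) := hm
    rw [← NatIso.naturality_1 (pullbackCompIso f g e) a]
    infer_instance
  · rw [← Functor.comp_map, ← NatIso.naturality_2 (pullbackCompIso f g e) a]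
    infer_instance

include g e in
theorem epi_map_comp {a : F ⟶ G} (ha : Epi ((Scheme.Modules.pullback f).map a)) :
    Epi ((Scheme.Modules.pullback h).map a) :=
  (epi_pullback_map_iff h a).mpr (map_eq_zero_comp g e ((epi_pullback_map_iff f a).mp ha))

end Transfer

end Generic

section Stage

variable {I : Type u} [SmallCategory I] [IsCofiltered I] {D : I ⥤ Scheme.{u}} {c : Cone D}
  (hc : IsLimit c) [∀ {i j : I} (f : i ⟶ j), IsAffineHom (D.map f)] {i₀ : I}
  [CompactSpace (D.obj i₀)] {F₀ G₀ : (D.obj i₀).Modules} [F₀.IsQuasicoherent] [G₀.IsQuasicoherent]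

include hc in
theorem pullback_map_eq_zero_iff_eventually [F₀.IsFiniteType] (d : F₀ ⟶ G₀) :
    (Scheme.Modules.pullback (c.π.app i₀)).map d = 0 ↔
      ∃ (j : I) (φ : j ⟶ i₀), (Scheme.Modules.pullback (D.map φ)).map d = 0 :=
  ⟨exists_pullback_map_eq_zero hc d, fun ⟨j, φ, h⟩ => map_eq_zero_comp (c.π.app j) (c.w φ) h⟩

include hc in
theorem epi_pullback_map_iff_eventually [G₀.IsFiniteType] (a : F₀ ⟶ G₀) :
    Epi ((Scheme.Modules.pullback (c.π.app i₀)).map a) ↔
      ∃ (j : I) (φ : j ⟶ i₀), Epi ((Scheme.Modules.pullback (D.map φ)).map a) := by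
  have := isQuasicoherent_cokernel a
  simp only [epi_pullback_map_iff]
  exact pullback_map_eq_zero_iff_eventually hc (cokernel.π a)

omit [CompactSpace (D.obj i₀)] in
include hc in
/-- An epimorphism with mono pullback becomes an isomorphism at a stage. -/
theorem exists_isIso_of_epi [CompactSpace (D.obj i₀)] [F₀.IsFiniteType] [CohB1.IsFP G₀]
    (a : F₀ ⟶ G₀) [Epi a] [IsIso ((Scheme.Modules.pullback (c.π.app i₀)).map a)] :
    ∃ (j : I) (φ : j ⟶ i₀), IsIso ((Scheme.Modules.pullback (D.map φ)).map a) := by
  have := isQuasicoherent_kernel a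
  have := isFiniteType_kernel a
  have h0 : (Scheme.Modules.pullback (c.π.app i₀)).map (kernel.ι a) = 0 := by
    rw [← cancel_mono ((Scheme.Modules.pullback (c.π.app i₀)).map a), ← Functor.map_comp,
      kernel.condition, Functor.map_zero, zero_comp]
  obtain ⟨j, φ, h⟩ := exists_pullback_map_eq_zero hc (kernel.ι a) h0
  exact ⟨j, φ, isIso_pullback_map_of_kernel (D.map φ) a h⟩

include hc in
theorem isIso_pullback_map_iff_eventually [F₀.IsFiniteType] [CohB1.IsFP G₀] (a : F₀ ⟶ G₀) :
    IsIso ((Scheme.Modules.pullback (c.π.app i₀)).map a) ↔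
      ∃ (j : I) (φ : j ⟶ i₀), IsIso ((Scheme.Modules.pullback (D.map φ)).map a) := by
  refine ⟨fun h => ?_, fun ⟨j, φ, h⟩ => ?_⟩
  · have : G₀.IsFiniteType := SheafOfModules.instIsFiniteTypeOfIsFinitePresentation G₀
    obtain ⟨j, φ, hj⟩ := (epi_pullback_map_iff_eventually hc a).mp inferInstance
    have : CompactSpace (D.obj j) := QuasiCompact.compactSpace_of_compactSpace (D.map φ)
    have := isQuasicoherent_pullback (D.map φ) F₀
    have := isQuasicoherent_pullback (D.map φ) G₀
    have := isFiniteType_pullback (D.map φ) F₀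
    have := isFP_pullback (D.map φ) G₀
    have : IsIso ((Scheme.Modules.pullback (c.π.app j)).map
        ((Scheme.Modules.pullback (D.map φ)).map a)) := (isIso_map_map_iff _ (c.w φ)).mpr h
    obtain ⟨k, ψ, hk⟩ := exists_isIso_of_epi hc ((Scheme.Modules.pullback (D.map φ)).map a)
    exact ⟨k, ψ ≫ φ, (isIso_map_map_iff _ (D.map_comp ψ φ).symm).mp hk⟩
  · exact (isIso_map_map_iff _ (c.w φ)).mp inferInstance

end Stage

end Groth.Agent.LimTop61
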