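import Groth.Agent.QCPull72.Unit
import Groth.Agent.Omega57.PullOpen

/-!
The unit of pullback is a base change on affine opens.
-/

set_option autoImplicit false
set_option backward.isDefEq.respectTransparency.types false

noncomputable section

universe u

open CategoryTheory Limits AlgebraicGeometry TopologicalSpace Opposite TensorProduct
open Groth.Agent.QC70 Groth.Agent.QCPull72

namespace Groth.Agent.LimTop61

variable {X Y : Scheme.{u}} (f : Y ⟶ X) (F : X.Modules) [F.IsQuasicoherent]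
  {U : X.Opens} (hU : IsAffineOpen U) {V : Y.Opens} (hV : IsAffineOpen V) (e : V ≤ f ⁻¹ᵁ U)

omit [F.IsQuasicoherent] in
lemma unitSec_add (x y : Γ(F, U)) : unitSec f F e (x + y) = unitSec f F e x + unitSec f F e y := by
  rw [unitSec, map_add]
  exact res_add _ _ _

omit [F.IsQuasicoherent] in
lemma unitSec_zero : unitSec f F e (0 : Γ(F, U)) = 0 := by
  rw [unitSec, map_zero]
  exact res_zero _

omit [F.IsQuasicoherent] in
lemma unitSec_smul (a : Γ(X, U)) (x : Γ(F, U)) :
    unitSec f F e (a • x) = f.appLE U V e a • unitSec f F e x := by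
  rw [unitSec, Scheme.Modules.Hom.app_smul]
  exact res_smul (M := (Scheme.Modules.pullback f).obj F) e (f.app U a) _

set_option maxHeartbeats 1000000 in
/-- The adjunct of a map into a direct image from an affine open, on top sections. -/
lemma homEquiv_symm_app_top (C : Y.Modules) {V : Y.Opens} (hV : IsAffineOpen V)
    (T₀ : (Spec Γ(Y, V)).Modules) (g : C ⟶ (Scheme.Modules.pushforward hV.fromSpec).obj T₀)
    (z : Γ(C, V)) (hjV : (⊤ : (Spec Γ(Y, V)).Opens) ≤ hV.fromSpec ⁻¹ᵁ V) :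
    (((Scheme.Modules.restrictAdjunction hV.fromSpec).homEquiv C T₀).symm g).app ⊤
        ((specTopIso C hV).inv z) = res T₀ hjV (g.app V z) := by
  set g₀ := ((Scheme.Modules.restrictAdjunction hV.fromSpec).homEquiv C T₀).symm g with hdef
  have hg₀ : (Scheme.Modules.restrictAdjunction hV.fromSpec).unit.app C ≫
      (Scheme.Modules.pushforward hV.fromSpec).map g₀ = g :=
    ((Scheme.Modules.restrictAdjunction hV.fromSpec).homEquiv_unit C T₀ g₀).symm.trans
      (Equiv.apply_symm_apply _ _)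
  have h6 : g.app V z = g₀.app (hV.fromSpec ⁻¹ᵁ V) (res C (hV.fromSpec.image_preimage_le V) z) := by
    rw [← hg₀]
    rfl
  rw [h6, ← app_res]
  refine congrArg (g₀.app ⊤) ?_
  show res C _ z = res C _ (res C _ z)
  rw [res_res]

set_option maxHeartbeats 1000000 in
include hU hV in
/-- Linear maps on sections extend uniquely to sections of the inverse image. -/
theorem exists_lift_unitSec (T : ModuleCat.{u} Γ(Y, V)) (l : Γ(F, U) →+ T)
    (hl : ∀ a x, l (a • x) = f.appLE U V e a • l x) :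
    ∃ ψ : Γ((Scheme.Modules.pullback f).obj F, V) →ₗ[Γ(Y, V)] T,
      ∀ x, ψ (unitSec f F e x) = l x := by
  have := isQuasicoherent_pullback f F
  let C := (Scheme.Modules.pullback f).obj F
  let φ := f.appLE U V e
  let jV := hV.fromSpec
  let jU := hU.fromSpec
  let T₀ := tilde T
  let lin : moduleSpecΓFunctor.obj (specRes F hU) ⟶
      moduleSpecΓFunctor.obj ((Scheme.Modules.pushforward (Spec.map φ)).obj T₀) :=
    (specTopIso F hU).hom ≫
      (ModuleCat.ofHom (Y := (ModuleCat.restrictScalars φ.hom).obj T)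
        { toFun := l, map_add' := map_add l, map_smul' := hl }) ≫
      (ModuleCat.restrictScalars φ.hom).map (tilde.isoTop T).hom ≫
      (TildePull72.pushforwardΓIso φ).inv.app T₀
  let α : specRes F hU ⟶ (Scheme.Modules.pushforward (Spec.map φ)).obj T₀ :=
    (tildeIsoSpecRes F hU).inv ≫ ((tilde.adjunction (R := Γ(X, U))).homEquiv _ _).symm lin
  let adjU := Scheme.Modules.restrictAdjunction jU
  let v₀ : F ⟶ (Scheme.Modules.pushforward jU).obj ((Scheme.Modules.pushforward (Spec.map φ)).obj T₀) :=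
    adjU.homEquiv _ _ α
  have hcomp : Spec.map φ ≫ jU = jV ≫ f := hU.SpecMap_appLE_fromSpec f hV e
  let v : F ⟶ (Scheme.Modules.pushforward f).obj ((Scheme.Modules.pushforward jV).obj T₀) :=
    v₀ ≫ ((Scheme.Modules.pushforwardComp (Spec.map φ) jU).hom.app T₀) ≫
      (Scheme.Modules.pushforwardCongr hcomp).hom.app T₀ ≫
      ((Scheme.Modules.pushforwardComp jV f).inv.app T₀)
  let g : C ⟶ (Scheme.Modules.pushforward jV).obj T₀ :=
    ((Scheme.Modules.pullbackPushforwardAdjunction f).homEquiv _ _).symm v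
  let g₀ : specRes C hV ⟶ T₀ := ((Scheme.Modules.restrictAdjunction jV).homEquiv _ _).symm g
  let ψ : ModuleCat.of Γ(Y, V) Γ(C, V) ⟶ T :=
    (specTopIso C hV).inv ≫ moduleSpecΓFunctor.map g₀ ≫ (tilde.isoTop T).inv
  refine ⟨ψ.hom, fun x => ?_⟩
  have hjV : (⊤ : (Spec Γ(Y, V)).Opens) ≤ jV ⁻¹ᵁ V := le_of_eq hV.fromSpec_preimage_self.symm
  have hjU : (⊤ : (Spec Γ(Y, V)).Opens) ≤ jV ⁻¹ᵁ (f ⁻¹ᵁ U) := hjV.trans (jV.preimage_mono e)
  have hg : (pullUnit f F) ≫ (Scheme.Modules.pushforward f).map g = v := by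
    rw [← Adjunction.homEquiv_unit]
    exact Equiv.apply_symm_apply _ _
  let y : Γ(C, f ⁻¹ᵁ U) := (pullUnit f F).app U x
  -- value of `g` on the image of `x`
  have hgy : g.app (f ⁻¹ᵁ U) y = v.app U x :=
    congr(Scheme.Modules.Hom.app $hg U x)
  let w : Γ(specRes F hU, ⊤) := (specTopIso F hU).inv x
  have hα : α.app ⊤ w = tilde.toOpen T ⊤ (l x) := by
    show (moduleSpecΓFunctor.map α) w = _
    let A := moduleSpecΓFunctor.obj (specRes F hU)
    have h1 : (moduleSpecΓFunctor.map α) w =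
        (moduleSpecΓFunctor.map (((tilde.adjunction (R := Γ(X, U))).homEquiv _ _).symm lin))
          (tilde.toOpen A ⊤ w) := by
      rw [Functor.map_comp]
      refine congrArg (moduleSpecΓFunctor.map (((tilde.adjunction (R := Γ(X, U))).homEquiv _ _).symm lin)) ?_
      let ti := tildeIsoSpecRes F hU
      have h : (moduleSpecΓFunctor.map ti.hom) (tilde.toOpen A ⊤ w) = w :=
        congr($((tilde.adjunction (R := Γ(X, U))).right_triangle_components (specRes F hU)) w)
      have h' : (moduleSpecΓFunctor.map ti.hom) ((moduleSpecΓFunctor.map ti.inv) w) = w :=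
        (congr($((moduleSpecΓFunctor.mapIso ti).inv_hom_id) w) :)
      exact (ConcreteCategory.bijective_of_isIso (moduleSpecΓFunctor.map ti.hom)).1 (h'.trans h.symm)
    rw [h1]
    have h2 := (tilde.adjunction (R := Γ(X, U))).homEquiv_unit _ _
      (((tilde.adjunction (R := Γ(X, U))).homEquiv _ _).symm lin)
    rw [Equiv.apply_symm_apply] at h2
    refine (congr($(h2) w)).symm.trans ?_
    show ((tilde.isoTop T).hom (l ((specTopIso F hU).hom w))) = _
    rw [show (specTopIso F hU).hom w = x from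
      congr($((specTopIso F hU).inv_hom_id) x)]
    rfl
  clear_value α
  -- `v` evaluated on `x`
  have hv : res T₀ hjU (v.app U x) = tilde.toOpen T ⊤ (l x) := by
    have hle : jV ⁻¹ᵁ (f ⁻¹ᵁ U) ≤ (Spec.map φ) ⁻¹ᵁ (jU ⁻¹ᵁ U) :=
      le_of_eq (by rw [← Scheme.Hom.comp_preimage, ← Scheme.Hom.comp_preimage, hcomp])
    have hv0 : v.app U x = res T₀ hle (v₀.app U x) := rfl
    rw [hv0, res_res]
    have hunit : v₀ = adjU.unit.app F ≫ (Scheme.Modules.pushforward jU).map α := adjU.homEquiv_unit _ _ α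
    have h3 : v₀.app U x = α.app (jU ⁻¹ᵁ U) (res F (jU.image_preimage_le U) x) := by
      rw [hunit]
      rfl
    rw [h3, ← hα]
    have h4 : (⊤ : (Spec Γ(X, U)).Opens) ≤ jU ⁻¹ᵁ U := le_of_eq hU.fromSpec_preimage_self.symm
    have h5 : res (specRes F hU) h4 (res F (jU.image_preimage_le U) x) = w := by
      show res F _ (res F _ x) = res F _ x
      rw [res_res]
    rw [← h5, app_res]
    rfl
  -- conclusion
  let z : Γ(C, V) := unitSec f F e x
  have hz : g₀.app ⊤ ((specTopIso C hV).inv z) = tilde.toOpen T ⊤ (l x) := by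
    rw [homEquiv_symm_app_top C hV T₀ g z hjV, ← hv, ← hgy]
    show res T₀ hjV (g.app V (res C e y)) = res T₀ hjU (g.app (f ⁻¹ᵁ U) y)
    rw [app_res]
    exact res_res (M := T₀) _ _ _
  show (tilde.isoTop T).inv ((moduleSpecΓFunctor.map g₀) ((specTopIso C hV).inv z)) = l x
  refine (congrArg (tilde.isoTop T).inv hz).trans ?_
  exact congr($((tilde.isoTop T).hom_inv_id) (l x))

include hU hV in
/-- Sections of the inverse image on an affine open are the base change, compatibly with the unit. -/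
theorem exists_baseChange_equiv :
    letI := (f.appLE U V e).hom.toAlgebra
    ∃ E : Γ((Scheme.Modules.pullback f).obj F, V) ≃ₗ[Γ(Y, V)] Γ(Y, V) ⊗[Γ(X, U)] Γ(F, U),
      ∀ x, E (unitSec f F e x) = 1 ⊗ₜ x := by
  let _ := (f.appLE U V e).hom.toAlgebra
  let C := (Scheme.Modules.pullback f).obj F
  let _ : Module Γ(X, U) Γ(C, V) := Module.compHom _ (f.appLE U V e).hom
  have : IsScalarTower Γ(X, U) Γ(Y, V) Γ(C, V) := IsScalarTower.of_algebraMap_smul fun r s => rfl
  let u : Γ(F, U) →ₗ[Γ(X, U)] Γ(C, V) :=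
    { toFun := unitSec f F e, map_add' := unitSec_add f F e, map_smul' := unitSec_smul f F e }
  let P : Γ(Y, V) ⊗[Γ(X, U)] Γ(F, U) →ₗ[Γ(Y, V)] Γ(C, V) := LinearMap.liftBaseChange Γ(Y, V) u
  obtain ⟨ψ, hψ⟩ := exists_lift_unitSec f F hU hV e (ModuleCat.of Γ(Y, V) (Γ(Y, V) ⊗[Γ(X, U)] Γ(F, U)))
    (TensorProduct.mk Γ(X, U) Γ(Y, V) Γ(F, U) 1).toAddMonoidHom (fun a x => by
      show (1 : Γ(Y, V)) ⊗ₜ[Γ(X, U)] (a • x) = f.appLE U V e a • ((1 : Γ(Y, V)) ⊗ₜ[Γ(X, U)] x)
      rw [← TensorProduct.smul_tmul, TensorProduct.smul_tmul', Algebra.smul_def, mul_one, smul_eq_mul, mul_one]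
      rfl)
  have h1 : P ∘ₗ ψ = LinearMap.id := by
    refine LinearMap.ext_on_range (span_unitSec_eq_top f F hU hV e) fun x => ?_
    show P (ψ (unitSec f F e x)) = unitSec f F e x
    rw [hψ]
    show P ((1 : Γ(Y, V)) ⊗ₜ x) = _
    rw [LinearMap.liftBaseChange_tmul, one_smul]
    rfl
  have h2 : ψ ∘ₗ P = LinearMap.id := by
    refine TensorProduct.AlgebraTensorModule.ext fun b x => ?_
    show ψ (P (b ⊗ₜ x)) = b ⊗ₜ x
    rw [LinearMap.liftBaseChange_tmul, map_smul]
    show b • ψ (unitSec f F e x) = _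
    rw [hψ]
    show b • ((1 : Γ(Y, V)) ⊗ₜ[Γ(X, U)] x) = _
    rw [TensorProduct.smul_tmul', smul_eq_mul, mul_one]
  exact ⟨LinearEquiv.ofLinearMap ψ P h2 h1, hψ⟩

end Groth.Agent.LimTop61
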