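import Groth.Agent.LimTop61.FpCrit
import Mathlib.AlgebraicGeometry.AffineTransitionLimit
import Mathlib.AlgebraicGeometry.Stalk

set_option autoImplicit false
set_option backward.isDefEq.respectTransparency false
set_option backward.defeqAttrib.useBackward true
universe u

open CategoryTheory CategoryTheory.Limits AlgebraicGeometry Opposite

namespace Groth.Agent.LimTop61

variable (X : Scheme.{u}) (x : X)

/-- The affine open neighbourhoods of a point, ordered by reverse inclusion. -/
abbrev AffineNhd : Type u := ({O : X.affineOpens // x ∈ O.1})ᵒᵈ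

instance : IsDirected (AffineNhd X x) (· ≤ ·) :=
  ⟨fun O O' => by
    obtain ⟨_, ⟨W, hW, rfl⟩, hxW, hWle⟩ :=
      X.isBasis_affineOpens.exists_subset_of_mem_open
        (show x ∈ (((OrderDual.ofDual O).1.1 ⊓ (OrderDual.ofDual O').1.1 : X.Opens) : Set X) from
          ⟨(OrderDual.ofDual O).2, (OrderDual.ofDual O').2⟩)
        ((OrderDual.ofDual O).1.1 ⊓ (OrderDual.ofDual O').1.1).2
    exact ⟨OrderDual.toDual ⟨⟨W, hW⟩, hxW⟩, fun y hy => (hWle hy).1, fun y hy => (hWle hy).2⟩⟩

instance : Nonempty (AffineNhd X x) := by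
  obtain ⟨_, ⟨W, hW, rfl⟩, hxW, -⟩ :=
    X.isBasis_affineOpens.exists_subset_of_mem_open (Set.mem_univ x) isOpen_univ
  exact ⟨OrderDual.toDual ⟨⟨W, hW⟩, hxW⟩⟩

/-- The sections on the affine open neighbourhoods. -/
noncomputable def nhdSections : AffineNhd X x ⥤ CommRingCat.{u} where
  obj O := Γ(X, (OrderDual.ofDual O).1.1)
  map {O O'} h := X.presheaf.map (homOfLE (show (OrderDual.ofDual O').1.1 ≤ (OrderDual.ofDual O).1.1
    from leOfHom h)).op
  map_id O := X.presheaf.map_id _
  map_comp f g := by rw [← X.presheaf.map_comp]; rfl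

/-- The cocone given by the germs. -/
noncomputable def nhdCocone : Cocone (nhdSections X x) where
  pt := X.presheaf.stalk x
  ι :=
    { app := fun O => X.presheaf.germ (OrderDual.ofDual O).1.1 x (OrderDual.ofDual O).2
      naturality := fun O O' h =>
        (X.presheaf.germ_res _ x (OrderDual.ofDual O').2).trans (Category.comp_id _).symm }

/-- The stalk is the colimit of the sections on affine neighbourhoods. -/
noncomputable def isColimitNhdCocone : IsColimit (nhdCocone X x) := by
  have : IsConnected (AffineNhd X x) := IsFiltered.isConnected _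
  let G := CategoryTheory.forget CommRingCat.{u}
  have : ReflectsColimit (nhdSections X x) G := reflectsColimit_of_reflectsIsomorphisms _ G
  refine isColimitOfReflects G (Types.FilteredColimit.isColimitOf _ _ (fun s => ?_)
    (fun i j si sj hij => ?_))
  · obtain ⟨U, hxU, t, ht⟩ := X.presheaf.exists_germ_eq s
    obtain ⟨_, ⟨W, hW, rfl⟩, hxW, hWU⟩ :=
      X.isBasis_affineOpens.exists_subset_of_mem_open hxU U.2
    exact ⟨OrderDual.toDual ⟨⟨W, hW⟩, hxW⟩, X.presheaf.map (homOfLE hWU).op t,
      (ht.symm.trans (X.presheaf.germ_res_apply (homOfLE hWU) x hxW t).symm)⟩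
  · obtain ⟨W, hxW, iU, iV, e⟩ :=
      X.presheaf.germ_eq x (OrderDual.ofDual i).2 (OrderDual.ofDual j).2 si sj hij
    obtain ⟨_, ⟨W', hW', rfl⟩, hxW', hWW'⟩ :=
      X.isBasis_affineOpens.exists_subset_of_mem_open hxW W.2
    refine ⟨OrderDual.toDual ⟨⟨W', hW'⟩, hxW'⟩,
      homOfLE (show i ≤ OrderDual.toDual (⟨⟨W', hW'⟩, hxW'⟩ : {O : X.affineOpens // x ∈ O.1}) from
        fun y hy => iU.le (hWW' hy)),
      homOfLE (show j ≤ OrderDual.toDual (⟨⟨W', hW'⟩, hxW'⟩ : {O : X.affineOpens // x ∈ O.1}) from
        fun y hy => iV.le (hWW' hy)), ?_⟩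
    have := congrArg (X.presheaf.map (homOfLE hWW').op) e
    rw [← ConcreteCategory.comp_apply, ← ConcreteCategory.comp_apply, ← X.presheaf.map_comp,
      ← X.presheaf.map_comp] at this
    exact this

/-- The affine neighbourhoods as a diagram of schemes. -/
noncomputable def nhdSpec : (AffineNhd X x)ᵒᵖ ⥤ Scheme.{u} :=
  (nhdSections X x).op ⋙ Scheme.Spec

instance (j : (AffineNhd X x)ᵒᵖ) : IsAffine ((nhdSpec X x).obj j) :=
  inferInstanceAs (IsAffine (Spec _))

instance (i j : (AffineNhd X x)ᵒᵖ) (f : i ⟶ j) : IsAffineHom ((nhdSpec X x).map f) :=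
  isAffineHom_of_isAffine _

/-- The spectrum of the stalk as a cone. -/
noncomputable def nhdCone : Cone (nhdSpec X x) := Scheme.Spec.mapCone (nhdCocone X x).op

/-- The spectrum of the stalk is the limit of the affine neighbourhoods. -/
noncomputable def isLimitNhdCone : IsLimit (nhdCone X x) :=
  have : IsConnected (AffineNhd X x) := IsFiltered.isConnected _
  isLimitOfPreserves Scheme.Spec (isColimitNhdCocone X x).op

/-- The inclusions of the affine neighbourhoods. -/
noncomputable def nhdι : nhdSpec X x ⟶ (Functor.const _).obj X where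
  app j := (OrderDual.ofDual j.unop).1.2.fromSpec
  naturality j k h := by
    refine Eq.trans ?_ (Category.comp_id _).symm
    exact (OrderDual.ofDual k.unop).1.2.map_fromSpec (OrderDual.ofDual j.unop).1.2 _

lemma nhdCone_π_ι (j : (AffineNhd X x)ᵒᵖ) :
    (nhdCone X x).π.app j ≫ (nhdι X x).app j = X.fromSpecStalk x :=
  (OrderDual.ofDual j.unop).1.2.fromSpecStalk_eq_fromSpecStalk (OrderDual.ofDual j.unop).2

end Groth.Agent.LimTop61
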