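import Groth.Agent.LimTop61.AmpleStage
import Groth.Agent.LimTop61.BaseChange
import Groth.Agent.Amp73.QA

/-!
Relative ampleness descends along a limit.
-/

set_option autoImplicit false
set_option backward.isDefEq.respectTransparency false
set_option backward.defeqAttrib.useBackward true

noncomputable section

universe u

open CategoryTheory Limits AlgebraicGeometry TopologicalSpace

namespace Groth.Agent.LimTop61

/-- Base change of relative ampleness along a cartesian square. -/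
theorem isRelAmple_of_isPullback {X Y X' Y' : Scheme.{u}} {f : X ⟶ Y} {g : Y' ⟶ Y} {p : X' ⟶ X}
    {f' : X' ⟶ Y'} (sq : IsPullback p f' f g) {L : X.Modules} (h : RelAmple.IsRelAmple f L) :
    RelAmple.IsRelAmple f' ((Scheme.Modules.pullback p).obj L) := by
  have := h.1
  have : QuasiCompact f' := MorphismProperty.of_isPullback sq this
  have h1 := Amp73.isRelAmple_baseChange f g h
  let e := sq.isoPullback
  have h2 := Amp73.isRelAmple_pullback_comp e.hom (Amp73.isQuasiAffine_of_isAffineHom _) h1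
  rw [show e.hom ≫ pullback.snd f g = f' from sq.isoPullback_hom_snd] at h2
  exact Amp73.isRelAmple_of_iso
    ((pullbackCompIso (pullback.fst f g) e.hom sq.isoPullback_hom_fst).app L) h2

/-- Relative ampleness holds on the limit iff it holds at some stage. -/
theorem isRelAmple_iff_stage {I : Type u} [SmallCategory I] [IsCofiltered I]
    (D : I ⥤ Scheme.{u}) (c : Cone D) (hc : IsLimit c)
    [∀ (i j : I) (f : i ⟶ j), IsAffineHom (D.map f)] (i₀ : I)
    {X₀ Y₀ : Scheme.{u}} [CompactSpace Y₀] (f₀ : X₀ ⟶ Y₀) [QuasiCompact f₀] [QuasiSeparated f₀]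
    (g₀ : Y₀ ⟶ D.obj i₀) (L₀ : X₀.Modules) (hL₀ : PicF.IsInvertible L₀)
    {X Y : Scheme.{u}} (f : X ⟶ Y) (g : Y ⟶ c.pt) (qY : Y ⟶ Y₀) (qX : X ⟶ X₀)
    (hY : IsPullback qY g g₀ (c.π.app i₀)) (hX : IsPullback qX f f₀ qY) :
    RelAmple.IsRelAmple f ((Scheme.Modules.pullback qX).obj L₀) ↔
      ∃ (j : I) (φ : j ⟶ i₀) (Xj Yj : Scheme.{u}) (fj : Xj ⟶ Yj) (gj : Yj ⟶ D.obj j) (pY : Yj ⟶ Y₀)
        (pX : Xj ⟶ X₀), IsPullback pY gj g₀ (D.map φ) ∧ IsPullback pX fj f₀ pY ∧
          RelAmple.IsRelAmple fj ((Scheme.Modules.pullback pX).obj L₀) := by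
  classical
  constructor
  · intro h
    have hacov : IsOpenCover (fun V : Y₀.affineOpens => V.1) := iSup_affineOpens_eq_top Y₀
    obtain ⟨T, hT⟩ := (isCompact_univ (X := Y₀)).elim_finite_subcover
      (fun V : Y₀.affineOpens => (V.1 : Set Y₀)) (fun V => V.1.2) fun y _ => by
        obtain ⟨V, hV⟩ := hacov.exists_mem y
        exact Set.mem_iUnion.2 ⟨V, hV⟩
    let U : Y₀.affineOpens → X₀.Opens := fun V => f₀ ⁻¹ᵁ V.1
    have : ∀ V, CompactSpace (U V : Scheme.{u}) := fun V => Amp73.compactSpace_preimage f₀ V.2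
    have : ∀ V, QuasiSeparatedSpace (U V : Scheme.{u}) := fun V =>
      (isQuasiSeparated_iff_quasiSeparatedSpace _ (U V).2).1
        (f₀.isQuasiSeparated_preimage V.2.isQuasiSeparated)
    let a : ∀ V, (U V : Scheme.{u}) ⟶ D.obj i₀ := fun V => (U V).ι ≫ f₀ ≫ g₀
    have key : ∀ V : Y₀.affineOpens, ∃ k : Over i₀, CohB1.IsAmple
        ((Scheme.Modules.pullback (pullback.fst (a V) (D.map k.hom) ≫ (U V).ι)).obj L₀) := by
      intro V
      have sq : IsPullback (qX ∣_ U V) ((qX ⁻¹ᵁ U V).ι ≫ f ≫ g) (a V) (c.π.app i₀) :=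
        (isPullback_morphismRestrict qX (U V)).paste_vert (hX.paste_vert hY)
      let P := bcDiagram D (a V)
      let cP := bcCone D c (a V) (qX ∣_ U V) ((qX ⁻¹ᵁ U V).ι ≫ f ≫ g) sq.w
      have hP : IsLimit cP := isLimitBcCone D c hc (a V) _ _ sq
      let o : Over i₀ := Over.mk (𝟙 i₀)
      let M₀ := (Scheme.Modules.pullback (pullback.fst (a V) (D.map o.hom) ≫ (U V).ι)).obj L₀
      have hM₀ : PicF.IsInvertible M₀ := Amp73.isInvertible_pullback _ hL₀
      have hamp : CohB1.IsAmple ((Scheme.Modules.pullback (cP.π.app o)).obj M₀) := by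
        have h1 : CohB1.IsAmple (((Scheme.Modules.pullback qX).obj L₀).restrict (qX ⁻¹ᵁ U V).ι) := by
          have : IsAffineHom qY := MorphismProperty.of_isPullback hY.flip
            (isAffineHom_π_app D c hc i₀)
          have : QuasiCompact qX := MorphismProperty.of_isPullback hX.flip
            (inferInstance : QuasiCompact qY)
          have : CompactSpace (qX ⁻¹ᵁ U V : Scheme.{u}) :=
            isCompact_iff_compactSpace.1 (qX.isCompact_preimage (f₀.isCompact_preimage V.2.isCompact))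
          refine Amp73.isAmple_preimage h (qX ⁻¹ᵁ U V).ι (V.2.preimage qY) fun z => ?_
          have hz : qX z.1 ∈ f₀ ⁻¹ᵁ V.1 := z.2
          have hw := congrArg (fun q : X ⟶ Y₀ => q z.1) hX.w
          exact (hw ▸ hz : (f ≫ qY) z.1 ∈ V.1)
        refine Amp73.isAmple_of_iso ?_ h1
        exact (Scheme.Modules.restrictFunctorIsoPullback (qX ⁻¹ᵁ U V).ι).app _ ≪≫
          (pullbackCompIso qX (qX ⁻¹ᵁ U V).ι rfl).app L₀ ≪≫
          ((pullbackCompIso (pullback.fst (a V) (D.map o.hom) ≫ (U V).ι) (cP.π.app o)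
            (h := (qX ⁻¹ᵁ U V).ι ≫ qX) (by simp [cP])).app L₀).symm
      have : ∀ {k l : Over i₀} (t : k ⟶ l), IsAffineHom (P.map t) := fun t => inferInstance
      obtain ⟨k, t, hk⟩ := exists_isAmple_stage hP hM₀ hamp
      exact ⟨k, Amp73.isAmple_of_iso ((pullbackCompIso (pullback.fst (a V) (D.map o.hom) ≫ (U V).ι)
        (P.map t) (h := pullback.fst (a V) (D.map k.hom) ≫ (U V).ι) (by simp [P])).app L₀) hk⟩
    choose k hk using key
    let O : Finset (Over i₀) := T.image k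
    obtain ⟨m, hm⟩ := IsCofiltered.inf_objs_exists O
    let Yj := pullback g₀ (D.map m.hom)
    let pY : Yj ⟶ Y₀ := pullback.fst _ _
    let Xj := pullback f₀ pY
    let pX : Xj ⟶ X₀ := pullback.fst _ _
    let fj : Xj ⟶ Yj := pullback.snd _ _
    have hYj : IsPullback pY (pullback.snd _ _) g₀ (D.map m.hom) := IsPullback.of_hasPullback _ _
    have hXj : IsPullback pX fj f₀ pY := IsPullback.of_hasPullback _ _
    refine ⟨m.left, m.hom, Xj, Yj, fj, pullback.snd _ _, pY, pX, hYj, hXj, ?_⟩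
    have : QuasiCompact fj := MorphismProperty.pullback_snd _ _ inferInstance
    have : IsAffineHom pY := MorphismProperty.pullback_fst _ _ inferInstance
    refine Amp73.isRelAmple_of_cover fj fun y => ?_
    obtain ⟨V, hVT, hyV⟩ := Set.mem_iUnion₂.1 (hT (Set.mem_univ (pY y)))
    refine ⟨⟨pY ⁻¹ᵁ V.1, V.2.preimage pY⟩, hyV, ?_⟩
    have hW : fj ⁻¹ᵁ (pY ⁻¹ᵁ V.1) = pX ⁻¹ᵁ U V := by
      show _ = pX ⁻¹ᵁ (f₀ ⁻¹ᵁ V.1)
      rw [← Scheme.Hom.comp_preimage, ← Scheme.Hom.comp_preimage, hXj.w]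
    show CohB1.IsAmple (((Scheme.Modules.pullback pX).obj L₀).restrict (fj ⁻¹ᵁ (pY ⁻¹ᵁ V.1)).ι)
    rw [hW]
    obtain ⟨t⟩ := hm (Finset.mem_image_of_mem k hVT)
    have sq : IsPullback (pX ∣_ U V) ((pX ⁻¹ᵁ U V).ι ≫ fj ≫ pullback.snd _ _) (a V) (D.map m.hom) :=
      (isPullback_morphismRestrict pX (U V)).paste_vert (hXj.paste_vert hYj)
    let e := sq.isoPullback
    let u := e.hom ≫ (bcDiagram D (a V)).map t
    have : IsAffineHom u := inferInstance
    have h1 := Amp73.isAmple_pullback u (Amp73.isQuasiAffine_of_isAffineHom u) (hk V)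
    refine Amp73.isAmple_of_iso ?_ h1
    exact (pullbackCompIso (pullback.fst (a V) (D.map (k V).hom) ≫ (U V).ι) u
      (h := (pX ⁻¹ᵁ U V).ι ≫ pX) (by simp [u, e])).app L₀ ≪≫
      ((pullbackCompIso pX (pX ⁻¹ᵁ U V).ι rfl).app L₀).symm ≪≫
      ((Scheme.Modules.restrictFunctorIsoPullback (pX ⁻¹ᵁ U V).ι).app _).symm
  · rintro ⟨j, φ, Xj, Yj, fj, gj, pY, pX, hYj, hXj, h⟩
    let rY : Y ⟶ Yj := hYj.lift qY (g ≫ c.π.app j) (by rw [hY.w, Category.assoc, c.w])
    have hrY : rY ≫ pY = qY := hYj.lift_fst _ _ _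
    let rX : X ⟶ Xj := hXj.lift qX (f ≫ rY) (by rw [hX.w, Category.assoc, hrY])
    have hrX : rX ≫ pX = qX := hXj.lift_fst _ _ _
    have sq : IsPullback rX f fj rY := by
      refine IsPullback.of_right ?_ (hXj.lift_snd _ _ _) hXj
      rw [hrX, hrY]
      exact hX
    exact Amp73.isRelAmple_of_iso ((pullbackCompIso pX rX hrX).app L₀) (isRelAmple_of_isPullback sq h)

end Groth.Agent.LimTop61
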