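import Groth.Agent.SpFP87.FpqcBase
import Groth.Agent.SpFP87.LciEtale
import Groth.Agent.FlatMor68.KoszulFpqc
import Groth.Agent.FlatMor68.KoszulPerfect
import Groth.Agent.FlatMor68.SyntomicDescent
import Groth.Agent.SpPts86.Compact
import Groth.Prelude.Def_AlgSpMor6
/-!
Local complete intersection morphisms of algebraic spaces: chart criterion, flat base change and
fpqc descent (`AlgSp.lci` is not stable under arbitrary base change, so `SpFP87.EtLoc` does not apply).
-/

set_option autoImplicit false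
set_option linter.style.haveILetI false
universe u
open CategoryTheory CategoryTheory.Limits AlgebraicGeometry Opposite
open AlgSp

namespace Groth.Agent.LimTop61.LciLocal

open Groth.Agent.SpFP87
open Groth.Agent.FlatMor68.KoszulCalc

theorem lci_eq : (AlgSp.lci : MorphismProperty Scheme.{u}) = lciProp.{u} := by
  funext X Y f
  exact propext (forall_isKoszulAt_iff f)

instance : (AlgSp.lci : MorphismProperty Scheme.{u}).RespectsIso := by
  rw [lci_eq]; infer_instance

instance : IsZariskiLocalAtTarget (AlgSp.lci : MorphismProperty Scheme.{u}) := by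
  rw [lci_eq]; infer_instance

instance : IsZariskiLocalAtSource (AlgSp.lci : MorphismProperty Scheme.{u}) := by
  rw [lci_eq]; infer_instance

theorem lci_comp {X Y Z : Scheme.{u}} {f : X ⟶ Y} {g : Y ⟶ Z} (hf : AlgSp.lci f) (hg : AlgSp.lci g) :
    AlgSp.lci (f ≫ g) := by
  rw [lci_eq] at *; exact lciProp_comp f g hf hg

theorem lci_of_smooth {X Y : Scheme.{u}} (f : X ⟶ Y) (h : Smooth f) : AlgSp.lci f := by
  rw [lci_eq]; exact lciProp_smooth f

theorem lci_of_comp_smooth {X Y Z : Scheme.{u}} (f : X ⟶ Y) (g : Y ⟶ Z) (hg : Smooth g)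
    (h : AlgSp.lci (f ≫ g)) : AlgSp.lci f := by
  rw [lci_eq] at *; exact lciProp_of_comp_smooth f g h

theorem lci_of_cover {X' X Y : Scheme.{u}} (c : X' ⟶ X) (f : X ⟶ Y) (hc : Etale c) (hs : Surjective c)
    (h : AlgSp.lci (c ≫ f)) : AlgSp.lci f := by
  rw [lci_eq] at *
  exact Groth.Agent.FlatMor68.SyntomicDescent.lciProp_descend c
    ((Groth.Agent.FlatMor68.KoszulSyntomic.t9758 c).1
      ⟨inferInstance, (forall_isKoszulAt_iff c).2 (lciProp_smooth c)⟩) f h

theorem lci_baseChange_flat {X Y X' Y' : Scheme.{u}} {f : X ⟶ Y} {g : Y' ⟶ Y} (hg : Flat g)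
    {f' : X' ⟶ Y'} {g' : X' ⟶ X} (hsq : IsPullback g' f' f g) (hf : AlgSp.lci f) : AlgSp.lci f' :=
  Groth.Agent.FlatMor68.KoszulPerfect.baseChange f g f' g' hsq hf

instance : (AlgSp.lci : MorphismProperty Scheme.{u}).DescendsAlong (@Surjective ⊓ @Flat ⊓ @QuasiCompact) where
  of_isPullback {_ _ _ _} {fst snd f g} sq := fun hf h => by
    obtain ⟨⟨h1, h2⟩, h3⟩ := hf
    haveI := h1; haveI := h2; haveI := h3
    exact Groth.Agent.FlatMor68.KoszulFpqc.descend g f fst snd sq.flip h

/-- Descent of `AlgSp.lci` along a standard fpqc family. -/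
theorem lci_of_fpqc_family {U V : Scheme.{u}} [IsAffine V] (h : U ⟶ V) {m : ℕ} (W : Fin m → Scheme.{u})
    [∀ j, IsAffine (W j)] (c : ∀ j, W j ⟶ V) (hc : ∀ j, Flat (c j)) (hsurj : ∀ v, ∃ j, v ∈ Set.range (c j))
    (hP : ∀ j, AlgSp.lci (pullback.snd h (c j))) : AlgSp.lci h := by
  let W' := fun j : ULift.{u} (Fin m) => W j.down
  let d : ∐ W' ⟶ V := Sigma.desc fun j => c j.down
  haveI hdfl : Flat d := IsZariskiLocalAtSource.sigmaDesc fun j => hc j.down
  haveI : Surjective d := ⟨fun v => by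
    obtain ⟨j, w, rfl⟩ := hsurj v
    exact ⟨(Sigma.ι W' ⟨j⟩).base w, congrArg (fun k : W' ⟨j⟩ ⟶ V => k.base w)
      (Sigma.ι_desc (fun j : ULift.{u} (Fin m) => c j.down) ⟨j⟩)⟩⟩
  have hd : (@Surjective ⊓ @Flat ⊓ @QuasiCompact : MorphismProperty Scheme.{u}) d :=
    ⟨⟨inferInstance, hdfl⟩, inferInstance⟩
  refine MorphismProperty.of_isPullback_of_descendsAlong (P := AlgSp.lci)
    (Q := @Surjective ⊓ @Flat ⊓ @QuasiCompact) (IsPullback.of_hasPullback h d).flip hd ?_
  rw [IsZariskiLocalAtTarget.iff_of_openCover (P := AlgSp.lci) (sigmaOpenCover W')]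
  intro j
  change AlgSp.lci (pullback.snd (pullback.snd h d) (Sigma.ι W' j))
  have e := (IsPullback.of_hasPullback (pullback.snd h d) (Sigma.ι W' j)).paste_horiz
    (IsPullback.of_hasPullback h d)
  rw [Sigma.ι_desc] at e
  rw [← e.isoPullback_hom_snd, (AlgSp.lci : MorphismProperty Scheme.{u}).cancel_left_of_respectsIso]
  exact hP j.down

variable {S : Scheme.{u}}

/-- A lift to a flat `Y'` of a flat map from an affine scheme may be replaced, after a finite flat
affine cover, by flat lifts. -/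
theorem exists_flat_lifts {Y Y' : Sp S} (hY : IsAlgSpace Y) (hY' : IsAlgSpace Y') {W : Over S}
    [IsAffine W.left] (h : (yon S).obj W ⟶ Y) (hh : LocP @Flat h) (g : Y' ⟶ Y) (hg : LocP @Flat g)
    (l : (yon S).obj W ⟶ Y') (hl : l ≫ g = h) :
    ∃ (m : ℕ) (U : Fin m → Over S) (d : ∀ k, U k ⟶ W) (l' : ∀ k, (yon S).obj (U k) ⟶ Y'),
      (∀ k, IsAffine (U k).left) ∧ (∀ k, Flat (d k).left) ∧ (∀ w, ∃ k, w ∈ Set.range (d k).left) ∧
      (∀ k, LocP @Flat (l' k)) ∧ ∀ k, l' k ≫ g = (yon S).map (d k) ≫ h := by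
  have hP := isAlgSpace_pullback h g (IsAlgSpace.yon_obj W) hY' hY
  let pW := pullback.fst h g
  let pY := pullback.snd h g
  have hpW : LocP @Flat pW := locP_baseChange (IsPullback.of_hasPullback h g).flip hY' hY (IsAlgSpace.yon_obj W) hg
  have hpY : LocP @Flat pY := locP_baseChange (IsPullback.of_hasPullback h g) (IsAlgSpace.yon_obj W) hY hY' hh
  obtain ⟨T, a, ha, has⟩ := hP.atlas
  let σ : (yon S).obj W ⟶ pullback h g := pullback.lift (𝟙 _) l (by rw [Category.id_comp, hl])
  obtain ⟨W₂, r, s, sq⟩ := exists_isPullback_yon hP.diag σ a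
  have hr : Etale r.left := etale_snd_of_isPullback sq.flip ha
  have hrs : Surjective r.left := etale_snd_of_isPullback sq.flip has
  obtain ⟨d₀, hd₀⟩ := (yon S).map_surjective (a ≫ pW)
  have hflat : Flat d₀.left :=
    hpW a (𝟙 _) d₀ ha (repWith_id _ W) (by rw [hd₀]; exact (Category.comp_id _).symm)
  have hsec : s ≫ d₀ = r := (yon S).map_injective (by
    rw [Functor.map_comp, hd₀, ← Category.assoc, ← sq.w, Category.assoc, pullback.lift_fst,
      Category.comp_id])
  obtain ⟨fin, hfin⟩ := (isCompact_univ (X := ↥W.left)).elim_finite_subcover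
    (fun i => (r.left '' (s.left ⁻¹ᵁ (T.left.affineCover.f i).opensRange : Set _) : Set ↥W.left))
    (fun i => r.left.isOpenMap _ (s.left ⁻¹ᵁ (T.left.affineCover.f i).opensRange).isOpen)
    (fun w _ => by
      obtain ⟨w₂, rfl⟩ := r.left.surjective w
      refine Set.mem_iUnion.2 ⟨T.left.affineCover.idx (s.left w₂), w₂, ?_, rfl⟩
      exact T.left.affineCover.covers (s.left w₂))
  let e := fin.equivFin.symm
  let U : Fin fin.card → Over S := fun k => Over.mk (T.left.affineCover.f (e k).1 ≫ T.hom)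
  let j : ∀ k, U k ⟶ T := fun k => Over.homMk (T.left.affineCover.f (e k).1) rfl
  refine ⟨fin.card, U, fun k => j k ≫ d₀, fun k => ((yon S).map (j k) ≫ a) ≫ pY,
    fun k => inferInstanceAs (IsAffine (T.left.affineCover.X (e k).1)),
    fun k => ?_, fun w => ?_, fun k => ?_, fun k => ?_⟩
  · haveI : IsOpenImmersion (j k).left := inferInstanceAs (IsOpenImmersion (T.left.affineCover.f (e k).1))
    rw [Over.comp_left]
    infer_instance
  · obtain ⟨i, hi, hw⟩ := Set.mem_iUnion₂.1 (hfin (Set.mem_univ w))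
    obtain ⟨w₂, ⟨z, hz⟩, rfl⟩ := hw
    obtain ⟨k, hk⟩ := e.surjective ⟨i, hi⟩
    have hik : i = (e k).1 := (congrArg Subtype.val hk).symm
    subst hik
    refine ⟨k, z, ?_⟩
    rw [Over.comp_left, Scheme.Hom.comp_apply]
    rw [← hsec, Over.comp_left, Scheme.Hom.comp_apply, ← hz]
    rfl
  · haveI : IsOpenImmersion (j k).left := inferInstanceAs (IsOpenImmersion (T.left.affineCover.f (e k).1))
    refine locP_comp (IsAlgSpace.yon_obj _) hP hY' ?_ hpY
    exact LocP.of_le (fun X Y f (hf : Etale f) => (inferInstance : Flat f))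
      (locP_of_repWith (P := @Etale) (IsAlgSpace.yon_obj _).diag hP
        (Groth.Agent.SpPts86.repWith_etale_comp (j k) ha))
  · rw [Category.assoc, Category.assoc]
    show _ ≫ a ≫ pullback.snd h g ≫ g = _
    rw [← pullback.condition, Functor.map_comp, hd₀]
    simp only [Category.assoc]
    rfl

/-- `IsLCIMor` follows from one chart diagram with surjective source chart. -/
theorem lciMor_of_chart {X Y : Sp S} {f : X ⟶ Y} (hX : Representable (Limits.diag X))
    (hY : Representable (Limits.diag Y)) {U V : Over S} {a : (yon S).obj U ⟶ X} {b : (yon S).obj V ⟶ Y}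
    {h : U ⟶ V} (ha : RepWith @Etale a) (has : RepWith @Surjective a) (hb : RepWith @Etale b)
    (w : a ≫ f = (yon S).map h ≫ b) (hP : AlgSp.lci h.left) : IsLCIMor f := by
  intro U' V' a' b' h' ha' hb' w'
  obtain ⟨U₂, p, q, sq⟩ := exists_isPullback_yon hX a a'
  obtain ⟨V₂, r, s, sq'⟩ := exists_isPullback_yon hY b b'
  have hp : Etale p.left := etale_snd_of_isPullback sq.flip ha'
  have hr : Etale r.left := etale_snd_of_isPullback sq'.flip hb'
  have hs : Etale s.left := etale_snd_of_isPullback sq' hb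
  have e : (yon S).map (p ≫ h) ≫ b = (yon S).map (q ≫ h') ≫ b' := by
    rw [Functor.map_comp, Functor.map_comp, Category.assoc, Category.assoc, ← w, ← w',
      ← Category.assoc, sq.w, Category.assoc]
  let m : U₂ ⟶ V₂ := (yon S).preimage (sq'.lift _ _ e)
  have m1 : m ≫ r = p ≫ h := (yon S).map_injective (by rw [Functor.map_comp, Functor.map_preimage, sq'.lift_fst])
  have m2 : m ≫ s = q ≫ h' := (yon S).map_injective (by rw [Functor.map_comp, Functor.map_preimage, sq'.lift_snd])
  have hm : AlgSp.lci m.left := lci_of_comp_smooth m.left r.left inferInstance (by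
    rw [← Over.comp_left, m1, Over.comp_left]; exact lci_comp (lci_of_smooth _ inferInstance) hP)
  refine lci_of_cover q.left h'.left (etale_snd_of_isPullback sq ha) (etale_snd_of_isPullback sq has) ?_
  rw [← Over.comp_left, ← m2, Over.comp_left]
  exact lci_comp hm (lci_of_smooth _ inferInstance)

/-- Base change along a flat morphism. -/
theorem lciMor_baseChange_flat {X Y X' Y' : Sp S} {fst : X' ⟶ X} {snd : X' ⟶ Y'} {f : X ⟶ Y} {g : Y' ⟶ Y}
    (sq : IsPullback fst snd f g) (hX : IsAlgSpace X) (hY : IsAlgSpace Y) (hY' : IsAlgSpace Y')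
    (hg : LocP @Flat g) (hf : IsLCIMor f) : IsLCIMor snd := by
  obtain ⟨V, b, hb, hbs⟩ := hY.atlas
  obtain ⟨U, a, h, ha, has, w⟩ := exists_compatible_chart f hX hY.diag hb hbs
  obtain ⟨V', b', k, hb', hbs', w'⟩ := exists_compatible_chart g hY' hY.diag hb hbs
  have hk : Flat k.left := hg b' b k hb' hb w'
  have hY'' := isAlgSpace_of_isPullback sq hX hY' hY.diag
  obtain ⟨W, r, s, c, hc, sqW, hc1, hc2⟩ := exists_chart_of_isPullback sq hY.diag
    (@Etale ⊓ @Surjective) a b' ((repWith_inf_iff a).2 ⟨ha, has⟩) ((repWith_inf_iff b').2 ⟨hb', hbs'⟩)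
  obtain ⟨hc, hcs⟩ := (repWith_inf_iff c).1 hc
  obtain ⟨V₂, r₂, s₂, sqV⟩ := exists_isPullback_yon hY.diag b b
  have hr₂ : Etale r₂.left := etale_snd_of_isPullback sqV.flip hb
  have hs₂ : Etale s₂.left := etale_snd_of_isPullback sqV hb
  refine lciMor_of_chart (h := s) hY''.diag hY'.diag hc hcs hb' hc2 ?_
  obtain ⟨A, α, β, sqA⟩ := exists_isPullback_yon (IsAlgSpace.yon_obj V).diag
    ((yon S).map h) ((yon S).map r₂)
  have hβ : AlgSp.lci β.left := lci_baseChange_flat (g := r₂.left) inferInstance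
    ((IsPullback.of_map (yon S)
      ((yon S).map_injective (by rw [Functor.map_comp, Functor.map_comp]; exact sqA.w)) sqA).map
      (Over.forget S)) (hf a b h ha hb w)
  have hA : IsPullback ((yon S).map α) ((yon S).map (β ≫ s₂)) (a ≫ f) b := by
    rw [w, Functor.map_comp]
    exact IsPullback.paste_vert sqA sqV
  have hβs : AlgSp.lci (β ≫ s₂).left := by
    rw [Over.comp_left]
    exact lci_comp hβ (lci_of_smooth _ inferInstance)
  let n : W ⟶ A := (yon S).preimage (hA.lift ((yon S).map r) ((yon S).map (s ≫ k))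
    (by rw [sqW.w, Functor.map_comp, Category.assoc, w']))
  have hn : IsPullback ((yon S).map n) ((yon S).map s) ((yon S).map (β ≫ s₂)) ((yon S).map k) := by
    refine IsPullback.of_right (h₁₂ := (yon S).map α) (v₁₃ := a ≫ f) (h₂₂ := b) ?_ ?_ hA
    · rw [Functor.map_preimage, hA.lift_fst, ← w']; exact sqW
    · rw [Functor.map_preimage, hA.lift_snd, Functor.map_comp]
  exact lci_baseChange_flat hk ((IsPullback.of_map (yon S)
    ((yon S).map_injective (by rw [Functor.map_comp, Functor.map_comp]; exact hn.w)) hn).map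
      (Over.forget S)) hβs

/-- `IsLCIMor` may be checked after base change to an atlas of the target. -/
theorem lciMor_of_atlas_baseChange {X Y XV : Sp S} {f : X ⟶ Y} {V : Over S} {b : (yon S).obj V ⟶ Y}
    {fst : XV ⟶ X} {snd : XV ⟶ (yon S).obj V} (sq : IsPullback fst snd f b) (hX : IsAlgSpace X)
    (hY : IsAlgSpace Y) (hb : RepWith @Etale b) (hbs : RepWith @Surjective b) (h : IsLCIMor snd) :
    IsLCIMor f := by
  obtain ⟨U, a, ha, has⟩ := (isAlgSpace_of_isPullback sq hX (IsAlgSpace.yon_obj V) hY.diag).atlas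
  have hfst : RepWith (@Etale ⊓ @Surjective) fst :=
    (repWith_isStableUnderBaseChange (@Etale ⊓ @Surjective : MorphismProperty Scheme.{u})).of_isPullback
      sq.flip ((repWith_inf_iff b).2 ⟨hb, hbs⟩)
  obtain ⟨h1, h2⟩ := (repWith_inf_iff _).1
    (MorphismProperty.comp_mem (W := RepWith (@Etale ⊓ @Surjective : MorphismProperty Scheme.{u})) _ _
      ((repWith_inf_iff a).2 ⟨ha, has⟩) hfst)
  obtain ⟨s, hs⟩ := (yon S).map_surjective (a ≫ snd)
  refine lciMor_of_chart (h := s) hX.diag hY.diag h1 h2 hb ?_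
    (h a (𝟙 _) s ha (repWith_id _ V) (by simpa using hs.symm))
  rw [Category.assoc, sq.w, hs, Category.assoc]

theorem isLocalOnBase_fpqc : IsLocalOnBase (IsFpqcCover (S := S)) IsLCIMor := by
  intro ι Y Yi g hY hYi hg X f hX Xi p q hXi sq
  refine ⟨fun h i => lciMor_baseChange_flat (sq i) hX hY (hYi i) (hg.1 i) h, fun h => ?_⟩
  obtain ⟨V, b, hb, hbs⟩ := hY.atlas
  have hXV := isAlgSpace_pullback f b hX (IsAlgSpace.yon_obj V) hY
  refine lciMor_of_atlas_baseChange (IsPullback.of_hasPullback f b) hX hY hb hbs ?_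
  obtain ⟨U, a, ha, has⟩ := hXV.atlas
  obtain ⟨s, hs⟩ := (yon S).map_surjective (a ≫ pullback.snd f b)
  refine lciMor_of_chart (h := s) hXV.diag (IsAlgSpace.yon_obj V).diag ha has (repWith_id _ V)
    (by rw [hs]; exact (Category.comp_id _).symm) ?_
  rw [IsZariskiLocalAtTarget.iff_of_openCover (P := AlgSp.lci) V.left.affineCover]
  intro k
  let Z : Over S := Over.mk (V.left.affineCover.f k ≫ V.hom)
  let z : Z ⟶ V := Over.homMk (V.left.affineCover.f k) rfl
  haveI : IsAffine Z.left := inferInstanceAs (IsAffine (V.left.affineCover.X k))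
  obtain ⟨m, W, c, hW, hfl, hsurj, hlift⟩ := hg.2 Z inferInstance ((yon S).map z ≫ b)
  change AlgSp.lci (pullback.snd s.left z.left)
  haveI := hW
  -- descent along the fpqc family
  refine lci_of_fpqc_family _ (fun j => (W j).left) (fun j => (c j).left) hfl hsurj fun j => ?_
  obtain ⟨i, l, hl⟩ := hlift j
  obtain ⟨UW, r, t, sqU⟩ := exists_isPullback_yon (IsAlgSpace.yon_obj V).diag
    ((yon S).map s) ((yon S).map (c j ≫ z))
  have e0 := isPullback_left sqU
  suffices hP : AlgSp.lci t.left by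
    have e1 := (IsPullback.of_hasPullback (pullback.snd s.left z.left) (c j).left).paste_horiz
      (IsPullback.of_hasPullback s.left z.left)
    have e3 : (e1.isoIsPullback _ _ e0).hom ≫ t.left =
        pullback.snd (pullback.snd s.left z.left) (c j).left := e1.isoIsPullback_hom_snd _ _ e0
    rw [← e3, (AlgSp.lci : MorphismProperty Scheme.{u}).cancel_left_of_respectsIso]
    exact hP
  have hflat : LocP @Flat ((yon S).map (c j ≫ z) ≫ b) := by
    have h1 : Flat (c j ≫ z).left := by
      haveI := hfl j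
      haveI : IsOpenImmersion z.left := inferInstanceAs (IsOpenImmersion (V.left.affineCover.f k))
      rw [Over.comp_left]; infer_instance
    exact locP_comp (IsAlgSpace.yon_obj _) (IsAlgSpace.yon_obj V) hY ((locP_yon_map_iff _).2 h1)
      (LocP.of_le (fun X Y f (hf : Etale f) => (inferInstance : Flat f))
        (locP_of_repWith (P := @Etale) (IsAlgSpace.yon_obj V).diag hY hb))
  obtain ⟨n', U', d', l', hU', hd', hds, hl'f, hl'⟩ := exists_flat_lifts hY (hYi i)
    ((yon S).map (c j ≫ z) ≫ b) hflat (g i) (hg.1 i) l (by rw [hl, Functor.map_comp, Category.assoc])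
  haveI := hU'
  refine lci_of_fpqc_family t.left (fun k => (U' k).left) (fun k => (d' k).left) hd' hds fun k' => ?_
  obtain ⟨UW', r', t', sqU'⟩ := exists_isPullback_yon (IsAlgSpace.yon_obj (W j)).diag
    ((yon S).map t) ((yon S).map (d' k'))
  suffices hP : AlgSp.lci t'.left by
    have e3 : ((IsPullback.of_hasPullback t.left (d' k').left).isoIsPullback _ _
        (isPullback_left sqU')).hom ≫ t'.left = pullback.snd t.left (d' k').left :=
      IsPullback.isoIsPullback_hom_snd _ _ _ _
    rw [← e3, (AlgSp.lci : MorphismProperty Scheme.{u}).cancel_left_of_respectsIso]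
    exact hP
  let sqW := IsPullback.of_hasPullback (pullback.snd f b) ((yon S).map (d' k' ≫ c j ≫ z))
  have hlW : IsLCIMor (pullback.snd (pullback.snd f b) ((yon S).map (d' k' ≫ c j ≫ z))) := by
    have big := sqW.paste_horiz (IsPullback.of_hasPullback f b)
    have wl : ((yon S).map (d' k' ≫ c j ≫ z)) ≫ b = l' k' ≫ g i := by
      rw [hl' k', Functor.map_comp, Category.assoc]
    rw [wl] at big
    let n := (sq i).lift _ (pullback.snd (pullback.snd f b) ((yon S).map (d' k' ≫ c j ≫ z)) ≫ l' k')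
      (by rw [Category.assoc]; exact big.w)
    exact lciMor_baseChange_flat (IsPullback.of_right (h₁₁ := n)
      (by rw [(sq i).lift_fst]; exact big) ((sq i).lift_snd _ _ _) (sq i)) (hXi i) (hYi i)
      (IsAlgSpace.yon_obj _) (hl'f k') (h i)
  have sqU2 : IsPullback ((yon S).map (r' ≫ r)) ((yon S).map t') ((yon S).map s)
      ((yon S).map (d' k' ≫ c j ≫ z)) := by
    rw [Functor.map_comp, Functor.map_comp (yon S) (d' k') (c j ≫ z)]
    exact sqU'.paste_horiz sqU
  let a' : (yon S).obj UW' ⟶ pullback (pullback.snd f b) ((yon S).map (d' k' ≫ c j ≫ z)) :=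
    sqW.lift ((yon S).map (r' ≫ r) ≫ a) ((yon S).map t') (by rw [Category.assoc, ← hs]; exact sqU2.w)
  have ha' : RepWith @Etale a' := by
    have hsq : IsPullback ((yon S).map (r' ≫ r)) a' a
        (pullback.fst (pullback.snd f b) ((yon S).map (d' k' ≫ c j ≫ z))) := by
      refine IsPullback.of_bot ?_ (sqW.lift_fst _ _ _).symm sqW
      rw [sqW.lift_snd, ← hs]; exact sqU2
    exact (repWith_isStableUnderBaseChange (@Etale : MorphismProperty Scheme.{u})).of_isPullback hsq ha
  exact hlW a' (𝟙 _) t' ha' (repWith_id _ _) ((sqW.lift_snd _ _ _).trans (Category.comp_id _).symm)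

end Groth.Agent.LimTop61.LciLocal
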