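import Groth.Agent.SpPts86.ProperCrit
import Groth.Agent.SpFP87.RedInduced
/-!
Images of proper families in algebraic spaces are proper.
-/

set_option autoImplicit false
universe u
open CategoryTheory CategoryTheory.Limits AlgebraicGeometry
open AlgSp Groth.Agent.SpFP87 Groth.Agent.SpPts86

namespace Groth.Agent.LimTop61.ProperImage

variable {S : Scheme.{u}} {W Y B : Sp S} {κ : Type} [Finite κ] {Z : κ → Sp S}

theorem isUnivClosedMor_of_family {q : W ⟶ B} (g : ∀ k, Z k ⟶ W)
    (hs : ∀ w : Points W, ∃ k z, Points.map (g k) z = w) (hc : ∀ k, IsUnivClosedMor (g k ≫ q)) :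
    IsUnivClosedMor q := by
  intro V V' hV b fst snd sq A hA
  have sqk := fun k => IsPullback.of_hasPullback (g k) fst
  have hck : ∀ k, IsClosedMap (Points.map (pullback.snd (g k) fst ≫ snd)) := fun k =>
    hc k hV b (pullback.fst (g k) fst) _ ((sqk k).paste_vert sq)
  have e : Points.map snd '' A = ⋃ k, Points.map (pullback.snd (g k) fst ≫ snd) ''
      (Points.map (pullback.snd (g k) fst) ⁻¹' A) := by
    ext v
    simp only [Set.mem_iUnion]
    constructor
    · rintro ⟨a, ha, rfl⟩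
      obtain ⟨k, z, hz⟩ := hs (Points.map fst a)
      obtain ⟨p, -, hp⟩ := exists_of_isPullback (sqk k) z a hz
      subst hp
      exact ⟨k, p, ha, Points.map_comp _ _ _⟩
    · rintro ⟨k, p, hp, rfl⟩
      exact ⟨_, hp, (Points.map_comp _ _ _).symm⟩
  show IsClosed (Points.map snd '' A)
  rw [e]
  exact isClosed_iUnion_of_finite fun k => hck k _ (hA.preimage (Points.continuous_map _))

theorem isQuasiCompactMor_of_family {q : W ⟶ B} (hW : IsAlgSpace W) (hB : IsAlgSpace B) (g : ∀ k, Z k ⟶ W)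
    (hs : ∀ w : Points W, ∃ k z, Points.map (g k) z = w) (hc : ∀ k, IsQuasiCompactMor (g k ≫ q)) :
    IsQuasiCompactMor q := by
  intro V V' hV hqc b fst snd sq
  have hV' : IsAlgSpace V' := isAlgSpace_of_isPullback sq hW hV hB.diag
  have sqk := fun k => IsPullback.of_hasPullback (g k) fst
  have hk : ∀ k, IsCompact (Set.range (Points.map (pullback.snd (g k) fst))) := fun k => by
    have := compactSpace_points_of_isQuasiCompactSp (hc k hV hqc b _ _ ((sqk k).paste_vert sq))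
    exact isCompact_range (Points.continuous_map _)
  have : CompactSpace (Points V') := ⟨by
    have e : (Set.univ : Set (Points V')) = ⋃ k, Set.range (Points.map (pullback.snd (g k) fst)) := by
      refine (Set.eq_univ_of_forall fun a => ?_).symm
      obtain ⟨k, z, hz⟩ := hs (Points.map fst a)
      obtain ⟨p, -, hp⟩ := exists_of_isPullback (sqk k) z a hz
      exact Set.mem_iUnion.2 ⟨k, p, hp⟩
    rw [e]
    exact isCompact_iUnion hk⟩
  exact isQuasiCompactSp_of_compactSpace hV'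

theorem isUnivClosedMor_map {Z' : Sp S} {q : W ⟶ B} (g : Z' ⟶ W) (hg : IsUnivClosedMor g)
    (hZ : IsAlgSpace Z') (hW : IsAlgSpace W) (hB : IsAlgSpace B)
    (m : pullback (g ≫ q) (g ≫ q) ⟶ pullback q q)
    (hm₁ : m ≫ pullback.fst q q = pullback.fst (g ≫ q) (g ≫ q) ≫ g)
    (hm₂ : m ≫ pullback.snd q q = pullback.snd (g ≫ q) (g ≫ q) ≫ g) :
    IsUnivClosedMor m := by
  have sqa := IsPullback.of_hasPullback (g ≫ q) (g ≫ q)
  have sqb := IsPullback.of_hasPullback q (g ≫ q)
  have sqc := IsPullback.of_hasPullback q q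
  obtain ⟨m₁, a₁, a₂⟩ : ∃ m₁ : pullback (g ≫ q) (g ≫ q) ⟶ pullback q (g ≫ q),
      m₁ ≫ pullback.fst q (g ≫ q) = pullback.fst (g ≫ q) (g ≫ q) ≫ g ∧
        m₁ ≫ pullback.snd q (g ≫ q) = pullback.snd (g ≫ q) (g ≫ q) :=
    ⟨sqb.lift _ _ (by rw [Category.assoc]; exact sqa.w), sqb.lift_fst _ _ _, sqb.lift_snd _ _ _⟩
  obtain ⟨m₂, b₁, b₂⟩ : ∃ m₂ : pullback q (g ≫ q) ⟶ pullback q q,
      m₂ ≫ pullback.fst q q = pullback.fst q (g ≫ q) ∧
        m₂ ≫ pullback.snd q q = pullback.snd q (g ≫ q) ≫ g :=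
    ⟨sqc.lift _ _ (by rw [Category.assoc]; exact sqb.w), sqc.lift_fst _ _ _, sqc.lift_snd _ _ _⟩
  have e : m = m₁ ≫ m₂ := by
    apply sqc.hom_ext
    · rw [hm₁, Category.assoc, b₁, a₁]
    · rw [hm₂, Category.assoc, b₂, reassoc_of% a₂]
  have h1 : IsPullback (pullback.fst (g ≫ q) (g ≫ q)) m₁ g (pullback.fst q (g ≫ q)) :=
    IsPullback.of_bot (by rw [a₂]; exact sqa) a₁.symm sqb
  have h2 : IsPullback (pullback.snd q (g ≫ q)) m₂ g (pullback.snd q q) :=
    IsPullback.of_bot (by rw [b₁]; exact sqb.flip) b₂.symm sqc.flip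
  rw [e]
  exact isUnivClosedMor_comp (isAlgSpace_pullback q (g ≫ q) hW hZ hB) (isAlgSpace_pullback q q hW hW hB)
    (univSp_baseChange' hg h1) (univSp_baseChange' hg h2)

theorem isSeparatedMor_of_family {q : W ⟶ B} (hW : IsAlgSpace W) (hB : IsAlgSpace B)
    (hZ : ∀ k, IsAlgSpace (Z k)) (g : ∀ k, Z k ⟶ W)
    (hs : ∀ w : Points W, ∃ k z, Points.map (g k) z = w) (hg : ∀ k, IsUnivClosedMor (g k))
    (hc : ∀ k, IsSeparatedMor (g k ≫ q)) : IsSeparatedMor q := by
  refine isSeparatedMor_of_diag_univClosed hW hB (isUnivClosedMor_of_family g hs fun k => ?_)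
  have sqa := IsPullback.of_hasPullback (g k ≫ q) (g k ≫ q)
  have sqc := IsPullback.of_hasPullback q q
  obtain ⟨m, hm₁, hm₂⟩ : ∃ m : pullback (g k ≫ q) (g k ≫ q) ⟶ pullback q q,
      m ≫ pullback.fst q q = pullback.fst (g k ≫ q) (g k ≫ q) ≫ g k ∧
        m ≫ pullback.snd q q = pullback.snd (g k ≫ q) (g k ≫ q) ≫ g k :=
    ⟨sqc.lift _ _ (by rw [Category.assoc, Category.assoc]; exact sqa.w), sqc.lift_fst _ _ _, sqc.lift_snd _ _ _⟩
  have e : g k ≫ pullback.diagonal q = pullback.diagonal (g k ≫ q) ≫ m := by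
    apply sqc.hom_ext
    · rw [Category.assoc, pullback.diagonal_fst, Category.assoc, hm₁, pullback.diagonal_fst_assoc, Category.comp_id]
    · rw [Category.assoc, pullback.diagonal_snd, Category.assoc, hm₂, pullback.diagonal_snd_assoc, Category.comp_id]
  rw [e]
  have hP := isAlgSpace_pullback (g k ≫ q) (g k ≫ q) (hZ k) (hZ k) hB
  refine isUnivClosedMor_comp hP (isAlgSpace_pullback q q hW hW hB) ?_
    (isUnivClosedMor_map _ (hg k) (hZ k) hW hB m hm₁ hm₂)
  exact (S9922.result (X := ⟨_, hZ k⟩) (Y := ⟨_, hP⟩) ⟨pullback.diagonal (g k ≫ q)⟩ (hc k).rep).1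
    (repWith_mono (fun _ _ _ h => by haveI := h; exact inferInstance) (hc k))

/-- The reduced union of the images of a finite family of universally closed morphisms with proper
composites is proper over the base. -/
theorem exists_image {q : Y ⟶ B} (hY : IsAlgSpace Y) (hB : IsAlgSpace B)
    (hq : LocP @LocallyOfFiniteType q) (hZ : ∀ k, IsAlgSpace (Z k)) (h : ∀ k, Z k ⟶ Y)
    (hh : ∀ k, IsUnivClosedMor (h k)) (hp : ∀ k, IsProperMor (h k ≫ q)) :
    IsClosed (⋃ k, Set.range (Points.map (h k))) ∧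
      ∃ (W : AlgSp.Space S) (j : W.obj ⟶ Y), RepWith @IsClosedImmersion j ∧
        Set.range (Points.map j) = ⋃ k, Set.range (Points.map (h k)) ∧ IsProperMor (j ≫ q) := by
  have hT : IsClosed (⋃ k, Set.range (Points.map (h k))) := isClosed_iUnion_of_finite fun k => by
    have hc : IsClosedMap (Points.map (h k)) :=
      hh k hY (𝟙 Y) (𝟙 _) _ (IsPullback.of_horiz_isIso ⟨by simp⟩)
    exact hc.isClosed_range
  obtain ⟨W, j, hW, hj, hr, -⟩ := exists_isRedInduced hY _ hT
  refine ⟨hT, ⟨W, hW⟩, j, hj, hr, ?_⟩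
  have hZ' := fun k => isAlgSpace_pullback (h k) j (hZ k) hW hY
  let g := fun k => pullback.snd (h k) j
  have hg : ∀ k, IsUnivClosedMor (g k) := fun k =>
    univSp_baseChange' (hh k) (IsPullback.of_hasPullback (h k) j)
  have hgp : ∀ k, IsProperMor (g k ≫ j ≫ q) := fun k => by
    have e : g k ≫ j ≫ q = pullback.fst (h k) j ≫ h k ≫ q := (pullback.condition_assoc q).symm
    rw [e]
    refine isProperMor_comp (hZ' k) (hZ k) hB ?_ (hp k)
    exact S10277.result (X := ⟨_, hZ' k⟩) (Y := ⟨_, hZ k⟩) ⟨pullback.fst (h k) j⟩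
      ((repWith_isStableUnderBaseChange _).of_isPullback (IsPullback.of_hasPullback (h k) j).flip hj)
  have hs : ∀ w : Points W, ∃ k z, Points.map (g k) z = w := fun w => by
    obtain ⟨k, z, hz⟩ := Set.mem_iUnion.1 (hr.le ⟨w, rfl⟩)
    obtain ⟨p, -, hp⟩ := exists_of_isPullback (IsPullback.of_hasPullback (h k) j) z w hz
    exact ⟨k, p, hp⟩
  refine ⟨isSeparatedMor_of_family hW hB hZ' g hs hg fun k => (hgp k).1,
    ⟨locP_comp hW hY hB (locP_of_repWith hW.diag hY
      (repWith_mono (fun _ _ _ h => by haveI := h; exact inferInstance) hj)) hq,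
      isQuasiCompactMor_of_family hW hB g hs fun k => (hgp k).2.1.2⟩,
    isUnivClosedMor_of_family g hs fun k => (hgp k).2.2⟩

end Groth.Agent.LimTop61.ProperImage
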