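import Groth.Agent.LimTop61.ModDescent
import Groth.Agent.QC70.Hom

/-!
Transition maps between the direct images of inverse images, on sections.
-/

set_option autoImplicit false
set_option backward.isDefEq.respectTransparency.types false

noncomputable section

universe u

open CategoryTheory Limits AlgebraicGeometry TopologicalSpace Opposite
open Groth.Agent.QC70 Groth.Agent.QCPull72

namespace Groth.Agent.LimTop61

variable {X Y Z : Scheme.{u}}

/-- The unit of a composite inverse image. -/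
lemma pullbackComp_hom_app_unitSec (g : Z ⟶ Y) (f : Y ⟶ X) (G : X.Modules) (U : X.Opens)
    (x : Γ(G, U)) :
    ((Scheme.Modules.pullbackComp g f).hom.app G).app ((g ≫ f) ⁻¹ᵁ U)
        (unitSec g ((Scheme.Modules.pullback f).obj G)
          (show (g ≫ f) ⁻¹ᵁ U ≤ g ⁻¹ᵁ (f ⁻¹ᵁ U) from le_rfl) (unitSec f G (le_refl (f ⁻¹ᵁ U)) x)) =
      unitSec (g ≫ f) G (le_refl ((g ≫ f) ⁻¹ᵁ U)) x := by
  let i := (Scheme.Modules.pullbackComp g f).app G
  have h1 := unit_conjugateEquiv
    ((Scheme.Modules.pullbackPushforwardAdjunction f).comp (Scheme.Modules.pullbackPushforwardAdjunction g))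
    (Scheme.Modules.pullbackPushforwardAdjunction (g ≫ f))
    (Scheme.Modules.pullbackComp g f).inv G
  rw [Scheme.Modules.conjugateEquiv_pullbackComp_inv, Adjunction.comp_unit_app] at h1
  have h2 : (pullUnit g ((Scheme.Modules.pullback f).obj G)).app (f ⁻¹ᵁ U)
      ((pullUnit f G).app U x) =
      i.inv.app ((g ≫ f) ⁻¹ᵁ U) ((pullUnit (g ≫ f) G).app U x) :=
    congr(Scheme.Modules.Hom.app $h1 U x)
  rw [unitSec, unitSec, unitSec, res_self, res_self]
  refine (congrArg (i.hom.app _) ((res_self (M := (Scheme.Modules.pullback g).obj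
    ((Scheme.Modules.pullback f).obj G)) _).trans h2)).trans ?_
  exact congr(Scheme.Modules.Hom.app $(i.inv_hom_id) _ _)

lemma unitSec_res (f : Y ⟶ X) (G : X.Modules) {U U' : X.Opens} {V V' : Y.Opens} (e : V ≤ f ⁻¹ᵁ U)
    (e' : V' ≤ f ⁻¹ᵁ U') (h : U' ≤ U) (h' : V' ≤ V) (x : Γ(G, U)) :
    unitSec f G e' (res G h x) = res ((Scheme.Modules.pullback f).obj G) h' (unitSec f G e x) := by
  rw [unitSec, unitSec, app_res, res_res]
  exact res_res (M := (Scheme.Modules.pullback f).obj G) _ _ _

/-- The direct image of the inverse image. -/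
abbrev PushPull (f : Y ⟶ X) (G : X.Modules) : X.Modules :=
  (Scheme.Modules.pushforward f).obj ((Scheme.Modules.pullback f).obj G)

variable (f : Y ⟶ X) (g : Z ⟶ Y) {h : Z ⟶ X} (e : g ≫ f = h) (G : X.Modules)

include e in
lemma preimage_comp_le (U : X.Opens) : h ⁻¹ᵁ U ≤ g ⁻¹ᵁ (f ⁻¹ᵁ U) := by
  rw [← Scheme.Hom.comp_preimage, e]

/-- The transition map on sections. -/
def trSec (U : X.Opens) : Γ(PushPull f G, U) →ₗ[Γ(X, U)] Γ(PushPull h G, U) where
  toFun y := ((pullbackCompIso f g e).hom.app G).app (h ⁻¹ᵁ U)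
    (unitSec g ((Scheme.Modules.pullback f).obj G) (preimage_comp_le f g e U)
      (show Γ((Scheme.Modules.pullback f).obj G, f ⁻¹ᵁ U) from y))
  map_add' a b := by
    refine Eq.trans (congrArg _ (unitSec_add _ _ _ _ _)) ?_
    exact map_add _ _ _
  map_smul' r a := by
    refine Eq.trans (congrArg _ (unitSec_smul g ((Scheme.Modules.pullback f).obj G)
      (preimage_comp_le f g e U) (f.app U r) a)) ?_
    rw [Scheme.Modules.Hom.app_smul]
    refine congrArg (fun t => t • _) ?_
    subst e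
    show (f.app U ≫ g.appLE (f ⁻¹ᵁ U) _ _) r = (g ≫ f).app U r
    rw [Scheme.Hom.app_eq_appLE, Scheme.Hom.appLE_comp_appLE, Scheme.Hom.app_eq_appLE]

/-- `trSec` respects the unit. -/
lemma trSec_unitSec (U : X.Opens) (x : Γ(G, U)) :
    trSec f g e G U (unitSec f G (le_refl (f ⁻¹ᵁ U)) x) = unitSec h G (le_refl (h ⁻¹ᵁ U)) x := by
  subst e
  refine Eq.trans ?_ (pullbackComp_hom_app_unitSec g f G U x)
  simp only [trSec, pullbackCompIso, LinearMap.coe_mk, AddHom.coe_mk, Iso.trans_hom,
    NatTrans.comp_app]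
  rfl

lemma trSec_res {U U' : X.Opens} (hU : U' ≤ U) (y : Γ(PushPull f G, U)) :
    trSec f g e G U' (res (PushPull f G) hU y) = res (PushPull h G) hU (trSec f g e G U y) := by
  refine Eq.trans (congrArg (((pullbackCompIso f g e).hom.app G).app (h ⁻¹ᵁ U')) (unitSec_res g ((Scheme.Modules.pullback f).obj G)
    (preimage_comp_le f g e U) (preimage_comp_le f g e U') (f.preimage_mono hU)
    (h.preimage_mono hU) y)) ?_
  exact app_res _ _ _

/-- The transition map, as a local morphism. -/
def trHomOn (U : X.Opens) : HomOn (PushPull f G) (PushPull h G) U where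
  app W _ := trSec f g e G W
  app_res _ hh y := trSec_res f g e G hh y

lemma trSec_eq_zero_iff {U : X.Opens} (y : Γ(PushPull f G, U)) :
    trSec f g e G U y = 0 ↔
      unitSec g ((Scheme.Modules.pullback f).obj G) (preimage_comp_le f g e U) y = 0 := by
  refine ⟨fun hy => ?_, fun hy => ?_⟩
  · have h1 := congrArg (((pullbackCompIso f g e).inv.app G).app (h ⁻¹ᵁ U)) hy
    replace h1 := h1.trans (map_zero _)
    exact (congr(Scheme.Modules.Hom.app $((pullbackCompIso f g e).hom_inv_id_app G) (h ⁻¹ᵁ U)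
      (unitSec g ((Scheme.Modules.pullback f).obj G) (preimage_comp_le f g e U) y))).symm.trans h1
  · exact (congrArg (((pullbackCompIso f g e).hom.app G).app (h ⁻¹ᵁ U)) hy).trans (map_zero _)

/-- Composition of transition maps on an affine open. -/
lemma trSec_trSec [IsAffineHom f] [G.IsQuasicoherent] {W : Scheme.{u}} (k : W ⟶ Z) {m : W ⟶ X}
    (e₂ : k ≫ h = m) (kg : W ⟶ Y) (e₃ : kg ≫ f = m) (hkg : k ≫ g = kg)
    {U : X.Opens} (hU : IsAffineOpen U) (y : Γ(PushPull f G, U)) :
    trSec h k e₂ G U (trSec f g e G U y) = trSec f kg e₃ G U y := by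
  have hy := (span_unitSec_eq_top f G hU (hU.preimage f) le_rfl).ge
    (Submodule.mem_top (x := (show Γ((Scheme.Modules.pullback f).obj G, f ⁻¹ᵁ U) from y)))
  refine Submodule.span_induction (p := fun (y : Γ((Scheme.Modules.pullback f).obj G, f ⁻¹ᵁ U)) _ =>
    trSec h k e₂ G U (trSec f g e G U y) = trSec f kg e₃ G U y) ?_ ?_ ?_ ?_ hy
  · rintro _ ⟨x, rfl⟩
    rw [trSec_unitSec, trSec_unitSec, trSec_unitSec]
  · exact ((congrArg _ (map_zero _)).trans (map_zero _)).trans (map_zero (trSec f kg e₃ G U)).symm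
  · intro a b _ _ ha hb
    rw [show trSec f g e G U (a + b) = trSec f g e G U a + trSec f g e G U b from map_add _ _ _,
      map_add, ha, hb]
    exact (map_add (trSec f kg e₃ G U) _ _).symm
  · intro r a _ ha
    subst hkg e e₂
    simp only [trSec, LinearMap.coe_mk, AddHom.coe_mk] at ha ⊢
    rw [unitSec_smul, unitSec_smul, Scheme.Modules.Hom.app_smul, unitSec_smul,
      Scheme.Modules.Hom.app_smul, Scheme.Modules.Hom.app_smul, ha, ← CategoryTheory.comp_apply,
      Scheme.Hom.appLE_comp_appLE]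

end Groth.Agent.LimTop61
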