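import Groth.Agent.LimTop61.FiniteBirational
import Mathlib.AlgebraicGeometry.ZariskisMainTheorem

set_option autoImplicit false
set_option backward.isDefEq.respectTransparency false
set_option backward.defeqAttrib.useBackward true
universe u

open CategoryTheory CategoryTheory.Limits AlgebraicGeometry TopologicalSpace

namespace Groth.Agent.LimTop61

/-- An element of the generic stalk integral over a normal local ring comes from it. -/
lemma exists_specializes_eq {Y : Scheme.{u}} [IsIntegral Y] {y z : Y}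
    (hy : IsIntegrallyClosed (Y.presheaf.stalk y)) (hz : z = genericPoint Y) (h : z ⤳ y)
    (k : Y.presheaf.stalk z) (hk : (Y.presheaf.stalkSpecializes h).hom.IsIntegralElem k) :
    ∃ o, Y.presheaf.stalkSpecializes h o = k := by
  subst hz
  exact (IsIntegrallyClosed.isIntegral_iff (R := Y.presheaf.stalk y) (K := Y.functionField)).mp hk

/-- The maps to the generic stalk are injective. -/
lemma stalkSpecializes_injective {Y : Scheme.{u}} [IsIntegral Y] {y z : Y} (hz : z = genericPoint Y)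
    (h : z ⤳ y) : Function.Injective (Y.presheaf.stalkSpecializes h) := by
  subst hz
  exact IsFractionRing.injective (Y.presheaf.stalk y) Y.functionField

variable {X Y : Scheme.{u}} [IsIntegral X] [IsIntegral Y] (f : X ⟶ Y) [LocallyOfFiniteType f]

/-- At a quasi-finite point over a normal point, a birational morphism is a stalk isomorphism. -/
theorem isIso_stalkMap_of_quasiFiniteAt (hgen : f (genericPoint X) = genericPoint Y)
    (hbir : IsIso (f.stalkMap (genericPoint X))) (x : X) (hq : f.QuasiFiniteAt x)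
    (hN : IsIntegrallyClosed (Y.presheaf.stalk (f x))) : IsIso (f.stalkMap x) := by
  have hηx : genericPoint X ⤳ x := (genericPoint_spec X).specializes trivial
  have hηy : f (genericPoint X) ⤳ f x := f.base.hom.map_specializes hηx
  have hsm : Function.Bijective (f.stalkMap (genericPoint X)) :=
    ConcreteCategory.bijective_of_isIso _
  have hcomm : ∀ o, f.stalkMap (genericPoint X) (Y.presheaf.stalkSpecializes hηy o) =
      X.presheaf.stalkSpecializes hηx (f.stalkMap x o) :=
    fun o => Scheme.Hom.stalkSpecializes_stalkMap_apply f _ _ hηx o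
  have hiX := stalkSpecializes_injective rfl hηx
  have hinj : Function.Injective (f.stalkMap x) := fun o o' h =>
    stalkSpecializes_injective hgen hηy (hsm.1 (by rw [hcomm, hcomm, h]))
  obtain ⟨_, ⟨(V : Y.Opens), hV, rfl⟩, (hxV : f x ∈ V), -⟩ :=
    Y.isBasis_affineOpens.exists_subset_of_mem_open (Set.mem_univ (f x)) isOpen_univ
  obtain ⟨_, ⟨(W : X.Opens), hW, rfl⟩, (hxW : x ∈ W), (hWV : W ≤ f ⁻¹ᵁ V)⟩ :=
    X.isBasis_affineOpens.exists_subset_of_mem_open (show x ∈ f ⁻¹ᵁ V from hxV) (f ⁻¹ᵁ V).2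
  let φ := f.appLE V W hWV
  have hφ : φ.hom.FiniteType := f.finiteType_appLE hV hW hWV
  have hgerm : ∀ a, f.stalkMap x (Y.presheaf.germ V (f x) hxV a) =
      X.presheaf.germ W x hxW (φ a) := fun a => by
    rw [Scheme.Hom.germ_stalkMap_apply f V x hxV, show φ a = X.presheaf.map (homOfLE hWV).op
      (f.app V a) from rfl]
    exact (X.presheaf.germ_res_apply (homOfLE hWV) x hxW _).symm
  algebraize [φ.hom]
  have : Algebra.QuasiFiniteAt Γ(Y, V) (hW.primeIdealOf ⟨x, hxW⟩).asIdeal :=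
    hq.quasiFiniteAt hW hV hWV hxW
  obtain ⟨r, hr, hrint, H⟩ := Algebra.zariskisMainProperty_iff.mp
    (Algebra.ZariskisMainProperty.of_finiteType (R := Γ(Y, V)) (hW.primeIdealOf ⟨x, hxW⟩).asIdeal)
  have hint : ∀ b, IsIntegral Γ(Y, V) b → ∃ o, f.stalkMap x o = X.presheaf.germ W x hxW b := by
    rintro b ⟨p, hp, hpb⟩
    obtain ⟨k, hk⟩ := hsm.2 (X.presheaf.stalkSpecializes hηx (X.presheaf.germ W x hxW b))
    obtain ⟨o, ho⟩ := exists_specializes_eq hN hgen hηy k ⟨p.map (Y.presheaf.germ V (f x) hxV).hom,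
      hp.map _, hsm.1 (by
        rw [map_zero, Polynomial.eval₂_map, Polynomial.hom_eval₂, hk,
          show ((f.stalkMap (genericPoint X)).hom.comp
              ((Y.presheaf.stalkSpecializes hηy).hom.comp (Y.presheaf.germ V (f x) hxV).hom)) =
            ((X.presheaf.stalkSpecializes hηx).hom.comp
              ((X.presheaf.germ W x hxW).hom.comp φ.hom)) from RingHom.ext fun a => by
            change f.stalkMap (genericPoint X) (Y.presheaf.stalkSpecializes hηy
              (Y.presheaf.germ V (f x) hxV a)) =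
              X.presheaf.stalkSpecializes hηx (X.presheaf.germ W x hxW (φ a))
            rw [hcomm, hgerm]]
        change Polynomial.eval₂ _ ((X.presheaf.stalkSpecializes hηx).hom.comp
          (X.presheaf.germ W x hxW).hom b) p = 0
        rw [← RingHom.comp_assoc, ← Polynomial.hom_eval₂]
        exact (congrArg _ hpb).trans (map_zero _))⟩
    exact ⟨o, hiX (by rw [← hcomm, ho, hk])⟩
  have hu : IsUnit (X.presheaf.germ W x hxW r) := by
    let := X.presheaf.algebra_section_stalk ⟨x, hxW⟩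
    have := hW.isLocalization_stalk ⟨x, hxW⟩
    exact IsLocalization.map_units (X.presheaf.stalk x)
      (⟨r, hr⟩ : (hW.primeIdealOf ⟨x, hxW⟩).asIdeal.primeCompl)
  obtain ⟨r', hr'⟩ := hint r hrint
  have hu' : IsUnit r' := IsUnit.of_map (f.stalkMap x).hom r' (by rw [hr']; exact hu)
  have hsurjB : ∀ b, ∃ o, f.stalkMap x o = X.presheaf.germ W x hxW b := fun b => by
    obtain ⟨m, hm⟩ := H b
    obtain ⟨o, ho⟩ := hint _ hm
    refine ⟨((hu'.pow m).unit⁻¹ : _) * o, (hu.pow m).mul_left_cancel ?_⟩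
    rw [map_mul, ← mul_assoc, ← hr', ← map_pow, ← map_mul, IsUnit.mul_val_inv, map_one, one_mul,
      ho, map_mul, map_pow, map_pow, hr']
  refine (ConcreteCategory.isIso_iff_bijective _).mpr ⟨hinj, fun z => ?_⟩
  let := X.presheaf.algebra_section_stalk ⟨x, hxW⟩
  have := hW.isLocalization_stalk ⟨x, hxW⟩
  obtain ⟨b, s, rfl⟩ := IsLocalization.exists_mk'_eq
    (hW.primeIdealOf ⟨x, hxW⟩).asIdeal.primeCompl z
  obtain ⟨o₁, ho₁⟩ := hsurjB b
  obtain ⟨o₂, ho₂⟩ := hsurjB s
  have hs : IsUnit (X.presheaf.germ W x hxW s.1) :=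
    IsLocalization.map_units (X.presheaf.stalk x) s
  have hs' : IsUnit o₂ := IsUnit.of_map (f.stalkMap x).hom o₂ (by rw [ho₂]; exact hs)
  refine ⟨o₁ * (hs'.unit⁻¹ : _), (IsLocalization.eq_mk'_iff_mul_eq).mpr ?_⟩
  change _ * X.presheaf.germ W x hxW s.1 = X.presheaf.germ W x hxW b
  rw [← ho₂, ← map_mul, mul_assoc, IsUnit.val_inv_mul, mul_one, ho₁]

/-- A separated birational morphism is an isomorphism near a point whose stalk map is bijective. -/
theorem exists_isIso_morphismRestrict_of_isIso_stalkMap [IsSeparated f] (x : X)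
    [IsIso (f.stalkMap x)] : ∃ U : Y.Opens, f x ∈ U ∧ IsIso (f ∣_ U) := by
  obtain ⟨_, ⟨(V : Y.Opens), hV, rfl⟩, (hxV : f x ∈ V), -⟩ :=
    Y.isBasis_affineOpens.exists_subset_of_mem_open (Set.mem_univ (f x)) isOpen_univ
  obtain ⟨_, ⟨(W : X.Opens), hW, rfl⟩, (hxW : x ∈ W), (hWV : W ≤ f ⁻¹ᵁ V)⟩ :=
    X.isBasis_affineOpens.exists_subset_of_mem_open (show x ∈ f ⁻¹ᵁ V from hxV) (f ⁻¹ᵁ V).2
  let φ := f.appLE V W hWV
  have hφ : φ.hom.FiniteType := f.finiteType_appLE hV hW hWV
  algebraize [φ.hom]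
  obtain ⟨gens, hgens⟩ := Algebra.FiniteType.out (R := Γ(Y, V)) (A := Γ(X, W))
  let ψ : Γ(X, W) ⟶ Y.presheaf.stalk (f x) := X.presheaf.germ W x hxW ≫ inv (f.stalkMap x)
  have hψ : φ ≫ ψ = Y.presheaf.germ V (f x) hxV := by
    simp only [φ, ψ, Scheme.Hom.appLE, Category.assoc, TopCat.Presheaf.germ_res_assoc]
    rw [← Category.assoc, IsIso.comp_inv_eq]
    exact (Scheme.Hom.germ_stalkMap f V x hxV).symm
  choose T hT t ht using fun g : gens => Y.presheaf.exists_germ_eq (ψ g.1)
  obtain ⟨_, ⟨(U : Y.Opens), hU, rfl⟩, hxU, hUle⟩ :=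
    Y.isBasis_affineOpens.exists_subset_of_mem_open
      (show f x ∈ ((V ⊓ ⨅ g : gens, T g : Y.Opens) : Set Y) from
        ⟨hxV, by rw [SetLike.mem_coe, ← SetLike.mem_coe, TopologicalSpace.Opens.coe_iInf]; exact Set.mem_iInter.mpr hT⟩) (V ⊓ ⨅ g : gens, T g : Y.Opens).2
  have hUV : U ≤ V := fun z hz => (hUle hz).1
  have hUT (g : gens) : U ≤ T g := fun z hz => (iInf_le T g : _) (hUle hz).2
  have hgi := germ_injective_of_isIntegral Y (f x) hxU
  let S : Subalgebra Γ(Y, V) Γ(X, W) :=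
    { carrier := {b | ∃ a, Y.presheaf.germ U (f x) hxU a = ψ b}
      mul_mem' := by rintro b b' ⟨a, ha⟩ ⟨a', ha'⟩; exact ⟨a * a', by rw [map_mul, map_mul, ha, ha']⟩
      one_mem' := ⟨1, by rw [map_one, map_one]⟩
      add_mem' := by rintro b b' ⟨a, ha⟩ ⟨a', ha'⟩; exact ⟨a + a', by rw [map_add, map_add, ha, ha']⟩
      zero_mem' := ⟨0, by rw [map_zero, map_zero]⟩
      algebraMap_mem' := fun a => ⟨Y.presheaf.map (homOfLE hUV).op a, by
        rw [Y.presheaf.germ_res_apply]
        exact (ConcreteCategory.congr_hom hψ a).symm⟩ }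
  have hS : ∀ b, ∃ a, Y.presheaf.germ U (f x) hxU a = ψ b := fun b => by
    have hle : Algebra.adjoin Γ(Y, V) (gens : Set Γ(X, W)) ≤ S := Algebra.adjoin_le fun g hg =>
      ⟨Y.presheaf.map (homOfLE (hUT ⟨g, hg⟩)).op (t ⟨g, hg⟩), by
        rw [Y.presheaf.germ_res_apply]
        exact ht ⟨g, hg⟩⟩
    exact hle (hgens.ge (Algebra.mem_top : b ∈ _))
  choose a ha using hS
  let ψU : Γ(X, W) ⟶ Γ(Y, U) := CommRingCat.ofHom
    { toFun := a
      map_one' := hgi (by rw [ha, map_one, map_one])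
      map_mul' := fun b b' => hgi (by rw [ha, map_mul, map_mul, ha, ha])
      map_zero' := hgi (by rw [ha, map_zero, map_zero])
      map_add' := fun b b' => hgi (by rw [ha, map_add, map_add, ha, ha]) }
  have hψU : φ ≫ ψU = Y.presheaf.map (homOfLE hUV).op := by
    ext c
    refine hgi ((ha (φ c)).trans ?_)
    rw [Y.presheaf.germ_res_apply]
    exact ConcreteCategory.congr_hom hψ c
  have hψinj : Function.Injective ψU := fun b b' h => by
    have h' : ψ b = ψ b' := by rw [← ha, ← ha]; exact congrArg _ h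
    have := (ConcreteCategory.bijective_of_isIso (inv (f.stalkMap x))).1
    exact germ_injective_of_isIntegral X x hxW (this h')
  let s' : U.toScheme ⟶ X := hU.isoSpec.hom ≫ Spec.map ψU ≫ hW.fromSpec
  have hs' : s' ≫ f = U.ι := by
    rw [Category.assoc, Category.assoc, ← IsAffineOpen.SpecMap_appLE_fromSpec f hV hW hWV,
      ← Spec.map_comp_assoc, hψU, hV.map_fromSpec hU, IsAffineOpen.isoSpec_hom_fromSpec]
  have : Nonempty W.toScheme := ⟨⟨x, hxW⟩⟩
  have : IsDominant (Spec.map ψU) := ⟨(PrimeSpectrum.denseRange_comap_iff_ker_le_nilRadical ψU.hom).mpr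
    (by rw [(RingHom.injective_iff_ker_eq_bot _).mp hψinj]; exact bot_le)⟩
  have : Nonempty (Spec Γ(X, W)) := ⟨hW.isoSpec.hom ⟨x, hxW⟩⟩
  have : IsDominant hW.fromSpec :=
    ⟨hW.fromSpec.isOpenEmbedding.isOpen_range.dense (Set.range_nonempty _)⟩
  have : IsDominant s' := inferInstanceAs (IsDominant (_ ≫ _ ≫ _))
  let σ : U.toScheme ⟶ (f ⁻¹ᵁ U).toScheme :=
    IsOpenImmersion.lift (f ⁻¹ᵁ U).ι s' (by
      rw [Scheme.Opens.range_ι]
      rintro _ ⟨z, rfl⟩
      show f (s' z) ∈ U
      rw [← Scheme.Hom.comp_apply, hs']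
      exact z.2)
  have hσι : σ ≫ (f ⁻¹ᵁ U).ι = s' := IsOpenImmersion.lift_fac _ _ _
  have hσ : σ ≫ (f ∣_ U) = 𝟙 _ := by
    rw [← cancel_mono U.ι, Category.assoc, morphismRestrict_ι, reassoc_of% hσι, hs',
      Category.id_comp]
  have : IsClosedImmersion (σ ≫ (f ∣_ U)) := by rw [hσ]; infer_instance
  have : IsClosedImmersion σ := IsClosedImmersion.of_comp σ (f ∣_ U)
  have : IsDominant σ := ⟨by
    have hd : DenseRange s' := s'.denseRange
    rw [← hσι] at hd
    rw [denseRange_iff_closure_range, ← Set.preimage_image_eq (Set.range σ)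
      (f ⁻¹ᵁ U).ι.isOpenEmbedding.injective,
      ← (f ⁻¹ᵁ U).ι.isOpenEmbedding.isOpenMap.preimage_closure_eq_closure_preimage
      (f ⁻¹ᵁ U).ι.continuous]
    have : closure ((f ⁻¹ᵁ U).ι '' Set.range σ) = Set.univ := by
      rw [← Set.range_comp]
      exact hd.closure_range
    rw [this, Set.preimage_univ]⟩
  have : Surjective σ :=
    surjective_of_isDominant_of_isClosed_range _ σ.isClosedEmbedding.isClosed_range
  have : IsIso σ := isIso_of_isClosedImmersion_of_surjective σ
  refine ⟨U, hxU, ?_⟩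
  rw [IsIso.eq_inv_of_hom_inv_id hσ |>.symm.symm]
  infer_instance

end Groth.Agent.LimTop61
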