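import Groth.Agent.LimTop61.Points
import Mathlib.CategoryTheory.CofilteredSystem

set_option autoImplicit false
set_option backward.isDefEq.respectTransparency false
set_option backward.defeqAttrib.useBackward true
universe u

open CategoryTheory CategoryTheory.Limits AlgebraicGeometry TopologicalSpace

namespace Groth.Agent.LimTop61

/-- A point without proper generizations. -/
def IsMaxPt {X : Type u} [TopologicalSpace X] (s : X) : Prop := ∀ z : X, z ⤳ s → z = s

/-- Every point of a scheme has a maximal generization. -/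
lemma exists_isMaxPt_specializes {X : Scheme.{u}} (s : X) : ∃ η : X, IsMaxPt η ∧ η ⤳ s := by
  have hi : IsIrreducible (irreducibleComponent s) := isIrreducible_irreducibleComponent
  have hc : IsClosed (irreducibleComponent s) := isClosed_irreducibleComponent
  have hη := hi.isGenericPoint_genericPoint hc
  refine ⟨hi.genericPoint, fun z hz => ?_, hη.specializes mem_irreducibleComponent⟩
  have hsub : irreducibleComponent s ⊆ closure {z} := by
    rw [← hη.def]; exact hz.closure_subset
  have hmax := irreducibleComponent_mem_irreducibleComponents s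
  have heq : closure {z} = irreducibleComponent s :=
    Set.Subset.antisymm (hmax.le_of_ge isIrreducible_singleton.closure hsub) hsub
  exact IsGenericPoint.eq heq hη

/-- With finitely many maximal points, a dense open contains all of them. -/
lemma mem_of_dense_of_isMaxPt {X : Scheme.{u}} (hfin : {s : X | IsMaxPt s}.Finite)
    {V : X.Opens} (hV : Dense (V : Set X)) {η : X} (hη : IsMaxPt η) : η ∈ V := by
  let C : Set X := ⋃ η' ∈ {s : X | IsMaxPt s} \ {η}, closure {η'}
  have hC : IsClosed C := hfin.sdiff.isClosed_biUnion fun _ _ => isClosed_closure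
  have hηC : η ∈ Cᶜ := fun h => by
    obtain ⟨η', hη', h⟩ := Set.mem_iUnion₂.mp h
    exact hη'.2 (hη η' (specializes_iff_mem_closure.mpr h))
  obtain ⟨v, hvC, hvV⟩ := hV.inter_open_nonempty _ hC.isOpen_compl ⟨η, hηC⟩
  obtain ⟨η', hη', hv⟩ := exists_isMaxPt_specializes v
  obtain rfl : η' = η := by
    by_contra hne
    exact hvC (Set.mem_biUnion ⟨hη', hne⟩ hv.mem_closure)
  exact hv.mem_open V.2 hvV

/-- An open containing all maximal points is dense. -/
lemma dense_of_isMaxPt_mem {X : Scheme.{u}} {V : X.Opens} (h : ∀ η : X, IsMaxPt η → η ∈ V) :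
    Dense (V : Set X) := dense_iff_inter_open.mpr fun U hU ⟨x, hx⟩ => by
  obtain ⟨η, hη, hηx⟩ := exists_isMaxPt_specializes x
  exact ⟨η, hηx.mem_open hU hx, h η hη⟩

variable {I : Type u} [SmallCategory I] [IsCofiltered I] (D : I ⥤ Scheme.{u}) (c : Cone D)
  (hc : IsLimit c) [∀ (i j : I) (f : i ⟶ j), IsAffineHom (D.map f)]

include hc

/-- Specializations in the limit are detected at the stages. -/
lemma specializes_of_forall_π {s t : c.pt} (h : ∀ i, c.π.app i s ⤳ c.π.app i t) : s ⤳ t := by
  rw [specializes_iff_forall_open]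
  intro U hU ht
  obtain ⟨_, ⟨_, ⟨i, V, -, rfl⟩, rfl⟩, htV, hVU⟩ :=
    (isBasis_preimage_isAffineOpen D c hc).exists_subset_of_mem_open ht hU
  exact hVU ((h i).mem_open V.2 htV)

/-- Maximal points of the limit are exactly the points with maximal images. -/
theorem isMaxPt_iff_forall (hfin : ∀ i : I, {s : D.obj i | IsMaxPt s}.Finite)
    (hsys : ∀ (i j : I) (g : i ⟶ j) (s : D.obj i), IsMaxPt s → IsMaxPt (D.map g s)) (s : c.pt) :
    IsMaxPt s ↔ ∀ i, IsMaxPt (c.π.app i s) := by
  refine ⟨fun hs i => ?_, fun h z hz => eq_of_forall_π_apply_eq D c hc fun i =>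
    h i _ (hz.map (c.π.app i).continuous)⟩
  let F : I ⥤ Type u :=
    { obj := fun j => {z : D.obj j // IsMaxPt z ∧ z ⤳ c.π.app j s}
      map := fun {j k} φ => TypeCat.ofHom fun z => ⟨D.map φ z.1, hsys _ _ φ _ z.2.1, by
        rw [← π_apply D c φ]; exact z.2.2.map (D.map φ).continuous⟩
      map_id := fun j => by ext z; simp
      map_comp := fun φ ψ => by ext z; simp }
  have (j : I) : Finite (F.obj j) :=
    ((hfin j).subset fun z (hz : IsMaxPt z ∧ z ⤳ c.π.app j s) => hz.1).to_subtype
  have (j : I) : Nonempty (F.obj j) :=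
    (exists_isMaxPt_specializes (c.π.app j s)).elim fun z hz => ⟨⟨z, hz⟩⟩
  obtain ⟨x, hx⟩ := nonempty_sections_of_finite_cofiltered_system F
  obtain ⟨z, hz⟩ := exists_π_apply_eq D c hc (fun j => (x j).1) fun φ => congrArg Subtype.val (hx φ)
  have hzs : z = s := hs z <| specializes_of_forall_π D c hc fun j => by
    rw [hz j]; exact (x j).2.2
  rw [← hzs, hz i]
  exact (x i).2.1

/-- A dense open preimage in a limit with finitely many maximal points is dense at some stage. -/
theorem exists_dense_stage (hfin : ∀ i : I, {s : D.obj i | IsMaxPt s}.Finite)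
    (hsys : ∀ (i j : I) (g : i ⟶ j) (s : D.obj i), IsMaxPt s → IsMaxPt (D.map g s))
    (i₀ : I) (V₀ : (D.obj i₀).Opens)
    (hV : Dense ((c.π.app i₀ ⁻¹ᵁ V₀ : c.pt.Opens) : Set c.pt))
    (hs : {s : c.pt | IsMaxPt s}.Finite) :
    ∃ (i : I) (g : i ⟶ i₀), Dense ((D.map g ⁻¹ᵁ V₀ : (D.obj i).Opens) : Set (D.obj i)) := by
  by_contra! H
  have H' : ∀ j : Over i₀, ∃ z : D.obj j.left, IsMaxPt z ∧ D.map j.hom z ∉ V₀ := fun j => by
    by_contra! h
    exact H j.left j.hom (dense_of_isMaxPt_mem h)
  let F : Over i₀ ⥤ Type u :=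
    { obj := fun j => {z : D.obj j.left // IsMaxPt z ∧ D.map j.hom z ∉ V₀}
      map := fun {j k} φ => TypeCat.ofHom fun z => ⟨D.map φ.left z.1, hsys _ _ _ _ z.2.1, by
        rw [← Scheme.Hom.comp_apply, ← D.map_comp, Over.w φ]; exact z.2.2⟩
      map_id := fun j => by ext z; simp
      map_comp := fun φ ψ => by ext z; simp }
  have (j : Over i₀) : Finite (F.obj j) :=
    ((hfin j.left).subset fun z (hz : IsMaxPt z ∧ D.map j.hom z ∉ V₀) => hz.1).to_subtype
  have (j : Over i₀) : Nonempty (F.obj j) := (H' j).elim fun z hz => ⟨⟨z, hz⟩⟩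
  obtain ⟨x, hx⟩ := nonempty_sections_of_finite_cofiltered_system F
  obtain ⟨z, hz⟩ := exists_π_apply_eq (Over.forget i₀ ⋙ D) _
    ((Functor.Initial.isLimitWhiskerEquiv (Over.forget i₀) c).symm hc)
    (fun j => (x j).1) (fun φ => congrArg Subtype.val (hx φ))
  have hz' : ∀ j : Over i₀, c.π.app j.left z = (x j).1 := hz
  have hmax : IsMaxPt z := (isMaxPt_iff_forall D c hc hfin hsys z).mpr fun i => by
    obtain ⟨k, f, g⟩ : ∃ k, Nonempty (k ⟶ i) ∧ Nonempty (k ⟶ i₀) :=
      ⟨IsCofiltered.min i i₀, ⟨IsCofiltered.minToLeft _ _⟩, ⟨IsCofiltered.minToRight _ _⟩⟩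
    rw [← π_apply D c f.some]
    refine hsys _ _ _ _ ?_
    have := hz' (Over.mk g.some)
    simp only [Over.mk_left] at this
    rw [this]
    exact (x _).2.1
  refine (x (Over.mk (𝟙 i₀))).2.2 ?_
  rw [← hz']
  change D.map (𝟙 i₀) (c.π.app i₀ z) ∈ V₀
  rw [π_apply D c]
  exact mem_of_dense_of_isMaxPt hs hV hmax

end Groth.Agent.LimTop61
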