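import Groth.Agent.LimTop61.Points
import Mathlib.AlgebraicGeometry.Morphisms.Flat
import Mathlib.RingTheory.Flat.EquationalCriterion

set_option autoImplicit false
set_option backward.isDefEq.respectTransparency false
set_option backward.defeqAttrib.useBackward true
universe u

open CategoryTheory CategoryTheory.Limits AlgebraicGeometry

namespace Groth.Agent.LimTop61

lemma germ_appLE_apply {X Y : Scheme.{u}} (f : X ⟶ Y) {U : Y.Opens} {V : X.Opens}
    (e : V ≤ f ⁻¹ᵁ U) (x : X) (hx : x ∈ V) (σ : Γ(Y, U)) :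
    X.presheaf.germ V x hx (f.appLE U V e σ) =
      X.presheaf.germ (f ⁻¹ᵁ U) x (e hx) (f.app U σ) := by
  rw [Scheme.Hom.appLE, ConcreteCategory.comp_apply, TopCat.Presheaf.germ_res_apply]

lemma stalkMap_germ_appLE {X Y : Scheme.{u}} (f : X ⟶ Y) {U : Y.Opens} {V : X.Opens}
    (e : V ≤ f ⁻¹ᵁ U) (x : X) (hx : x ∈ V) (σ : Γ(Y, U)) :
    f.stalkMap x (Y.presheaf.germ U (f x) (e hx) σ) =
      X.presheaf.germ V x hx (f.appLE U V e σ) := by
  rw [germ_appLE_apply, Scheme.Hom.germ_stalkMap_apply]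

lemma germ_app_congr {X Y : Scheme.{u}} {f g : X ⟶ Y} (h : f = g) (U : Y.Opens) (x : X)
    (hf : x ∈ f ⁻¹ᵁ U) (hg : x ∈ g ⁻¹ᵁ U) (σ : Γ(Y, U)) :
    X.presheaf.germ (f ⁻¹ᵁ U) x hf (f.app U σ) = X.presheaf.germ (g ⁻¹ᵁ U) x hg (g.app U σ) := by
  subst h; rfl

lemma appLE_congr_hom {X Y : Scheme.{u}} {f g : X ⟶ Y} (h : f = g) (U : Y.Opens) (V : X.Opens)
    (e : V ≤ f ⁻¹ᵁ U) (e' : V ≤ g ⁻¹ᵁ U) : f.appLE U V e = g.appLE U V e' := by
  subst h; rfl

variable {I : Type u} [SmallCategory I] (D : I ⥤ Scheme.{u}) (c : Cone D)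

/-- The transition map between the stalks at the images of a point of the limit. -/
noncomputable def stalkTrans {i j : I} (φ : j ⟶ i) (s : c.pt) :
    (D.obj i).presheaf.stalk (c.π.app i s) ⟶ (D.obj j).presheaf.stalk (c.π.app j s) :=
  (D.obj i).presheaf.stalkSpecializes (specializes_of_eq (π_apply D c φ s)) ≫
    (D.map φ).stalkMap (c.π.app j s)

lemma stalkTrans_germ {i j : I} (φ : j ⟶ i) (s : c.pt) (U : (D.obj i).Opens)
    (hU : c.π.app i s ∈ U) (σ : Γ(D.obj i, U)) :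
    stalkTrans D c φ s ((D.obj i).presheaf.germ U _ hU σ) =
      (D.obj j).presheaf.germ (D.map φ ⁻¹ᵁ U) (c.π.app j s)
        (show D.map φ (c.π.app j s) ∈ U by rw [π_apply D c φ s]; exact hU)
        ((D.map φ).app U σ) := by
  rw [stalkTrans, ConcreteCategory.comp_apply, TopCat.Presheaf.germ_stalkSpecializes_apply]
  exact Scheme.Hom.germ_stalkMap_apply _ _ _ _ _

lemma π_stalkMap_stalkTrans {i j : I} (φ : j ⟶ i) (s : c.pt)
    (x : (D.obj i).presheaf.stalk (c.π.app i s)) :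
    (c.π.app j).stalkMap s (stalkTrans D c φ s x) = (c.π.app i).stalkMap s x := by
  obtain ⟨U, hU, σ, rfl⟩ := (D.obj i).presheaf.exists_germ_eq x
  rw [stalkTrans_germ, Scheme.Hom.germ_stalkMap_apply, Scheme.Hom.germ_stalkMap_apply]
  exact germ_app_congr (c.w φ) U s (by show D.map φ (c.π.app j s) ∈ U; rw [π_apply]; exact hU)
    hU σ

variable [IsCofiltered I] (hc : IsLimit c)
  [∀ (i j : I) (f : i ⟶ j), IsAffineHom (D.map f)]

include hc

/-- Every germ on the limit comes from a germ at some stage. -/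
lemma exists_stalkMap_π_eq (s : c.pt) (g : c.pt.presheaf.stalk s) :
    ∃ (k : I) (h : (D.obj k).presheaf.stalk (c.π.app k s)), (c.π.app k).stalkMap s h = g := by
  obtain ⟨W, hW, τ, rfl⟩ := c.pt.presheaf.exists_germ_eq g
  obtain ⟨_, ⟨i, U, hU, rfl⟩, hsU, hUW⟩ :=
    TopologicalSpace.Opens.isBasis_iff_nbhd.mp (isBasis_preimage_isAffineOpen D c hc) hW
  have (j : Over i) : IsAffine ((opensDiagram D i U).obj j) := hU.preimage (D.map _)
  obtain ⟨j, t, hj⟩ := exists_appTop_π_eq_of_isAffine_of_isLimit _ _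
    (isLimitOpensCone D c hc i U)
    (c.pt.presheaf.map (homOfLE (show (c.π.app i ⁻¹ᵁ U).ι ''ᵁ ⊤ ≤ W by simpa using hUW)).op τ)
  have hmem : c.π.app j.left s ∈ (D.map j.hom ⁻¹ᵁ U).ι ''ᵁ ⊤ := by
    rw [Scheme.Opens.ι_image_top]
    show D.map j.hom (c.π.app j.left s) ∈ U
    rw [π_apply]
    exact hsU
  have hs : s ∈ (c.π.app i ⁻¹ᵁ U).ι ''ᵁ ⊤ := by rw [Scheme.Opens.ι_image_top]; exact hsU
  refine ⟨j.left, (D.obj j.left).presheaf.germ _ _ hmem t, ?_⟩
  have e : (c.π.app i ⁻¹ᵁ U).ι ''ᵁ ⊤ ≤ c.π.app j.left ⁻¹ᵁ (D.map j.hom ⁻¹ᵁ U).ι ''ᵁ ⊤ := by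
    simp [← Scheme.Hom.comp_preimage]
  rw [stalkMap_germ_appLE (c.π.app j.left) e s hs]
  have := congr(c.pt.presheaf.germ _ s hs $hj)
  rw [TopCat.Presheaf.germ_res_apply] at this
  refine Eq.trans ?_ this
  congr 2
  simp [Scheme.Hom.app_eq_appLE, Scheme.Hom.resLE_appLE]

/-- A germ at a stage vanishing on the limit vanishes at some later stage. -/
lemma exists_stalkTrans_eq_zero {i : I} (s : c.pt)
    (x : (D.obj i).presheaf.stalk (c.π.app i s)) (hx : (c.π.app i).stalkMap s x = 0) :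
    ∃ (j : I) (φ : j ⟶ i), stalkTrans D c φ s x = 0 := by
  obtain ⟨U, hU, σ, rfl⟩ := (D.obj i).presheaf.exists_germ_eq x
  rw [Scheme.Hom.germ_stalkMap_apply, ← map_zero (c.pt.presheaf.germ (c.π.app i ⁻¹ᵁ U) s hU).hom]
    at hx
  obtain ⟨W, hW, iW, iW', hWe⟩ := c.pt.presheaf.germ_eq s hU hU _ _ hx
  obtain ⟨_, ⟨k, V, hV, rfl⟩, hsV, hVW⟩ :=
    TopologicalSpace.Opens.isBasis_iff_nbhd.mp (isBasis_preimage_isAffineOpen D c hc) hW
  obtain ⟨m, a, b, -⟩ := IsCofilteredOrEmpty.cone_objs i k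
  have hcpt : IsCompact ((D.map b ⁻¹ᵁ V : (D.obj m).Opens) : Set (D.obj m)) :=
    (hV.preimage _).isCompact
  obtain ⟨n, ψ, hn⟩ := exists_map_preimage_le_map_preimage D c hc hcpt (V := D.map a ⁻¹ᵁ U) (by
    rw [← Scheme.Hom.comp_preimage, ← Scheme.Hom.comp_preimage, c.w, c.w]
    exact hVW.trans iW.le)
  have hle : D.map (ψ ≫ b) ⁻¹ᵁ V ≤ D.map (ψ ≫ a) ⁻¹ᵁ U := by
    rw [D.map_comp, D.map_comp]; exact hn
  have e₁ : c.π.app i ⁻¹ᵁ U = c.π.app n ⁻¹ᵁ (D.map (ψ ≫ a) ⁻¹ᵁ U) := by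
    rw [← Scheme.Hom.comp_preimage, c.w]
  have e₂ : c.π.app k ⁻¹ᵁ V = c.π.app n ⁻¹ᵁ (D.map (ψ ≫ b) ⁻¹ᵁ V) := by
    rw [← Scheme.Hom.comp_preimage, c.w]
  have hle' : c.π.app n ⁻¹ᵁ (D.map (ψ ≫ b) ⁻¹ᵁ V) ≤ W := e₂ ▸ hVW
  have hz : (c.π.app n).app (D.map (ψ ≫ b) ⁻¹ᵁ V) ((D.map (ψ ≫ a)).appLE U _ hle σ) = 0 := by
    rw [← ConcreteCategory.comp_apply, Scheme.Hom.app_eq_appLE, Scheme.Hom.appLE_comp_appLE]
    rw [appLE_congr_hom (c.w (ψ ≫ a)) U _ _ (hle'.trans iW.le)]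
    have := congr(c.pt.presheaf.map (homOfLE hle').op $hWe)
    rw [map_zero (c.pt.presheaf.map iW'.op).hom, map_zero] at this
    refine Eq.trans ?_ this
    show _ = ((c.π.app i).app U ≫ c.pt.presheaf.map iW.op ≫
      c.pt.presheaf.map (homOfLE hle').op) σ
    rw [← Functor.map_comp]
    rfl
  obtain ⟨p, χ, hp⟩ := exists_app_map_eq_zero_of_isLimit D c hc (hV.preimage _).isCompact _ hz
  refine ⟨p, χ ≫ ψ ≫ a, ?_⟩
  have hpmem : c.π.app p s ∈ D.map χ ⁻¹ᵁ (D.map (ψ ≫ b) ⁻¹ᵁ V) := by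
    show D.map (ψ ≫ b) (D.map χ (c.π.app p s)) ∈ V
    rw [π_apply, π_apply]
    exact hsV
  rw [stalkTrans_germ]
  have hle'' : D.map χ ⁻¹ᵁ (D.map (ψ ≫ b) ⁻¹ᵁ V) ≤ D.map (χ ≫ ψ ≫ a) ⁻¹ᵁ U := by
    rw [D.map_comp χ (ψ ≫ a), Scheme.Hom.comp_preimage]
    exact Scheme.Hom.preimage_mono _ hle
  rw [← TopCat.Presheaf.germ_res_apply _ (homOfLE hle'') _ hpmem]
  convert map_zero ((D.obj p).presheaf.germ _ (c.π.app p s) hpmem).hom
  rw [← hp, ← ConcreteCategory.comp_apply, ← ConcreteCategory.comp_apply,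
    Scheme.Hom.app_eq_appLE, Scheme.Hom.app_eq_appLE, Scheme.Hom.appLE_map,
    Scheme.Hom.appLE_comp_appLE]
  congr 3
  simp

/-- Finitely many germs on the limit come from germs at a common stage over a given index. -/
lemma exists_stalkMap_π_eq_fin (s : c.pt) (i : I) {n : ℕ} (g : Fin n → c.pt.presheaf.stalk s) :
    ∃ (k : I) (_ : k ⟶ i) (h : Fin n → (D.obj k).presheaf.stalk (c.π.app k s)),
      ∀ l, (c.π.app k).stalkMap s (h l) = g l := by
  induction n with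
  | zero => exact ⟨i, 𝟙 i, Fin.elim0, fun l => l.elim0⟩
  | succ n ih =>
    obtain ⟨k, φ, h, hh⟩ := ih (g ∘ Fin.castSucc)
    obtain ⟨k', h', hh'⟩ := exists_stalkMap_π_eq D c hc s (g (Fin.last n))
    obtain ⟨m, a, b, -⟩ := IsCofilteredOrEmpty.cone_objs k k'
    refine ⟨m, a ≫ φ, Fin.lastCases (stalkTrans D c b s h') (fun l => stalkTrans D c a s (h l)),
      fun l => ?_⟩
    induction l using Fin.lastCases with
    | last => simp only [Fin.lastCases_last]; rw [π_stalkMap_stalkTrans, hh']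
    | cast l =>
      simp only [Fin.lastCases_castSucc]
      rw [π_stalkMap_stalkTrans, hh]
      rfl

omit [∀ (i j : I) (f : i ⟶ j), IsAffineHom (D.map f)] [IsCofiltered I] hc in
lemma flat_stalkTrans {i j : I} (φ : j ⟶ i) [Flat (D.map φ)] (s : c.pt) :
    (stalkTrans D c φ s).hom.Flat := by
  let e := (D.obj i).presheaf.stalkCongr (Inseparable.of_eq (π_apply D c φ s).symm)
  exact RingHom.Flat.comp (RingHom.Flat.of_bijective
    (f := e.hom.hom) (ConcreteCategory.bijective_of_isIso e.hom)) (Flat.stalkMap _ _)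

omit [∀ (i j : I) (f : i ⟶ j), IsAffineHom (D.map f)] [IsCofiltered I] hc in
lemma stalkTrans_comp {i j k : I} (φ : j ⟶ i) (ψ : k ⟶ j) (s : c.pt)
    (x : (D.obj i).presheaf.stalk (c.π.app i s)) :
    stalkTrans D c ψ s (stalkTrans D c φ s x) = stalkTrans D c (ψ ≫ φ) s x := by
  obtain ⟨U, hU, σ, rfl⟩ := (D.obj i).presheaf.exists_germ_eq x
  rw [stalkTrans_germ, stalkTrans_germ, stalkTrans_germ]
  exact germ_app_congr (D.map_comp ψ φ).symm U (c.π.app k s)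
    (by show D.map φ (D.map ψ (c.π.app k s)) ∈ U; rw [π_apply, π_apply]; exact hU)
    (by show D.map (ψ ≫ φ) (c.π.app k s) ∈ U; rw [π_apply]; exact hU) σ

/-- A projection of a limit with flat transition maps is flat. -/
lemma flat_π_app (i : I) (hf : ∀ (j : I) (φ : j ⟶ i), Flat (D.map φ)) : Flat (c.π.app i) := by
  refine Flat.of_stalkMap _ fun s => ?_
  algebraize [((c.π.app i).stalkMap s).hom]
  rw [RingHom.Flat]
  refine Module.Flat.iff_forall_isTrivialRelation.mpr fun {l f x} hfx => ?_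
  obtain ⟨k, φ, h, hh⟩ := exists_stalkMap_π_eq_fin D c hc s i x
  have hz : (c.π.app k).stalkMap s (∑ t, stalkTrans D c φ s (f t) * h t) = 0 := by
    rw [map_sum]
    simp only [map_mul, π_stalkMap_stalkTrans, hh]
    exact hfx
  obtain ⟨j, ψ, hj⟩ := exists_stalkTrans_eq_zero D c hc s _ hz
  have : Flat (D.map (ψ ≫ φ)) := hf j (ψ ≫ φ)
  have hflat : (stalkTrans D c (ψ ≫ φ) s).hom.Flat := flat_stalkTrans D c _ s
  let A := (stalkTrans D c (ψ ≫ φ) s).hom.toAlgebra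
  let := A.toModule
  have hrel : ∑ t, f t • stalkTrans D c ψ s (h t) = 0 := by
    rw [map_sum] at hj
    simp only [map_mul, stalkTrans_comp] at hj
    exact hj
  obtain ⟨n, a, y, hay, ha⟩ := Module.Flat.iff_forall_isTrivialRelation.mp (show Module.Flat _ _ from hflat) hrel
  refine ⟨n, a, fun t => (c.π.app j).stalkMap s (y t), fun t => ?_, ha⟩
  have := congr((c.π.app j).stalkMap s $(hay t))
  rw [π_stalkMap_stalkTrans, hh, map_sum] at this
  rw [this]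
  refine Finset.sum_congr rfl fun t' _ => ?_
  show (c.π.app j).stalkMap s (stalkTrans D c (ψ ≫ φ) s (a t t') * y t') = _
  rw [map_mul, π_stalkMap_stalkTrans]
  rfl

end Groth.Agent.LimTop61
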