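import Groth.Prelude.Def_CInt
import Groth.Agent.LimTop61.Stalks
import Groth.Agent.LimTop61.Descent
import Mathlib.RingTheory.Flat.EquationalCriterion
import Mathlib.AlgebraicGeometry.Noetherian
import Mathlib.AlgebraicGeometry.Morphisms.Flat

/-!
Schematic density of an open along a flat limit.
-/

set_option autoImplicit false
set_option backward.isDefEq.respectTransparency false
universe u

open CategoryTheory CategoryTheory.Limits AlgebraicGeometry TopologicalSpace Opposite

namespace Groth.Agent.LimTop61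

/-- No nonzero element is killed by all members of `S`. -/
def RegFam {A : Type u} [CommRing A] (S : Set A) : Prop := ∀ s : A, (∀ r ∈ S, r * s = 0) → s = 0

lemma eq_zero_of_forall_pow {A : Type u} [CommRing A] (S : Finset A) (h : RegFam (S : Set A)) (N : ℕ)
    (x : A) (hx : ∀ r ∈ S, r ^ N * x = 0) : x = 0 := by
  classical
  suffices ∀ T : Finset A, T ⊆ S → ∀ x, (∀ r ∈ T, r ^ N * x = 0) →
      (∀ r ∈ S, r ∉ T → r * x = 0) → x = 0 from
    this S le_rfl x hx fun r hr hr' => absurd hr hr'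
  intro T
  induction T using Finset.induction_on with
  | empty => exact fun _ x _ h' => h x fun r hr => h' r hr (Finset.notMem_empty r)
  | @insert a T ha ih =>
    intro hT x hx h'
    have key : ∀ e x, (∀ r ∈ T, r ^ N * x = 0) → (∀ r ∈ S, r ∉ insert a T → r * x = 0) →
        a ^ e * x = 0 → x = 0 := by
      intro e
      induction e with
      | zero => intro x _ _ hx; simpa using hx
      | succ e he =>
        intro x hx hx' hax
        have hax' : a * x = 0 := he (a * x) (fun r hr => by rw [mul_left_comm, hx r hr, mul_zero])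
          (fun r hr hr' => by rw [mul_left_comm, hx' r hr hr', mul_zero])
          (by rw [← mul_assoc, ← pow_succ, hax])
        refine ih ((Finset.subset_insert a T).trans hT) x hx fun r hr hrT => ?_
        rcases eq_or_ne r a with rfl | hne
        · exact hax'
        · exact hx' r hr (by simp [hne, hrT])
    exact key N x (fun r hr => hx r (Finset.mem_insert_of_mem hr)) h' (hx a (Finset.mem_insert_self a T))

/-- Elements of a flat algebra killed by a finite set are spanned by such elements of the base. -/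
lemma exists_sum_of_flat {A B : Type u} [CommRing A] [CommRing B] [Algebra A B] [Module.Flat A B]
    (S : Finset A) (b : B) (hb : ∀ r ∈ S, algebraMap A B r * b = 0) :
    ∃ (k : ℕ) (a : Fin k → A) (y : Fin k → B), b = ∑ l, a l • y l ∧ ∀ r ∈ S, ∀ l, r * a l = 0 := by
  classical
  induction S using Finset.induction_on with
  | empty => exact ⟨1, fun _ => 1, fun _ => b, by simp, by simp⟩
  | @insert r S hr ih =>
    obtain ⟨k, a, y, hy, ha⟩ := ih fun x hx => hb x (Finset.mem_insert_of_mem hx)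
    have h0 : ∑ l, (r * a l) • y l = 0 := by
      simp_rw [mul_smul, ← Finset.smul_sum, ← hy, Algebra.smul_def]
      exact hb r (Finset.mem_insert_self r S)
    obtain ⟨p, c, z, hc, hc'⟩ := Module.Flat.isTrivialRelation_of_sum_smul_eq_zero h0
    refine ⟨p, fun q => ∑ l, a l * c l q, z, ?_, fun x hx q => ?_⟩
    · rw [hy]
      simp_rw [hc, Finset.smul_sum, smul_smul, Finset.sum_smul]
      exact Finset.sum_comm
    · rw [Finset.mul_sum]
      rcases Finset.mem_insert.mp hx with rfl | hx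
      · simpa only [mul_assoc] using hc' q
      · exact Finset.sum_eq_zero fun l _ => by rw [← mul_assoc, ha x hx l, zero_mul]

variable {X : Scheme.{u}}

/-- `S` cuts out `U` on `V`. -/
def CutsOut (U V : X.Opens) (S : Finset Γ(X, V)) : Prop := ∀ x ∈ V, x ∈ U ↔ ∃ r ∈ S, x ∈ X.basicOpen r

lemma exists_cutsOut [NoetherianSpace X] (U : X.Opens) {V : X.Opens} (hV : IsAffineOpen V) :
    ∃ S : Finset Γ(X, V), CutsOut U V S := by
  obtain ⟨t, ht⟩ := (NoetherianSpace.isCompact ((V ⊓ U : X.Opens) : Set X)).elim_finite_subcover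
    (fun r : {r : Γ(X, V) // X.basicOpen r ≤ U} => (X.basicOpen r.1 : Set X)) (fun r => (X.basicOpen r.1).2)
    (fun x hx => by
      obtain ⟨f, hf, hxf⟩ := hV.exists_basicOpen_le (⟨x, hx.2⟩ : U) hx.1
      exact Set.mem_iUnion.mpr ⟨⟨f, hf⟩, hxf⟩)
  classical
  refine ⟨t.image Subtype.val, fun x hx => ⟨fun hxU => ?_, ?_⟩⟩
  · obtain ⟨r, hr, hxr⟩ := Set.mem_iUnion₂.mp (ht ⟨hx, hxU⟩)
    exact ⟨r.1, Finset.mem_image_of_mem _ hr, hxr⟩
  · rintro ⟨r, hr, hxr⟩
    obtain ⟨r, -, rfl⟩ := Finset.mem_image.mp hr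
    exact r.2 hxr

lemma CutsOut.preimage {Y : Scheme.{u}} (f : Y ⟶ X) {U V : X.Opens} {S : Finset Γ(X, V)}
    [DecidableEq Γ(Y, f ⁻¹ᵁ V)] (h : CutsOut U V S) :
    CutsOut (f ⁻¹ᵁ U) (f ⁻¹ᵁ V) (S.image (f.app V)) := fun y hy => by
  refine (h (f y) hy).trans ⟨?_, ?_⟩
  · rintro ⟨r, hr, hyr⟩
    refine ⟨_, Finset.mem_image_of_mem _ hr, ?_⟩
    rw [← f.preimage_basicOpen r]
    exact hyr
  · rintro ⟨_, hr', hyr⟩
    obtain ⟨r, hrS, rfl⟩ := Finset.mem_image.mp hr'
    rw [← f.preimage_basicOpen r] at hyr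
    exact ⟨r, hrS, hyr⟩

/-- A schematically dense open gives regular families. -/
lemma regFam_of_isSchematicallyDense {U : X.Opens} (hU : CInt.IsSchematicallyDense U) {V : X.Opens}
    {S : Finset Γ(X, V)} (h : CutsOut U V S) : RegFam (S : Set Γ(X, V)) := by
  intro s hs
  refine hU V ?_
  rw [map_zero]
  refine TopCat.Presheaf.section_ext X.sheaf _ _ _ fun x hx => ?_
  obtain ⟨r, hr, hxr⟩ := (h x hx.1).mp hx.2
  erw [TopCat.Presheaf.germ_res_apply, map_zero]
  have hu : IsUnit (X.presheaf.germ V x hx.1 r) := (X.mem_basicOpen r x hx.1).mp hxr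
  refine hu.mul_right_eq_zero.mp ?_
  exact (map_mul (X.presheaf.germ V x hx.1).hom r s).symm.trans ((congrArg _ (hs r hr)).trans (map_zero _))

/-- Regular families on an affine open cover give schematic density. -/
lemma isSchematicallyDense_of_regFam {U : X.Opens} {α : Type*} (V : α → X.Opens)
    (hV : ∀ a, IsAffineOpen (V a)) (hcov : ∀ x, ∃ a, x ∈ V a) (S : ∀ a, Finset Γ(X, V a))
    (h : ∀ a, CutsOut U (V a) (S a)) (hreg : ∀ a, RegFam (S a : Set Γ(X, V a))) :
    CInt.IsSchematicallyDense U := by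
  classical
  intro W
  rw [injective_iff_map_eq_zero]
  intro s hs
  refine TopCat.Presheaf.section_ext X.sheaf _ _ _ fun x hx => ?_
  obtain ⟨a, hxa⟩ := hcov x
  obtain ⟨t, htW, hxt⟩ := (hV a).exists_basicOpen_le (⟨x, hx⟩ : W) hxa
  let s' : Γ(X, X.basicOpen t) := X.presheaf.map (homOfLE htW).op s
  suffices s' = 0 by
    have h' := congrArg (X.presheaf.germ _ x hxt) this
    rw [map_zero] at h'
    rw [map_zero]
    exact (TopCat.Presheaf.germ_res_apply X.presheaf (homOfLE htW) x hxt s).symm.trans h'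
  let _ : Algebra Γ(X, V a) Γ(X, X.basicOpen t) := (X.presheaf.map (homOfLE (X.basicOpen_le t)).op).hom.toAlgebra
  have := (hV a).isLocalization_basicOpen t
  obtain ⟨⟨z, m⟩, hzm⟩ := IsLocalization.surj (Submonoid.powers t) s'
  have hkill : ∀ r ∈ S a, ∃ N, r ^ N * (t ^ N * z) = 0 := by
    intro r hr
    let _ : Algebra Γ(X, V a) Γ(X, X.basicOpen (t * r)) := (X.presheaf.map (homOfLE (X.basicOpen_le (t * r))).op).hom.toAlgebra
    have := (hV a).isLocalization_basicOpen (t * r)
    have hle : X.basicOpen (t * r) ≤ W ⊓ U := by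
      rw [X.basicOpen_mul]
      intro y hy
      exact ⟨htW hy.1, (h a y (X.basicOpen_le t hy.1)).mpr ⟨r, hr, hy.2⟩⟩
    have hle' : X.basicOpen (t * r) ≤ X.basicOpen t := by rw [X.basicOpen_mul]; exact inf_le_left
    have h0 : algebraMap Γ(X, V a) Γ(X, X.basicOpen (t * r)) z = 0 := by
      have e1 : X.presheaf.map (homOfLE hle').op s' = 0 := by
        have := congrArg (X.presheaf.map (homOfLE hle).op) hs
        rw [map_zero, ← ConcreteCategory.comp_apply, ← X.presheaf.map_comp] at this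
        rw [← ConcreteCategory.comp_apply, ← X.presheaf.map_comp]
        exact this
      have e2 := congrArg (X.presheaf.map (homOfLE hle').op) hzm
      rw [map_mul, e1, zero_mul] at e2
      refine Eq.trans ?_ e2.symm
      show X.presheaf.map _ z = X.presheaf.map _ (X.presheaf.map _ z)
      rw [← ConcreteCategory.comp_apply, ← X.presheaf.map_comp]
      rfl
    obtain ⟨⟨_, N, rfl⟩, hN⟩ := (IsLocalization.map_eq_zero_iff (Submonoid.powers (t * r)) _ z).mp h0
    exact ⟨N, by rw [← hN]; ring⟩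
  choose N hN using hkill
  let M := (S a).attach.sup fun r => N r.1 r.2
  have hz : t ^ M * z = 0 := eq_zero_of_forall_pow (S a) (hreg a) M _ fun r hr => by
    have hle : N r hr ≤ M := Finset.le_sup (f := fun r : S a => N r.1 r.2) (Finset.mem_attach _ ⟨r, hr⟩)
    obtain ⟨d, hd⟩ := Nat.exists_eq_add_of_le hle
    rw [hd, pow_add, pow_add]
    linear_combination (r ^ d * t ^ d) * hN r hr
  have h0 : algebraMap Γ(X, V a) Γ(X, X.basicOpen t) z = 0 :=
    (IsLocalization.map_eq_zero_iff (Submonoid.powers t) _ z).mpr ⟨⟨t ^ M, M, rfl⟩, hz⟩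
  rw [h0] at hzm
  exact (IsLocalization.map_units (Γ(X, X.basicOpen t)) m).mul_left_eq_zero.mp hzm

section Flat

variable {Y : Scheme.{u}} (f : Y ⟶ X) [Flat f] {V : X.Opens} (hV : IsAffineOpen V) (hV' : IsAffineOpen (f ⁻¹ᵁ V))

include hV hV' in
lemma regFam_preimage [DecidableEq Γ(Y, f ⁻¹ᵁ V)] {S : Finset Γ(X, V)}
    (h : ∀ a, (∀ r ∈ S, r * a = 0) → f.app V a = 0) :
    RegFam (S.image (f.app V) : Set Γ(Y, f ⁻¹ᵁ V)) := by
  intro b hb
  have hfl : (f.app V).hom.Flat := by
    rw [Scheme.Hom.app_eq_appLE]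
    exact f.flat_appLE hV hV' le_rfl
  algebraize [(f.app V).hom]
  obtain ⟨k, a, y, hy, ha⟩ := exists_sum_of_flat S b fun r hr => hb _ (Finset.mem_image_of_mem _ hr)
  rw [hy]
  refine Finset.sum_eq_zero fun l _ => ?_
  rw [Algebra.smul_def, RingHom.algebraMap_toAlgebra]
  show f.app V (a l) * y l = 0
  rw [h (a l) fun r hr => ha r hr l, zero_mul]

end Flat

lemma app_eq_zero_of_eq {Y : Scheme.{u}} {f g : Y ⟶ X} (e : f = g) (V : X.Opens) (a : Γ(X, V))
    (h : f.app V a = 0) : g.app V a = 0 := by subst e; exact h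

variable {I : Type u} [SmallCategory I] [IsCofiltered I] (D : I ⥤ Scheme.{u}) (c : Cone D)
  (hc : IsLimit c) [∀ (i j : I) (f : i ⟶ j), IsAffineHom (D.map f)]
  [∀ (i j : I) (g : i ⟶ j), Flat (D.map g)] [∀ i : I, IsNoetherian (D.obj i)]

include hc

/-- Regularity of a family on an affine open spreads to a stage. -/
lemma exists_regFam_stage [∀ (k : I) (W : (D.obj k).Opens), DecidableEq Γ(D.obj k, W)] {i : I}
    {V : (D.obj i).Opens} (hV : IsAffineOpen V) (S : Finset Γ(D.obj i, V))
    (h : ∀ a, (∀ r ∈ S, r * a = 0) → (c.π.app i).app V a = 0) :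
    ∃ (j : I) (φ : j ⟶ i), RegFam (S.image ((D.map φ).app V) : Set Γ(D.obj j, D.map φ ⁻¹ᵁ V)) := by
  classical
  let K : Ideal Γ(D.obj i, V) :=
    { carrier := {a | ∀ r ∈ S, r * a = 0}
      add_mem' := fun ha hb r hr => by rw [mul_add, ha r hr, hb r hr, add_zero]
      zero_mem' := fun r _ => mul_zero r
      smul_mem' := fun c a ha r hr => by rw [smul_eq_mul, mul_left_comm, ha r hr, mul_zero] }
  have : IsNoetherianRing Γ(D.obj i, V) := IsLocallyNoetherian.component_noetherian ⟨V, hV⟩
  obtain ⟨G, hG⟩ := (IsNoetherian.noetherian K : K.FG)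
  have key : ∀ G' : Finset Γ(D.obj i, V), (∀ a ∈ G', (c.π.app i).app V a = 0) →
      ∃ (j : I) (φ : j ⟶ i), ∀ a ∈ G', (D.map φ).app V a = 0 := by
    intro G'
    induction G' using Finset.induction_on with
    | empty => exact fun _ => ⟨i, 𝟙 i, by simp⟩
    | @insert a G' ha ih =>
      intro h'
      obtain ⟨j, φ, hφ⟩ := ih fun x hx => h' x (Finset.mem_insert_of_mem hx)
      obtain ⟨k, ψ, hψ⟩ := exists_app_map_eq_zero_of_isLimit D c hc
        (hV.preimage (D.map φ)).isCompact ((D.map φ).app V a)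
        (app_eq_zero_of_eq (c.w φ).symm V a (h' a (Finset.mem_insert_self a G')))
      refine ⟨k, ψ ≫ φ, fun x hx => ?_⟩
      refine app_eq_zero_of_eq (D.map_comp ψ φ).symm V x ?_
      rcases Finset.mem_insert.mp hx with rfl | hx
      · exact hψ
      · show (D.map ψ).app _ ((D.map φ).app V x) = 0
        rw [hφ x hx, map_zero]
  obtain ⟨j, φ, hφ⟩ := key G fun a ha => h a (show a ∈ K from hG ▸ Submodule.subset_span ha)
  refine ⟨j, φ, regFam_preimage (D.map φ) hV (hV.preimage _) fun a ha => ?_⟩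
  have haK : a ∈ K := ha
  rw [← hG] at haK
  clear ha
  induction haK using Submodule.span_induction with
  | mem x hx => exact hφ x hx
  | zero => exact map_zero _
  | add x y _ _ hx hy => rw [map_add, hx, hy, add_zero]
  | smul r x _ hx => rw [smul_eq_mul, map_mul, hx, mul_zero]

theorem isSchematicallyDense_preimage_iff [IsNoetherian c.pt] (i₀ : I) (U₀ : (D.obj i₀).Opens) :
    CInt.IsSchematicallyDense ((c.π.app i₀) ⁻¹ᵁ U₀) ↔
      ∃ (i : I) (g : i ⟶ i₀), CInt.IsSchematicallyDense ((D.map g) ⁻¹ᵁ U₀) := by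
  classical
  have hπfl : ∀ i, Flat (c.π.app i) := fun i => flat_π_app D c hc i fun _ _ => inferInstance
  have := fun i => isAffineHom_π_app D c hc i
  obtain ⟨T, hT, hcov⟩ := (isCompact_and_isOpen_iff_finite_and_eq_biUnion_affineOpens
    (X := D.obj i₀) (U := (⊤ : (D.obj i₀).Opens))).mp ⟨isCompact_univ, isOpen_univ⟩
  choose S hS using fun V : (D.obj i₀).affineOpens => exists_cutsOut U₀ V.2
  have hπS (V : (D.obj i₀).affineOpens) := (hS V).preimage (c.π.app i₀)
  constructor
  · intro hd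
    have key : ∀ T' : Finset (D.obj i₀).affineOpens, ∃ (j : I) (φ : j ⟶ i₀),
        ∀ V ∈ T', RegFam ((S V).image ((D.map φ).app V.1) : Set Γ(D.obj j, D.map φ ⁻¹ᵁ V.1)) := by
      intro T'
      induction T' using Finset.induction_on with
      | empty => exact ⟨i₀, 𝟙 i₀, by simp⟩
      | @insert V T' hV ih =>
        obtain ⟨j, φ, hφ⟩ := ih
        have hcut := (hS V).preimage (D.map φ)
        have hcut' := hcut.preimage (c.π.app j)
        rw [← Scheme.Hom.comp_preimage, c.w] at hcut'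
        have hreg := regFam_of_isSchematicallyDense hd hcut'
        obtain ⟨k, ψ, hk⟩ := exists_regFam_stage D c hc (V.2.preimage (D.map φ)) _ fun a ha =>
          hreg _ fun r hr => by
            obtain ⟨r, hr', rfl⟩ := Finset.mem_image.mp hr
            exact (map_mul ((c.π.app j).app _).hom r a).symm.trans ((congrArg _ (ha r hr')).trans (map_zero _))
        refine ⟨k, ψ ≫ φ, fun W hW => ?_⟩
        have hk' : RegFam (((S W).image ((D.map φ).app W.1)).image ((D.map ψ).app _) :
            Set Γ(D.obj k, D.map ψ ⁻¹ᵁ D.map φ ⁻¹ᵁ W.1)) := by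
          rcases Finset.mem_insert.mp hW with rfl | hW
          · exact hk
          · refine regFam_preimage (D.map ψ) (W.2.preimage _) ((W.2.preimage _).preimage _) fun a ha => ?_
            rw [hφ W hW a ha, map_zero]
        let e := (D.obj k).presheaf.map (eqToHom (show D.map (ψ ≫ φ) ⁻¹ᵁ W.1 = D.map ψ ⁻¹ᵁ D.map φ ⁻¹ᵁ W.1 by
          rw [D.map_comp]; rfl)).op
        have he := ConcreteCategory.bijective_of_isIso e
        intro s hs
        obtain ⟨s', rfl⟩ := he.2 s
        rw [hk' s' fun r hr => ?_, map_zero]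
        obtain ⟨_, hr', rfl⟩ := Finset.mem_image.mp hr
        obtain ⟨r, hr'', rfl⟩ := Finset.mem_image.mp hr'
        refine he.1 ?_
        rw [map_zero, map_mul]
        refine Eq.trans ?_ (hs _ (Finset.mem_image_of_mem _ hr''))
        rw [Scheme.Hom.congr_app (D.map_comp ψ φ) W.1, ConcreteCategory.comp_apply, Scheme.Hom.comp_app,
          ConcreteCategory.comp_apply]
        rfl
    obtain ⟨j, φ, hφ⟩ := key hT.toFinset
    refine ⟨j, φ, isSchematicallyDense_of_regFam (fun V : T => D.map φ ⁻¹ᵁ V.1.1)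
      (fun V => V.1.2.preimage _) (fun x => ?_) (fun V => (S V.1).image ((D.map φ).app V.1.1))
      (fun V => (hS V.1).preimage _) fun V => hφ _ (hT.mem_toFinset.mpr V.2)⟩
    obtain ⟨V, hV, hxV⟩ := Set.mem_iUnion₂.mp (hcov.le (Opens.mem_top (D.map φ x)))
    exact ⟨⟨V, hV⟩, hxV⟩
  · rintro ⟨j, φ, hd⟩
    have := hπfl j
    have hd' : CInt.IsSchematicallyDense (c.π.app j ⁻¹ᵁ (D.map φ ⁻¹ᵁ U₀)) := by
      refine isSchematicallyDense_of_regFam (fun V : T => c.π.app j ⁻¹ᵁ (D.map φ ⁻¹ᵁ V.1.1))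
        (fun V => (V.1.2.preimage _).preimage _) (fun x => ?_)
        (fun V => ((S V.1).image ((D.map φ).app V.1.1)).image ((c.π.app j).app _))
        (fun V => ((hS V.1).preimage _).preimage _) fun V => ?_
      · obtain ⟨V, hV, hxV⟩ := Set.mem_iUnion₂.mp (hcov.le (Opens.mem_top (D.map φ (c.π.app j x))))
        exact ⟨⟨V, hV⟩, hxV⟩
      · refine regFam_preimage (c.π.app j) (V.1.2.preimage _) ((V.1.2.preimage _).preimage _) fun a ha => ?_
        rw [regFam_of_isSchematicallyDense hd ((hS V.1).preimage _) a ha, map_zero]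
    rwa [← Scheme.Hom.comp_preimage, c.w] at hd'

end Groth.Agent.LimTop61
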