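import Groth.Agent.LimTop61.BaseChange

set_option autoImplicit false
set_option backward.isDefEq.respectTransparency false
set_option backward.defeqAttrib.useBackward true
universe u

open CategoryTheory CategoryTheory.Limits AlgebraicGeometry

namespace Groth.Agent.LimTop61

variable {I : Type u} [SmallCategory I] (D : I ⥤ Scheme.{u}) (c : Cone D)

lemma π_apply {i j : I} (φ : j ⟶ i) (s : c.pt) : D.map φ (c.π.app j s) = c.π.app i s := by
  rw [← Scheme.Hom.comp_apply, c.w]
  rfl

variable [IsCofiltered I] (hc : IsLimit c)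

include hc

variable [∀ (i j : I) (f : i ⟶ j), IsAffineHom (D.map f)]

/-- A quasi-compact morphism to a stage whose pullback to the limit is empty
pulls back to the empty scheme at some stage. -/
lemma exists_isEmpty_pullback {i : I} {T : Scheme.{u}} (a : T ⟶ D.obj i) [CompactSpace T]
    (h : IsEmpty ↥(pullback a (c.π.app i))) :
    ∃ (j : I) (φ : j ⟶ i), IsEmpty ↥(pullback a (D.map φ)) := by
  by_contra! H
  have (j : Over i) : Nonempty ↥((bcDiagram D a).obj j) := H j.left j.hom
  have := Scheme.nonempty_of_isLimit (bcDiagram D a) _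
    (isLimitBcCone D c hc a _ _ (IsPullback.of_hasPullback a (c.π.app i)))
  exact h.false this.some

/-- The image of a projection is the intersection of the images of the transition maps. -/
lemma range_π_eq (i : I) :
    Set.range (c.π.app i) = ⋂ (j : I) (φ : j ⟶ i), Set.range (D.map φ) := by
  ext s
  simp only [Set.mem_iInter, Set.mem_range]
  refine ⟨?_, fun H => ?_⟩
  · rintro ⟨x, rfl⟩ j φ
    exact ⟨c.π.app j x, π_apply D c φ x⟩
  · by_contra h
    obtain ⟨j, φ, hj⟩ := exists_isEmpty_pullback D c hc ((D.obj i).fromSpecResidueField s)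
      (by
        refine ⟨fun z => h ⟨pullback.snd ((D.obj i).fromSpecResidueField s) (c.π.app i) z, ?_⟩⟩
        rw [← Scheme.Hom.comp_apply, ← pullback.condition, Scheme.Hom.comp_apply,
          Scheme.fromSpecResidueField_apply])
    obtain ⟨y, hy⟩ := H j φ
    obtain ⟨z, -, -⟩ := Scheme.Pullback.exists_preimage_pullback
      (f := (D.obj i).fromSpecResidueField s) (g := D.map φ) default y
      (by rw [Scheme.fromSpecResidueField_apply, hy])
    exact hj.false z

omit [∀ (i j : I) (f : i ⟶ j), IsAffineHom (D.map f)] in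
/-- A compatible system of points comes from a point of the limit. -/
lemma exists_π_apply_eq (x : ∀ i, D.obj i) (hx : ∀ {i j : I} (φ : i ⟶ j), D.map φ (x i) = x j) :
    ∃ s : c.pt, ∀ i, c.π.app i s = x i := by
  have hex {i j : I} (φ : i ⟶ j) :
      ∃ g : Spec ((D.obj i).residueField (x i)) ⟶ Spec ((D.obj j).residueField (x j)),
        g ≫ (D.obj j).fromSpecResidueField (x j) =
          (D.obj i).fromSpecResidueField (x i) ≫ D.map φ :=
    ⟨Spec.map ((D.map φ).residueFieldMap (x i)) ≫
        Spec.map ((D.obj j).residueFieldCongr (hx φ)).inv, by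
      rw [Category.assoc, Scheme.residueFieldCongr_inv,
        Scheme.residueFieldCongr_fromSpecResidueField,
        Scheme.Hom.SpecMap_residueFieldMap_fromSpecResidueField]⟩
  choose g hg using @hex
  let F : I ⥤ Scheme.{u} :=
    { obj := fun i => Spec ((D.obj i).residueField (x i))
      map := fun φ => g φ
      map_id := fun i => by simp [← cancel_mono ((D.obj i).fromSpecResidueField (x i)), hg]
      map_comp := fun {i j k} φ ψ => by
        simp [← cancel_mono ((D.obj k).fromSpecResidueField (x k)), hg, reassoc_of% hg] }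
  let α : F ⟶ D :=
    { app := fun i => (D.obj i).fromSpecResidueField (x i)
      naturality := fun i j φ => hg φ }
  have (i : I) : IsAffine (F.obj i) := inferInstanceAs (IsAffine (Spec _))
  have (i : I) : Nonempty (F.obj i) := inferInstanceAs (Nonempty (PrimeSpectrum _))
  let e : F ⟶ (F ⋙ Scheme.Γ.rightOp) ⋙ Scheme.Spec := F.whiskerLeft ΓSpec.adjunction.unit
  have (i : I) : IsIso (e.app i) := IsAffine.affine
  have : IsIso e := NatIso.isIso_of_isIso_app e
  let c' : LimitCone F := ⟨_, (IsLimit.postcomposeInvEquiv (asIso e) _).symm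
    (isLimitOfPreserves Scheme.Spec (limit.isLimit (F ⋙ Scheme.Γ.rightOp)))⟩
  obtain ⟨z⟩ := Scheme.nonempty_of_isLimit F c'.1 c'.2
  refine ⟨hc.lift ((Cone.postcompose α).obj c'.1) z, fun i => ?_⟩
  refine (Scheme.Hom.comp_apply _ _ _).symm.trans ?_
  rw [hc.fac]
  exact Scheme.fromSpecResidueField_apply (x i) (c'.1.π.app i z)

/-- The points of the limit are determined by their images in the stages. -/
lemma eq_of_forall_π_apply_eq {s t : c.pt} (h : ∀ i, c.π.app i s = c.π.app i t) : s = t := by
  refine Inseparable.eq ?_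
  rw [(isBasis_preimage_isAffineOpen D c hc).inseparable_iff]
  rintro _ ⟨_, ⟨i, V, -, rfl⟩, rfl⟩
  change c.π.app i s ∈ V ↔ c.π.app i t ∈ V
  exact iff_of_eq (congrArg (fun y => y ∈ V) (h i))

end Groth.Agent.LimTop61
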