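import Groth.Agent.LimTop61.HomDescent
import Groth.Agent.Amp73.Ample
import Groth.Agent.Amp73.PullTensor
import Groth.Agent.Props58.LocFree.FP

/-!
Ampleness of an invertible module descends along a limit.
-/

set_option autoImplicit false
set_option backward.isDefEq.respectTransparency false

noncomputable section

universe u

open CategoryTheory Limits AlgebraicGeometry TopologicalSpace
open Groth.Agent.QC70 Groth.Agent.QCPull72

namespace Groth.Agent.LimTop61

instance isQuasicoherent_structureModule (X : Scheme.{u}) :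
    (Coh.structureModule X).IsQuasicoherent :=
  Mero90.isQCoh_of_isInvertible EGA73.isInvertible_structureModule

/-- The structure sheaf is finitely presented. -/
instance isFP_structureModule' (X : Scheme.{u}) : CohB1.IsFP (Coh.structureModule X) :=
  Props58.LocFree.isFP_of_sections _ (fun U : X.affineOpens => U.1) (iSup_affineOpens_eq_top X)
    (fun U => U.2) fun U => Module.finitePresentation_of_projective Γ(X, U.1) Γ(X, U.1)

variable {I : Type u} [SmallCategory I] [IsCofiltered I] {D : I ⥤ Scheme.{u}} {c : Cone D}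
  (hc : IsLimit c) [∀ {i j : I} (f : i ⟶ j), IsAffineHom (D.map f)]

include hc

/-- A generated locus on the limit comes from one on a stage. -/
theorem exists_genSet_stage {i₀ : I} [CompactSpace (D.obj i₀)] [QuasiSeparatedSpace (D.obj i₀)]
    {L₀ : (D.obj i₀).Modules} (hL₀ : PicF.IsInvertible L₀) {G : c.pt.Opens}
    (hG : G ∈ Amp73.GenSet ((Scheme.Modules.pullback (c.π.app i₀)).obj L₀)) :
    ∃ (j : I) (φ : j ⟶ i₀) (G' : (D.obj j).Opens),
      G' ∈ Amp73.GenSet ((Scheme.Modules.pullback (D.map φ)).obj L₀) ∧ c.π.app j ⁻¹ᵁ G' = G := by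
  obtain ⟨n, s, rfl⟩ := hG
  have hP := EGA73.isInvertible_tensorPow hL₀ (n + 1)
  have : (CohB1.tensorPow L₀ (n + 1)).IsQuasicoherent := Mero90.isQCoh_of_isInvertible hP
  let q := c.π.app i₀
  let h := (PicLoc.pullbackStructureIso q).hom ≫ s ≫ (Amp73.pullPowIso q hL₀ (n + 1)).inv
  obtain ⟨j, φ, hj, hhj⟩ :=
    exists_hom_pullback_eq hc (Coh.structureModule (D.obj i₀)) (CohB1.tensorPow L₀ (n + 1)) h
  let t : Coh.structureModule (D.obj j) ⟶ (Scheme.Modules.pullback (D.map φ)).obj (CohB1.tensorPow L₀ (n + 1)) :=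
    (PicLoc.pullbackStructureIso (D.map φ)).inv ≫ hj
  refine ⟨j, φ, CohB1.genLocus _ t,
    ⟨n, t ≫ (Amp73.pullPowIso (D.map φ) hL₀ (n + 1)).hom, Amp73.genLocus_comp_iso _ _⟩, ?_⟩
  let cO := (pullbackCompIso (D.map φ) (c.π.app j) (c.w φ)).app (Coh.structureModule (D.obj i₀))
  let cG := (pullbackCompIso (D.map φ) (c.π.app j) (c.w φ)).app (CohB1.tensorPow L₀ (n + 1))
  let e : Coh.structureModule c.pt ≅ (Scheme.Modules.pullback (c.π.app j)).obj (Coh.structureModule (D.obj j)) :=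
    (PicLoc.pullbackStructureIso q).symm ≪≫ cO.symm ≪≫
      (Scheme.Modules.pullback (c.π.app j)).mapIso (PicLoc.pullbackStructureIso (D.map φ))
  have h1 : (e.hom ≫ (Scheme.Modules.pullback (c.π.app j)).map t) ≫ cG.hom ≫
      (Amp73.pullPowIso q hL₀ (n + 1)).hom = s := by
    simp only [e, t, Iso.trans_hom, Iso.symm_hom, Functor.mapIso_hom, Category.assoc,
      ← Functor.map_comp_assoc, Iso.hom_inv_id_assoc]
    simp only [cO, cG, reassoc_of% hhj, h, Category.assoc]
    simp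
  refine (Amp73.genLocus_iso_comp_map (c.π.app j) (Amp73.isInvertible_pullback _ hP) t e).symm.trans ?_
  refine (Amp73.genLocus_comp_iso (e.hom ≫ (Scheme.Modules.pullback (c.π.app j)).map t)
    (cG.hom ≫ (Amp73.pullPowIso q hL₀ (n + 1)).hom)).symm.trans ?_
  exact congrArg (CohB1.genLocus _) h1

/-- An ample invertible module on the limit is ample on a stage. -/
theorem exists_isAmple_stage [∀ i, CompactSpace (D.obj i)] [∀ i, QuasiSeparatedSpace (D.obj i)]
    {i₀ : I} {L₀ : (D.obj i₀).Modules} (hL₀ : PicF.IsInvertible L₀)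
    (h : CohB1.IsAmple ((Scheme.Modules.pullback (c.π.app i₀)).obj L₀)) :
    ∃ (i : I) (φ : i ⟶ i₀), CohB1.IsAmple ((Scheme.Modules.pullback (D.map φ)).obj L₀) := by
  classical
  obtain ⟨-, hcpt, hcov⟩ := Amp73.isAmple_iff.1 h
  choose G hG hxG haff using hcov
  have key : ∀ x, ∃ (j : I) (φ : j ⟶ i₀) (G' : (D.obj j).Opens),
      G' ∈ Amp73.GenSet ((Scheme.Modules.pullback (D.map φ)).obj L₀) ∧ IsAffineOpen G' ∧
        c.π.app j ⁻¹ᵁ G' = G x := by
    intro x
    obtain ⟨j, φ, G', hG', hpre⟩ := exists_genSet_stage hc hL₀ (hG x)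
    obtain ⟨n, s, hs⟩ := hG'
    have hinv : PicF.IsInvertible ((Scheme.Modules.pullback (D.map φ)).obj L₀) :=
      Amp73.isInvertible_pullback _ hL₀
    have : IsAffineHom (CohB1.genLocus _ s).ι :=
      Amp73.isAffineHom_genLocus_ι (EGA73.isInvertible_tensorPow hinv (n + 1)) s
    have hqc : IsCompact (G' : Set (D.obj j)) := by
      rw [← hs]
      exact isCompact_iff_compactSpace.mpr
        (QuasiCompact.compactSpace_of_compactSpace (CohB1.genLocus _ s).ι)
    have (k : Over j) : CompactSpace ((opensDiagram D j G').obj k) :=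
      isCompact_iff_compactSpace.mp (QuasiCompact.isCompact_preimage _ G'.2 hqc)
    have (k : Over j) : QuasiSeparatedSpace ((opensDiagram D j G').obj k) :=
      (isQuasiSeparated_iff_quasiSeparatedSpace _ (D.map k.hom ⁻¹ᵁ G').2).mp (.of_quasiSeparatedSpace _)
    have : IsAffine (opensCone D c j G').pt := show IsAffineOpen (c.π.app j ⁻¹ᵁ G') from hpre ▸ haff x
    obtain ⟨k, hk⟩ := Scheme.exists_isAffine_of_isLimit _ _ (isLimitOpensCone D c hc j G')
    refine ⟨k.left, k.hom ≫ φ, D.map k.hom ⁻¹ᵁ G', ?_, hk, ?_⟩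
    · exact Amp73.mem_genSet_of_iso
        ((pullbackCompIso (D.map φ) (D.map k.hom) (D.map_comp k.hom φ).symm).app L₀).hom
        (Amp73.preimage_mem_genSet (D.map k.hom) hinv ⟨n, s, hs⟩)
    · rw [← Scheme.Hom.comp_preimage, c.w]; exact hpre
  choose j φ G' hG' haff' hpre using key
  obtain ⟨T, hT⟩ := (hcpt.isCompact_univ (X := c.pt)).elim_finite_subcover (fun x => SetLike.coe (show c.pt.Opens from G x))
    (fun x => (G x).2) fun x _ => Set.mem_iUnion.2 ⟨x, hxG x⟩
  have hO : ∀ x : T, j x.1 ∈ insert i₀ (T.image j) := fun x =>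
    Finset.mem_insert_of_mem (Finset.mem_image_of_mem j x.2)
  let H : Finset (Σ' (X Y : I) (_ : X ∈ insert i₀ (T.image j)) (_ : Y ∈ insert i₀ (T.image j)), X ⟶ Y) :=
    Finset.univ.image fun x : T => ⟨j x.1, i₀, hO x, Finset.mem_insert_self _ _, φ x.1⟩
  obtain ⟨k, g, hg⟩ := IsCofiltered.inf_exists (insert i₀ (T.image j)) H
  let ψ : ∀ x : T, k ⟶ j x.1 := fun x => g (hO x)
  let ψ₀ : k ⟶ i₀ := g (Finset.mem_insert_self i₀ _)
  have hψ : ∀ x, ψ x ≫ φ x.1 = ψ₀ := fun x =>
    hg (hO x) (Finset.mem_insert_self _ _) (Finset.mem_image_of_mem _ (Finset.mem_univ x))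
  let U : (D.obj k).Opens := ⨆ x : T, D.map (ψ x) ⁻¹ᵁ G' x.1
  obtain ⟨l, a, hl⟩ := exists_map_preimage_le_map_preimage D c hc (i := k) (U := ⊤) (V := U)
    isCompact_univ (fun y _ => by
      obtain ⟨x, hxT, hy⟩ := Set.mem_iUnion₂.1 (hT (Set.mem_univ y))
      refine (Opens.mem_iSup (s := fun x : T => D.map (ψ x) ⁻¹ᵁ G' x.1)).2 ⟨⟨x, hxT⟩, ?_⟩
      show y ∈ c.π.app k ⁻¹ᵁ (D.map (ψ ⟨x, hxT⟩) ⁻¹ᵁ G' x)
      rw [← Scheme.Hom.comp_preimage, c.w, hpre]
      exact hy)
  refine ⟨l, a ≫ ψ₀, Amp73.isAmple_iff.2 ⟨Amp73.isInvertible_pullback _ hL₀, inferInstance, fun y => ?_⟩⟩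
  obtain ⟨x, hx⟩ := (Opens.mem_iSup (s := fun x : T => D.map (ψ x) ⁻¹ᵁ G' x.1)).1 (hl (Opens.mem_top (D.map a y)))
  refine ⟨D.map (a ≫ ψ x) ⁻¹ᵁ G' x.1, ?_, ?_, (haff' x.1).preimage _⟩
  · exact Amp73.mem_genSet_of_iso
      ((pullbackCompIso (D.map (φ x.1)) (D.map (a ≫ ψ x))
        (by rw [← D.map_comp, Category.assoc, hψ])).app L₀).hom
      (Amp73.preimage_mem_genSet (D.map (a ≫ ψ x)) (Amp73.isInvertible_pullback _ hL₀) (hG' x.1))
  · rw [D.map_comp, Scheme.Hom.comp_preimage]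
    exact hx

end Groth.Agent.LimTop61
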