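import Groth.Agent.LimTop61.ModDescent
import Groth.Agent.LimTop61.Stalks
import Groth.Agent.QC70.FiniteType

/-!
Descent of factorization and exactness to a stage of a limit.
-/

set_option autoImplicit false
set_option backward.isDefEq.respectTransparency.types false

noncomputable section

universe u

open CategoryTheory Limits AlgebraicGeometry TopologicalSpace Opposite TensorProduct
open Groth.Agent.QC70 Groth.Agent.QCPull72

namespace Groth.Agent.LimTop61

section Generic

variable {X Y Z : Scheme.{u}} (f : Y ⟶ X) {F G H : X.Modules}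

/-- Pullback along a flat morphism preserves monomorphisms of quasi-coherent modules. -/
theorem mono_pullback_map_of_flat [Flat f] [F.IsQuasicoherent] [G.IsQuasicoherent] (a : F ⟶ G)
    [Mono a] : Mono ((Scheme.Modules.pullback f).map a) := by
  refine mono_of_app_injective _ fun W => (injective_iff_map_eq_zero _).mpr fun s hs => ?_
  refine section_ext _ _ _ fun y hy => ?_
  obtain ⟨_, ⟨U, hU, rfl⟩, hyU, -⟩ :=
    X.isBasis_affineOpens.exists_subset_of_mem_open (Set.mem_univ (f y)) isOpen_univ
  obtain ⟨_, ⟨V, hV, rfl⟩, hyV, hVW⟩ :=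
    Y.isBasis_affineOpens.exists_subset_of_mem_open (show y ∈ (W ⊓ f ⁻¹ᵁ U : Y.Opens) from ⟨hy, hyU⟩)
      (W ⊓ f ⁻¹ᵁ U).2
  have hVW' : V ≤ W ⊓ f ⁻¹ᵁ U := hVW
  refine ⟨V, hVW'.trans inf_le_left, hyV, ?_⟩
  have e : V ≤ f ⁻¹ᵁ U := hVW'.trans inf_le_right
  have hflat : (f.appLE U V e).hom.Flat := f.flat_appLE hU hV e
  let _ := (f.appLE U V e).hom.toAlgebra
  have : Module.Flat Γ(X, U) Γ(Y, V) := hflat
  obtain ⟨EF, hEF⟩ := exists_baseChange_equiv f F hU hV e
  obtain ⟨EG, hEG⟩ := exists_baseChange_equiv f G hU hV e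
  let La := appLinear ((Scheme.Modules.pullback f).map a) V
  let T := (appLinear a U).lTensor Γ(Y, V)
  have hT : Function.Injective T :=
    Module.Flat.lTensor_preserves_injective_linearMap _ (app_injective_of_mono a U)
  have hcomm : ∀ z, EG (La z) = T (EF z) := by
    intro z
    have hz := (span_unitSec_eq_top f F hU hV e).ge (Submodule.mem_top (x := z))
    induction hz using Submodule.span_induction with
    | mem z hz =>
      obtain ⟨x, rfl⟩ := hz
      show EG (((Scheme.Modules.pullback f).map a).app V (unitSec f F e x)) = _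
      rw [pullback_map_app_unitSec, hEG, hEF]
      rfl
    | zero => simp
    | add z w _ _ hz hw => rw [map_add, map_add, map_add, map_add, hz, hw]
    | smul r z _ hz =>
      rw [map_smul, map_smul, map_smul, hz]
      exact (((appLinear a U).baseChange Γ(Y, V)).map_smul r (EF z)).symm
  rw [res_zero]
  refine EF.map_eq_zero_iff.mp (hT ?_)
  rw [map_zero, ← hcomm]
  refine EG.map_eq_zero_iff.mpr ?_
  show ((Scheme.Modules.pullback f).map a).app V _ = 0
  rw [app_res, hs, res_zero]

/-- Pullback along a flat morphism commutes with kernels up to detecting monomorphisms. -/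
theorem mono_pullback_map_iff_of_flat [Flat f] [F.IsQuasicoherent] [G.IsQuasicoherent] (a : F ⟶ G) :
    Mono ((Scheme.Modules.pullback f).map a) ↔
      (Scheme.Modules.pullback f).map (kernel.ι a) = 0 := by
  constructor
  · intro _
    rw [← cancel_mono ((Scheme.Modules.pullback f).map a), ← Functor.map_comp, kernel.condition,
      Functor.map_zero, zero_comp]
  · intro h
    let p := Abelian.factorThruImage a
    have := isQuasicoherent_abelianImage a
    have : Mono ((Scheme.Modules.pullback f).map (Abelian.image.ι a)) := mono_pullback_map_of_flat f _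
    have hk : (Scheme.Modules.pullback f).map (kernel.ι p) = 0 := by
      have e : kernel.ι p = kernel.lift a (kernel.ι p) (by
          have e2 : p ≫ Abelian.image.ι a = a := Abelian.image.fac a
          conv_lhs => arg 2; rw [← e2]
          rw [kernel.condition_assoc, zero_comp]) ≫ kernel.ι a :=
        (kernel.lift_ι _ _ _).symm
      rw [e, Functor.map_comp, h, comp_zero]
    have := isIso_pullback_map_of_kernel f p hk
    rw [← Abelian.image.fac a, Functor.map_comp]
    infer_instance

/-- The pulled back sequence is exact on the right. -/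
def RightExactPull (a : F ⟶ G) (b : G ⟶ H) : Prop :=
  ∃ w : (Scheme.Modules.pullback f).map a ≫ (Scheme.Modules.pullback f).map b = 0,
    (ShortComplex.mk _ _ w).Exact ∧ Epi ((Scheme.Modules.pullback f).map b)

/-- Exactness after flat pullback. -/
theorem exact_pullback_iff_of_flat [Flat f] [F.IsQuasicoherent] [G.IsQuasicoherent]
    [H.IsQuasicoherent] (a : F ⟶ G) (b : G ⟶ H) :
    (∃ w : (Scheme.Modules.pullback f).map a ≫ (Scheme.Modules.pullback f).map b = 0,
        (ShortComplex.mk _ _ w).Exact) ↔
      (Scheme.Modules.pullback f).map (Abelian.image.ι a ≫ b) = 0 ∧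
        (Scheme.Modules.pullback f).map (kernel.ι b ≫ cokernel.π a) = 0 := by
  let L := Scheme.Modules.pullback f
  have hw : L.map a ≫ L.map b = 0 ↔ L.map (Abelian.image.ι a ≫ b) = 0 := by
    have : Epi (L.map (Abelian.factorThruImage a)) := inferInstance
    rw [← cancel_epi (L.map (Abelian.factorThruImage a)) (g := L.map (Abelian.image.ι a ≫ b)) (h := 0),
      ← Functor.map_comp, ← Functor.map_comp, ← Category.assoc, Abelian.image.fac, comp_zero]
  have hκ : (ShortComplex.mk (L.map (kernel.ι b)) (L.map b)
      (by rw [← Functor.map_comp, kernel.condition, Functor.map_zero])).Exact := by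
    have := isQuasicoherent_abelianImage b
    have : Mono (L.map (Abelian.image.ι b)) := mono_pullback_map_of_flat f _
    have e0 : kernel.ι b ≫ Abelian.factorThruImage b = 0 := by
      rw [← cancel_mono (Abelian.image.ι b), Category.assoc, Abelian.image.fac, kernel.condition,
        zero_comp]
    have hk : IsLimit (KernelFork.ofι (kernel.ι b) e0) :=
      isKernelOfComp (f := Abelian.factorThruImage b) (c := KernelFork.ofι (kernel.ι b) (kernel.condition b))
        (Abelian.image.ι b) b (kernelIsKernel b) e0 (Abelian.image.fac b)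
    have hco := CokernelCofork.mapIsColimit _ (Abelian.epiIsCokernelOfKernel _ hk) L
    have hex : (ShortComplex.mk (L.map (kernel.ι b)) (L.map (Abelian.factorThruImage b))
        (by rw [← Functor.map_comp, e0, Functor.map_zero])).Exact :=
      ShortComplex.exact_of_g_is_cokernel _ hco
    let φ : ShortComplex.mk (L.map (kernel.ι b)) (L.map (Abelian.factorThruImage b))
        (by rw [← Functor.map_comp, e0, Functor.map_zero]) ⟶
      ShortComplex.mk (L.map (kernel.ι b)) (L.map b)
        (by rw [← Functor.map_comp, kernel.condition, Functor.map_zero]) :=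
      { τ₁ := 𝟙 _, τ₂ := 𝟙 _, τ₃ := L.map (Abelian.image.ι b),
        comm₁₂ := (Category.id_comp _).trans (Category.comp_id _).symm,
        comm₂₃ := (Category.id_comp _).trans (((congrArg L.map (Abelian.image.fac b)).symm.trans
          (L.map_comp _ _))) }
    have : Epi φ.τ₁ := inferInstanceAs (Epi (𝟙 _))
    have : IsIso φ.τ₂ := inferInstanceAs (IsIso (𝟙 _))
    have : Mono φ.τ₃ := ‹Mono (L.map (Abelian.image.ι b))›
    exact (ShortComplex.exact_iff_of_epi_of_isIso_of_mono φ).mp hex
  have hco' := isColimitOfHasCokernelOfPreservesColimit L a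
  constructor
  · rintro ⟨w, hex⟩
    refine ⟨hw.mp w, ?_⟩
    rw [Functor.map_comp]
    have h1 : L.map (kernel.ι b) = kernel.lift (L.map b) (L.map (kernel.ι b))
        (by rw [← Functor.map_comp, kernel.condition, Functor.map_zero]) ≫ kernel.ι (L.map b) :=
      (kernel.lift_ι _ _ _).symm
    obtain ⟨l, hl⟩ := CokernelCofork.IsColimit.desc' (cokernelIsCokernel (L.map a))
      (L.map (cokernel.π a)) (by rw [← Functor.map_comp, cokernel.condition, Functor.map_zero])
    change cokernel.π _ ≫ l = _ at hl
    have hz : kernel.ι (L.map b) ≫ cokernel.π (L.map a) = 0 :=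
      ((ShortComplex.exact_iff_kernel_ι_comp_cokernel_π_zero _).mp hex)
    rw [h1, ← hl, Category.assoc, ← Category.assoc (kernel.ι (L.map b)), hz, zero_comp, comp_zero]
  · rintro ⟨h1, h2⟩
    refine ⟨hw.mpr h1, (ShortComplex.exact_iff_kernel_ι_comp_cokernel_π_zero _).mpr ?_⟩
    have : Epi (kernel.lift (L.map b) (L.map (kernel.ι b))
        (by rw [← Functor.map_comp, kernel.condition, Functor.map_zero])) :=
      hκ.epi_kernelLift
    obtain ⟨l, hl⟩ := CokernelCofork.IsColimit.desc' hco' (cokernel.π (L.map a))
      (cokernel.condition _)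
    change L.map (cokernel.π a) ≫ l = _ at hl
    have e1 : L.map (kernel.ι b) ≫ cokernel.π (L.map a) = 0 := by
      rw [← hl, ← Category.assoc, ← Functor.map_comp, h2, zero_comp]
    refine (cancel_epi (kernel.lift (L.map b) (L.map (kernel.ι b)) _)).mp ?_
    rw [comp_zero]
    exact (kernel.lift_ι_assoc (L.map b) (L.map (kernel.ι b)) _ _).trans e1

variable {f}

theorem rightExactPull_of_isIso_desc {a : F ⟶ G} {b : G ⟶ H} (w : a ≫ b = 0)
    (h : IsIso ((Scheme.Modules.pullback f).map (cokernel.desc a b w))) : RightExactPull f a b := by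
  refine ⟨by rw [← Functor.map_comp, w, Functor.map_zero], ?_, ?_⟩
  · refine ShortComplex.exact_of_g_is_cokernel _ ?_
    refine IsColimit.ofIsoColimit
      (isColimitOfHasCokernelOfPreservesColimit (Scheme.Modules.pullback f) a)
      (Cofork.ext (asIso ((Scheme.Modules.pullback f).map (cokernel.desc a b w))) ?_)
    simp [← Functor.map_comp]
  · rw [← cokernel.π_desc a b w, Functor.map_comp]
    have : Epi ((Scheme.Modules.pullback f).map (cokernel.π a)) := inferInstance
    exact epi_comp _ _

theorem isIso_desc_of_rightExactPull {a : F ⟶ G} {b : G ⟶ H} (w : a ≫ b = 0)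
    (h : RightExactPull f a b) : IsIso ((Scheme.Modules.pullback f).map (cokernel.desc a b w)) := by
  obtain ⟨w', hex, hepi⟩ := h
  let S := ShortComplex.mk _ _ w'
  have : Epi S.g := hepi
  let e := (isColimitOfHasCokernelOfPreservesColimit (Scheme.Modules.pullback f) a).coconePointUniqueUpToIso
    hex.gIsCokernel
  have he : (Scheme.Modules.pullback f).map (cokernel.π a) ≫ e.hom =
      (Scheme.Modules.pullback f).map b :=
    IsColimit.comp_coconePointUniqueUpToIso_hom
      (isColimitOfHasCokernelOfPreservesColimit (Scheme.Modules.pullback f) a) hex.gIsCokernel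
      WalkingParallelPair.one
  have hh : (Scheme.Modules.pullback f).map (cokernel.desc a b w) = e.hom := by
    rw [← cancel_epi ((Scheme.Modules.pullback f).map (cokernel.π a)), he, ← Functor.map_comp,
      cokernel.π_desc]
  rw [hh]
  infer_instance

/-- Transfer of right exactness along `pullbackComp`. -/
theorem rightExactPull_comp_iff (g : Z ⟶ Y) {h : Z ⟶ X} (e : g ≫ f = h) {a : F ⟶ G} {b : G ⟶ H} :
    RightExactPull g ((Scheme.Modules.pullback f).map a) ((Scheme.Modules.pullback f).map b) ↔
      RightExactPull h a b := by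
  let i := pullbackCompIso f g e
  constructor
  · rintro ⟨w, hex, hepi⟩
    have w' : (Scheme.Modules.pullback h).map a ≫ (Scheme.Modules.pullback h).map b = 0 := by
      rw [← Functor.map_comp]
      refine (map_map_eq_zero_iff g e).mp ?_
      rw [Functor.map_comp, Functor.map_comp]
      exact w
    have hs : ShortComplex.mk _ _ w ≅ ShortComplex.mk _ _ w' :=
      ShortComplex.isoMk (i.app F) (i.app G) (i.app H) (i.hom.naturality a).symm
        (i.hom.naturality b).symm
    refine ⟨w', (ShortComplex.exact_iff_of_iso hs).mp hex, ?_⟩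
    have : Epi ((Scheme.Modules.pullback f ⋙ Scheme.Modules.pullback g).map b) := hepi
    rw [← NatIso.naturality_1 i b]
    infer_instance
  · rintro ⟨w', hex, hepi⟩
    have w : (Scheme.Modules.pullback g).map ((Scheme.Modules.pullback f).map a) ≫
        (Scheme.Modules.pullback g).map ((Scheme.Modules.pullback f).map b) = 0 := by
      rw [← Functor.map_comp, ← Functor.map_comp]
      refine (map_map_eq_zero_iff g e).mpr ?_
      rw [Functor.map_comp]
      exact w'
    have hs : ShortComplex.mk _ _ w ≅ ShortComplex.mk _ _ w' :=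
      ShortComplex.isoMk (i.app F) (i.app G) (i.app H) (i.hom.naturality a).symm
        (i.hom.naturality b).symm
    refine ⟨w, (ShortComplex.exact_iff_of_iso hs).mpr hex, ?_⟩
    rw [← Functor.comp_map, ← NatIso.naturality_2 i b]
    infer_instance

/-- Right exactness persists along further pullback. -/
theorem rightExactPull_persist (g : Z ⟶ Y) {h : Z ⟶ X} (e : g ≫ f = h) {a : F ⟶ G} {b : G ⟶ H}
    (hr : RightExactPull f a b) : RightExactPull h a b := by
  obtain ⟨w, hex, hepi⟩ := hr
  refine (rightExactPull_comp_iff g e).mp (rightExactPull_of_isIso_desc w ?_)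
  have : Epi (ShortComplex.mk _ _ w).g := hepi
  have : IsIso (cokernel.desc _ _ w) :=
    (IsColimit.coconePointUniqueUpToIso (cokernelIsCokernel _) hex.gIsCokernel).isIso_hom
  infer_instance

end Generic

section Stage

variable {I : Type u} [SmallCategory I] [IsCofiltered I] {D : I ⥤ Scheme.{u}} {c : Cone D}
  (hc : IsLimit c) [∀ {i j : I} (f : i ⟶ j), IsAffineHom (D.map f)] {i₀ : I}
  [CompactSpace (D.obj i₀)] {F₀ G₀ H₀ : (D.obj i₀).Modules} [F₀.IsQuasicoherent]
  [G₀.IsQuasicoherent] [H₀.IsQuasicoherent]

include hc in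
theorem factor_iff_eventually [F₀.IsFiniteType] [CohB1.IsFP G₀] (p₁ : F₀ ⟶ G₀) (p₂ : F₀ ⟶ H₀)
    [Epi p₁] :
    (∃ k, (Scheme.Modules.pullback (c.π.app i₀)).map p₁ ≫ k =
        (Scheme.Modules.pullback (c.π.app i₀)).map p₂) ↔
      ∃ (j : I) (φ : j ⟶ i₀) (k : _), (Scheme.Modules.pullback (D.map φ)).map p₁ ≫ k =
        (Scheme.Modules.pullback (D.map φ)).map p₂ := by
  have := isQuasicoherent_kernel p₁
  have := isFiniteType_kernel p₁
  have key : ∀ {Y : Scheme.{u}} (f : Y ⟶ D.obj i₀),
      (∃ k, (Scheme.Modules.pullback f).map p₁ ≫ k = (Scheme.Modules.pullback f).map p₂) ↔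
        (Scheme.Modules.pullback f).map (kernel.ι p₁ ≫ p₂) = 0 := by
    intro Y f
    constructor
    · rintro ⟨k, hk⟩
      rw [Functor.map_comp, ← hk, ← Category.assoc, ← Functor.map_comp, kernel.condition,
        Functor.map_zero, zero_comp]
    · intro h
      have hc := CokernelCofork.mapIsColimit _
        (Abelian.epiIsCokernelOfKernel _ (kernelIsKernel p₁)) (Scheme.Modules.pullback f)
      obtain ⟨k, hk⟩ := CokernelCofork.IsColimit.desc' hc ((Scheme.Modules.pullback f).map p₂)
        ((Functor.map_comp _ _ _).symm.trans h)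
      exact ⟨k, hk⟩
  simp only [key]
  exact pullback_map_eq_zero_iff_eventually hc (kernel.ι p₁ ≫ p₂)

include hc in
theorem rightExactPull_iff_eventually [F₀.IsFiniteType] [G₀.IsFiniteType] [CohB1.IsFP H₀]
    (a : F₀ ⟶ G₀) (b : G₀ ⟶ H₀) :
    RightExactPull (c.π.app i₀) a b ↔
      ∃ (j : I) (φ : j ⟶ i₀), RightExactPull (D.map φ) a b := by
  refine ⟨fun h => ?_, fun ⟨j, φ, h⟩ => rightExactPull_persist _ (c.w φ) h⟩
  obtain ⟨j, φ, hj⟩ := (pullback_map_eq_zero_iff_eventually hc (a ≫ b)).mp
    ((Functor.map_comp _ _ _).trans h.fst)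
  have : CompactSpace (D.obj j) := QuasiCompact.compactSpace_of_compactSpace (D.map φ)
  have w : (Scheme.Modules.pullback (D.map φ)).map a ≫ (Scheme.Modules.pullback (D.map φ)).map b = 0 :=
    (Functor.map_comp _ _ _).symm.trans hj
  have := isQuasicoherent_pullback (D.map φ) F₀
  have := isQuasicoherent_pullback (D.map φ) G₀
  have := isQuasicoherent_pullback (D.map φ) H₀
  have := isFiniteType_pullback (D.map φ) G₀
  have := isFP_pullback (D.map φ) H₀
  have := isQuasicoherent_cokernel ((Scheme.Modules.pullback (D.map φ)).map a)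
  have : (cokernel ((Scheme.Modules.pullback (D.map φ)).map a)).IsFiniteType :=
    isFiniteType_of_epi (cokernel.π _)
  have hiso := isIso_desc_of_rightExactPull w ((rightExactPull_comp_iff _ (c.w φ)).mpr h)
  obtain ⟨k, ψ, hk⟩ := (isIso_pullback_map_iff_eventually hc _).mp hiso
  exact ⟨k, ψ ≫ φ, (rightExactPull_comp_iff _ (D.map_comp ψ φ).symm).mp
    (rightExactPull_of_isIso_desc w hk)⟩

end Stage

end Groth.Agent.LimTop61
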