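import Mathlib.Algebra.Category.Ring.FinitePresentation
import Mathlib.Algebra.Category.Ring.Colimits
import Mathlib.RingTheory.Adjoin.FG
import Mathlib.CategoryTheory.WithTerminal.Cone

set_option autoImplicit false
set_option backward.isDefEq.respectTransparency false
set_option backward.defeqAttrib.useBackward true
universe u

open CategoryTheory CategoryTheory.Limits

namespace Groth.Agent.LimTop61

/-- A retract of a finitely presented algebra is finitely presented. -/
lemma finitePresentation_of_retract {A B C : Type u} [CommRing A] [CommRing B] [CommRing C]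
    [Algebra A B] [Algebra A C] [Algebra.FinitePresentation A C] (p : C →ₐ[A] B)
    (s : B →ₐ[A] C) (hs : p.comp s = AlgHom.id A B) : Algebra.FinitePresentation A B := by
  classical
  have hps (b : B) : p (s b) = b := DFunLike.congr_fun hs b
  have hp : Function.Surjective p := fun b => ⟨s b, hps b⟩
  obtain ⟨G, hG⟩ := (Algebra.FiniteType.of_finitePresentation (R := A) (A := C)).out
  refine Algebra.FinitePresentation.of_surjective hp ⟨G.image fun x => x - s (p x), ?_⟩
  refine le_antisymm ?_ ?_
  · rw [Ideal.span_le]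
    intro z hz
    obtain ⟨x, -, rfl⟩ := Finset.mem_image.mp (Finset.mem_coe.mp hz)
    simp [hps]
  · intro z hz
    let J : Ideal C := Submodule.span C (G.image fun x => x - s (p x) : Finset C)
    have key : ∀ y : C, y - s (p y) ∈ J := by
      intro y
      have hy : y ∈ Algebra.adjoin A (G : Set C) := by rw [hG]; trivial
      induction hy using Algebra.adjoin_induction with
      | mem x hx => exact Submodule.subset_span (Finset.mem_coe.mpr (Finset.mem_image_of_mem _ hx))
      | algebraMap r => simp
      | add x y _ _ hx hy =>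
        rw [map_add, map_add, show x + y - (s (p x) + s (p y)) = (x - s (p x)) + (y - s (p y)) by ring]
        exact add_mem hx hy
      | mul x y _ _ hx hy =>
        rw [map_mul, map_mul, show x * y - s (p x) * s (p y) =
          (x - s (p x)) * y + s (p x) * (y - s (p y)) by ring]
        exact add_mem (Ideal.mul_mem_right _ _ hx) (Ideal.mul_mem_left _ _ hy)
    have hz' : p z = 0 := hz
    have := key z
    rw [hz', map_zero, sub_zero] at this
    exact this

/-- A cocone in algebras which is a colimit on underlying sets is a colimit. -/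
noncomputable def isColimitOfElements {A : CommRingCat.{u}} {J : Type u} [Preorder J]
    [IsDirected J (· ≤ ·)] [Nonempty J] (F : J ⥤ Under A) (c : Cocone F)
    (hsurj : ∀ x : c.pt.right, ∃ (i : J) (y : (F.obj i).right), (c.ι.app i).right y = x)
    (hinj : ∀ (i : J) (y z : (F.obj i).right), (c.ι.app i).right y = (c.ι.app i).right z →
      ∃ (k : J) (h : i ⟶ k), (F.map h).right y = (F.map h).right z) : IsColimit c := by
  have : IsConnected J := IsFiltered.isConnected J
  let G := Under.forget A ⋙ CategoryTheory.forget CommRingCat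
  have : ReflectsColimit F G := reflectsColimit_of_reflectsIsomorphisms F G
  refine isColimitOfReflects G ?_
  refine Types.FilteredColimit.isColimitOf _ _ (fun x => ?_) (fun i j xi xj hij => ?_)
  · obtain ⟨i, y, hy⟩ := hsurj x
    exact ⟨i, y, hy.symm⟩
  · obtain ⟨k, a, b, -⟩ := IsFilteredOrEmpty.cocone_objs i j
    have hk : (c.ι.app k).right ((F.map a).right xi) = (c.ι.app k).right ((F.map b).right xj) := by
      rw [← ConcreteCategory.comp_apply, ← ConcreteCategory.comp_apply, ← Under.comp_right,
        ← Under.comp_right, c.w, c.w]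
      exact hij
    obtain ⟨l, h, hl⟩ := hinj k _ _ hk
    refine ⟨l, a ≫ h, b ≫ h, ?_⟩
    show (F.map (a ≫ h)).right xi = (F.map (b ≫ h)).right xj
    simpa using hl

section

variable {A B : CommRingCat.{u}} [Algebra A B]

/-- The system of finitely generated subalgebras. -/
def subalgDiagram : {S : Subalgebra A B // S.FG} ⥤ Under A where
  obj S := Under.mk (CommRingCat.ofHom (algebraMap A S.1))
  map {S T} h := Under.homMk (CommRingCat.ofHom (Subalgebra.inclusion (leOfHom h)).toRingHom)

/-- The system of finitely presented quotients. -/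
def quotDiagram {P : Type u} [CommRing P] [Algebra A P] (I : Ideal P) :
    {K : Ideal P // K.FG ∧ K ≤ I} ⥤ Under A where
  obj K := Under.mk (CommRingCat.ofHom (algebraMap A (P ⧸ K.1)))
  map {K L} h := Under.homMk (CommRingCat.ofHom (Ideal.Quotient.factor (leOfHom h)))
  map_id K := by
    ext x
    obtain ⟨y, rfl⟩ := Ideal.Quotient.mk_surjective x
    rfl
  map_comp f g := by
    ext x
    obtain ⟨y, rfl⟩ := Ideal.Quotient.mk_surjective x
    rfl

/-- Finite presentation from the lifting property along directed colimits. -/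
theorem finitePresentation_of_lift
    (H : ∀ (J : Type u) [Preorder J] [IsDirected J (· ≤ ·)] [Nonempty J] (F : J ⥤ Under A)
      (c : Cocone F) (_ : IsColimit c)
      (g : Under.mk (CommRingCat.ofHom (algebraMap A B)) ⟶ c.pt),
      ∃ (j : J) (g' : Under.mk (CommRingCat.ofHom (algebraMap A B)) ⟶ F.obj j),
        g' ≫ c.ι.app j = g) :
    Algebra.FinitePresentation A B := by
  classical
  have hft : Algebra.FiniteType A B := by
    let J := {S : Subalgebra A B // S.FG}
    have : IsDirected J (· ≤ ·) := ⟨fun S T =>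
      ⟨⟨S.1 ⊔ T.1, S.2.sup T.2⟩, le_sup_left (a := S.1), le_sup_right (a := S.1)⟩⟩
    have : Nonempty J := ⟨⟨⊥, Subalgebra.fg_bot⟩⟩
    let c : Cocone (subalgDiagram (A := A) (B := B)) :=
      { pt := Under.mk (CommRingCat.ofHom (algebraMap A B))
        ι := { app := fun S => Under.homMk (CommRingCat.ofHom S.1.val.toRingHom) } }
    have hc : IsColimit c := isColimitOfElements _ c
      (fun x => ⟨⟨Algebra.adjoin A {x}, ⟨{x}, by simp⟩⟩,
        ⟨x, Algebra.subset_adjoin rfl⟩, rfl⟩)
      (fun S y z h => ⟨S, 𝟙 S, by rw [show y = z from Subtype.ext h]⟩)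
    obtain ⟨S, g, hg⟩ := H J _ c hc (𝟙 _)
    refine ⟨?_⟩
    obtain ⟨s, hs⟩ := S.2
    refine ⟨s, ?_⟩
    rw [hs, eq_top_iff]
    rintro b -
    have : ((c.ι.app S).right) (g.right b) = b := congr(($hg).right b)
    rw [← this]
    exact (g.right b).2
  obtain ⟨n, π, hπ⟩ := Algebra.FiniteType.iff_quotient_mvPolynomial''.mp hft
  let J := {K : Ideal (MvPolynomial (Fin n) A) // K.FG ∧ K ≤ RingHom.ker π}
  have : IsDirected J (· ≤ ·) := ⟨fun S T => ⟨⟨S.1 ⊔ T.1, Submodule.FG.sup S.2.1 T.2.1, sup_le S.2.2 T.2.2⟩,
    le_sup_left (a := S.1), le_sup_right (a := S.1)⟩⟩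
  have : Nonempty J := ⟨⟨⊥, Submodule.fg_bot, bot_le⟩⟩
  let c : Cocone (quotDiagram (A := A) (RingHom.ker π)) :=
    { pt := Under.mk (CommRingCat.ofHom (algebraMap A B))
      ι :=
        { app := fun K => Under.homMk
            (CommRingCat.ofHom (Ideal.Quotient.liftₐ K.1 π K.2.2).toRingHom)
            (by ext a; exact (Ideal.Quotient.liftₐ K.1 π K.2.2).commutes a)
          naturality := fun K L h => by
            ext x
            obtain ⟨y, rfl⟩ := Ideal.Quotient.mk_surjective x
            rfl } }
  have hc : IsColimit c := isColimitOfElements _ c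
    (fun x => by
      obtain ⟨y, rfl⟩ := hπ x
      exact ⟨⟨⊥, Submodule.fg_bot, bot_le⟩, Ideal.Quotient.mk _ y, rfl⟩)
    (fun K y z h => by
      obtain ⟨y, rfl⟩ := Ideal.Quotient.mk_surjective y
      obtain ⟨z, rfl⟩ := Ideal.Quotient.mk_surjective z
      have hyz : y - z ∈ RingHom.ker π := by
        rw [RingHom.mem_ker, map_sub, sub_eq_zero]
        exact h
      refine ⟨⟨K.1 ⊔ Ideal.span {y - z}, Submodule.FG.sup K.2.1 (Submodule.fg_span_singleton _),
        sup_le K.2.2 ((Ideal.span_singleton_le_iff_mem _).mpr hyz)⟩,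
        homOfLE (le_sup_left (a := K.1)), ?_⟩
      show Ideal.Quotient.mk (K.1 ⊔ Ideal.span {y - z}) y = Ideal.Quotient.mk _ z
      exact Ideal.Quotient.eq.mpr (Ideal.mem_sup_right (Ideal.subset_span rfl)))
  obtain ⟨K, g, hg⟩ := H J _ c hc (𝟙 _)
  have : Algebra.FinitePresentation A (MvPolynomial (Fin n) A ⧸ K.1) :=
    Algebra.FinitePresentation.quotient K.2.1
  let s : B →ₐ[A] (MvPolynomial (Fin n) A ⧸ K.1) :=
    { g.right.hom with commutes' := fun a => congr($(Under.w g) a) }
  refine finitePresentation_of_retract (Ideal.Quotient.liftₐ K.1 π K.2.2) s ?_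
  ext b
  exact congr(($hg).right b)

end

end Groth.Agent.LimTop61
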