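import Groth.Agent.Serre71.Finite
import Groth.Agent.QC70.DevissageAux
import Mathlib.AlgebraicGeometry.Normalization
import Mathlib.AlgebraicGeometry.Morphisms.Proper

/-!
The normalization of a locally Noetherian scheme in a proper scheme over it is finite.
-/

set_option autoImplicit false
set_option backward.isDefEq.respectTransparency false
set_option maxSynthPendingDepth 6

universe u

open CategoryTheory CategoryTheory.Limits AlgebraicGeometry TopologicalSpace Opposite

namespace Groth.Agent.LimTop61

/-- Global functions of a proper scheme over a Noetherian affine scheme form a finite algebra. -/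
theorem finite_appTop_of_isProper {X : Scheme.{u}} (A : CommRingCat.{u}) [IsNoetherianRing A]
    (g : X ⟶ Spec A) [IsProper g] :
    ((Scheme.ΓSpecIso A).inv ≫ g.appTop).hom.Finite := by
  let _ : X.Over (Spec (CommRingCat.of (A : Type u))) := ⟨g⟩
  have : IsProper (X ↘ Spec (CommRingCat.of (A : Type u))) := ‹IsProper g›
  have : IsLocallyNoetherian X := LocallyOfFiniteType.isLocallyNoetherian g
  have hcoh : Coh.IsCoh (Coh.structureModule X) := QC70.isCoh_unit
  have hfin := Serre71.finite_hh_of_isProper (A := (A : Type u)) (Coh.structureModule X) hcoh 0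
  let φ : (A : Type u) →+* Γ(X, ⊤) := Serre71.globalA (A : Type u) X
  show φ.Finite
  let _ := φ.toAlgebra
  show Module.Finite (A : Type u) Γ(X, ⊤)
  exact Module.Finite.of_surjective
    ({ toFun := fun x => (Serre71.hzero (Coh.structureModule X) x : Γ(X, ⊤))
       map_add' := fun x y => map_add (Serre71.hzero (Coh.structureModule X)) x y
       map_smul' := fun a x => Serre71.hzero_smul (A := (A : Type u)) (Coh.structureModule X) a x } :
      Coh.HH X (Coh.structureModule X) 0 →ₗ[(A : Type u)] Γ(X, ⊤))
    (Serre71.hzero (Coh.structureModule X)).surjective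

/-- Sections of a proper scheme over an affine open of a locally Noetherian base are finite. -/
theorem finite_app_of_isProper {X S : Scheme.{u}} (f : X ⟶ S) [IsProper f] [IsLocallyNoetherian S]
    {U : S.Opens} (hU : IsAffineOpen U) : (f.app U).hom.Finite := by
  have : IsNoetherianRing Γ(S, U) := IsLocallyNoetherian.component_noetherian ⟨U, hU⟩
  have : IsAffine U := hU
  have hp : IsProper (f ∣_ U) := IsZariskiLocalAtTarget.restrict ‹IsProper f› U
  have h := finite_appTop_of_isProper Γ(S, U) ((f ∣_ U) ≫ hU.isoSpec.hom)
  rw [Scheme.Hom.comp_appTop] at h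
  have key : ∀ V : S.Opens, V = U → (f.app V).hom.Finite → (f.app U).hom.Finite := by
    rintro V rfl h; exact h
  refine key (U.ι ''ᵁ ⊤) U.ι_image_top ?_
  have h2 : (((Scheme.ΓSpecIso Γ(S, U)).inv ≫ hU.isoSpec.hom.appTop) ≫ (f ∣_ U).appTop).hom.Finite := by
    rwa [Category.assoc]
  rw [morphismRestrict_appTop] at h2
  have h3 := RingHom.Finite.of_comp_finite (f := ((Scheme.ΓSpecIso Γ(S, U)).inv ≫ hU.isoSpec.hom.appTop).hom)
    (g := (f.app (U.ι ''ᵁ ⊤) ≫ X.presheaf.map (eqToHom (image_morphismRestrict_preimage f U ⊤)).op).hom) h2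
  let e := X.presheaf.map (eqToHom (image_morphismRestrict_preimage f U ⊤)).op
  have h4 := (RingHom.Finite.of_surjective (inv e).hom
    (ConcreteCategory.bijective_of_isIso (inv e)).2).comp h3
  rw [← CommRingCat.hom_comp, Category.assoc, IsIso.hom_inv_id, Category.comp_id] at h4
  exact h4

/-- The normalization of the base in a proper scheme is finite. -/
theorem isFinite_fromNormalization {X S : Scheme.{u}} (f : X ⟶ S) [IsProper f]
    [IsLocallyNoetherian S] : IsFinite f.fromNormalization := by
  have : IsAffineHom f.fromNormalization := inferInstance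
  refine { finite_app := fun U hU => ?_ }
  let _ := (f.app U).hom.toAlgebra
  have : IsNoetherianRing Γ(S, U) := IsLocallyNoetherian.component_noetherian ⟨U, hU⟩
  have hfin : Module.Finite Γ(S, U) Γ(X, f ⁻¹ᵁ U) := finite_app_of_isProper f hU
  have : IsNoetherian Γ(S, U) Γ(X, f ⁻¹ᵁ U) := isNoetherian_of_isNoetherianRing_of_finite _ _
  have : Module.Finite Γ(S, U) (integralClosure Γ(S, U) Γ(X, f ⁻¹ᵁ U)) :=
    Module.Finite.iff_fg.mpr (IsNoetherian.noetherian
      (Subalgebra.toSubmodule (integralClosure Γ(S, U) Γ(X, f ⁻¹ᵁ U))))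
  rw [f.fromNormalization_app hU, CommRingCat.hom_comp]
  refine RingHom.Finite.comp (RingHom.Finite.of_surjective _
    (ConcreteCategory.bijective_of_isIso (f.normalizationObjIso hU).inv).2) ?_
  exact RingHom.finite_algebraMap.mpr ‹_›

end Groth.Agent.LimTop61
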