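import Groth.Agent.LimTop61.ConsDescent
import Groth.Agent.LimTop61.Stalks
import Mathlib.AlgebraicGeometry.Morphisms.UniversallyOpen

set_option autoImplicit false
set_option backward.isDefEq.respectTransparency false
set_option backward.defeqAttrib.useBackward true
universe u

open CategoryTheory CategoryTheory.Limits AlgebraicGeometry Topology

namespace Groth.Agent.LimTop61

/-- Points in the closure of a constructibly closed set are specializations of its points. -/
lemma IsConsClosed.exists_specializes {X : Scheme.{u}} {E : Set X} (hE : IsConsClosed E) {x : X}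
    (hx : x ∈ closure E) : ∃ e ∈ E, e ⤳ x := by
  obtain ⟨_, ⟨U, hU, rfl⟩, hxU, -⟩ :=
    X.isBasis_affineOpens.exists_subset_of_mem_open (Set.mem_univ x) isOpen_univ
  have := spectralSpace_of_isAffineOpen hU
  have hx' : (⟨x, hxU⟩ : (U : Scheme.{u})) ∈ closure (Scheme.Opens.ι U ⁻¹' E) := by
    rw [(Scheme.Opens.ι U).isOpenEmbedding.isOpenMap.preimage_closure_eq_closure_preimage
      (Scheme.Opens.ι U).continuous E |>.symm]
    exact hx
  obtain ⟨e, he, hex⟩ := SpecSp50.exists_specializes_of_mem_closure (hE U hU) hx'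
  exact ⟨_, he, hex.map (Scheme.Opens.ι U).continuous⟩

/-- Flat morphisms commute with the closure of constructibly closed sets. -/
lemma closure_preimage_of_flat {X Y : Scheme.{u}} (f : X ⟶ Y) [Flat f] {E : Set Y}
    (hE : IsConsClosed E) : closure (f ⁻¹' E) = f ⁻¹' closure E := by
  refine Set.Subset.antisymm (f.continuous.closure_preimage_subset E) fun x hx => ?_
  obtain ⟨e, he, hex⟩ := hE.exists_specializes hx
  obtain ⟨x', hx', rfl⟩ := (Flat.generalizingMap f) hex
  exact hx'.mem_closed isClosed_closure (subset_closure he)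

/-- The image of a quasi-compact morphism is closed in the constructible topology. -/
lemma isConsClosed_range {X Y : Scheme.{u}} (f : X ⟶ Y) [QuasiCompact f] :
    IsConsClosed (Set.range f) := by
  intro U hU
  have := spectralSpace_of_isAffineOpen hU
  have : IsAffine (U : Scheme.{u}) := hU
  obtain ⟨S, hS, hcov⟩ := (isCompact_and_isOpen_iff_finite_and_eq_biUnion_affineOpens
    (X := X) (U := (f ⁻¹ᵁ U : X.Opens))).mp
    ⟨QuasiCompact.isCompact_preimage _ U.2 hU.isCompact, (f ⁻¹ᵁ U).2⟩
  have hle : ∀ V ∈ S, (V : X.Opens) ≤ f ⁻¹ᵁ U := fun V hV x hx =>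
    hcov.ge (Set.mem_biUnion hV hx)
  have heq : Scheme.Opens.ι U ⁻¹' Set.range f =
      ⋃ V : S, Set.range (f.resLE U V.1 (hle V.1 V.2)) := by
    ext y
    simp only [Set.mem_preimage, Set.mem_range, Set.mem_iUnion]
    constructor
    · rintro ⟨x, hx⟩
      have hxU : x ∈ f ⁻¹ᵁ U := by
        show f x ∈ U
        rw [hx]; exact y.2
      obtain ⟨V, hV, hxV⟩ := Set.mem_iUnion₂.mp (hcov.le hxU)
      refine ⟨⟨V, hV⟩, ⟨x, hxV⟩, ?_⟩
      apply (Scheme.Opens.ι U).isOpenEmbedding.injective
      exact (resLE_apply_val f (hle V hV) ⟨x, hxV⟩).trans hx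
    · rintro ⟨⟨V, hV⟩, z, rfl⟩
      exact ⟨z.1, (resLE_apply_val f (hle V hV) z).symm⟩
  rw [heq]
  have : Finite S := hS
  refine @isClosed_iUnion_of_finite _ _ (constructibleTopology (U : Scheme.{u})) _ _ fun V => ?_
  obtain ⟨V, hV⟩ := V
  have : IsAffine (V.1 : Scheme.{u}) := V.2
  have := spectralSpace_of_isAffineOpen V.2
  exact SpecSp50.isClosed_range_cons (f.resLE U V (hle V hV)).isSpectralMap

variable {I : Type u} [SmallCategory I] [IsCofiltered I] (D : I ⥤ Scheme.{u}) (c : Cone D)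
  (hc : IsLimit c) [∀ (i j : I) (f : i ⟶ j), IsAffineHom (D.map f)]

include hc

/-- Containment in a closure descends along flat transition maps. -/
lemma preimage_subset_closure_preimage_iff {i : I} [CompactSpace (D.obj i)]
    (hfl : ∀ (j : I) (φ : j ⟶ i), Flat (D.map φ)) (Z' Z'' : Set (D.obj i))
    (hZ' : IsConsClosed Z') (hZ'' : IsConsClosed Z'') (hcl : IsConsClosed (closure Z')ᶜ) :
    (⇑(c.π.app i) ⁻¹' Z'' : Set c.pt) ⊆ closure (⇑(c.π.app i) ⁻¹' Z' : Set c.pt) ↔
      ∃ (j : I) (φ : j ⟶ i), ⇑(D.map φ) ⁻¹' Z'' ⊆ closure (⇑(D.map φ) ⁻¹' Z') := by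
  have := flat_π_app D c hc i hfl
  have hS : closure (⇑(c.π.app i) ⁻¹' Z' : Set c.pt) = ⇑(c.π.app i) ⁻¹' closure Z' :=
    closure_preimage_of_flat (c.π.app i) hZ'
  rw [hS]
  constructor
  · intro h
    obtain ⟨j, φ, hj⟩ := exists_preimage_subset D c hc Z'' (closure Z') hZ'' hcl h
    have := hfl j φ
    exact ⟨j, φ, by rw [closure_preimage_of_flat (D.map φ) hZ']; exact hj⟩
  · rintro ⟨j, φ, hj⟩ s hs
    have := hfl j φ
    rw [closure_preimage_of_flat (D.map φ) hZ'] at hj
    have := hj (show D.map φ (c.π.app j s) ∈ Z'' by rw [π_apply]; exact hs)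
    rw [Set.mem_preimage, π_apply] at this
    exact this

end Groth.Agent.LimTop61
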