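import Groth.Agent.EGA73.DvrPoints
import Groth.Agent.LimTop61.FlatClosure
import Mathlib.AlgebraicGeometry.ValuativeCriterion
import Mathlib.AlgebraicGeometry.Morphisms.Proper

/-!
Valuative criteria tested on discrete valuation rings at a dense set of points.
-/

set_option autoImplicit false
set_option backward.isDefEq.respectTransparency false
universe u

open CategoryTheory CategoryTheory.Limits AlgebraicGeometry IsLocalRing

namespace Groth.Agent.LimTop61

lemma range_subset_of_closedPoint {X : Scheme.{u}} {R : CommRingCat.{u}} [IsLocalRing R]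
    (l : Spec R ⟶ X) {U : X.Opens} (hc : l (closedPoint R) ∈ U) : Set.range l ⊆ U := by
  rintro _ ⟨p, rfl⟩
  exact ((specializes_closedPoint p).map l.continuous).mem_open U.2 hc

/-- A morphism from the spectrum of a local ring whose closed point lands in an affine open is
given by a ring map. -/
lemma exists_affine_fac {X : Scheme.{u}} {R : CommRingCat.{u}} [IsLocalRing R]
    (l : Spec R ⟶ X) {U : X.Opens} (hU : IsAffineOpen U) (hc : l (closedPoint R) ∈ U) :
    ∃ ψ : Γ(X, U) ⟶ R, Spec.map ψ ≫ hU.fromSpec = l := by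
  refine ⟨Spec.preimage (IsOpenImmersion.lift hU.fromSpec l ?_), ?_⟩
  · rw [hU.range_fromSpec]
    exact range_subset_of_closedPoint l hc
  · rw [Spec.map_preimage, IsOpenImmersion.lift_fac]

lemma ringHom_eq_of_comp_eq {X : Scheme.{u}} {R : CommRingCat.{u}} {U : X.Opens}
    (hU : IsAffineOpen U) {φ φ' : Γ(X, U) ⟶ R}
    (h : Spec.map φ ≫ hU.fromSpec = Spec.map φ' ≫ hU.fromSpec) : φ = φ' := by
  rwa [cancel_mono, Spec.map_inj] at h

/-- Morphisms from the spectrum of a local ring into an affine open are determined by their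
restrictions along an injective ring map. -/
lemma eq_of_injective {X : Scheme.{u}} {R L : CommRingCat.{u}} [IsLocalRing R]
    (ι : R ⟶ L) (hι : Function.Injective ι.hom) {U : X.Opens} (hU : IsAffineOpen U)
    (a b : Spec R ⟶ X) (ha : a (closedPoint R) ∈ U) (hb : b (closedPoint R) ∈ U)
    (h : Spec.map ι ≫ a = Spec.map ι ≫ b) : a = b := by
  obtain ⟨α, rfl⟩ := exists_affine_fac a hU ha
  obtain ⟨β, rfl⟩ := exists_affine_fac b hU hb
  rw [← Spec.map_comp_assoc, ← Spec.map_comp_assoc] at h
  have h' := ringHom_eq_of_comp_eq hU h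
  congr 2
  ext z
  exact hι (congrArg (fun m : Γ(X, U) ⟶ L => m.hom z) h')

set_option maxHeartbeats 1000000 in
/-- The existence of lifts for all valuation subrings of a residue field follows from the existence
of lifts for the discrete ones, over a locally Noetherian base. -/
theorem exists_lift_of_forall_dvr {U X S : Scheme.{u}} [IsLocallyNoetherian S] (f : X ⟶ S)
    [QuasiCompact f] [LocallyOfFiniteType f] (h : U ⟶ X) [LocallyOfFiniteType h] (u : U)
    (H : ∀ A : ValuationSubring (U.residueField u), IsDiscreteValuationRing A →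
      ∀ y : Spec (CommRingCat.of A) ⟶ S,
        Spec.map (CommRingCat.ofHom A.subtype) ≫ y = U.fromSpecResidueField u ≫ h ≫ f →
        ∃ l : Spec (CommRingCat.of A) ⟶ X, l ≫ f = y ∧
          Spec.map (CommRingCat.ofHom A.subtype) ≫ l = U.fromSpecResidueField u ≫ h)
    (V : ValuationSubring (U.residueField u)) (y : Spec (CommRingCat.of V) ⟶ S)
    (w : Spec.map (CommRingCat.ofHom V.subtype) ≫ y = U.fromSpecResidueField u ≫ h ≫ f) :
    ∃ l : Spec (CommRingCat.of V) ⟶ X, l ≫ f = y ∧
      Spec.map (CommRingCat.ofHom V.subtype) ≫ l = U.fromSpecResidueField u ≫ h := by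
  classical
  obtain ⟨_, ⟨(S₀ : S.Opens), (hS₀ : IsAffineOpen S₀), rfl⟩, (hs : y (closedPoint V) ∈ S₀), -⟩ :=
    S.isBasis_affineOpens.exists_subset_of_mem_open (Set.mem_univ (y (closedPoint V))) isOpen_univ
  obtain ⟨ψ, hψ⟩ := exists_affine_fac y hS₀ hs
  let c : Spec (U.residueField u) := closedPoint (U.residueField u)
  have hc : U.fromSpecResidueField u c = u := Scheme.fromSpecResidueField_apply _ _
  have hx₀S : f (h u) ∈ S₀ := by
    have := congrArg (fun m : Spec (U.residueField u) ⟶ S => m c) w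
    simp only [Scheme.Hom.comp_apply, hc] at this
    rw [← this]
    exact range_subset_of_closedPoint y hs ⟨_, rfl⟩
  obtain ⟨T, hT, hcov⟩ := (isCompact_and_isOpen_iff_finite_and_eq_biUnion_affineOpens
    (X := X) (U := (f ⁻¹ᵁ S₀ : X.Opens))).mp
    ⟨QuasiCompact.isCompact_preimage _ S₀.2 hS₀.isCompact, (f ⁻¹ᵁ S₀).2⟩
  let T' : Set X.affineOpens := {W | W ∈ T ∧ h u ∈ W.1}
  have : Finite T' := (hT.subset fun W hW => hW.1).to_subtype
  have hev : ∀ W : T', ∃ φ : Γ(X, W.1.1) ⟶ U.residueField u,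
      Spec.map φ ≫ W.1.2.fromSpec = U.fromSpecResidueField u ≫ h := fun W =>
    exists_affine_fac (U.fromSpecResidueField u ≫ h) W.1.2
      (by rw [Scheme.Hom.comp_apply, Scheme.fromSpecResidueField_apply]; exact W.2.2)
  choose φ hφ using hev
  by_cases hex : ∃ W : T', ∀ z, φ W z ∈ V
  · obtain ⟨W, hW⟩ := hex
    let θ : Γ(X, W.1.1) ⟶ CommRingCat.of V := CommRingCat.ofHom ((φ W).hom.codRestrict V.toSubring hW)
    have hθ : Spec.map (CommRingCat.ofHom V.subtype) ≫ Spec.map θ ≫ W.1.2.fromSpec =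
        U.fromSpecResidueField u ≫ h := by
      rw [← Spec.map_comp_assoc, ← hφ W]
      rfl
    refine ⟨Spec.map θ ≫ W.1.2.fromSpec, ?_, hθ⟩
    refine eq_of_injective (CommRingCat.ofHom V.subtype) Subtype.val_injective hS₀ _ _ ?_ hs ?_
    · have hm : (Spec.map θ ≫ W.1.2.fromSpec) (closedPoint V) ∈ W.1.1 := by
        rw [← SetLike.mem_coe, ← W.1.2.range_fromSpec]
        exact ⟨_, rfl⟩
      rw [Scheme.Hom.comp_apply]
      exact hcov.ge (Set.mem_biUnion W.2.1 hm)
    · rw [w, ← Category.assoc, hθ, Category.assoc]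
  push Not at hex
  choose b hb using hex
  let cc : T' → U.residueField u := fun W => (φ W (b W))⁻¹
  have hccV : ∀ W, ∃ hm : cc W ∈ V, (⟨cc W, hm⟩ : V) ∈ maximalIdeal V := fun W => by
    have hm : cc W ∈ V := (V.mem_or_inv_mem _).resolve_left (hb W)
    refine ⟨hm, fun hu => hb W ?_⟩
    obtain ⟨z, hz⟩ := hu.exists_right_inv
    have := congrArg Subtype.val hz
    simp only [MulMemClass.coe_mul, OneMemClass.coe_one, cc] at this
    have hne : φ W (b W) ≠ 0 := fun h0 => hb W (h0 ▸ V.zero_mem)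
    have hz' : (z : U.residueField u) = φ W (b W) := by field_simp at this; exact this
    exact hz' ▸ z.2
  let σ : Γ(S, S₀) ⟶ U.residueField u := ψ ≫ CommRingCat.ofHom V.subtype
  have hσ : Spec.map σ ≫ hS₀.fromSpec = U.fromSpecResidueField u ≫ h ≫ f := by
    rw [Spec.map_comp_assoc, hψ, w]
  let _ : Algebra Γ(S, S₀) (U.residueField u) := σ.hom.toAlgebra
  let B := Algebra.adjoin Γ(S, S₀) (Set.range cc)
  have hBV : B.toSubring ≤ V.toSubring := by
    intro z hz
    change z ∈ B at hz
    induction hz using Algebra.adjoin_induction with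
    | mem z hz => obtain ⟨W, rfl⟩ := hz; exact (hccV W).1
    | algebraMap r => exact (ψ r).2
    | add a b _ _ ha hb => exact V.add_mem _ _ ha hb
    | mul a b _ _ ha hb => exact V.mul_mem _ _ ha hb
  let m : Ideal B.toSubring := Ideal.comap (Subring.inclusion hBV) (maximalIdeal V)
  have : IsNoetherianRing Γ(S, S₀) := IsLocallyNoetherian.component_noetherian ⟨S₀, hS₀⟩
  have : Algebra.FiniteType Γ(S, S₀) B := .adjoin_of_finite (Set.finite_range cc)
  have : IsNoetherianRing B := Algebra.FiniteType.isNoetherianRing Γ(S, S₀) B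
  have : m.IsPrime := Ideal.comap_isPrime _ _
  let D := LocalSubring.ofPrime B.toSubring m
  have : IsNoetherianRing D.toSubring :=
    IsLocalization.isNoetherianRing m.primeCompl D.toSubring (inferInstanceAs (IsNoetherianRing B.toSubring))
  have hccB : ∀ W, cc W ∈ B := fun W => Algebra.subset_adjoin ⟨W, rfl⟩
  have hccD : ∀ W, ∃ hm : cc W ∈ D.toSubring, (⟨cc W, hm⟩ : D.toSubring) ∈ maximalIdeal D.toSubring :=
    fun W => ⟨LocalSubring.le_ofPrime _ _ (hccB W),
      (IsLocalization.AtPrime.to_map_mem_maximal_iff D.toSubring m ⟨cc W, hccB W⟩).mpr (hccV W).2⟩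
  obtain ⟨W₁, hW₁T, hW₁⟩ := Set.mem_iUnion₂.mp (hcov.le (show h u ∈ f ⁻¹ᵁ S₀ from hx₀S))
  have hnf : ¬ IsField D.toSubring := fun hf => by
    rw [IsLocalRing.isField_iff_maximalIdeal_eq] at hf
    obtain ⟨hm, hm'⟩ := hccD ⟨W₁, hW₁T, hW₁⟩
    rw [hf, Ideal.mem_bot] at hm'
    have h0 : φ ⟨W₁, hW₁T, hW₁⟩ (b _) = 0 := inv_eq_zero.mp (congrArg Subtype.val hm')
    exact hb _ (h0 ▸ V.zero_mem)
  let F := Subfield.closure (D.toSubring : Set (U.residueField u))
  let _ : Algebra D.toSubring F :=
    (D.toSubring.subtype.codRestrict F fun z => Subfield.subset_closure z.2).toAlgebra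
  have : IsScalarTower D.toSubring F (U.residueField u) := IsScalarTower.of_algebraMap_eq fun _ => rfl
  have : IsFractionRing D.toSubring F := by
    have : FaithfulSMul D.toSubring F := (faithfulSMul_iff_algebraMap_injective _ _).2
      fun a b h => Subtype.ext (congrArg (fun t : F => (t : U.residueField u)) h)
    refine IsFractionRing.of_field D.toSubring F fun z => ?_
    obtain ⟨a, ha, b, hb, hab⟩ := Subfield.mem_closure_iff.mp z.2
    rw [Subring.closure_eq] at ha hb
    exact ⟨⟨a, ha⟩, ⟨b, hb⟩, Subtype.ext hab.symm⟩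
  let g := h ≫ f
  have hgS : g u ∈ S₀ := by rw [Scheme.Hom.comp_apply]; exact hx₀S
  have hσ' : S.presheaf.germ S₀ (g u) hgS ≫ S.residue (g u) ≫ g.residueFieldMap u = σ := by
    refine ringHom_eq_of_comp_eq hS₀ ?_
    rw [hσ, Spec.map_comp_assoc, Spec.map_comp_assoc,
      ← Scheme.Hom.SpecMap_residueFieldMap_fromSpecResidueField g u, Scheme.fromSpecResidueField,
      ← hS₀.fromSpecStalk_eq_fromSpecStalk hgS]
    rfl
  have hfg : (⊤ : IntermediateField F (U.residueField u)).FG := by
    let _ := (g.residueFieldMap u).hom.toAlgebra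
    have hKF : ∀ k : S.residueField (g u), g.residueFieldMap u k ∈ F := by
      intro k
      obtain ⟨s, rfl⟩ := S.residue_surjective (g u) k
      let _ : Algebra Γ(S, S₀) (S.presheaf.stalk (g u)) :=
        (S.presheaf.germ S₀ (g u) hgS).hom.toAlgebra
      have := hS₀.isLocalization_stalk ⟨g u, hgS⟩
      obtain ⟨⟨a, t⟩, hat⟩ := IsLocalization.surj
        ((hS₀.primeIdealOf ⟨g u, hgS⟩).asIdeal.primeCompl) s
      have hev : ∀ r, g.residueFieldMap u (S.residue (g u) (algebraMap Γ(S, S₀) _ r)) = σ r :=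
        fun r => congrArg (fun m : Γ(S, S₀) ⟶ U.residueField u => m.hom r) hσ'
      have hat' := congrArg (fun z => g.residueFieldMap u (S.residue (g u) z)) hat
      simp only [map_mul, hev] at hat'
      have ht : σ t.1 ≠ 0 := by
        rw [← hev, map_ne_zero]
        exact fun h0 => ((IsLocalization.map_units (S.presheaf.stalk (g u)) t).map
          (S.residue (g u)).hom).ne_zero h0
      rw [← eq_div_iff ht] at hat'
      rw [hat']
      exact F.div_mem (Subfield.subset_closure (LocalSubring.le_ofPrime _ _ (B.algebraMap_mem a)))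
        (Subfield.subset_closure (LocalSubring.le_ofPrime _ _ (B.algebraMap_mem t.1)))
    let _ : Algebra (S.residueField (g u)) F := ((g.residueFieldMap u).hom.codRestrict F hKF).toAlgebra
    have : IsScalarTower (S.residueField (g u)) F (U.residueField u) :=
      IsScalarTower.of_algebraMap_eq fun _ => rfl
    have : Algebra.EssFiniteType (S.residueField (g u)) (U.residueField u) :=
      IntermediateField.fg_top_iff.mp (EGA73.residueField_fg g u)
    exact IntermediateField.fg_top_iff.mpr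
      (Algebra.EssFiniteType.of_comp (S.residueField (g u)) F (U.residueField u))
  obtain ⟨A, hA, hAD, hAm⟩ := E4O.exists_dvr_dominating hnf F (U.residueField u) hfg
  let α : Γ(S, S₀) ⟶ CommRingCat.of A := CommRingCat.ofHom (σ.hom.codRestrict A.toSubring
    fun r => hAD ⟨_, LocalSubring.le_ofPrime _ _ (B.algebraMap_mem r)⟩)
  obtain ⟨l, hl, hl'⟩ := H A hA (Spec.map α ≫ hS₀.fromSpec)
    (by rw [← Spec.map_comp_assoc, ← hσ]; rfl)
  have hlS : f (l (closedPoint A)) ∈ S₀ := by
    rw [← Scheme.Hom.comp_apply, hl, ← SetLike.mem_coe, ← hS₀.range_fromSpec]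
    exact ⟨_, rfl⟩
  obtain ⟨W, hWT, hW⟩ := Set.mem_iUnion₂.mp (hcov.le (show l (closedPoint A) ∈ f ⁻¹ᵁ S₀ from hlS))
  have hWu : h u ∈ W.1 := by
    have := congrArg (fun m : Spec (U.residueField u) ⟶ X => m c) hl'
    simp only [Scheme.Hom.comp_apply, hc] at this
    rw [← this]
    exact range_subset_of_closedPoint l hW ⟨_, rfl⟩
  obtain ⟨θ, hθ⟩ := exists_affine_fac l W.2 hW
  have he : θ ≫ CommRingCat.ofHom A.subtype = φ ⟨W, hWT, hWu⟩ := by
    refine ringHom_eq_of_comp_eq W.2 ?_
    rw [Spec.map_comp_assoc, hθ, hφ, hl']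
  have hbA : φ ⟨W, hWT, hWu⟩ (b _) ∈ A := by rw [← he]; exact (θ _).2
  obtain ⟨hm, hm'⟩ := hccD ⟨W, hWT, hWu⟩
  have h2 : A.valuation (cc ⟨W, hWT, hWu⟩) < 1 := hAm ⟨_, hm⟩ hm'
  have h1 := (A.valuation_le_one_iff _).2 hbA
  rw [map_inv₀] at h2
  have hne : A.valuation (φ ⟨W, hWT, hWu⟩ (b _)) ≠ 0 :=
    A.valuation.ne_zero_iff.2 fun h0 => hb _ (h0 ▸ V.zero_mem)
  exact absurd h1 (not_le.2 ((inv_lt_one_iff₀.mp h2).resolve_left (not_le.2 (zero_lt_iff.2 hne))))

/-- The uniqueness part of the valuative criterion, for valuation subrings. -/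
lemma hom_ext_of_isSeparated {X S : Scheme.{u}} (f : X ⟶ S) [IsSeparated f] {K : Type u} [Field K]
    (O : ValuationSubring K) (a b : Spec (CommRingCat.of O) ⟶ X)
    (h : Spec.map (CommRingCat.ofHom O.subtype) ≫ a = Spec.map (CommRingCat.ofHom O.subtype) ≫ b)
    (h' : a ≫ f = b ≫ f) : a = b := by
  have hu := IsSeparated.valuativeCriterion f
    { R := O, K := K, i₁ := Spec.map (CommRingCat.ofHom (algebraMap O K)) ≫ a, i₂ := a ≫ f,
      commSq := ⟨Category.assoc _ _ _⟩ }
  exact congrArg CommSq.LiftStruct.l (hu.elim ⟨a, rfl, rfl⟩ ⟨b, h.symm, h'.symm⟩)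

set_option maxHeartbeats 1000000 in
/-- Lifts at points generizing every point give the existence part of the valuative criterion. -/
theorem existence_of_lifts {U X S : Scheme.{u}} (f : X ⟶ S) [IsSeparated f] (h : U ⟶ X)
    (T : Set U) (hd : ∀ x : X, ∃ u ∈ T, h u ⤳ x)
    (H : ∀ u ∈ T, ∀ (V : ValuationSubring (U.residueField u)) (y : Spec (CommRingCat.of V) ⟶ S),
        Spec.map (CommRingCat.ofHom V.subtype) ≫ y = U.fromSpecResidueField u ≫ h ≫ f →
        ∃ l : Spec (CommRingCat.of V) ⟶ X, l ≫ f = y ∧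
          Spec.map (CommRingCat.ofHom V.subtype) ≫ l = U.fromSpecResidueField u ≫ h) :
    ValuativeCriterion.Existence f := by
  rintro ⟨R, K, i₁, i₂, ⟨hsq⟩⟩
  obtain ⟨⟨x, k₀⟩, hk₀⟩ := (Scheme.SpecToEquivOfField K X).symm.surjective i₁
  change Spec.map k₀ ≫ X.fromSpecResidueField x = i₁ at hk₀
  subst hk₀
  -- the valuation subring of the residue field
  let R₀ : ValuationSubring (X.residueField x) :=
    { toSubring := (algebraMap R K).range.comap k₀.hom
      mem_or_inv_mem' := fun a => by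
        rcases ValuationRing.isInteger_or_isInteger R (k₀ a) with ha | ha
        · exact Or.inl ha
        · right
          show k₀.hom a⁻¹ ∈ (algebraMap R K).range
          rw [map_inv₀]
          exact ha }
  have hinj : Function.Injective (algebraMap R K) := IsFractionRing.injective R K
  let eR : R ≃+* (algebraMap R K).range := RingEquiv.ofBijective (algebraMap R K).rangeRestrict
    ⟨fun a b hab => hinj (congrArg Subtype.val hab), (algebraMap R K).rangeRestrict_surjective⟩
  let θ' : CommRingCat.of R₀ ⟶ CommRingCat.of R := CommRingCat.ofHom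
    (eR.symm.toRingHom.comp ((k₀.hom.comp R₀.subtype).codRestrict (algebraMap R K).range fun a => a.2))
  have hθ' : ∀ a : R₀, algebraMap R K (θ' a) = k₀ a.1 := fun a =>
    congrArg Subtype.val (eR.apply_symm_apply ⟨k₀ a.1, a.2⟩)
  have hθk : θ' ≫ CommRingCat.ofHom (algebraMap R K) = CommRingCat.ofHom R₀.subtype ≫ k₀ := by
    ext a; exact hθ' a
  have : IsLocalHom θ'.hom := ⟨fun a ha => by
    by_cases h0 : a.1 = 0
    · have : θ' a = 0 := hinj (by rw [hθ', h0, map_zero, map_zero])
      rw [this] at ha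
      exact absurd ha not_isUnit_zero
    · obtain ⟨z, hz⟩ := ha.exists_right_inv
      have hz' : k₀ a.1 * algebraMap R K z = 1 := by rw [← hθ', ← map_mul, hz, map_one]
      have hinv : a.1⁻¹ ∈ R₀ := ⟨z, by
        show algebraMap R K z = k₀.hom a.1⁻¹
        rw [map_inv₀]; exact (eq_inv_of_mul_eq_one_right hz')⟩
      exact IsUnit.of_mul_eq_one ⟨a.1⁻¹, hinv⟩ (Subtype.ext (mul_inv_cancel₀ h0))⟩
  -- the valuation ring of the residue field of a generization
  obtain ⟨u, huT, hux⟩ := hd x
  obtain ⟨O, hO, hOloc⟩ := exists_factor_valuationRing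
    (X.presheaf.stalkSpecializes hux ≫ h.stalkMap u ≫ U.residue u).hom
  let τ : X.presheaf.stalk x ⟶ CommRingCat.of O := CommRingCat.ofHom (RingHom.codRestrict _ O.toSubring hO)
  have : IsLocalHom τ.hom := hOloc
  let B := Spec.map τ ≫ X.fromSpecStalk x
  have hB : Spec.map (CommRingCat.ofHom O.subtype) ≫ B = U.fromSpecResidueField u ≫ h := by
    rw [← Spec.map_comp_assoc, Scheme.fromSpecResidueField, Category.assoc,
      ← Scheme.SpecMap_stalkMap_fromSpecStalk, ← Scheme.SpecMap_stalkSpecializes_fromSpecStalk hux]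
    simp_rw [← Spec.map_comp_assoc]
    rfl
  have hBc : B (closedPoint O) = x := by
    simp only [B, Scheme.Hom.comp_apply]
    rw [show Spec.map τ (closedPoint O) = closedPoint (X.presheaf.stalk x) from comap_closedPoint τ.hom,
      Scheme.fromSpecStalk_closedPoint]
  let kO := IsLocalRing.ResidueField O
  let ρ : CommRingCat.of O ⟶ CommRingCat.of kO := CommRingCat.ofHom (IsLocalRing.residue O)
  let ε : X.residueField x ⟶ CommRingCat.of kO := CommRingCat.ofHom (IsLocalRing.ResidueField.map τ.hom)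
  have hρB : Spec.map ρ ≫ B = Spec.map ε ≫ X.fromSpecResidueField x := by
    rw [Scheme.fromSpecResidueField, ← Spec.map_comp_assoc, ← Spec.map_comp_assoc]
    rfl
  obtain ⟨V₂, hV₂, hV₂loc⟩ := exists_factor_valuationRing (ε.hom.comp R₀.subtype)
  let ι : CommRingCat.of R₀ ⟶ CommRingCat.of V₂ := CommRingCat.ofHom (RingHom.codRestrict _ V₂.toSubring hV₂)
  have : IsLocalHom ι.hom := hV₂loc
  have hV₂iff : ∀ a, ε a ∈ V₂ → a ∈ R₀ := fun a ha => by
    by_contra hn
    have hinv : a⁻¹ ∈ R₀ := (R₀.mem_or_inv_mem a).resolve_left hn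
    have hu : IsUnit (ι ⟨a⁻¹, hinv⟩) := IsUnit.of_mul_eq_one ⟨ε a, ha⟩ (Subtype.ext (by
      show ε.hom a⁻¹ * ε.hom a = 1
      rw [← map_mul, inv_mul_cancel₀ (fun h0 : a = 0 => hn (h0.symm ▸ R₀.zero_mem)), map_one]))
    obtain ⟨z, hz⟩ := (isUnit_of_map_unit ι.hom _ hu).exists_right_inv
    have hza : z.1 = a := by
      have := congrArg Subtype.val hz
      simp only [MulMemClass.coe_mul, OneMemClass.coe_one] at this
      have ha0 : a ≠ 0 := fun h0 => hn (h0 ▸ R₀.zero_mem)
      field_simp at this; exact this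
    exact hn (hza ▸ z.2)
  let V : ValuationSubring (U.residueField u) :=
    { toSubring := (V₂.toSubring.comap (IsLocalRing.residue O)).map O.subtype
      mem_or_inv_mem' := fun a => by
        by_cases ha : a ∈ O
        · by_cases ha' : (IsLocalRing.residue O ⟨a, ha⟩) ∈ V₂
          · exact Or.inl ⟨_, ha', rfl⟩
          · have hu : IsUnit (⟨a, ha⟩ : O) := by
              by_contra hnu
              exact ha' (by rw [(IsLocalRing.residue_eq_zero_iff _).mpr hnu]; exact V₂.zero_mem)
            obtain ⟨z, hz⟩ := hu.exists_right_inv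
            refine Or.inr ⟨z, ?_, ?_⟩
            · have h1 : IsLocalRing.residue O ⟨a, ha⟩ * IsLocalRing.residue O z = 1 := by
                rw [← map_mul, hz, map_one]
              show IsLocalRing.residue O z ∈ V₂
              rw [eq_inv_of_mul_eq_one_right h1]
              exact (V₂.mem_or_inv_mem _).resolve_left ha'
            · exact (eq_inv_of_mul_eq_one_right (congrArg Subtype.val hz))
        · have hinv := (O.mem_or_inv_mem a).resolve_left ha
          refine Or.inr ⟨⟨a⁻¹, hinv⟩, ?_, rfl⟩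
          have hnu : (⟨a⁻¹, hinv⟩ : O) ∈ maximalIdeal O := fun hu => ha (by
            obtain ⟨z, hz⟩ := hu.exists_right_inv
            have ha0 : a ≠ 0 := fun h0 => ha (h0 ▸ O.zero_mem)
            have := congrArg Subtype.val hz
            simp only [MulMemClass.coe_mul, OneMemClass.coe_one] at this
            field_simp at this
            exact this ▸ z.2)
          show IsLocalRing.residue O _ ∈ V₂
          rw [(IsLocalRing.residue_eq_zero_iff _).mpr hnu]
          exact V₂.zero_mem }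
  have hVO : ∀ a : V, a.1 ∈ O := fun a => by obtain ⟨z, -, hz⟩ := a.2; exact hz ▸ z.2
  let j : CommRingCat.of V ⟶ CommRingCat.of O :=
    CommRingCat.ofHom (V.subtype.codRestrict O.toSubring hVO)
  have hπmem : ∀ a : V, IsLocalRing.residue O (j a) ∈ V₂ := fun a => by
    obtain ⟨z, hz, hz'⟩ := a.2
    rwa [show j a = z from Subtype.ext hz'.symm]
  let π : CommRingCat.of V ⟶ CommRingCat.of V₂ :=
    CommRingCat.ofHom ((ρ.hom.comp j.hom).codRestrict V₂.toSubring hπmem)
  have hπs : Function.Surjective π := fun a => by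
    obtain ⟨z, hz⟩ := IsLocalRing.residue_surjective (R := O) a.1
    exact ⟨⟨z.1, z, by show IsLocalRing.residue O z ∈ V₂; rw [hz]; exact a.2, rfl⟩, Subtype.ext hz⟩
  have : IsLocalHom π.hom := IsLocalHom.of_surjective _ hπs
  -- the base
  obtain ⟨_, ⟨(S₀ : S.Opens), (hS₀ : IsAffineOpen S₀), rfl⟩, (hs : i₂ (closedPoint R) ∈ S₀), -⟩ :=
    S.isBasis_affineOpens.exists_subset_of_mem_open (Set.mem_univ (i₂ (closedPoint R))) isOpen_univ
  obtain ⟨ψ, hψ⟩ := exists_affine_fac i₂ hS₀ hs
  have hfx : f x ∈ S₀ := by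
    have := congrArg (fun m : Spec (CommRingCat.of K) ⟶ S => m (closedPoint K)) hsq
    simp only [Scheme.Hom.comp_apply, Scheme.fromSpecResidueField_apply] at this
    rw [this]
    exact range_subset_of_closedPoint i₂ hs ⟨_, rfl⟩
  obtain ⟨ev, hev⟩ := exists_affine_fac (X.fromSpecResidueField x ≫ f) hS₀
    (by rw [Scheme.Hom.comp_apply, Scheme.fromSpecResidueField_apply]; exact hfx)
  have hevk : ev ≫ k₀ = ψ ≫ CommRingCat.ofHom (algebraMap R K) := by
    refine ringHom_eq_of_comp_eq hS₀ ?_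
    rw [Spec.map_comp_assoc, hev, Spec.map_comp_assoc, hψ, ← hsq, Category.assoc]
  let ev₀ : Γ(S, S₀) ⟶ CommRingCat.of R₀ := CommRingCat.ofHom (ev.hom.codRestrict R₀.toSubring
    fun a => ⟨ψ a, (congrArg (fun m : Γ(S, S₀) ⟶ CommRingCat.of K => m.hom a) hevk).symm⟩)
  let y₀ := Spec.map ev₀ ≫ hS₀.fromSpec
  have hy₀ : Spec.map θ' ≫ y₀ = i₂ := by
    rw [← hψ, ← Spec.map_comp_assoc]
    congr 2
    ext a
    exact hinj ((hθ' (ev₀ a)).trans (congrArg (fun m : Γ(S, S₀) ⟶ CommRingCat.of K => m.hom a) hevk))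
  have hy₀x : Spec.map (CommRingCat.ofHom R₀.subtype) ≫ y₀ = X.fromSpecResidueField x ≫ f := by
    rw [← Spec.map_comp_assoc, ← hev]; rfl
  obtain ⟨aO, haO⟩ := exists_affine_fac (B ≫ f) hS₀ (by rw [Scheme.Hom.comp_apply, hBc]; exact hfx)
  have haρ : aO ≫ ρ = ev ≫ ε := by
    refine ringHom_eq_of_comp_eq hS₀ ?_
    rw [Spec.map_comp_assoc, haO, reassoc_of% hρB, Spec.map_comp_assoc, hev]
  have haV : ∀ r, (aO r).1 ∈ V := fun r => ⟨aO r, by
    show IsLocalRing.residue O (aO r) ∈ V₂
    rw [show IsLocalRing.residue O (aO r) = ε (ev r) from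
        congrArg (fun m : Γ(S, S₀) ⟶ CommRingCat.of kO => m.hom r) haρ]
    exact hV₂ (ev₀ r), rfl⟩
  let aV : Γ(S, S₀) ⟶ CommRingCat.of V :=
    CommRingCat.ofHom (((O.subtype).comp aO.hom).codRestrict V.toSubring haV)
  let y := Spec.map aV ≫ hS₀.fromSpec
  have hjy : Spec.map j ≫ y = B ≫ f := by rw [← haO, ← Spec.map_comp_assoc]; rfl
  obtain ⟨l', hl'f, hl'⟩ := H u huT V y (by
    rw [← reassoc_of% hB, ← hjy, ← Spec.map_comp_assoc, ← Spec.map_comp_assoc,
      ← Spec.map_comp_assoc]
    rfl)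
  -- comparison over `O`
  have hjl : Spec.map j ≫ l' = B := by
    refine hom_ext_of_isSeparated f O _ _ ?_ ?_
    · rw [← Spec.map_comp_assoc]
      exact hl'.trans hB.symm
    · rw [Category.assoc, hl'f, hjy]
  let l₂ := Spec.map π ≫ l'
  have hl₂ : Spec.map (CommRingCat.ofHom V₂.subtype) ≫ l₂ = Spec.map ε ≫ X.fromSpecResidueField x := by
    rw [← hρB, ← hjl, ← Spec.map_comp_assoc, ← Spec.map_comp_assoc]
    rfl
  let c₂ := l₂ (closedPoint V₂)
  obtain ⟨_, ⟨(W : X.Opens), (hW : IsAffineOpen W), rfl⟩, (hxW : c₂ ∈ W), -⟩ :=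
    X.isBasis_affineOpens.exists_subset_of_mem_open (Set.mem_univ c₂) isOpen_univ
  obtain ⟨ψ₂, hψ₂⟩ := exists_affine_fac l₂ hW hxW
  have hxmem : x ∈ W := by
    have := congrArg (fun m : Spec (CommRingCat.of kO) ⟶ X => m (closedPoint kO)) hl₂
    simp only [Scheme.Hom.comp_apply, Scheme.fromSpecResidueField_apply] at this
    rw [← this]
    exact range_subset_of_closedPoint l₂ hxW ⟨_, rfl⟩
  obtain ⟨e₁, he₁⟩ := exists_affine_fac (X.fromSpecResidueField x) hW
    (by rw [Scheme.fromSpecResidueField_apply]; exact hxmem)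
  have hψe : ψ₂ ≫ CommRingCat.ofHom V₂.subtype = e₁ ≫ ε := by
    refine ringHom_eq_of_comp_eq hW ?_
    rw [Spec.map_comp_assoc, hψ₂, hl₂, Spec.map_comp_assoc, he₁]
  have heR : ∀ r, e₁ r ∈ R₀ := fun r => hV₂iff _ (by
    rw [show ε (e₁ r) = (ψ₂ r).1 from
      (congrArg (fun m : Γ(X, W) ⟶ CommRingCat.of kO => m.hom r) hψe).symm]
    exact (ψ₂ r).2)
  let θ : Γ(X, W) ⟶ CommRingCat.of R₀ := CommRingCat.ofHom (e₁.hom.codRestrict R₀.toSubring heR)
  let l₀ := Spec.map θ ≫ hW.fromSpec
  have hιl : Spec.map ι ≫ l₀ = l₂ := by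
    rw [← hψ₂, ← Spec.map_comp_assoc]
    congr 2
    ext r
    exact (congrArg (fun m : Γ(X, W) ⟶ CommRingCat.of kO => m.hom r) hψe).symm
  have hιc : Spec.map ι (closedPoint V₂) = closedPoint R₀ := comap_closedPoint ι.hom
  have hl₀x : Spec.map (CommRingCat.ofHom R₀.subtype) ≫ l₀ = X.fromSpecResidueField x := by
    rw [← he₁, ← Spec.map_comp_assoc]; rfl
  have hιy : Spec.map ι ≫ y₀ = Spec.map π ≫ y := by
    rw [← Spec.map_comp_assoc, ← Spec.map_comp_assoc]
    congr 2
    ext r
    exact (congrArg (fun m : Γ(S, S₀) ⟶ CommRingCat.of kO => m.hom r) haρ).symm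
  have hl₀f : l₀ ≫ f = y₀ := by
    refine eq_of_injective (CommRingCat.ofHom R₀.subtype) Subtype.val_injective hS₀ _ _ ?_ ?_ ?_
    · rw [← hιc, ← Scheme.Hom.comp_apply, reassoc_of% hιl, Category.assoc, hl'f, ← hιy,
        Scheme.Hom.comp_apply, Scheme.Hom.comp_apply, ← SetLike.mem_coe, ← hS₀.range_fromSpec]
      exact ⟨_, rfl⟩
    · rw [Scheme.Hom.comp_apply, ← SetLike.mem_coe, ← hS₀.range_fromSpec]
      exact ⟨_, rfl⟩
    · rw [reassoc_of% hl₀x, hy₀x]
  refine ⟨⟨{ l := Spec.map θ' ≫ l₀, fac_left := ?_, fac_right := ?_ }⟩⟩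
  · rw [← Spec.map_comp_assoc, hθk, Spec.map_comp_assoc, hl₀x]
  · rw [Category.assoc, hl₀f, hy₀]

/-- Every point is a specialization of a point of a quasi-compact morphism with dense image. -/
lemma exists_specializes_of_denseRange {U X : Scheme.{u}} (h : U ⟶ X) [QuasiCompact h]
    (hd : DenseRange h.base) (x : X) : ∃ u : U, h u ⤳ x := by
  obtain ⟨_, ⟨u, rfl⟩, hux⟩ := (isConsClosed_range h).exists_specializes (hd x)
  exact ⟨u, hux⟩

/-- Every point is a specialization of the generic point of an irreducible component. -/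
lemma exists_generic_specializes {X : Scheme.{u}} (x : X) :
    ∃ η : X, closure {η} ∈ irreducibleComponents (X : Type u) ∧ η ⤳ x := by
  have hZ := irreducibleComponent_mem_irreducibleComponents x
  obtain ⟨η, hη⟩ := QuasiSober.sober hZ.1 (isClosed_of_mem_irreducibleComponents _ hZ)
  refine ⟨η, by rw [hη.def]; exact hZ, ?_⟩
  exact hη.specializes mem_irreducibleComponent

/-- Properness from lifts for discrete valuation rings of residue fields of points generizing
every point. -/
theorem universallyClosed_of_dvr_points {U X S : Scheme.{u}} [IsLocallyNoetherian S] (f : X ⟶ S)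
    [IsSeparated f] [QuasiCompact f] [LocallyOfFiniteType f] (h : U ⟶ X) [LocallyOfFiniteType h]
    (T : Set U) (hd : ∀ x : X, ∃ u ∈ T, h u ⤳ x)
    (H : ∀ u ∈ T, ∀ A : ValuationSubring (U.residueField u), IsDiscreteValuationRing A →
      ∀ y : Spec (CommRingCat.of A) ⟶ S,
        Spec.map (CommRingCat.ofHom A.subtype) ≫ y = U.fromSpecResidueField u ≫ h ≫ f →
        ∃ l : Spec (CommRingCat.of A) ⟶ X, l ≫ f = y ∧
          Spec.map (CommRingCat.ofHom A.subtype) ≫ l = U.fromSpecResidueField u ≫ h) :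
    UniversallyClosed f := by
  rw [UniversallyClosed.eq_valuativeCriterion]
  refine ⟨existence_of_lifts f h T hd fun u hu => exists_lift_of_forall_dvr f h u (H u hu),
    inferInstance⟩

end Groth.Agent.LimTop61

namespace Groth.Agent.LimTop61

/-- Separatedness from uniqueness of lifts for discrete valuation rings of residue fields of points
generizing every point. -/
theorem isSeparated_of_dvr_points {U X S : Scheme.{u}} [IsLocallyNoetherian S] (f : X ⟶ S)
    [LocallyOfFiniteType f] (h : U ⟶ X) [LocallyOfFiniteType h]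
    (T : Set U) (hd : ∀ x : X, ∃ u ∈ T, h u ⤳ x)
    (H : ∀ u ∈ T, ∀ A : ValuationSubring (U.residueField u), IsDiscreteValuationRing A →
      ∀ l₁ l₂ : Spec (CommRingCat.of A) ⟶ X, l₁ ≫ f = l₂ ≫ f →
        Spec.map (CommRingCat.ofHom A.subtype) ≫ l₁ = U.fromSpecResidueField u ≫ h →
        Spec.map (CommRingCat.ofHom A.subtype) ≫ l₂ = U.fromSpecResidueField u ≫ h → l₁ = l₂) :
    IsSeparated f := by
  have : IsLocallyNoetherian X := LocallyOfFiniteType.isLocallyNoetherian f
  have : IsLocallyNoetherian (pullback f f) := LocallyOfFiniteType.isLocallyNoetherian (pullback.fst f f ≫ f)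
  have : QuasiSeparated f := QuasiSeparated.of_quasiSeparatedSpace f
  have : UniversallyClosed (pullback.diagonal f) := by
    refine universallyClosed_of_dvr_points (pullback.diagonal f) h T hd fun u hu A hA y hy => ?_
    have h₁ : Spec.map (CommRingCat.ofHom A.subtype) ≫ y ≫ pullback.fst f f =
        U.fromSpecResidueField u ≫ h := by
      rw [reassoc_of% hy, pullback.diagonal_fst, Category.comp_id]
    have h₂ : Spec.map (CommRingCat.ofHom A.subtype) ≫ y ≫ pullback.snd f f =
        U.fromSpecResidueField u ≫ h := by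
      rw [reassoc_of% hy, pullback.diagonal_snd, Category.comp_id]
    have he := H u hu A hA _ _
      (by rw [Category.assoc, Category.assoc, pullback.condition]) h₁ h₂
    refine ⟨y ≫ pullback.fst f f, ?_, h₁⟩
    apply pullback.hom_ext
    · simp
    · simpa using he
  exact ⟨IsClosedImmersion.of_isPreimmersion _ (pullback.diagonal f).isClosedMap.isClosed_range⟩

/-- Transport of discrete valuation rings in residue fields to abstract ones. -/
lemma exists_fractionRing_iso {U : Scheme.{u}} (u : U) (A : ValuationSubring (U.residueField u)) :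
    ∃ k : Spec (CommRingCat.of (FractionRing A)) ⟶ Spec (U.residueField u),
      IsIso k ∧ Spec.map (CommRingCat.ofHom (algebraMap A (FractionRing A))) =
        k ≫ Spec.map (CommRingCat.ofHom A.subtype) := by
  let e : FractionRing A ≃ₐ[A] U.residueField u :=
    IsLocalization.algEquiv (nonZeroDivisors A) (FractionRing A) (U.residueField u)
  refine ⟨Spec.map (CommRingCat.ofHom e.symm.toRingEquiv.toRingHom), ?_, ?_⟩
  · have : IsIso (CommRingCat.ofHom e.symm.toRingEquiv.toRingHom) :=
      (RingEquiv.toCommRingCatIso e.symm.toRingEquiv).isIso_hom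
    infer_instance
  · rw [← Spec.map_comp, ← CommRingCat.ofHom_comp]
    exact congrArg (fun k => Spec.map (CommRingCat.ofHom k)) (RingHom.ext fun a => (e.symm.commutes a).symm)

end Groth.Agent.LimTop61
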