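import Groth.Agent.LimTop61.FiniteBirational
import Mathlib.AlgebraicGeometry.ZariskisMainTheorem
import Mathlib.AlgebraicGeometry.Morphisms.LocalIso

set_option autoImplicit false
set_option backward.isDefEq.respectTransparency false
set_option backward.defeqAttrib.useBackward true
universe u

open CategoryTheory CategoryTheory.Limits AlgebraicGeometry TopologicalSpace

namespace Groth.Agent.LimTop61

variable {X Y : Scheme.{u}} [IsIntegral X] [IsIntegral Y] (f : X ⟶ Y)

/-- For a birational morphism onto a normal scheme, integral sections come from the base. -/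
lemma app_injective_and_exists_app_eq (hN : ∀ y : Y, IsIntegrallyClosed (Y.presheaf.stalk y))
    (hgen : f (genericPoint X) = genericPoint Y) (hbir : IsIso (f.stalkMap (genericPoint X)))
    {V : Y.Opens} (hV : IsAffineOpen V) [Nonempty V] :
    Function.Injective (f.app V) ∧
      ∀ b, (f.app V).hom.IsIntegralElem b → ∃ a, f.app V a = b := by
  have hyV : f (genericPoint X) ∈ V := by
    rw [hgen]
    exact ((genericPoint_spec Y).mem_open_set_iff V.2).mpr (by
      obtain ⟨v⟩ := ‹Nonempty V›; exact ⟨v.1, trivial, v.2⟩)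
  have hne : Nonempty ↥(f ⁻¹ᵁ V) := ⟨⟨_, hyV⟩⟩
  have hinj := germ_injective_of_isIntegral X (genericPoint X) (show _ ∈ f ⁻¹ᵁ V from hyV)
  have hsm : Function.Bijective (f.stalkMap (genericPoint X)) :=
    ConcreteCategory.bijective_of_isIso _
  have hgerm : ∀ a, f.stalkMap (genericPoint X) (Y.presheaf.germ V _ hyV a) =
      X.presheaf.germ (f ⁻¹ᵁ V) (genericPoint X) hyV (f.app V a) :=
    Scheme.Hom.germ_stalkMap_apply f V (genericPoint X) hyV
  refine ⟨fun a a' h => germ_injective_of_isIntegral Y _ hyV (hsm.1 ?_), fun b ⟨p, hp, hpb⟩ => ?_⟩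
  · rw [hgerm, hgerm, h]
  obtain ⟨k, hk⟩ := hsm.2 (X.presheaf.germ (f ⁻¹ᵁ V) (genericPoint X) hyV b)
  obtain ⟨a, ha⟩ := exists_germ_eq_of_isIntegralElem hN hV hgen hyV k ⟨p, hp, by
    refine hsm.1 ?_
    rw [map_zero, Polynomial.hom_eval₂, hk,
      show ((f.stalkMap (genericPoint X)).hom.comp (Y.presheaf.germ V _ hyV).hom) =
        ((X.presheaf.germ (f ⁻¹ᵁ V) (genericPoint X) hyV).hom.comp (f.app V).hom) from
        RingHom.ext hgerm,
      ← Polynomial.hom_eval₂, hpb, map_zero]⟩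
  exact ⟨a, hinj (by rw [← hgerm, ha, hk])⟩

/-- The normalization of a normal scheme in a birational scheme is trivial. -/
theorem isIso_fromNormalization [QuasiCompact f] [QuasiSeparated f]
    (hN : ∀ y : Y, IsIntegrallyClosed (Y.presheaf.stalk y))
    (hgen : f (genericPoint X) = genericPoint Y) (hbir : IsIso (f.stalkMap (genericPoint X))) :
    IsIso f.fromNormalization := by
  refine (IsZariskiLocalAtTarget.iff_of_iSup_eq_top (P := MorphismProperty.isomorphisms Scheme)
    (fun V : Y.affineOpens => V.1) (iSup_affineOpens_eq_top Y)).mpr ?_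
  rintro ⟨V, hV⟩
  change IsIso (f.fromNormalization ∣_ V)
  by_cases hne : Nonempty V
  swap
  · have : IsEmpty V := not_nonempty_iff.mp hne
    infer_instance
  obtain ⟨hinj, hsurj⟩ := app_injective_and_exists_app_eq f hN hgen hbir hV
  have hbij : IsIso (f.fromNormalization.app V) := by
    rw [f.fromNormalization_app hV]
    let := (f.app V).hom.toAlgebra
    have : IsIso (CommRingCat.ofHom (algebraMap Γ(Y, V) (integralClosure Γ(Y, V) Γ(X, f ⁻¹ᵁ V)))) := by
      rw [ConcreteCategory.isIso_iff_bijective]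
      exact ⟨fun a a' h => hinj (congrArg Subtype.val h), fun b => by
        obtain ⟨a, ha⟩ := hsurj b.1 b.2
        exact ⟨a, Subtype.ext ha⟩⟩
    infer_instance
  have : IsAffine V.toScheme := hV
  refine (HasAffineProperty.iff_of_isAffine (P := MorphismProperty.isomorphisms Scheme)).mpr
    ⟨hV.preimage f.fromNormalization, ?_⟩
  have h' : ∀ W : Y.Opens, W = V → IsIso (f.fromNormalization.app W) := fun W hW => by
    subst hW; infer_instance
  have := h' _ V.ι_image_top
  simp only [Scheme.Hom.appTop, morphismRestrict_app]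
  infer_instance

/-- Zariski's main theorem for separated birational morphisms of finite type. -/
theorem isOpenImmersion_of_birational [LocallyQuasiFinite f] [LocallyOfFiniteType f]
    [IsSeparated f] [QuasiCompact f] (hN : ∀ y : Y, IsIntegrallyClosed (Y.presheaf.stalk y))
    (hgen : f (genericPoint X) = genericPoint Y) (hbir : IsIso (f.stalkMap (genericPoint X))) :
    IsOpenImmersion f := by
  have := isIso_fromNormalization f hN hgen hbir
  rw [← f.toNormalization_fromNormalization]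
  infer_instance

omit [IsIntegral X] [IsIntegral Y] in
lemma stalkMap_isIso_comp_iff {W : Scheme.{u}} (i : W ⟶ X) [IsOpenImmersion i] (w : W) :
    IsIso ((i ≫ f).stalkMap w) ↔ IsIso (f.stalkMap (i w)) := by
  rw [Scheme.Hom.stalkMap_comp]
  exact isIso_comp_right_iff _ _

/-- Birational locally quasi-finite morphisms onto normal schemes are local isomorphisms. -/
theorem isLocalIso_of_birational [LocallyQuasiFinite f] [LocallyOfFiniteType f]
    (hN : ∀ y : Y, IsIntegrallyClosed (Y.presheaf.stalk y))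
    (hgen : f (genericPoint X) = genericPoint Y) (hbir : IsIso (f.stalkMap (genericPoint X))) :
    IsLocalIso f := by
  refine ⟨fun x => ?_⟩
  obtain ⟨_, ⟨(V : Y.Opens), hV, rfl⟩, hxV, -⟩ :=
    Y.isBasis_affineOpens.exists_subset_of_mem_open (Set.mem_univ (f x)) isOpen_univ
  obtain ⟨_, ⟨(W : X.Opens), hW, rfl⟩, hxW, hWV⟩ :=
    X.isBasis_affineOpens.exists_subset_of_mem_open (show x ∈ f ⁻¹ᵁ V from hxV) (f ⁻¹ᵁ V).2
  refine ⟨W, hxW, ?_⟩
  have : Nonempty W.toScheme := ⟨⟨x, hxW⟩⟩
  have : Nonempty V.toScheme := ⟨⟨f x, hxV⟩⟩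
  have : IsIntegral W.toScheme := isIntegral_of_isOpenImmersion W.ι
  have : IsIntegral V.toScheme := isIntegral_of_isOpenImmersion V.ι
  have : IsAffine W.toScheme := hW
  have : IsAffine V.toScheme := hV
  let g := f.resLE V W hWV
  have hgι : g ≫ V.ι = W.ι ≫ f := Scheme.Hom.resLE_comp_ι _ _
  have hW0 : W.ι (genericPoint W.toScheme) = genericPoint X := genericPoint_eq_of_isOpenImmersion W.ι
  have : LocallyQuasiFinite (g ≫ V.ι) := by rw [hgι]; infer_instance
  have : LocallyQuasiFinite g := LocallyQuasiFinite.of_comp g V.ι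
  have : LocallyOfFiniteType (g ≫ V.ι) := by rw [hgι]; infer_instance
  have : LocallyOfFiniteType g := locallyOfFiniteType_of_comp g V.ι
  have hgen' : g (genericPoint W.toScheme) = genericPoint V.toScheme := by
    apply V.ι.isOpenEmbedding.injective
    rw [← Scheme.Hom.comp_apply, hgι, Scheme.Hom.comp_apply, hW0, hgen,
      genericPoint_eq_of_isOpenImmersion V.ι]
  have hbir' : IsIso (g.stalkMap (genericPoint W.toScheme)) := by
    have h1 : IsIso ((W.ι ≫ f).stalkMap (genericPoint W.toScheme)) :=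
      (stalkMap_isIso_comp_iff f W.ι _).mpr (hW0 ▸ hbir)
    rw [← hgι, Scheme.Hom.stalkMap_comp] at h1
    exact IsIso.of_isIso_comp_left (V.ι.stalkMap (g (genericPoint W.toScheme))) _
  have hN' : ∀ v : V.toScheme, IsIntegrallyClosed (V.toScheme.presheaf.stalk v) := fun v =>
    have := hN (V.ι v)
    IsIntegrallyClosed.of_equiv (asIso (V.ι.stalkMap v)).commRingCatIsoToRingEquiv
  have := isOpenImmersion_of_birational g hN' hgen' hbir'
  rw [← hgι]
  infer_instance

omit [IsIntegral Y] in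
/-- A separated local isomorphism out of an integral scheme is an open immersion. -/
theorem isOpenImmersion_of_isLocalIso [IsSeparated f] [IsLocalIso f] : IsOpenImmersion f := by
  choose U hxU hU using fun x => IsLocalIso.exists_isOpenImmersion (f := f) x
  have hinj : Function.Injective f := by
    intro x₁ x₂ hx
    have := hU x₁
    have := hU x₂
    let O : Y.Opens := ((U x₁).ι ≫ f).opensRange ⊓ ((U x₂).ι ≫ f).opensRange
    have hyO : f x₁ ∈ O := ⟨⟨⟨x₁, hxU x₁⟩, rfl⟩, ⟨⟨x₂, hxU x₂⟩, hx.symm⟩⟩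
    let l₁ : O.toScheme ⟶ (U x₁).toScheme :=
      IsOpenImmersion.lift ((U x₁).ι ≫ f) O.ι (by rw [Scheme.Opens.range_ι]; exact fun z hz => hz.1)
    let l₂ : O.toScheme ⟶ (U x₂).toScheme :=
      IsOpenImmersion.lift ((U x₂).ι ≫ f) O.ι (by rw [Scheme.Opens.range_ι]; exact fun z hz => hz.2)
    have hl₁ : l₁ ≫ (U x₁).ι ≫ f = O.ι := IsOpenImmersion.lift_fac _ _ _
    have hl₂ : l₂ ≫ (U x₂).ι ≫ f = O.ι := IsOpenImmersion.lift_fac _ _ _
    let U₁₂ := U x₁ ⊓ U x₂
    have h₁ : X.homOfLE (inf_le_left : U₁₂ ≤ U x₁) ≫ (U x₁).ι ≫ f = U₁₂.ι ≫ f := by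
      rw [Scheme.homOfLE_ι_assoc]
    have h₂ : X.homOfLE (inf_le_right : U₁₂ ≤ U x₂) ≫ (U x₂).ι ≫ f = U₁₂.ι ≫ f := by
      rw [Scheme.homOfLE_ι_assoc]
    have : Nonempty U₁₂.toScheme := ⟨⟨genericPoint X,
      ((genericPoint_spec X).mem_open_set_iff (U x₁).2).mpr ⟨x₁, trivial, hxU x₁⟩,
      ((genericPoint_spec X).mem_open_set_iff (U x₂).2).mpr ⟨x₂, trivial, hxU x₂⟩⟩⟩
    have hO : IsOpenImmersion (U₁₂.ι ≫ f) := h₁ ▸ inferInstance
    have hr : Set.range (U₁₂.ι ≫ f) ⊆ Set.range O.ι := by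
      rw [Scheme.Opens.range_ι]
      intro z hz
      refine ⟨?_, ?_⟩
      · rw [← h₁] at hz; obtain ⟨w, rfl⟩ := hz; exact ⟨_, rfl⟩
      · rw [← h₂] at hz; obtain ⟨w, rfl⟩ := hz; exact ⟨_, rfl⟩
    let u := IsOpenImmersion.lift O.ι (U₁₂.ι ≫ f) hr
    have hu : u ≫ O.ι = U₁₂.ι ≫ f := IsOpenImmersion.lift_fac _ _ _
    have : IsOpenImmersion (u ≫ O.ι) := hu ▸ hO
    have : IsOpenImmersion u := IsOpenImmersion.of_comp u O.ι
    have : Nonempty O.toScheme := ⟨⟨f x₁, hyO⟩⟩
    have : IsIntegral (O.toScheme) := by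
      have : IsIntegral (U x₁).toScheme :=
        have : Nonempty (U x₁).toScheme := ⟨⟨x₁, hxU x₁⟩⟩
        isIntegral_of_isOpenImmersion (U x₁).ι
      have : IsOpenImmersion (l₁ ≫ (U x₁).ι ≫ f) := hl₁ ▸ inferInstance
      have : IsOpenImmersion l₁ := IsOpenImmersion.of_comp l₁ ((U x₁).ι ≫ f)
      exact isIntegral_of_isOpenImmersion l₁
    have : IsDominant u := ⟨u.isOpenEmbedding.isOpen_range.dense (Set.range_nonempty _)⟩
    have heq : l₁ ≫ (U x₁).ι = l₂ ≫ (U x₂).ι := by
      refine ext_of_isDominant_of_isSeparated f (by rw [Category.assoc, Category.assoc, hl₁, hl₂]) u ?_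
      have e₁ : u ≫ l₁ = X.homOfLE inf_le_left := by
        rw [← cancel_mono ((U x₁).ι ≫ f), Category.assoc, hl₁, hu, h₁]
      have e₂ : u ≫ l₂ = X.homOfLE inf_le_right := by
        rw [← cancel_mono ((U x₂).ι ≫ f), Category.assoc, hl₂, hu, h₂]
      rw [reassoc_of% e₁, reassoc_of% e₂]
      simp
    have hz₁ : l₁ ⟨f x₁, hyO⟩ = ⟨x₁, hxU x₁⟩ := ((U x₁).ι ≫ f).isOpenEmbedding.injective (by
      rw [← Scheme.Hom.comp_apply, hl₁]; rfl)
    have hz₂ : l₂ ⟨f x₁, hyO⟩ = ⟨x₂, hxU x₂⟩ := ((U x₂).ι ≫ f).isOpenEmbedding.injective (by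
      rw [← Scheme.Hom.comp_apply, hl₂]; exact hx)
    have := congrArg (fun h : O.toScheme ⟶ X => h ⟨f x₁, hyO⟩) heq
    simp only [Scheme.Hom.comp_apply, hz₁, hz₂] at this
    exact this
  have hopen : IsOpenMap f := by
    intro s hs
    rw [isOpen_iff_forall_mem_open]
    rintro _ ⟨x, hx, rfl⟩
    have := hU x
    refine ⟨⇑((U x).ι ≫ f) '' ((U x).ι ⁻¹' s), ?_, ((U x).ι ≫ f).isOpenEmbedding.isOpenMap _
      (hs.preimage (U x).ι.continuous), ⟨⟨x, hxU x⟩, hx, rfl⟩⟩
    rintro _ ⟨z, hz, rfl⟩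
    exact ⟨_, hz, rfl⟩
  have (x : X) : IsIso (f.stalkMap x) := by
    have := hU x
    exact (stalkMap_isIso_comp_iff f (U x).ι ⟨x, hxU x⟩).mp inferInstance
  exact IsOpenImmersion.of_isIso_stalkMap f
    (Topology.IsOpenEmbedding.of_continuous_injective_isOpenMap f.continuous hinj hopen)

end Groth.Agent.LimTop61
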