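import Groth.Agent.LimTop61.ConsClosed
import Groth.Agent.LimTop61.Points
import Mathlib.Topology.Category.TopCat.Limits.Konig

set_option autoImplicit false
set_option backward.isDefEq.respectTransparency false
set_option backward.defeqAttrib.useBackward true
universe u

open CategoryTheory CategoryTheory.Limits AlgebraicGeometry Topology

namespace Groth.Agent.LimTop61

variable {I : Type u} [SmallCategory I] [IsCofiltered I] (D : I ⥤ Scheme.{u}) (c : Cone D)
  (hc : IsLimit c) [∀ (i j : I) (f : i ⟶ j), IsAffineHom (D.map f)]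

include hc

/-- Nonempty compatible constructibly closed subsets of quasi-compact stages have a common
point in the limit. -/
theorem exists_mem_of_isConsClosed {i₀ : I} [CompactSpace (D.obj i₀)]
    (W : ∀ j : Over i₀, Set (D.obj j.left)) (hW : ∀ j, IsConsClosed (W j))
    (hne : ∀ j, (W j).Nonempty)
    (hmap : ∀ {j k : Over i₀} (f : j ⟶ k), Set.MapsTo (D.map f.left) (W j) (W k)) :
    ∃ s : c.pt, ∀ j : Over i₀, c.π.app j.left s ∈ W j := by
  classical
  obtain ⟨U, hU, hUne⟩ : ∃ U : (D.obj i₀).Opens, IsAffineOpen U ∧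
      ∀ j : Over i₀, ∃ x ∈ W j, D.map j.hom x ∈ U := by
    by_contra! H
    have hex : ∀ x : D.obj i₀, ∃ U : (D.obj i₀).Opens, IsAffineOpen U ∧ x ∈ U := fun x => by
      obtain ⟨_, ⟨U, hU, rfl⟩, hxU, -⟩ :=
        (D.obj i₀).isBasis_affineOpens.exists_subset_of_mem_open (Set.mem_univ x) isOpen_univ
      exact ⟨U, hU, hxU⟩
    choose U hU hxU using hex
    choose j hj using fun x => H (U x) (hU x)
    obtain ⟨t, ht⟩ := CompactSpace.elim_nhds_subcover (fun x => (U x : Set (D.obj i₀)))
      (fun x => (U x).2.mem_nhds (hxU x))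
    obtain ⟨m, hm⟩ := IsCofiltered.inf_objs_exists (t.image j)
    obtain ⟨z, hz⟩ := hne m
    obtain ⟨x, hx, hzx⟩ := Set.mem_iUnion₂.mp (ht.ge (Set.mem_univ (D.map m.hom z)))
    obtain ⟨f⟩ := hm (Finset.mem_image_of_mem j hx)
    refine hj x (D.map f.left z) (hmap f hz) ?_
    rw [← Scheme.Hom.comp_apply, ← D.map_comp, Over.w f]
    exact hzx
  have haff (j : Over i₀) : IsAffineOpen (D.map j.hom ⁻¹ᵁ U) := hU.preimage _
  have (j : Over i₀) : IsAffine ((opensDiagram D i₀ U).obj j) := haff j
  let ι (j : Over i₀) : (opensDiagram D i₀ U).obj j ⟶ D.obj j.left := Scheme.Opens.ι _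
  have hι {j k : Over i₀} (f : j ⟶ k) (z : (opensDiagram D i₀ U).obj j) :
      ι k ((opensDiagram D i₀ U).map f z) = D.map f.left (ι j z) := by
    show ((opensDiagram D i₀ U).map f ≫ ι k) z = (ι j ≫ D.map f.left) z
    exact congrArg (fun g : (opensDiagram D i₀ U).obj j ⟶ D.obj k.left => g z)
      (Scheme.Hom.resLE_comp_ι _ _)
  let X (j : Over i₀) : Set ((opensDiagram D i₀ U).obj j) := ι j ⁻¹' W j
  let τ (j : Over i₀) : TopologicalSpace (X j) :=
    TopologicalSpace.induced Subtype.val
      (constructibleTopology ((opensDiagram D i₀ U).obj j))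
  let F : Over i₀ ⥤ TopCat.{u} :=
    { obj := fun j => @TopCat.of (X j) (τ j)
      map := fun {j k} f => @TopCat.ofHom _ _ (τ j) (τ k)
        ⟨fun z => ⟨(opensDiagram D i₀ U).map f z.1, by
          show ι k _ ∈ W k
          rw [hι]
          exact hmap f z.2⟩, by
          let := τ j
          exact continuous_induced_rng.mpr (@Continuous.comp (X j) _ _ (τ j)
            (constructibleTopology ((opensDiagram D i₀ U).obj j))
            (constructibleTopology ((opensDiagram D i₀ U).obj k)) Subtype.val
            ((opensDiagram D i₀ U).map f) (continuous_cons_of_hom ((opensDiagram D i₀ U).map f)) continuous_induced_dom)⟩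
      map_id := fun j => by
        refine TopCat.ext fun z => Subtype.ext ?_
        show (opensDiagram D i₀ U).map (𝟙 j) z.1 = z.1
        rw [CategoryTheory.Functor.map_id]
        rfl
      map_comp := fun {j k l} f g => by
        refine TopCat.ext fun z => Subtype.ext ?_
        show (opensDiagram D i₀ U).map (f ≫ g) z.1 = _
        rw [CategoryTheory.Functor.map_comp]
        rfl }
  have (j : Over i₀) : Nonempty (F.obj j) := by
    obtain ⟨x, hx, hxU⟩ := hUne j
    exact ⟨⟨⟨x, hxU⟩, hx⟩⟩
  have hclosed (j : Over i₀) :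
      IsClosed[constructibleTopology ((opensDiagram D i₀ U).obj j)] (X j) := hW j _ (haff j)
  have (j : Over i₀) : CompactSpace (F.obj j) := by
    have := spectralSpace_of_isAffine ((opensDiagram D i₀ U).obj j)
    exact (@isCompact_iff_compactSpace _ (constructibleTopology _) _).mp
      (SpecSp50.isCompact_cons_of_isClosed_cons (hclosed j))
  have (j : Over i₀) : T2Space (F.obj j) := by
    have := spectralSpace_of_isAffine ((opensDiagram D i₀ U).obj j)
    have h2 : @T2Space _ (constructibleTopology ((opensDiagram D i₀ U).obj j)) :=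
      SpecSp50.t2Space_cons
    exact @T2Space.of_injective_continuous _ _ (τ j) (constructibleTopology _) h2 Subtype.val
      Subtype.val_injective continuous_induced_dom
  obtain ⟨u, hu⟩ := TopCat.nonempty_limitCone_of_compact_t2_cofiltered_system F
  obtain ⟨s, hs⟩ := exists_π_apply_eq (Over.forget i₀ ⋙ D) _
    ((Functor.Initial.isLimitWhiskerEquiv (Over.forget i₀) c).symm hc)
    (fun j => ι j (u j).1) (fun {j k} f => by
      show D.map f.left _ = _
      rw [← hι f]
      exact congrArg (fun z => ι k z.1) (hu f))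
  refine ⟨s, fun j => ?_⟩
  have := hs j
  change c.π.app j.left s = _ at this
  rw [this]
  exact (u j).2

/-- A containment in the limit between compatible families already holds at some stage. -/
theorem exists_subset_of_preimage_subset {i₀ : I} [CompactSpace (D.obj i₀)]
    (E F : ∀ j : Over i₀, Set (D.obj j.left)) (hE : ∀ j, IsConsClosed (E j))
    (hF : ∀ j, IsConsClosed (F j)ᶜ)
    (hEm : ∀ {j k : Over i₀} (f : j ⟶ k), E j ⊆ D.map f.left ⁻¹' E k)
    (hFm : ∀ {j k : Over i₀} (f : j ⟶ k), D.map f.left ⁻¹' F k ⊆ F j)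
    (h : ∀ s : c.pt, (∀ j, c.π.app j.left s ∈ E j) → ∃ j, c.π.app j.left s ∈ F j) :
    ∃ j, E j ⊆ F j := by
  by_contra! H
  obtain ⟨s, hs⟩ := exists_mem_of_isConsClosed D c hc (fun j => E j ∩ (F j)ᶜ)
    (fun j => (hE j).inter (hF j))
    (fun j => by
      obtain ⟨x, hx, hx'⟩ := Set.not_subset.mp (H j)
      exact ⟨x, hx, hx'⟩)
    (fun f x hx => ⟨hEm f hx.1, fun h' => hx.2 (hFm f h')⟩)
  obtain ⟨j, hj⟩ := h s fun j => (hs j).1
  exact (hs j).2 hj

end Groth.Agent.LimTop61
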