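import Groth.Agent.LimTop61.Cons
import Groth.Agent.LimTop61.Descent

set_option autoImplicit false
set_option backward.isDefEq.respectTransparency false
set_option backward.defeqAttrib.useBackward true
universe u

open CategoryTheory CategoryTheory.Limits AlgebraicGeometry Topology

namespace Groth.Agent.LimTop61

/-- A constructibly closed subset of a quasi-compact scheme is quasi-compact. -/
lemma IsConsClosed.isCompact {X : Scheme.{u}} [CompactSpace X] {E : Set X} (hE : IsConsClosed E) :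
    IsCompact E := by
  let 𝒰 := X.affineCover.finiteSubcover
  have h (i : 𝒰.I₀) : IsCompact (E ∩ Set.range (𝒰.f i)) := by
    have hU : IsAffineOpen (𝒰.f i).opensRange :=
      haveI : IsAffine (𝒰.X i) := inferInstanceAs (IsAffine (Spec _))
      isAffineOpen_opensRange _
    have := spectralSpace_of_isAffineOpen hU
    have hc : IsCompact ((Scheme.Opens.ι (𝒰.f i).opensRange) ⁻¹' E) :=
      SpecSp50.isCompact_of_isClosed_cons (hE _ hU)
    have := hc.image (Scheme.Opens.ι (𝒰.f i).opensRange).continuous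
    rwa [Set.image_preimage_eq_inter_range, Scheme.Opens.range_ι, Scheme.Hom.coe_opensRange]
      at this
  have heq : E = ⋃ i, E ∩ Set.range (𝒰.f i) := by
    rw [← Set.inter_iUnion, 𝒰.iUnion_range, Set.inter_univ]
  rw [heq]
  exact isCompact_iUnion h

lemma resLE_apply_val {X Y : Scheme.{u}} (f : X ⟶ Y) {U : Y.Opens} {V : X.Opens}
    (e : V ≤ f ⁻¹ᵁ U) (z : (V : Scheme.{u})) : (f.resLE U V e z).1 = f z.1 :=
  congrArg (fun g : (V : Scheme.{u}) ⟶ Y => g z) (Scheme.Hom.resLE_comp_ι f e)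

variable {I : Type u} [SmallCategory I] [IsCofiltered I] (D : I ⥤ Scheme.{u}) (c : Cone D)
  (hc : IsLimit c) [∀ (i j : I) (f : i ⟶ j), IsAffineHom (D.map f)]

include hc

/-- Containment of an affine open in a set with constructibly closed complement descends. -/
lemma exists_preimage_affine_subset {i : I} (B : (D.obj i).Opens) (hB : IsAffineOpen B)
    (Z : Set (D.obj i)) (hZ : IsConsClosed Zᶜ)
    (h : ⇑(c.π.app i) ⁻¹' (B : Set (D.obj i)) ⊆ ⇑(c.π.app i) ⁻¹' Z) :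
    ∃ (j : I) (φ : j ⟶ i), ⇑(D.map φ) ⁻¹' (B : Set (D.obj i)) ⊆ ⇑(D.map φ) ⁻¹' Z := by
  have : CompactSpace ((opensDiagram D i B).obj (Over.mk (𝟙 i))) :=
    isCompact_iff_compactSpace.mp (hB.preimage (D.map (𝟙 i))).isCompact
  let F (j : Over (Over.mk (𝟙 i))) : Set ((opensDiagram D i B).obj j.left) :=
    (Scheme.Opens.ι (D.map j.left.hom ⁻¹ᵁ B) ≫ D.map j.left.hom) ⁻¹' Z
  obtain ⟨j, hj⟩ := exists_subset_of_preimage_subset (opensDiagram D i B) (opensCone D c i B)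
    (isLimitOpensCone D c hc i B) (i₀ := Over.mk (𝟙 i)) (fun _ => Set.univ) F
    (fun _ => isConsClosed_of_isClosed isClosed_univ)
    (fun j => by
      rw [← Set.preimage_compl]
      exact hZ.preimage _)
    (fun _ => Set.subset_univ _)
    (fun {j k} f z hz => by
      show (Scheme.Opens.ι (D.map j.left.hom ⁻¹ᵁ B) ≫ D.map j.left.hom) z ∈ Z
      convert (show (Scheme.Opens.ι (D.map k.left.hom ⁻¹ᵁ B) ≫ D.map k.left.hom)
        ((opensDiagram D i B).map f.left z) ∈ Z from hz) using 1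
      show _ = ((opensDiagram D i B).map f.left ≫ Scheme.Opens.ι (D.map k.left.hom ⁻¹ᵁ B) ≫
        D.map k.left.hom) z
      congr 1
      simp [← D.map_comp, Over.w f.left])
    (fun s _ => ⟨Over.mk (𝟙 _), by
      show ((opensCone D c i B).π.app (Over.mk (𝟙 i)) ≫ Scheme.Opens.ι _ ≫ D.map (𝟙 i)) s ∈ Z
      simp only [opensCone_π_app, Over.mk_left, CategoryTheory.Functor.map_id, Category.comp_id]
      rw [Scheme.Hom.resLE_comp_ι]
      exact h s.2⟩)
  refine ⟨j.left.left, j.left.hom, fun x hx => ?_⟩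
  exact hj (Set.mem_univ ⟨x, hx⟩)

/-- Containment between constructibly closed and open-complement sets descends. -/
lemma exists_preimage_subset {i : I} [CompactSpace (D.obj i)] (E F : Set (D.obj i))
    (hE : IsConsClosed E) (hF : IsConsClosed Fᶜ)
    (h : ⇑(c.π.app i) ⁻¹' E ⊆ ⇑(c.π.app i) ⁻¹' F) :
    ∃ (j : I) (φ : j ⟶ i), ⇑(D.map φ) ⁻¹' E ⊆ ⇑(D.map φ) ⁻¹' F := by
  have hmap {j k : Over i} (f : j ⟶ k) (x : D.obj j.left) :
      D.map k.hom (D.map f.left x) = D.map j.hom x := by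
    rw [← Scheme.Hom.comp_apply, ← D.map_comp, Over.w f]
  obtain ⟨j, hj⟩ := exists_subset_of_preimage_subset D c hc (i₀ := i)
    (fun j => D.map j.hom ⁻¹' E) (fun j => D.map j.hom ⁻¹' F)
    (fun j => hE.preimage _) (fun j => by rw [← Set.preimage_compl]; exact hF.preimage _)
    (fun f x hx => by simpa [hmap f x] using hx)
    (fun f x hx => by simpa [hmap f x] using hx)
    (fun s hs => ⟨Over.mk (𝟙 i), by
      have := hs (Over.mk (𝟙 i))
      simp only [Over.mk_hom, Set.mem_preimage, π_apply] at this ⊢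
      exact h this⟩)
  exact ⟨j.left, j.hom, hj⟩

/-- Openness of a set closed and open in the constructible topology descends to a stage. -/
theorem exists_isOpen_preimage {i : I} [CompactSpace (D.obj i)] (Z : Set (D.obj i))
    (hZ : IsConsClosed Z) (hZ' : IsConsClosed Zᶜ)
    (h : IsOpen (⇑(c.π.app i) ⁻¹' Z : Set c.pt)) :
    ∃ (j : I) (φ : j ⟶ i), IsOpen (⇑(D.map φ) ⁻¹' Z) := by
  have := compactSpace_pt D c hc i
  obtain ⟨m, φ, V, hV, hVeq⟩ := exists_preimage_eq_over D c hc i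
    ⟨_, h⟩ (hZ.preimage _).isCompact
  obtain ⟨s, hs, hsV⟩ := (isCompact_and_isOpen_iff_finite_and_eq_biUnion_affineOpens (U := (V : Set (D.obj m)))).mp
    ⟨hV, V.2⟩
  have hset : ⇑(c.π.app m) ⁻¹' (V : Set (D.obj m)) = ⇑(c.π.app i) ⁻¹' Z :=
    congrArg (fun U : c.pt.Opens => (U : Set c.pt)) hVeq
  have hcomp (j : I) (ψ : j ⟶ m) (T : Set (D.obj i)) :
      ⇑(D.map ψ) ⁻¹' (⇑(D.map φ) ⁻¹' T) = ⇑(D.map (ψ ≫ φ)) ⁻¹' T := by
    ext x; simp [D.map_comp]
  have := compactSpace_of_map D φ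
  have hπ : ⇑(c.π.app m) ⁻¹' (⇑(D.map φ) ⁻¹' Z) = ⇑(c.π.app i) ⁻¹' Z := by
    ext x
    simp only [Set.mem_preimage]
    rw [π_apply D c φ x]
  obtain ⟨a, α, ha⟩ := exists_preimage_subset D c hc (i := m) (⇑(D.map φ) ⁻¹' Z) (V : Set _)
    (hZ.preimage _) (isConsClosed_of_isClosed V.2.isClosed_compl)
    (le_of_eq (hπ.trans hset.symm))
  have hB (B : s) : ∃ (b : I) (β : b ⟶ m),
      ⇑(D.map β) ⁻¹' (B.1.1 : Set (D.obj m)) ⊆ ⇑(D.map β) ⁻¹' (⇑(D.map φ) ⁻¹' Z) := by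
    refine exists_preimage_affine_subset D c hc B.1.1 B.1.2 _
      (by rw [← Set.preimage_compl]; exact hZ'.preimage _) ?_
    rw [hπ, ← hset, hsV]
    exact Set.preimage_mono (Set.subset_biUnion_of_mem (u := fun U : (D.obj m).affineOpens =>
      (U.1 : Set (D.obj m))) B.2)
  choose b β hβ using hB
  have : Finite s := hs
  obtain ⟨l, ψ, ψ', hψ⟩ := IsCofiltered.wideCospan β
  obtain ⟨n, p, q, hpq⟩ := IsCofiltered.cospan ψ α
  refine ⟨n, p ≫ ψ ≫ φ, ?_⟩
  have heq : ⇑(D.map (p ≫ ψ ≫ φ)) ⁻¹' Z = ⇑(D.map (p ≫ ψ)) ⁻¹' (V : Set (D.obj m)) := by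
    rw [← Category.assoc, ← hcomp]
    refine Set.Subset.antisymm ?_ ?_
    · intro x hx
      simp only [Set.mem_preimage] at hx ⊢
      rw [hpq, D.map_comp, Scheme.Hom.comp_apply] at hx ⊢
      exact ha hx
    · intro x hx
      simp only [Set.mem_preimage] at hx ⊢
      rw [hsV] at hx
      obtain ⟨B, hBs, hxB⟩ := Set.mem_iUnion₂.mp hx
      have e : p ≫ ψ = (p ≫ ψ' ⟨B, hBs⟩) ≫ β ⟨B, hBs⟩ := by rw [Category.assoc, hψ]
      rw [e, D.map_comp, Scheme.Hom.comp_apply] at hxB ⊢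
      exact hβ ⟨B, hBs⟩ hxB
  rw [heq]
  exact V.2.preimage (D.map (p ≫ ψ)).continuous

/-- Local closedness of a set closed and open in the constructible topology descends to a stage. -/
theorem exists_isLocallyClosed_preimage {i : I} [CompactSpace (D.obj i)] (Z : Set (D.obj i))
    (hZ : IsConsClosed Z) (hZ' : IsConsClosed Zᶜ)
    (h : IsLocallyClosed (⇑(c.π.app i) ⁻¹' Z : Set c.pt)) :
    ∃ (j : I) (φ : j ⟶ i), IsLocallyClosed (⇑(D.map φ) ⁻¹' Z) := by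
  classical
  have := compactSpace_pt D c hc i
  obtain ⟨O, C, hO, hC, hOC⟩ := h
  have hW : IsCompact (⇑(c.π.app i) ⁻¹' Z : Set c.pt) :=
    IsConsClosed.isCompact (X := c.pt) (hZ.preimage (c.π.app i))
  have hloc (x : (⇑(c.π.app i) ⁻¹' Z : Set c.pt)) : ∃ (k : I) (_ : k ⟶ i) (B : (D.obj k).Opens),
      IsAffineOpen B ∧ c.π.app k x.1 ∈ B ∧
        ⇑(c.π.app k) ⁻¹' (B : Set (D.obj k)) ⊆ (O : Set c.pt) := by
    have hxO : (x : c.pt) ∈ O := (hOC.le x.2).1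
    obtain ⟨_, ⟨k, B, hB, rfl⟩, hxB, hBO⟩ :=
      TopologicalSpace.Opens.isBasis_iff_nbhd.mp (isBasis_preimage_isAffineOpen D c hc)
        (U := ⟨O, hO⟩) hxO
    obtain ⟨m, a, b, -⟩ := IsCofilteredOrEmpty.cone_objs k i
    refine ⟨m, b, D.map a ⁻¹ᵁ B, hB.preimage _, ?_, ?_⟩
    · show D.map a (c.π.app m x.1) ∈ B
      rw [π_apply D c a x.1]
      exact hxB
    · intro y hy
      refine hBO (show c.π.app k y ∈ B from ?_)
      rw [← π_apply D c a y]
      exact hy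
  choose k φ B hB hxB hBO using hloc
  obtain ⟨t, ht⟩ := hW.elim_finite_subcover
    (fun x => ⇑(c.π.app (k x)) ⁻¹' (B x : Set (D.obj (k x))))
    (fun x => (B x).2.preimage (c.π.app (k x)).continuous)
    (fun x hx => Set.mem_iUnion.mpr ⟨⟨x, hx⟩, hxB ⟨x, hx⟩⟩)
  obtain ⟨m, ψ, ψ', hψ⟩ := IsCofiltered.wideCospan fun x : t => φ x.1
  have := compactSpace_of_map D ψ
  let Bm (x : t) : (D.obj m).Opens := D.map (ψ' x) ⁻¹ᵁ B x.1
  have hBm (x : t) : IsAffineOpen (Bm x) := (hB x.1).preimage _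
  let V : (D.obj m).Opens := ⨆ x : t, Bm x
  have hπ {l : I} (χ : l ⟶ i) (T : Set (D.obj i)) :
      ⇑(c.π.app l) ⁻¹' (⇑(D.map χ) ⁻¹' T) = ⇑(c.π.app i) ⁻¹' T := by
    ext x
    simp only [Set.mem_preimage]
    rw [π_apply D c χ x]
  obtain ⟨a, α, ha⟩ := exists_preimage_subset D c hc (i := m) (⇑(D.map ψ) ⁻¹' Z) (V : Set _)
    (hZ.preimage _) (isConsClosed_of_isClosed V.2.isClosed_compl) (by
      rw [hπ]
      intro y hy
      obtain ⟨x, hx, hyx⟩ := Set.mem_iUnion₂.mp (ht hy)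
      show c.π.app m y ∈ V
      refine TopologicalSpace.Opens.mem_iSup.mpr ⟨⟨x, hx⟩, ?_⟩
      show D.map (ψ' ⟨x, hx⟩) (c.π.app m y) ∈ B x
      rw [π_apply D c _ y]
      exact hyx)
  have hclosed (x : t) : ∃ (b : I) (β : b ⟶ m),
      IsOpen (⇑(D.map β) ⁻¹' ((Bm x : Set (D.obj m)) \ ⇑(D.map ψ) ⁻¹' Z)) := by
    have : CompactSpace ((opensDiagram D m (Bm x)).obj (Over.mk (𝟙 m))) :=
      isCompact_iff_compactSpace.mp ((hBm x).preimage (D.map (𝟙 m))).isCompact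
    obtain ⟨b, β, hb⟩ := exists_isOpen_preimage (opensDiagram D m (Bm x)) (opensCone D c m (Bm x))
      (isLimitOpensCone D c hc m (Bm x)) (i := Over.mk (𝟙 m))
      ((Scheme.Opens.ι (D.map (𝟙 m) ⁻¹ᵁ Bm x) ≫ D.map (𝟙 m) ≫ D.map ψ) ⁻¹' Zᶜ)
      (hZ'.preimage _) (by rw [← Set.preimage_compl, compl_compl]; exact hZ.preimage _) (by
        have heq : ⇑((opensCone D c m (Bm x)).π.app (Over.mk (𝟙 m))) ⁻¹'
            (⇑(Scheme.Opens.ι (D.map (𝟙 m) ⁻¹ᵁ Bm x) ≫ D.map (𝟙 m) ≫ D.map ψ) ⁻¹' Zᶜ) =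
            ⇑(Scheme.Opens.ι (c.π.app m ⁻¹ᵁ Bm x)) ⁻¹' Cᶜ := by
          ext z
          show D.map ψ (D.map (𝟙 m) (((c.π.app m).resLE (D.map (𝟙 m) ⁻¹ᵁ Bm x)
            (c.π.app m ⁻¹ᵁ Bm x) (by simp [Bm, ← Scheme.Hom.comp_preimage]) z).1)) ∈ Zᶜ ↔ _
          rw [resLE_apply_val, π_apply D c (𝟙 m) z.1, π_apply D c ψ z.1]
          have hzO : Scheme.Opens.ι (c.π.app m ⁻¹ᵁ Bm x) z ∈ O := by
            refine hBO x.1 ?_
            have : D.map (ψ' x) (c.π.app m z.1) ∈ B x.1 := z.2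
            rw [π_apply D c _ z.1] at this
            exact this
          exact not_congr ⟨fun hz => (hOC.le hz).2, fun hz => hOC.ge ⟨hzO, hz⟩⟩
        rw [heq]
        exact hC.isOpen_compl.preimage (Scheme.Opens.ι _).continuous)
    refine ⟨b.left, β.left, ?_⟩
    have hopen := (Scheme.Opens.ι (D.map b.hom ⁻¹ᵁ Bm x)).isOpenEmbedding.isOpenMap _ hb
    have hβ : β.left = b.hom := by simpa using Over.w β
    convert hopen using 1
    ext y
    have hval (z : (opensDiagram D m (Bm x)).obj b) :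
        (Scheme.Opens.ι (D.map (𝟙 m) ⁻¹ᵁ Bm x) ≫ D.map (𝟙 m) ≫ D.map ψ)
          ((opensDiagram D m (Bm x)).map β z) = D.map ψ (D.map b.hom z.1) := by
      show D.map ψ (D.map (𝟙 m) (((D.map β.left).resLE (D.map (𝟙 m) ⁻¹ᵁ Bm x)
        (D.map b.hom ⁻¹ᵁ Bm x) _ z).1)) = _
      rw [resLE_apply_val, hβ, CategoryTheory.Functor.map_id]
      rfl
    constructor
    · rintro ⟨hyB, hyZ⟩
      rw [hβ] at hyB hyZ
      refine ⟨⟨y, hyB⟩, ?_, rfl⟩
      rw [Set.mem_preimage, Set.mem_preimage, hval]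
      exact hyZ
    · rintro ⟨z, hz, rfl⟩
      rw [hβ]
      rw [Set.mem_preimage, Set.mem_preimage, hval] at hz
      exact ⟨z.2, hz⟩
  choose b β hβ using hclosed
  obtain ⟨l, χ, χ', hχ⟩ := IsCofiltered.wideCospan β
  obtain ⟨n, p, q, hpq⟩ := IsCofiltered.cospan χ α
  refine ⟨n, p ≫ χ ≫ ψ, ?_⟩
  let Z' : Set (D.obj n) := ⇑(D.map (p ≫ χ ≫ ψ)) ⁻¹' Z
  refine ⟨((D.map (p ≫ χ) ⁻¹ᵁ V : (D.obj n).Opens) : Set (D.obj n)), closure Z',
    (D.map (p ≫ χ) ⁻¹ᵁ V).2, isClosed_closure, ?_⟩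
  refine Set.Subset.antisymm (fun y hy => ⟨?_, subset_closure hy⟩) ?_
  · have := ha (show D.map q y ∈ ⇑(D.map α) ⁻¹' (⇑(D.map ψ) ⁻¹' Z) by
      simp only [Set.mem_preimage, ← Scheme.Hom.comp_apply, ← D.map_comp]
      rw [← hpq, Category.assoc]
      exact hy)
    simp only [Set.mem_preimage, ← Scheme.Hom.comp_apply, ← D.map_comp, ← hpq] at this
    exact this
  · rintro y ⟨hyV, hycl⟩
    by_contra hyZ
    obtain ⟨x, hyx⟩ := TopologicalSpace.Opens.mem_iSup.mp hyV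
    let O' : Set (D.obj n) :=
      ⇑(D.map (p ≫ χ' x)) ⁻¹' (⇑(D.map (β x)) ⁻¹' ((Bm x : Set (D.obj m)) \ ⇑(D.map ψ) ⁻¹' Z))
    have hfac (w : D.obj n) : D.map (β x) (D.map (p ≫ χ' x) w) = D.map (p ≫ χ) w := by
      rw [← Scheme.Hom.comp_apply, ← D.map_comp, Category.assoc, hχ]
    have hψ' (w : D.obj n) : D.map ψ (D.map (p ≫ χ) w) = D.map (p ≫ χ ≫ ψ) w := by
      rw [← Scheme.Hom.comp_apply, ← D.map_comp, Category.assoc]
    have hyO : y ∈ O' := by
      refine ⟨?_, ?_⟩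
      · rw [hfac]; exact hyx
      · rw [Set.mem_preimage, hfac, hψ']; exact hyZ
    obtain ⟨w, hw, hw'⟩ := mem_closure_iff.mp hycl O'
      ((hβ x).preimage (D.map (p ≫ χ' x)).continuous) hyO
    refine hw.2 ?_
    rw [Set.mem_preimage, hfac, hψ']
    exact hw'

end Groth.Agent.LimTop61
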