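import Groth.Agent.LimTop61.PseudoFinite
import Groth.Agent.Approx60.ClosedLimit
import Groth.Agent.LimDesc62.Points
import Groth.Agent.SchBasics.FPCancel
import Mathlib.AlgebraicGeometry.ZariskisMainTheorem

/-!
Zariski's main theorem as a factorisation through a finite morphism, with finite presentation.
-/

set_option autoImplicit false
set_option backward.isDefEq.respectTransparency false
set_option backward.defeqAttrib.useBackward true

universe u

open CategoryTheory CategoryTheory.Limits AlgebraicGeometry Opposite TopologicalSpace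
open Groth.Agent.LimDesc62

namespace Groth.Agent.LimTop61

variable {X S : Scheme.{u}} (f : X ⟶ S) [CompactSpace S] [QuasiSeparatedSpace S]

/-- A separated quasi-finite morphism is an immersion into a finite scheme of finite presentation. -/
theorem exists_immersion_finite_fp [LocallyQuasiFinite f] [LocallyOfFiniteType f] [QuasiCompact f]
    [IsSeparated f] :
    ∃ (Y' : Scheme.{u}) (g : X ⟶ Y') (v : Y' ⟶ S), IsImmersion g ∧ IsFinite v ∧
      LocallyOfFinitePresentation v ∧ g ≫ v = f := by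
  have hg : IsImmersion f.toNormalization := inferInstance
  obtain ⟨α, _, _, _, D, π, ⟨hl⟩, hD⟩ := Approx60.exists_integral_limit f.fromNormalization
  have : CompactSpace X := QuasiCompact.compactSpace_of_compactSpace f
  let E := D ⋙ Over.forget S
  let c : Cone E := (Over.forget S).mapCone (Cone.mk (Over.mk f.fromNormalization) π)
  have hc : IsLimit c := isLimitOfPreserves (Over.forget S) hl
  have : ∀ i, IsFinite (D.obj i).hom := fun i => (hD i).1
  have : ∀ (i j : αᵒᵖ) (a : i ⟶ j), IsAffineHom (E.map a) := fun i j a => by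
    have : IsAffineHom ((D.map a).left ≫ (D.obj j).hom) := by rw [Over.w]; infer_instance
    exact IsAffineHom.of_comp (D.map a).left (D.obj j).hom
  have : ∀ i, CompactSpace (E.obj i) := fun i => by
    let d : (D.obj i).left ⟶ S := (D.obj i).hom
    have : IsFinite d := (hD i).1
    exact QuasiCompact.compactSpace_of_compactSpace d
  have : ∀ i, QuasiSeparatedSpace (E.obj i) := fun i => by
    let d : (D.obj i).left ⟶ S := (D.obj i).hom
    have : IsFinite d := (hD i).1
    exact quasiSeparatedSpace_of_quasiSeparated d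
  obtain ⟨i⟩ := IsCofiltered.nonempty (C := αᵒᵖ)
  let h : X ⟶ c.pt := f.toNormalization
  have : IsImmersion h := hg
  have e : ∀ j, (h ≫ c.π.app j) ≫ (D.obj j).hom = f := fun j => by
    refine (Category.assoc _ _ _).trans ?_
    rw [show c.π.app j ≫ (D.obj j).hom = f.fromNormalization from Over.w (π.app j)]
    exact f.toNormalization_fromNormalization
  have : LocallyOfFiniteType (h ≫ c.π.app i) := by
    have : LocallyOfFiniteType ((h ≫ c.π.app i) ≫ (D.obj i).hom) := by rw [e]; infer_instance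
    exact locallyOfFiniteType_of_comp _ (D.obj i).hom
  obtain ⟨j, -, hj⟩ := exists_isImmersion_stage E c hc i h
  exact ⟨_, h ≫ c.π.app j, (D.obj j).hom, hj, (hD j).1, (hD j).2, e j⟩

/-- A separated quasi-finite morphism is an open immersion followed by a finite morphism. -/
theorem exists_openImmersion_finite [LocallyQuasiFinite f] [LocallyOfFiniteType f] [QuasiCompact f]
    [IsSeparated f] :
    ∃ (T : Scheme.{u}) (j : X ⟶ T) (π : T ⟶ S), IsOpenImmersion j ∧ QuasiCompact j ∧ IsDominant j ∧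
      IsFinite π ∧ j ≫ π = f := by
  obtain ⟨Y', g, v, hg, hv, -, hgv⟩ := exists_immersion_finite_fp f
  have : QuasiCompact g := by
    have : QuasiCompact (g ≫ v) := by rw [hgv]; infer_instance
    exact QuasiCompact.of_comp g v
  have hf : QuasiCompact (g.toImage ≫ g.imageι ≫ v) := by
    rw [Scheme.Hom.toImage_imageι_assoc, hgv]; infer_instance
  exact ⟨g.image, g.toImage, g.imageι ≫ v, inferInstance, QuasiCompact.of_comp g.toImage (g.imageι ≫ v),
    inferInstance, inferInstance, by rw [Scheme.Hom.toImage_imageι_assoc]; exact hgv⟩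

/-- The same with a finite morphism of finite presentation. -/
theorem exists_openImmersion_finite_fp [LocallyQuasiFinite f] [LocallyOfFinitePresentation f]
    [QuasiCompact f] [IsSeparated f] :
    ∃ (T : Scheme.{u}) (j : X ⟶ T) (π : T ⟶ S), IsOpenImmersion j ∧ QuasiCompact j ∧ IsFinite π ∧
      LocallyOfFinitePresentation π ∧ j ≫ π = f := by
  obtain ⟨Y', g, v, hg, hv, hvp, hgv⟩ := exists_immersion_finite_fp f
  have : CompactSpace X := QuasiCompact.compactSpace_of_compactSpace f
  have : CompactSpace Y' := QuasiCompact.compactSpace_of_compactSpace v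
  have : QuasiSeparatedSpace Y' := quasiSeparatedSpace_of_quasiSeparated v
  have : QuasiCompact g := by
    have : QuasiCompact (g ≫ v) := by rw [hgv]; infer_instance
    exact QuasiCompact.of_comp g v
  obtain ⟨α, _, _, _, D, τ, ⟨hl⟩, hcl, hclm, hclπ⟩ := Approx60.exists_closed_limit g.imageι
  let E := D ⋙ Over.forget Y'
  let c : Cone E := (Over.forget Y').mapCone (Cone.mk (Over.mk g.imageι) τ)
  have hc : IsLimit c := isLimitOfPreserves (Over.forget Y') hl
  have : ∀ (i j : αᵒᵖ) (a : i ⟶ j), IsAffineHom (E.map a) := fun i j a =>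
    have : IsClosedImmersion (E.map a) := hclm i j a
    inferInstance
  have hclc : ∀ i, IsClosedImmersion (c.π.app i) := hclπ
  let j₀ : X ⟶ c.pt := g.toImage
  have : IsOpenImmersion j₀ := inferInstanceAs (IsOpenImmersion g.toImage)
  obtain ⟨i, V, hVc, hV⟩ := exists_preimage_eq E c hc j₀.opensRange
    (by rw [Scheme.Hom.coe_opensRange]; exact isCompact_range j₀.continuous)
  let E' := opensDiagram E i V
  let c' := opensCone E c i V
  have hc' : IsLimit c' := isLimitOpensCone E c hc i V
  let r : Over i := Over.mk (𝟙 i)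
  have hobjlfp : ∀ l : Over i, LocallyOfFinitePresentation (D.obj l.left).hom := fun l => (hcl _).2
  have hqc : ∀ l : Over i, CompactSpace (E.obj l.left) := fun l => by
    let d : (D.obj l.left).left ⟶ Y' := (D.obj l.left).hom
    have : IsClosedImmersion d := (hcl _).1
    exact QuasiCompact.compactSpace_of_compactSpace d
  have hqs : ∀ l : Over i, QuasiSeparatedSpace (E.obj l.left) := fun l => by
    let d : (D.obj l.left).left ⟶ Y' := (D.obj l.left).hom
    have : IsClosedImmersion d := (hcl _).1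
    exact quasiSeparatedSpace_of_quasiSeparated d
  have : ∀ l : Over i, CompactSpace (E'.obj l) := fun l => by
    refine isCompact_iff_compactSpace.mp ?_
    exact QuasiCompact.isCompact_preimage (f := E.map l.hom) _ V.2 hVc
  have : ∀ l : Over i, QuasiSeparatedSpace (E'.obj l) := fun l => by
    have := hqs l
    exact (isQuasiSeparated_iff_quasiSeparatedSpace _ (E.map l.hom ⁻¹ᵁ V).2).1 (.of_quasiSeparatedSpace _)
  -- the structure maps to the base
  let sm : ∀ l : Over i, (E.obj l.left) ⟶ S := fun l => (D.obj l.left).hom ≫ v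
  let θ : ((c.π.app i ⁻¹ᵁ V : c.pt.Opens) : Scheme.{u}) ≅ X :=
    c.pt.isoOfEq hV ≪≫ j₀.isoOpensRange.symm
  have hθ : θ.hom ≫ j₀ = (c.π.app i ⁻¹ᵁ V).ι := by simp [θ]
  let h : c'.pt ⟶ E'.obj r := c'.π.app r
  have hh : h ≫ (E.map r.hom ⁻¹ᵁ V).ι = (c.π.app i ⁻¹ᵁ V).ι ≫ c.π.app i := Scheme.Hom.resLE_comp_ι _ _
  have hcls : IsClosedImmersion h := by
    have h1 : IsPullback h (c.π.app i ⁻¹ᵁ V).ι (E.map r.hom ⁻¹ᵁ V).ι (c.π.app i) :=
      IsOpenImmersion.isPullback _ _ _ _ hh.symm (by simp [r])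
    exact MorphismProperty.of_isPullback (P := @IsClosedImmersion) h1.flip (hclc i)
  have hlfp : LocallyOfFinitePresentation h := by
    have : LocallyOfFiniteType ((E.map r.hom ⁻¹ᵁ V).ι ≫ sm r) := by
      have := hobjlfp r
      have : IsFinite v := hv
      exact inferInstanceAs (LocallyOfFiniteType (_ ≫ (D.obj r.left).hom ≫ v))
    have : LocallyOfFinitePresentation (h ≫ (E.map r.hom ⁻¹ᵁ V).ι ≫ sm r) := by
      have e : h ≫ (E.map r.hom ⁻¹ᵁ V).ι ≫ sm r = θ.hom ≫ f := by
        rw [reassoc_of% hh, ← reassoc_of% hθ, ← hgv]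
        congr 1
        show g.toImage ≫ c.π.app i ≫ (D.obj i).hom ≫ v = g ≫ v
        rw [← Category.assoc (c.π.app i), show c.π.app i ≫ (D.obj i).hom = g.imageι from Over.w (τ.app i),
          ← Category.assoc, Scheme.Hom.toImage_imageι]
      rw [e]; infer_instance
    exact SchBasics.locallyOfFinitePresentation_of_comp h ((E.map r.hom ⁻¹ᵁ V).ι ≫ sm r)
  have : Mono h := inferInstance
  have hiso : MorphismProperty.isomorphisms Scheme.{u} (pullback.snd h (c'.π.app r)) :=
    inferInstanceAs (IsIso (pullback.snd h h))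
  obtain ⟨k, φ, hk⟩ := descProp_isIso.desc E' c' hc' r h hlfp hiso
  have hk' : IsIso (pullback.snd h (E'.map φ)) := hk
  let ρ : E'.obj k ⟶ c'.pt := inv (pullback.snd h (E'.map φ)) ≫ pullback.fst h (E'.map φ)
  have hρ : ρ ≫ h = E'.map φ := by
    simp only [ρ, Category.assoc, pullback.condition, IsIso.inv_hom_id_assoc]
  have hmono : Mono (E'.map φ) := by
    have : IsClosedImmersion (E.map φ.left) := hclm _ _ φ.left
    have : Mono (E'.map φ ≫ (E.map r.hom ⁻¹ᵁ V).ι) := by
      have e : E'.map φ ≫ (E.map r.hom ⁻¹ᵁ V).ι = (E.map k.hom ⁻¹ᵁ V).ι ≫ E.map φ.left :=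
        Scheme.Hom.resLE_comp_ι _ _
      rw [e]; infer_instance
    exact mono_of_mono _ (E.map r.hom ⁻¹ᵁ V).ι
  have hπk : IsIso (c'.π.app k) := by
    refine ⟨ρ, ?_, ?_⟩
    · rw [← cancel_mono h, Category.assoc, hρ, c'.w, Category.id_comp]
    · rw [← cancel_mono (E'.map φ), Category.assoc, c'.w, Category.id_comp]
      exact hρ
  let d : (D.obj k.left).left ⟶ Y' := (D.obj k.left).hom
  have : IsClosedImmersion d := (hcl _).1
  have : LocallyOfFinitePresentation d := (hcl _).2
  let j : X ⟶ E.obj k.left := θ.inv ≫ c'.π.app k ≫ (E.map k.hom ⁻¹ᵁ V).ι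
  have : CompactSpace (E.obj k.left) := hqc k
  have : QuasiSeparatedSpace (E.obj k.left) := hqs k
  refine ⟨_, j, d ≫ v, inferInstance, inferInstance, inferInstance, inferInstance, ?_⟩
  have e : c'.π.app k ≫ (E.map k.hom ⁻¹ᵁ V).ι = (c.π.app i ⁻¹ᵁ V).ι ≫ c.π.app k.left :=
    Scheme.Hom.resLE_comp_ι _ _
  simp only [j, Category.assoc]
  rw [reassoc_of% e, ← reassoc_of% hθ, Iso.inv_hom_id_assoc, ← hgv]
  show g.toImage ≫ c.π.app k.left ≫ (D.obj k.left).hom ≫ v = g ≫ v
  rw [← Category.assoc (c.π.app k.left), show c.π.app k.left ≫ (D.obj k.left).hom = g.imageι from Over.w (τ.app k.left),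
    ← Category.assoc, Scheme.Hom.toImage_imageι]

/-- A finite surjective morphism over a quasi-compact open extends. -/
theorem exists_finite_surjective_extension {V : Scheme.{u}} (U : S.Opens) (hU : IsCompact (U : Set S))
    (v : V ⟶ (U : Scheme.{u})) [IsFinite v] [Surjective v] :
    ∃ (V' : Scheme.{u}) (π : V' ⟶ S) (i : V ⟶ V'), Surjective π ∧ IsFinite π ∧ IsPullback i v π U.ι := by
  have : CompactSpace (U : Scheme.{u}) := isCompact_iff_compactSpace.mp hU
  have : QuasiCompact U.ι := inferInstance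
  obtain ⟨T, j, p, hj, -, hdom, hp, hjp⟩ := exists_openImmersion_finite (v ≫ U.ι)
  have hle : j.opensRange ≤ p ⁻¹ᵁ U := by
    rintro _ ⟨x, rfl⟩
    show p (j x) ∈ U
    rw [← Scheme.Hom.comp_apply, hjp]
    exact (v x).2
  have hTU : j.opensRange = p ⁻¹ᵁ U := by
    refine le_antisymm hle fun z hz => ?_
    let j' : V ⟶ (p ⁻¹ᵁ U : Scheme.{u}) := IsOpenImmersion.lift (p ⁻¹ᵁ U).ι j (by
      rw [Scheme.Opens.range_ι]; rintro _ ⟨x, rfl⟩; exact hle ⟨x, rfl⟩)
    have hj' : j' ≫ (p ⁻¹ᵁ U).ι = j := IsOpenImmersion.lift_fac _ _ _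
    have hv : j' ≫ (p ∣_ U) = v := by
      rw [← cancel_mono U.ι, Category.assoc, morphismRestrict_ι, reassoc_of% hj', hjp]
    have : IsFinite (j' ≫ (p ∣_ U)) := hv.symm ▸ inferInstance
    have : IsFinite j' := IsFinite.of_comp j' (p ∣_ U)
    have hclo : IsClosed (Set.range j') := j'.isClosedMap.isClosed_range
    have hdense : Dense (Set.range j') := by
      intro w
      have := mem_closure_iff.1 (j.denseRange ((p ⁻¹ᵁ U).ι w))
      refine mem_closure_iff.2 fun O hO hwO => ?_
      obtain ⟨_, ⟨o, ho, rfl⟩, x, hx⟩ := this ((p ⁻¹ᵁ U).ι '' O)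
        ((p ⁻¹ᵁ U).ι.isOpenEmbedding.isOpenMap O hO) ⟨w, hwO, rfl⟩
      refine ⟨o, ho, x, (p ⁻¹ᵁ U).ι.isOpenEmbedding.injective ?_⟩
      rw [← Scheme.Hom.comp_apply, hj']
      exact hx
    have huniv : Set.range j' = Set.univ := hclo.closure_eq.symm.trans hdense.closure_eq
    obtain ⟨x, hx⟩ := huniv.ge (Set.mem_univ (⟨z, hz⟩ : (p ⁻¹ᵁ U : T.Opens)))
    refine ⟨x, ?_⟩
    rw [← hj', Scheme.Hom.comp_apply, hx]
    rfl
  let Z := Scheme.IdealSheafData.vanishingIdeal (X := S) ⟨(U : Set S)ᶜ, U.2.isClosed_compl⟩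
  let q : Z.subscheme ⟶ S := Z.subschemeι
  have hq : Set.range q = (U : Set S)ᶜ := by
    rw [Scheme.IdealSheafData.range_subschemeι, Scheme.IdealSheafData.coe_support_vanishingIdeal]
    rfl
  refine ⟨T ⨿ Z.subscheme, coprod.desc p q, j ≫ coprod.inl, ⟨fun s => ?_⟩, inferInstance, ?_⟩
  · by_cases hs : s ∈ U
    · obtain ⟨x, hx⟩ := v.surjective ⟨s, hs⟩
      refine ⟨(j ≫ (coprod.inl : T ⟶ T ⨿ Z.subscheme)) x, ?_⟩
      rw [← Scheme.Hom.comp_apply, Category.assoc, coprod.inl_desc, hjp, Scheme.Hom.comp_apply, hx]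
      rfl
    · obtain ⟨w, hw⟩ := hq.ge hs
      refine ⟨(coprod.inr : Z.subscheme ⟶ T ⨿ Z.subscheme) w, ?_⟩
      rw [← Scheme.Hom.comp_apply, coprod.inr_desc]
      exact hw
  · refine (IsOpenImmersion.isPullback v (j ≫ coprod.inl) U.ι (coprod.desc p q) ?_ ?_).flip
    · rw [Category.assoc, coprod.inl_desc, hjp]
    · refine SetLike.coe_injective (Set.ext fun z => ?_)
      rw [Scheme.Opens.opensRange_ι]
      have hz : z ∈ Set.range (coprod.inl : T ⟶ T ⨿ Z.subscheme) ∪
          Set.range (coprod.inr : Z.subscheme ⟶ T ⨿ Z.subscheme) :=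
        (isCompl_range_inl_inr T Z.subscheme).sup_eq_top.ge trivial
      constructor
      · intro hzU
        change coprod.desc p q z ∈ U at hzU
        rcases hz with ⟨t, rfl⟩ | ⟨w, rfl⟩
        · rw [← Scheme.Hom.comp_apply, coprod.inl_desc] at hzU
          obtain ⟨x, hx⟩ := hTU.ge hzU
          exact ⟨x, by rw [Scheme.Hom.comp_apply, hx]⟩
        · rw [← Scheme.Hom.comp_apply, coprod.inr_desc] at hzU
          exact absurd hzU (hq.le ⟨w, rfl⟩)
      · rintro ⟨x, rfl⟩
        show coprod.desc p q ((j ≫ coprod.inl) x) ∈ U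
        rw [← Scheme.Hom.comp_apply, Category.assoc, coprod.inl_desc, hjp]
        exact (v x).2

end Groth.Agent.LimTop61
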