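import Groth.Agent.LimTop61.StalkLimit
import Groth.Agent.LimTop61.FlatClosure

set_option autoImplicit false
set_option backward.isDefEq.respectTransparency false
set_option backward.defeqAttrib.useBackward true
universe u

open CategoryTheory CategoryTheory.Limits AlgebraicGeometry TopologicalSpace Opposite

namespace Groth.Agent.LimTop61

/-- Morphisms agreeing on the local scheme at a point agree near the point. -/
theorem exists_nhd_eq {X Y S : Scheme.{u}} (q : Y ⟶ S) [LocallyOfFiniteType q] (a b : X ⟶ Y)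
    (hab : a ≫ q = b ≫ q) (z : X) (h : X.fromSpecStalk z ≫ a = X.fromSpecStalk z ≫ b) :
    ∃ O : X.Opens, IsAffineOpen O ∧ z ∈ O ∧ O.ι ≫ a = O.ι ≫ b := by
  obtain ⟨i₀⟩ := (inferInstance : Nonempty (AffineNhd X z))
  let t : nhdSpec X z ⟶ (Functor.const _).obj S :=
    { app := fun j => (nhdι X z).app j ≫ a ≫ q
      naturality := fun j k f => by
        have := (nhdι X z).naturality f
        dsimp at this ⊢
        rw [Category.comp_id] at this ⊢
        rw [← Category.assoc, this] }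
  obtain ⟨k, f, hk⟩ := Scheme.exists_hom_comp_eq_comp_of_locallyOfFiniteType (nhdSpec X z) t q
    (nhdCone X z) (isLimitNhdCone X z) (i := op i₀)
    ((nhdι X z).app (op i₀) ≫ a) ((nhdι X z).app (op i₀) ≫ b)
    (by simp [t]) (by simp [t, hab]) (by
      rw [← Category.assoc, ← Category.assoc, nhdCone_π_ι]
      exact h)
  have hn := (nhdι X z).naturality f
  dsimp at hn
  rw [Category.comp_id] at hn
  rw [← Category.assoc, ← Category.assoc, hn] at hk
  refine ⟨_, (OrderDual.ofDual k.unop).1.2, (OrderDual.ofDual k.unop).2, ?_⟩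
  rw [← IsAffineOpen.isoSpec_hom_fromSpec (OrderDual.ofDual k.unop).1.2, Category.assoc,
    Category.assoc]
  exact congrArg _ hk

/-- A morphism from the local scheme at a point extends to a neighbourhood. -/
theorem exists_nhd_extend {X Y S : Scheme.{u}} (p : X ⟶ S) (q : Y ⟶ S)
    [LocallyOfFinitePresentation q] (x : X) (b : Spec (X.presheaf.stalk x) ⟶ Y)
    (hb : b ≫ q = X.fromSpecStalk x ≫ p) :
    ∃ (O : X.Opens) (hx : x ∈ O) (g : O.toScheme ⟶ Y), IsAffineOpen O ∧ g ≫ q = O.ι ≫ p ∧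
      O.fromSpecStalkOfMem x hx ≫ g = b := by
  let t : nhdSpec X x ⟶ (Functor.const _).obj S :=
    { app := fun j => (nhdι X x).app j ≫ p
      naturality := fun j k f => by
        have := (nhdι X x).naturality f
        dsimp at this ⊢
        rw [Category.comp_id] at this ⊢
        rw [← Category.assoc, this] }
  obtain ⟨j, g, hg, hg'⟩ := Scheme.exists_π_app_comp_eq_of_locallyOfFinitePresentation
    (nhdSpec X x) t q (nhdCone X x) (isLimitNhdCone X x) b (by
      ext j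
      simp only [NatTrans.comp_app, t, Functor.const_map_app]
      rw [← Category.assoc, nhdCone_π_ι]
      exact hb.symm)
  let W := (OrderDual.ofDual j.unop).1
  have hxW : x ∈ W.1 := (OrderDual.ofDual j.unop).2
  refine ⟨W.1, hxW, W.2.isoSpec.hom ≫ g, W.2, ?_, ?_⟩
  · rw [Category.assoc, hg', ← IsAffineOpen.isoSpec_hom_fromSpec W.2, Category.assoc]
    rfl
  · refine Eq.trans ?_ hg
    have : W.1.fromSpecStalkOfMem x hxW ≫ W.2.isoSpec.hom = (nhdCone X x).π.app j := by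
      rw [← cancel_mono W.2.fromSpec, Category.assoc, IsAffineOpen.isoSpec_hom_fromSpec,
        Scheme.Opens.fromSpecStalkOfMem_ι]
      exact (nhdCone_π_ι X x j).symm
    rw [← Category.assoc, this]

/-- Two morphisms given on two opens and agreeing on the overlap glue. -/
lemma exists_glue_two {X Y : Scheme.{u}} (U O : X.Opens) (hcov : U ⊔ O = ⊤) (a : U.toScheme ⟶ Y)
    (b : O.toScheme ⟶ Y)
    (h : X.homOfLE (inf_le_left : U ⊓ O ≤ U) ≫ a = X.homOfLE (inf_le_right : U ⊓ O ≤ O) ≫ b) :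
    ∃ g : X ⟶ Y, U.ι ≫ g = a ∧ O.ι ≫ g = b := by
  let F : ULift.{u} Bool → X.Opens := fun i => if i.down then U else O
  have hF : IsOpenCover F := IsOpenCover.mk (by
    rw [eq_top_iff, ← hcov]
    exact sup_le (le_iSup F ⟨true⟩) (le_iSup F ⟨false⟩))
  let 𝒰 := X.openCoverOfIsOpenCover F hF
  let G : ∀ i : ULift.{u} Bool, (F i).toScheme ⟶ Y
    | ⟨true⟩ => a
    | ⟨false⟩ => b
  have hG : ∀ i j, X.homOfLE (inf_le_left : F i ⊓ F j ≤ F i) ≫ G i =
      X.homOfLE (inf_le_right : F i ⊓ F j ≤ F j) ≫ G j := by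
    rintro ⟨_ | _⟩ ⟨_ | _⟩
    · rfl
    · show X.homOfLE (inf_le_left : O ⊓ U ≤ O) ≫ b = X.homOfLE (inf_le_right : O ⊓ U ≤ U) ≫ a
      have := congrArg (fun m => X.homOfLE (inf_comm O U).le ≫ m) h
      simpa using this.symm
    · exact h
    · rfl
  refine ⟨𝒰.glueMorphisms G (fun i j => by
    rw [← cancel_epi (isPullback_opens_inf _ _).isoPullback.hom]
    simpa [𝒰] using! hG i j), ?_, ?_⟩
  · exact 𝒰.ι_glueMorphisms G _ ⟨true⟩
  · exact 𝒰.ι_glueMorphisms G _ ⟨false⟩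

/-- Morphisms are equal if they are equal on two opens covering the scheme. -/
lemma hom_ext_two {X Y : Scheme.{u}} (U O : X.Opens) (hcov : U ⊔ O = ⊤) (g g' : X ⟶ Y)
    (hU : U.ι ≫ g = U.ι ≫ g') (hO : O.ι ≫ g = O.ι ≫ g') : g = g' := by
  have hF : IsOpenCover (fun i : ULift.{u} Bool => if i.down then U else O) := IsOpenCover.mk (by
    rw [eq_top_iff, ← hcov]
    exact sup_le (le_iSup (fun i : ULift.{u} Bool => if i.down then U else O) ⟨true⟩)
      (le_iSup (fun i : ULift.{u} Bool => if i.down then U else O) ⟨false⟩))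
  refine (X.openCoverOfIsOpenCover _ hF).hom_ext _ _ ?_
  rintro ⟨_ | _⟩
  · exact hO
  · exact hU

/-- Morphisms of schemes are determined by their restrictions to all the local schemes. -/
theorem hom_ext_of_fromSpecStalk {X Y : Scheme.{u}} (f g : X ⟶ Y)
    (h : ∀ z, X.fromSpecStalk z ≫ f = X.fromSpecStalk z ≫ g) : f = g := by
  have hp : ∀ z, f z = g z := fun z => by
    have := congrArg (fun m : Spec (X.presheaf.stalk z) ⟶ Y => m (IsLocalRing.closedPoint (X.presheaf.stalk z))) (h z)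
    simpa [Scheme.Hom.comp_apply, Scheme.fromSpecStalk_closedPoint] using this
  have key : ∀ {R : CommRingCat.{u}} {y y' : Y} (_ : y = y') (φ : Y.presheaf.stalk y ⟶ R)
      (φ' : Y.presheaf.stalk y' ⟶ R), Spec.map φ ≫ Y.fromSpecStalk y = Spec.map φ' ≫ Y.fromSpecStalk y' →
      ∀ (V : Y.Opens) (hy : y ∈ V) (hy' : y' ∈ V) (s : Γ(Y, V)),
        φ (Y.presheaf.germ V y hy s) = φ' (Y.presheaf.germ V y' hy' s) := by
    intro R y y' e φ φ' he V hy hy' s
    subst e
    rw [cancel_mono, Spec.map_inj] at he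
    rw [he]
  refine Scheme.Hom.ext (by ext z; exact hp z) fun V => ?_
  ext s
  refine TopCat.Presheaf.section_ext X.sheaf _ _ _ fun z hz => ?_
  have hf : f z ∈ V := by rw [hp z]; exact hz
  have := key (hp z) (f.stalkMap z) (g.stalkMap z) (by
    rw [Scheme.SpecMap_stalkMap_fromSpecStalk, Scheme.SpecMap_stalkMap_fromSpecStalk, h z]) V hf hz s
  rw [Scheme.Hom.germ_stalkMap_apply, Scheme.Hom.germ_stalkMap_apply] at this
  refine Eq.trans ?_ this
  exact TopCat.Presheaf.germ_res_apply X.presheaf _ z hz _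

/-- Gluing near a closed point. -/
theorem hom_glueing_closed_point {X Y S : Scheme.{u}} (p : X ⟶ S) (q : Y ⟶ S)
    [LocallyOfFinitePresentation q]
    (x : X) (U : X.Opens) (hU : (U : Set X) = {x}ᶜ) [QuasiCompact U.ι]
    (a : U.toScheme ⟶ Y) (b : Spec (X.presheaf.stalk x) ⟶ Y) (ha : a ≫ q = U.ι ≫ p)
    (hb : b ≫ q = X.fromSpecStalk x ≫ p)
    (hab : ((X.fromSpecStalk x) ⁻¹ᵁ U).ι ≫ b = ((X.fromSpecStalk x) ∣_ U) ≫ a) :
    ∃ g : X ⟶ Y, g ≫ q = p ∧ U.ι ≫ g = a ∧ X.fromSpecStalk x ≫ g = b := by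
  obtain ⟨O, hxO, bO, hO, hbO, hbx⟩ := exists_nhd_extend p q x b hb
  let W : X.Opens := U ⊓ O
  let a' : W.toScheme ⟶ Y := X.homOfLE inf_le_left ≫ a
  let b' : W.toScheme ⟶ Y := X.homOfLE inf_le_right ≫ bO
  have hq : a' ≫ q = b' ≫ q := by simp [a', b', ha, hbO]
  have hW : ∀ z : W.toScheme, z.1 ⤳ x → ∃ E : W.toScheme.Opens, z ∈ E ∧ E.ι ≫ a' = E.ι ≫ b' := by
    intro z hz
    let u : Spec (W.toScheme.presheaf.stalk z) ⟶ Spec (X.presheaf.stalk x) :=
      Spec.map (W.ι.stalkMap z) ≫ Spec.map (X.presheaf.stalkSpecializes hz)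
    have hu : u ≫ X.fromSpecStalk x = W.toScheme.fromSpecStalk z ≫ W.ι := by
      rw [Category.assoc]
      erw [Scheme.SpecMap_stalkSpecializes_fromSpecStalk hz]
      exact Scheme.SpecMap_stalkMap_fromSpecStalk W.ι
    have hr : Set.range u ⊆ Set.range ((X.fromSpecStalk x) ⁻¹ᵁ U).ι := by
      rw [Scheme.Opens.range_ι]
      rintro _ ⟨s, rfl⟩
      show X.fromSpecStalk x (u s) ∈ U
      rw [← Scheme.Hom.comp_apply, hu, Scheme.Hom.comp_apply]
      exact ((W.toScheme.fromSpecStalk z s : W.toScheme)).2.1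
    let u' := IsOpenImmersion.lift _ u hr
    have hu' : u' ≫ ((X.fromSpecStalk x) ⁻¹ᵁ U).ι = u := IsOpenImmersion.lift_fac _ _ _
    have h₁ : W.toScheme.fromSpecStalk z ≫ X.homOfLE (inf_le_left : W ≤ U) =
        u' ≫ (X.fromSpecStalk x ∣_ U) := by
      rw [← cancel_mono U.ι, Category.assoc, Category.assoc, Scheme.homOfLE_ι, morphismRestrict_ι,
        reassoc_of% hu', hu]
    have h₂ : W.toScheme.fromSpecStalk z ≫ X.homOfLE (inf_le_right : W ≤ O) =
        u ≫ O.fromSpecStalkOfMem x hxO := by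
      rw [← cancel_mono O.ι, Category.assoc, Category.assoc, Scheme.homOfLE_ι,
        Scheme.Opens.fromSpecStalkOfMem_ι, hu]
    obtain ⟨E, -, hzE, hE⟩ := exists_nhd_eq q a' b' hq z (by
      rw [reassoc_of% h₁, ← hab, reassoc_of% hu', reassoc_of% h₂, hbx])
    exact ⟨E, hzE, hE⟩
  let E : X.Opens := W.ι ''ᵁ ⨆ E' : {E' : W.toScheme.Opens // E'.ι ≫ a' = E'.ι ≫ b'}, E'.1
  let K : Set O.toScheme := O.ι ⁻¹' ((W : Set X) ∩ (E : Set X)ᶜ)
  have hK : IsConsClosed K := by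
    have : IsAffine O.toScheme := hO
    have hc : IsCompact (O.ι ⁻¹' (U : Set X)) := by
      have hcU := QuasiCompact.isCompact_preimage (f := U.ι) _ O.2 hO.isCompact
      rw [O.ι.isEmbedding.isCompact_iff]
      have := hcU.image U.ι.continuous
      convert this using 1
      rw [Set.image_preimage_eq_inter_range, Set.image_preimage_eq_inter_range,
        Scheme.Opens.range_ι, Scheme.Opens.range_ι, Set.inter_comm]
      rfl
    have hK' : K = O.ι ⁻¹' (U : Set X) ∩ O.ι ⁻¹' (E : Set X)ᶜ := by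
      ext y
      exact ⟨fun h => ⟨h.1.1, h.2⟩, fun h => ⟨⟨h.1, y.2⟩, h.2⟩⟩
    rw [hK']
    exact (isConsClosed_of_isConstructible (hc.isConstructible (U.2.preimage O.ι.continuous))).inter
      (isConsClosed_of_isClosed (E.2.isClosed_compl.preimage O.ι.continuous))
  have hxK : (⟨x, hxO⟩ : O.toScheme) ∉ closure K := fun h => by
    obtain ⟨e, he, hex⟩ := hK.exists_specializes h
    obtain ⟨E', hzE, hE'⟩ := hW ⟨e.1, he.1⟩ (hex.map O.ι.continuous)
    exact he.2 ⟨⟨e.1, he.1⟩, Opens.mem_iSup.mpr ⟨⟨E', hE'⟩, hzE⟩, rfl⟩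
  let O₁ : X.Opens := O.ι ''ᵁ ⟨(closure K)ᶜ, isClosed_closure.isOpen_compl⟩
  have hxO₁ : x ∈ O₁ := ⟨⟨x, hxO⟩, hxK, rfl⟩
  have hO₁ : O₁ ≤ O := fun y ⟨w, _, hw⟩ => hw ▸ w.2
  have hUE : U ⊓ O₁ ≤ E := by
    rintro y ⟨hyU, w, hw, rfl⟩
    by_contra hyE
    exact hw (subset_closure ⟨⟨hyU, w.2⟩, hyE⟩)
  have hcov : U ⊔ O₁ = ⊤ := eq_top_iff.mpr fun y _ => by
    by_cases hy : y = x
    · exact Or.inr (hy ▸ hxO₁)
    · exact Or.inl (show y ∈ (U : Set X) by rw [hU]; exact hy)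
  obtain ⟨g, hg₁, hg₂⟩ := exists_glue_two U O₁ hcov a (X.homOfLE hO₁ ≫ bO) (by
    rw [Scheme.homOfLE_homOfLE_assoc]
    let F : {E' : W.toScheme.Opens // E'.ι ≫ a' = E'.ι ≫ b'} → (U ⊓ O₁ : X.Opens).toScheme.Opens :=
      fun E' => (X.homOfLE (inf_le_inf_left U hO₁)) ⁻¹ᵁ E'.1
    have hF : IsOpenCover F := IsOpenCover.mk (eq_top_iff.mpr fun y _ => by
      obtain ⟨w, hw, hwy⟩ := hUE y.2
      obtain ⟨E', hwE⟩ := Opens.mem_iSup.mp hw
      refine Opens.mem_iSup.mpr ⟨E', ?_⟩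
      have hpt : X.homOfLE (inf_le_inf_left U hO₁) y = w := W.ι.isOpenEmbedding.injective (by
        rw [← Scheme.Hom.comp_apply, Scheme.homOfLE_ι]
        exact hwy.symm)
      show X.homOfLE (inf_le_inf_left U hO₁) y ∈ E'.1
      rw [hpt]
      exact hwE)
    refine ((U ⊓ O₁ : X.Opens).toScheme.openCoverOfIsOpenCover F hF).hom_ext _ _ fun E' => ?_
    show (F E').ι ≫ _ = (F E').ι ≫ _
    have := congrArg (fun m => Scheme.Hom.resLE (X.homOfLE (inf_le_inf_left U hO₁)) E'.1 (F E') le_rfl ≫ m) E'.2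
    simpa [Scheme.Hom.resLE_comp_ι_assoc, a', b'] using this)
  refine ⟨g, hom_ext_two U O₁ hcov _ _ ?_ ?_, hg₁, ?_⟩
  · rw [reassoc_of% hg₁, ha]
  · rw [reassoc_of% hg₂, hbO, Scheme.homOfLE_ι_assoc]
  · rw [← Scheme.Opens.fromSpecStalkOfMem_ι O₁ x hxO₁, Category.assoc, hg₂, ← hbx, ← Category.assoc]
    congr 1
    rw [← cancel_mono O.ι, Category.assoc, Scheme.homOfLE_ι, Scheme.Opens.fromSpecStalkOfMem_ι,
      Scheme.Opens.fromSpecStalkOfMem_ι]

end Groth.Agent.LimTop61
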