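import Groth.Agent.Henz21.ShBranch
import Groth.Agent.Henz21.FaithfullyFlat
import Groth.Agent.Henz21.Quotient

/-!
# Quotients of strict henselizations
-/

set_option autoImplicit false
set_option linter.style.haveILetI false
universe u

open IsLocalRing

namespace Groth.Agent.LimTop61

theorem isSepClosed_of_ringEquiv {k k' : Type u} [Field k] [Field k'] [IsSepClosed k] (e : k ≃+* k') :
    IsSepClosed k' := by
  refine IsSepClosed.of_exists_root k' fun p hp hirr hsep => ?_
  have hd : (p.map e.symm.toRingHom).degree ≠ 0 := by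
    rw [Polynomial.degree_map_eq_of_injective e.symm.injective]
    exact (Polynomial.degree_pos_of_irreducible hirr).ne'
  obtain ⟨y, hy⟩ := IsSepClosed.exists_root (p.map e.symm.toRingHom) hd hsep.map
  refine ⟨e y, ?_⟩
  have h := congrArg e hy
  rw [map_zero, ← RingEquiv.coe_toRingHom, ← Polynomial.eval₂_hom, Polynomial.eval₂_map] at h
  simpa using h

theorem surjective_residueFieldMap {R R' : Type u} [CommRing R] [CommRing R'] [IsLocalRing R] [IsLocalRing R']
    (f : R →+* R') [IsLocalHom f] (hf : Function.Surjective f) : Function.Surjective (ResidueField.map f) := fun y => by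
  obtain ⟨x, rfl⟩ := residue_surjective y
  obtain ⟨z, rfl⟩ := hf x
  exact ⟨residue R z, rfl⟩

variable {A S : Type u} [CommRing A] [IsLocalRing A] [CommRing S] [IsLocalRing S] [Algebra A S]
  [IsLocalHom (algebraMap A S)] [Hensel.IsStrictHenselization A S]

/-- The quotient of a strict henselization by an extended ideal is a strict henselization of the quotient. -/
theorem isStrictHenselization_quotient (I : Ideal A)
    [IsLocalRing (A ⧸ I)] [IsLocalRing (S ⧸ I.map (algebraMap A S))]
    [IsLocalHom (algebraMap (A ⧸ I) (S ⧸ I.map (algebraMap A S)))] :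
    Hensel.IsStrictHenselization (A ⧸ I) (S ⧸ I.map (algebraMap A S)) := by
  have hS := (inferInstance : Hensel.IsStrictHenselization A S)
  haveI := hS.henselian
  haveI : IsSepClosure (ResidueField A) (ResidueField S) := hS.isSepClosure
  set J := I.map (algebraMap A S) with hJ
  haveI : IsLocalHom (Ideal.Quotient.mk I) := IsLocalHom.of_surjective _ Ideal.Quotient.mk_surjective
  haveI : IsLocalHom (Ideal.Quotient.mk J) := IsLocalHom.of_surjective _ Ideal.Quotient.mk_surjective
  let eA : ResidueField A ≃+* ResidueField (A ⧸ I) := RingEquiv.ofBijective (ResidueField.map (Ideal.Quotient.mk I))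
    ⟨RingHom.injective _, surjective_residueFieldMap _ Ideal.Quotient.mk_surjective⟩
  let eS : ResidueField S ≃+* ResidueField (S ⧸ J) := RingEquiv.ofBijective (ResidueField.map (Ideal.Quotient.mk J))
    ⟨RingHom.injective _, surjective_residueFieldMap _ Ideal.Quotient.mk_surjective⟩
  have he : (ResidueField.map (algebraMap (A ⧸ I) (S ⧸ J))).comp eA.toRingHom =
      eS.toRingHom.comp (ResidueField.map (algebraMap A S)) := by
    refine Ideal.Quotient.ringHom_ext (RingHom.ext fun a => ?_)
    rfl
  refine ⟨Henz21.henselianLocalRing_of_surjective _ Ideal.Quotient.mk_surjective, ?_, fun T _ _ f hf τ hτ => ?_⟩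
  · haveI : IsSepClosed (ResidueField S) := IsSepClosure.sep_closed (ResidueField A)
    haveI : Algebra.IsSeparable (ResidueField A) (ResidueField S) := IsSepClosure.separable
    exact ⟨isSepClosed_of_ringEquiv eS, Algebra.IsSeparable.of_equiv_equiv eA eS he⟩
  · haveI := hf
    haveI : IsLocalHom (f.comp (Ideal.Quotient.mk I)) := RingHom.isLocalHom_comp _ _
    have hτ' : (τ.comp eS.toRingHom).comp (ResidueField.map (algebraMap A S)) =
        ResidueField.map (f.comp (Ideal.Quotient.mk I)) := by
      rw [RingHom.comp_assoc, ← he, ← RingHom.comp_assoc, hτ]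
      exact (ResidueField.map_comp _ _).symm
    obtain ⟨g, ⟨hg, hgr⟩, hgu⟩ := hS.universal T (f.comp (Ideal.Quotient.mk I)) (τ.comp eS.toRingHom) hτ'
    have hker : ∀ x ∈ J, g x = 0 := fun x hx =>
      (Ideal.map_le_iff_le_comap.mpr fun a ha => by
        rw [Ideal.mem_comap, RingHom.mem_ker, ← RingHom.comp_apply, hg, RingHom.comp_apply,
          Ideal.Quotient.eq_zero_iff_mem.mpr ha, map_zero] : J ≤ RingHom.ker g) hx
    refine ⟨Ideal.Quotient.lift _ g hker, ⟨Ideal.Quotient.ringHom_ext ?_, fun x => ?_⟩, fun g' hg' => ?_⟩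
    · rw [← hg]
      ext a
      rfl
    · obtain ⟨x, rfl⟩ := Ideal.Quotient.mk_surjective x
      exact hgr x
    · refine Ideal.Quotient.ringHom_ext ?_
      rw [Ideal.Quotient.lift_comp_mk]
      refine hgu _ ⟨?_, fun x => hg'.2 (Ideal.Quotient.mk J x)⟩
      rw [← hg'.1]
      ext a
      rfl

/-- A quotient of a strict henselization by an ideal with Noetherian quotient is Noetherian. -/
theorem isNoetherianRing_quotient_strictHenselization (I : Ideal A) (hI : I ≤ maximalIdeal A)
    [IsNoetherianRing (A ⧸ I)] : IsNoetherianRing (S ⧸ I.map (algebraMap A S)) := by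
  set J := I.map (algebraMap A S) with hJ
  have hJm : J ≤ maximalIdeal S :=
    (Ideal.map_mono hI).trans (Ideal.map_le_iff_le_comap.2 (maximalIdeal_comap (algebraMap A S)).ge)
  haveI : Nontrivial (A ⧸ I) :=
    Ideal.Quotient.nontrivial_iff.2 fun e => (maximalIdeal.isMaximal A).ne_top (top_le_iff.1 (e ▸ hI))
  haveI : Nontrivial (S ⧸ J) :=
    Ideal.Quotient.nontrivial_iff.2 fun e => (maximalIdeal.isMaximal S).ne_top (top_le_iff.1 (e ▸ hJm))
  haveI : IsLocalRing (A ⧸ I) := IsLocalRing.of_surjective' _ Ideal.Quotient.mk_surjective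
  haveI : IsLocalRing (S ⧸ J) := IsLocalRing.of_surjective' _ Ideal.Quotient.mk_surjective
  haveI : IsLocalHom (Ideal.Quotient.mk J) := IsLocalHom.of_surjective _ Ideal.Quotient.mk_surjective
  haveI : IsLocalHom (algebraMap (A ⧸ I) (S ⧸ J)) := ⟨fun a ha => by
    obtain ⟨a, rfl⟩ := Ideal.Quotient.mk_surjective a
    have h : IsUnit (Ideal.Quotient.mk J (algebraMap A S a)) := ha
    exact ((h.of_map).of_map).map _⟩
  haveI := isStrictHenselization_quotient (S := S) I
  exact Henz21.isNoetherianRing_strictHenselization (A ⧸ I) (S ⧸ J)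

end Groth.Agent.LimTop61
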