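import Groth.Agent.LimTop61.HasRoots

/-!
An integral surjective cover of any scheme by a scheme all of whose local rings are domains in
which every monic polynomial has a root: the integral closure of the structure sheaf in the
product of algebraic closures of all residue fields.
-/

set_option autoImplicit false
set_option linter.style.haveILetI false
set_option backward.isDefEq.respectTransparency false
set_option backward.defeqAttrib.useBackward true

universe u

open CategoryTheory CategoryTheory.Limits AlgebraicGeometry Polynomial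

noncomputable section

namespace Groth.Agent.LimTop61.AbsClosure

variable (S : Scheme.{u})

/-- An algebraic closure of the residue field at a point. -/
abbrev Ω (p : S) : Type u := AlgebraicClosure (S.residueField p)

/-- All functions on an open with values in the algebraic closures of the residue fields. -/
abbrev Prd (U : S.Opens) : Type u := ∀ p : U, Ω S p.1

/-- The values of a section. -/
def ev (U : S.Opens) : Γ(S, U) →+* Prd S U :=
  RingHom.pi fun p => (algebraMap (S.residueField p.1) (Ω S p.1)).comp (S.evaluation U p.1 p.2).hom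

/-- Restriction of functions. -/
def res {U V : S.Opens} (h : U ≤ V) : Prd S V →+* Prd S U :=
  RingHom.pi fun p => Pi.evalRingHom (fun q : V => Ω S q.1) ⟨p.1, h p.2⟩

lemma res_ev {U V : S.Opens} (h : U ≤ V) (x : Γ(S, V)) :
    res S h (ev S V x) = ev S U (S.presheaf.map (homOfLE h).op x) := by
  funext p
  change algebraMap _ _ (S.evaluation V p.1 (h p.2) x) =
    algebraMap _ _ (S.evaluation U p.1 p.2 (S.presheaf.map (homOfLE h).op x))
  rw [Scheme.evaluation, Scheme.evaluation, CommRingCat.comp_apply, CommRingCat.comp_apply,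
    TopCat.Presheaf.germ_res_apply]

/-- The subring of integral functions. -/
def integ (U : S.Opens) : Subring (Prd S U) :=
  letI := (ev S U).toAlgebra
  (integralClosure Γ(S, U) (Prd S U)).toSubring

lemma mem_integ_iff {U : S.Opens} {f : Prd S U} :
    f ∈ integ S U ↔ (ev S U).IsIntegralElem f := Iff.rfl

lemma res_mem {U V : S.Opens} (h : U ≤ V) {f : Prd S V} (hf : f ∈ integ S V) :
    res S h f ∈ integ S U := by
  obtain ⟨P, hP, hPf⟩ := hf
  refine ⟨P.map (S.presheaf.map (homOfLE h).op).hom, hP.map _, ?_⟩
  letI := (ev S U).toAlgebra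
  letI := (ev S V).toAlgebra
  rw [Polynomial.eval₂_map]
  have : (ev S U).comp (S.presheaf.map (homOfLE h).op).hom = (res S h).comp (ev S V) :=
    RingHom.ext fun x => (res_ev S h x).symm
  change Polynomial.eval₂ ((ev S U).comp _) _ P = 0
  rw [this, ← Polynomial.hom_eval₂]
  exact (congrArg (res S h) hPf).trans (map_zero _)

/-- The presheaf of integral functions. -/
def diagram : S.Opensᵒᵖ ⥤ CommRingCat.{u} where
  obj U := .of (integ S U.unop)
  map {V U} i := CommRingCat.ofHom ((res S i.unop.le).restrict _ _ fun _ hf => res_mem S i.unop.le hf)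

/-- The structure map. -/
def diagramMap : S.presheaf ⟶ diagram S where
  app U := CommRingCat.ofHom ((ev S U.unop).codRestrict _ fun x => (ev S U.unop).isIntegralElem_map)
  naturality {U V} i := by
    ext x
    exact Subtype.ext (res_ev S i.unop.le x).symm

variable {S}

lemma ev_apply_eq_zero {U : S.Opens} (r : Γ(S, U)) (p : U) (hp : p.1 ∉ S.basicOpen r) :
    ev S U r p = 0 := by
  change algebraMap _ _ (S.evaluation U p.1 p.2 r) = 0
  rw [(S.evaluation_eq_zero_iff_notMem_basicOpen p.1 p.2 r).2 hp, map_zero]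

lemma eval₂_apply {A : Type u} [CommRing A] {U : S.Opens} (P : A[X]) (g : A →+* Prd S U)
    (y : Prd S U) (p : U) :
    P.eval₂ g y p = P.eval₂ ((Pi.evalRingHom (fun q : U => Ω S q.1) p).comp g) (y p) :=
  Polynomial.hom_eval₂ P g (Pi.evalRingHom (fun q : U => Ω S q.1) p) y

open Classical in
lemma isLocalization_away (U : S.Opens) (hU : IsAffineOpen U) (r : Γ(S, U)) :
    letI := ((diagram S).map (homOfLE (S.basicOpen_le r)).op).hom.toAlgebra
    IsLocalization.Away (R := (diagram S).obj (.op U)) ((diagramMap S).app (.op U) r)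
      ((diagram S).obj (.op (S.basicOpen r))) := by
  letI := ((diagram S).map (homOfLE (S.basicOpen_le r)).op).hom.toAlgebra
  let D := S.basicOpen r
  let hD : D ≤ U := S.basicOpen_le r
  let ρ : Γ(S, U) →+* Γ(S, D) := (S.presheaf.map (homOfLE hD).op).hom
  letI : Algebra Γ(S, U) Γ(S, D) := ρ.toAlgebra
  have : IsLocalization.Away r Γ(S, D) := hU.isLocalization_basicOpen r
  have hev : ∀ x, res S hD (ev S U x) = ev S D (ρ x) := res_ev S hD
  refine IsLocalization.Away.mk _ ?_ ?_ ?_
  · have : IsUnit ((diagramMap S).app (.op D) (ρ r)) :=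
      ((IsLocalization.Away.algebraMap_isUnit (S := Γ(S, D)) r)).map _
    convert this using 1
    exact Subtype.ext (hev r)
  · intro z
    obtain ⟨z, hz⟩ := z
    letI := (ev S D).toAlgebra
    letI : Algebra Γ(S, U) (Prd S D) := ((ev S D).comp ρ).toAlgebra
    haveI : IsScalarTower Γ(S, U) Γ(S, D) (Prd S D) := .of_algebraMap_eq' rfl
    obtain ⟨⟨_, n, rfl⟩, hn⟩ :=
      IsIntegral.exists_multiple_integral_of_isLocalization (R := Γ(S, U)) (Submonoid.powers r)
        (Rₘ := Γ(S, D)) z (show IsIntegral Γ(S, D) z from hz)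
    let zn : Prd S D := ev S D (ρ (r ^ n)) * z
    have hzn : ((⟨r ^ n, n, rfl⟩ : Submonoid.powers r) • z : Prd S D) = zn :=
      (Algebra.smul_def (r ^ n) z)
    obtain ⟨P, hP, hPz⟩ : IsIntegral Γ(S, U) zn := hzn ▸ hn
    let y : Prd S U := fun p => if h : p.1 ∈ D then zn ⟨p.1, h⟩ else 0
    have hy : y ∈ integ S U := by
      refine ⟨X * P, monic_X.mul hP, ?_⟩
      letI := (ev S U).toAlgebra
      rw [Polynomial.eval₂_mul, Polynomial.eval₂_X]
      funext p
      by_cases h : p.1 ∈ D
      · have : P.eval₂ (ev S U) y p = 0 := by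
          rw [eval₂_apply]
          have h2 : P.eval₂ ((ev S D).comp ρ) zn ⟨p.1, h⟩ = 0 := congrFun hPz ⟨p.1, h⟩
          rw [eval₂_apply] at h2
          refine Eq.trans ?_ h2
          have hy' : y p = zn ⟨p.1, h⟩ := dif_pos h
          rw [hy']
          congr 1
          exact RingHom.ext fun x => congrFun (hev x) ⟨p.1, h⟩
        change y p * P.eval₂ (ev S U) y p = 0
        rw [this, mul_zero]
      · change y p * P.eval₂ (ev S U) y p = 0
        rw [show y p = 0 from dif_neg h, zero_mul]
    refine ⟨n, ⟨y, hy⟩, Subtype.ext (funext fun p => ?_)⟩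
    change z p * ((res S hD (ev S U r)) ^ n) p = res S hD y p
    rw [hev r, ← map_pow, ← map_pow]
    change z p * ev S D (ρ (r ^ n)) p = y ⟨p.1, hD p.2⟩
    rw [show y ⟨p.1, hD p.2⟩ = zn p from dif_pos p.2, mul_comm]
    rfl
  · intro a b hab
    refine ⟨1, Subtype.ext (funext fun p => ?_)⟩
    simp only [pow_one]
    change ev S U r p * a.1 p = ev S U r p * b.1 p
    by_cases h : p.1 ∈ D
    · rw [show a.1 p = b.1 p from congrFun (congrArg Subtype.val hab) ⟨p.1, h⟩]
    · rw [ev_apply_eq_zero r p h, zero_mul, zero_mul]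

variable (S)

lemma coequifibered :
    ((Scheme.AffineZariskiSite.toOpensFunctor S).op.whiskerLeft (diagramMap S)).Coequifibered :=
  Scheme.AffineZariskiSite.coequifibered_iff_forall_isLocalizationAway.mpr
    fun U r => isLocalization_away U.1 U.2 r

/-- The gluing datum. -/
def glueData := Scheme.AffineZariskiSite.relativeGluingData (coequifibered S)

instance : ((glueData S).functor ⋙ Scheme.forget).IsLocallyDirected :=
  Scheme.Cover.RelativeGluingData.instIsLocallyDirectedI₀CompFunctorForgetOfIsThin ..

/-- The cover. -/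
def T : Scheme.{u} := (glueData S).glued

/-- The structure morphism. -/
def π : T S ⟶ S := (glueData S).toBase

/-- The affine pieces. -/
def chart : (T S).OpenCover := (glueData S).cover

lemma chart_π (U : S.affineOpens) :
    (chart S).f U ≫ π S = Spec.map ((diagramMap S).app (.op U.1)) ≫ U.2.fromSpec :=
  colimit.ι_desc _ _

lemma π_preimage (U : S.affineOpens) : π S ⁻¹ᵁ U = ((chart S).f U).opensRange := by
  simpa using! (glueData S).toBase_preimage_eq_opensRange_ι U

instance : IsIntegralHom (π S) := by
  rw [IsZariskiLocalAtTarget.iff_of_iSup_eq_top (P := @IsIntegralHom) _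
    (iSup_affineOpens_eq_top _)]
  intro U
  let e := IsOpenImmersion.isoOfRangeEq (π S ⁻¹ᵁ U).ι ((chart S).f U)
    (by simpa using congr($(π_preimage S U).1))
  rw [← MorphismProperty.cancel_left_of_respectsIso @IsIntegralHom e.inv,
    ← MorphismProperty.cancel_right_of_respectsIso @IsIntegralHom _ U.2.isoSpec.hom]
  have : ((diagramMap S).app (.op U.1)).hom.IsIntegral := by
    intro x
    obtain ⟨P, hP, hPx⟩ := x.2
    refine ⟨P, hP, Subtype.val_injective ?_⟩
    exact (Polynomial.hom_eval₂ P _ (integ S U.1).subtype x).trans hPx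
  convert! IsIntegralHom.SpecMap_iff.mpr this
  rw [← cancel_mono U.2.fromSpec]
  simp [IsAffineOpen.isoSpec_hom, e, chart_π]

/-- The point of the spectrum over a given point. -/
def pointIdeal {U : S.Opens} (p : U) : Ideal (integ S U) :=
  RingHom.ker ((Pi.evalRingHom (fun q : U => Ω S q.1) p).comp (integ S U).subtype)

instance : Surjective (π S) := by
  refine ⟨fun p => ?_⟩
  obtain ⟨_, ⟨U, hU, rfl⟩, hpU, -⟩ :=
    S.isBasis_affineOpens.exists_subset_of_mem_open (Set.mem_univ p) isOpen_univ
  have hprime : (pointIdeal S (⟨p, hpU⟩ : U)).IsPrime := RingHom.ker_isPrime _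
  let z : Spec ((diagram S).obj (.op U)) := ⟨pointIdeal S (⟨p, hpU⟩ : U), hprime⟩
  refine ⟨(chart S).f ⟨U, hU⟩ z, ?_⟩
  rw [← Scheme.Hom.comp_apply, chart_π, Scheme.Hom.comp_apply]
  have h : Spec.map ((diagramMap S).app (.op U)) z = hU.primeIdealOf ⟨p, hpU⟩ := by
    refine PrimeSpectrum.ext (Ideal.ext fun r => ?_)
    change ev S U r ⟨p, hpU⟩ = 0 ↔ r ∈ (hU.primeIdealOf ⟨p, hpU⟩).asIdeal
    have h2 : p ∈ S.basicOpen r ↔ r ∉ (hU.primeIdealOf ⟨p, hpU⟩).asIdeal := by
      rw [← PrimeSpectrum.mem_basicOpen r (hU.primeIdealOf ⟨p, hpU⟩),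
        ← hU.fromSpec_preimage_basicOpen r]
      change p ∈ S.basicOpen r ↔ hU.fromSpec (hU.primeIdealOf ⟨p, hpU⟩) ∈ S.basicOpen r
      rw [hU.fromSpec_primeIdealOf]
    rw [show ev S U r ⟨p, hpU⟩ = algebraMap _ _ (S.evaluation U p hpU r) from rfl,
      map_eq_zero_iff _ (algebraMap (S.residueField p) (Ω S p)).injective,
      S.evaluation_eq_zero_iff_notMem_basicOpen p hpU r, h2, not_not]
  exact (congrArg hU.fromSpec h).trans (hU.fromSpec_primeIdealOf _)

open Classical in
/-- Every monic polynomial over the ring of integral functions has a root in it. -/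
theorem hasRoots_integ (U : S.Opens) : HasRoots (integ S U) := by
  intro P hP h0
  let e : ∀ p : U, integ S U →+* Ω S p.1 := fun p =>
    (Pi.evalRingHom (fun q : U => Ω S q.1) p).comp (integ S U).subtype
  have hroot : ∀ p, ∃ a, (P.map (e p)).eval a = 0 := fun p =>
    IsAlgClosed.exists_root _ (degree_ne_of_natDegree_ne (n := 0) (by rw [hP.natDegree_map]; exact h0))
  choose a ha using hroot
  let f : Prd S U := a
  have hPf : P.eval₂ (integ S U).subtype f = 0 := by
    funext p
    rw [eval₂_apply]
    refine Eq.trans ?_ (ha p)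
    rw [Polynomial.eval_map]
  have hf : f ∈ integ S U := by
    let := (ev S U).toAlgebra
    let C := integralClosure Γ(S, U) (Prd S U)
    exact isIntegral_trans (R := Γ(S, U)) (A := C) f (show IsIntegral C f from ⟨P, hP, hPf⟩)
  refine ⟨⟨f, hf⟩, Subtype.val_injective ?_⟩
  refine Eq.trans ?_ hPf
  rw [← eval₂_id]
  exact Polynomial.hom_eval₂ P (RingHom.id _) (integ S U).subtype ⟨f, hf⟩

open Classical in
/-- The local rings of the ring of integral functions are domains. -/
theorem isDomain_localization (U : S.Opens) (q : Ideal (integ S U)) [q.IsPrime] :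
    IsDomain (Localization.AtPrime q) := by
  let C := integ S U
  let supp (a : C) : Prd S U := fun p => if a.1 p = 0 then 0 else 1
  have hsupp (a : C) : supp a ∈ integ S U := by
    let := (ev S U).toAlgebra
    have h2 : supp a ^ 2 - supp a = 0 := funext fun p => by
      by_cases h : a.1 p = 0 <;> simp [supp, h]
    exact ⟨X ^ 2 - X, monic_X_pow_sub (degree_X_le.trans_lt (by norm_num)), by simpa using h2⟩
  have hmul (a : C) : (1 - (⟨supp a, hsupp a⟩ : C)) * a = 0 := Subtype.ext (funext fun p => by
    change (1 - supp a p) * a.1 p = 0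
    by_cases h : a.1 p = 0 <;> simp [supp, h])
  have hkill (a : C) (h : (⟨supp a, hsupp a⟩ : C) ∈ q) :
      algebraMap C (Localization.AtPrime q) a = 0 := by
    refine (IsLocalization.map_eq_zero_iff q.primeCompl _ a).2 ⟨⟨1 - ⟨supp a, hsupp a⟩, ?_⟩, hmul a⟩
    intro h1
    exact (Ideal.IsPrime.ne_top ‹_›) ((Ideal.eq_top_iff_one _).2 (by simpa using q.add_mem h1 h))
  have key (a b : C) (h : a * b = 0) :
      algebraMap C (Localization.AtPrime q) a = 0 ∨ algebraMap C (Localization.AtPrime q) b = 0 := by
    have h0 : (⟨supp a, hsupp a⟩ : C) * ⟨supp b, hsupp b⟩ = 0 := Subtype.ext (funext fun p => by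
      change supp a p * supp b p = 0
      have : a.1 p * b.1 p = 0 := congrFun (congrArg Subtype.val h) p
      rcases mul_eq_zero.1 this with h | h <;> simp [supp, h])
    rcases (Ideal.IsPrime.mem_or_mem ‹_› (h0 ▸ q.zero_mem :
      (⟨supp a, hsupp a⟩ : C) * ⟨supp b, hsupp b⟩ ∈ q)) with h | h
    · exact .inl (hkill a h)
    · exact .inr (hkill b h)
  have : NoZeroDivisors (Localization.AtPrime q) := ⟨fun {x y} hxy => by
    obtain ⟨a, s, rfl⟩ := IsLocalization.exists_mk'_eq q.primeCompl x
    obtain ⟨b, t, rfl⟩ := IsLocalization.exists_mk'_eq q.primeCompl y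
    rw [← IsLocalization.mk'_mul, IsLocalization.mk'_eq_zero_iff] at hxy
    obtain ⟨m, hm⟩ := hxy
    rcases key (m.1 * a) b (by rw [mul_assoc]; exact hm) with h | h
    · left
      rw [map_mul, (IsLocalization.map_units _ m).mul_right_eq_zero] at h
      rw [← IsLocalization.mk'_spec (Localization.AtPrime q) a s] at h
      exact (IsLocalization.map_units _ s).mul_left_eq_zero.1 h
    · right
      rw [← IsLocalization.mk'_spec (Localization.AtPrime q) b t] at h
      exact (IsLocalization.map_units _ t).mul_left_eq_zero.1 h⟩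
  exact NoZeroDivisors.to_isDomain _

end Groth.Agent.LimTop61.AbsClosure
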