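import Groth.Agent.FlatMor66.Split
import Mathlib

/-!
Étale neighbourhoods splitting quasi-finite points into purely inseparable finite pieces.
-/

set_option autoImplicit false
set_option linter.style.haveILetI false
set_option backward.isDefEq.respectTransparency false
set_option backward.defeqAttrib.useBackward true

universe u

open CategoryTheory CategoryTheory.Limits AlgebraicGeometry IsLocalRing TopologicalSpace
open Groth.Agent.FlatMor66

namespace Groth.Agent.LimTop61

theorem residueField_finite_of_quasiFiniteAt {U V : Scheme.{u}} (π : U ⟶ V) (u : U)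
    (hqf : π.QuasiFiniteAt u) : (π.residueFieldMap u).hom.Finite := by
  have hq : (π.stalkMap u).hom.QuasiFinite := hqf
  let A := V.presheaf.stalk (π u)
  let B := U.presheaf.stalk u
  algebraize [(π.stalkMap u).hom]
  letI : Algebra (ResidueField A) (ResidueField B) := (π.residueFieldMap u).hom.toAlgebra
  have : IsScalarTower A (ResidueField A) (ResidueField B) := IsScalarTower.of_algebraMap_eq fun a => rfl
  have : Algebra.QuasiFinite A (ResidueField B) :=
    Algebra.QuasiFinite.of_surjective_algHom (IsScalarTower.toAlgHom A B (ResidueField B))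
      IsLocalRing.residue_surjective
  have : Algebra.QuasiFinite (ResidueField A) (ResidueField B) := .of_restrictScalars A _ _
  exact (Module.Finite.of_quasiFinite : Module.Finite (ResidueField A) (ResidueField B))

theorem isPurelyInseparable_of_PIAt {U V : Scheme.{u}} (π : U ⟶ V) (v : U)
    (hqf : π.QuasiFiniteAt v) (h : PIAt π v) :
    letI := (π.residueFieldMap v).hom.toAlgebra
    IsPurelyInseparable (V.residueField (π v)) (U.residueField v) := by
  letI := (π.residueFieldMap v).hom.toAlgebra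
  have : Module.Finite (V.residueField (π v)) (U.residueField v) := residueField_finite_of_quasiFiniteAt π v hqf
  let K' := AlgebraicClosure (U.residueField v)
  have hsub : Subsingleton (Field.Emb (V.residueField (π v)) (U.residueField v)) := by
    refine ⟨fun σ₁ σ₂ => ?_⟩
    let θ (σ : U.residueField v →ₐ[V.residueField (π v)] K') : U.residueField v ⟶ CommRingCat.of K' :=
      CommRingCat.ofHom σ.toRingHom
    have hg : ∀ σ, gpt (Spec.map (θ σ) ≫ U.fromSpecResidueField v) = v := fun σ => by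
      rw [gpt_comp, Scheme.fromSpecResidueField_apply]
    have e := h K' _ _ (hg σ₁) (hg σ₂) (by
      rw [map_fromSpec_comp, map_fromSpec_comp]
      congr 2
      ext x
      exact (σ₁.commutes x).trans (σ₂.commutes x).symm)
    exact AlgHom.ext fun x => congrArg (fun φ => φ.hom x) (map_fromSpec_inj e)
  rw [isPurelyInseparable_iff_finSepDegree_eq_one, Field.finSepDegree]
  have : Nonempty (Field.Emb (V.residueField (π v)) (U.residueField v)) :=
    ⟨IsScalarTower.toAlgHom _ (U.residueField v) K'⟩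
  exact Nat.card_of_subsingleton (Classical.arbitrary _)

/-- The splitting, with geometric pure inseparability. -/
theorem exists_qf_splitting_PI {X S : Scheme.{u}} (f : X ⟶ S) [LocallyOfFiniteType f] (s : S)
    {ι : Type} [Finite ι] (x : ι → ↑X) (hinj : Function.Injective x) (hs : ∀ i, f (x i) = s)
    (hx : ∀ i, f.QuasiFiniteAt (x i)) :
    ∃ (U : Scheme.{u}) (g : U ⟶ S) (u : U), Etale g ∧ g u = s ∧
      ∃ (J : ι → Type) (_ : ∀ i, Finite (J i)) (V : ∀ i, J i → (pullback f g).Opens)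
        (v : ∀ i, J i → ↑(pullback f g)),
        (∀ i j, v i j ∈ V i j ∧ IsFinite ((V i j).ι ≫ pullback.snd f g) ∧ pullback.snd f g (v i j) = u ∧
          (∀ w : ↑(pullback f g), w ∈ V i j → pullback.snd f g w = u → w = v i j) ∧
          PIAt (pullback.snd f g) (v i j) ∧
          pullback.fst f g (v i j) = x i) ∧
        (∀ i j i' j', v i j = v i' j' → i = i' ∧ HEq j j') ∧
        (∀ (w : ↑(pullback f g)) (i : ι), pullback.snd f g w = u → pullback.fst f g w = x i → ∃ j, w = v i j) := by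
  let W : X.Opens := f.quasiFiniteLocus
  let f' : W.toScheme ⟶ S := W.ι ≫ f
  have : LocallyQuasiFinite f' := by
    rw [← Scheme.Hom.quasiFiniteLocus_eq_top_iff, Scheme.Hom.quasiFiniteLocus_comp]
    exact Scheme.Opens.ι_preimage_self W
  let x' : ι → W.toScheme := fun i => ⟨x i, hx i⟩
  let K := AlgebraicClosure (S.residueField s)
  let p : Spec (CommRingCat.of K) ⟶ S :=
    Spec.map (CommRingCat.ofHom (algebraMap (S.residueField s) K)) ≫ S.fromSpecResidueField s
  have hp : gpt p = s := (gpt_comp _ _).trans (S.fromSpecResidueField_apply s _)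
  obtain ⟨D⟩ := exists_splitting f' p (Set.range x') (Set.finite_range x') (by
    rintro _ ⟨i, rfl⟩
    exact (hs i).trans hp.symm)
  have := D.etale
  let m := pullback.map f' D.b f D.b W.ι (𝟙 _) (𝟙 S) (by simp [f']) (by simp)
  have hm2 : m ≫ pullback.snd f D.b = pullback.snd f' D.b := by simp [m]
  have hm1 : m ≫ pullback.fst f D.b = pullback.fst f' D.b ≫ W.ι := by simp [m]
  have : Finite {q : GPt f' p // gpt q.1 ∈ Set.range x'} := finite_gpts f' p _ (Set.finite_range x')
  have hJ : ∀ i, ∃ n, Nonempty (Fin n ≃ {q : {q : GPt f' p // gpt q.1 ∈ Set.range x'} // gpt q.1.1 = x' i}) :=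
    fun i => ⟨_, ⟨(Finite.equivFin _).symm⟩⟩
  choose n e using hJ
  replace e := fun i => (e i).some
  refine ⟨D.W, D.b, gpt D.r, D.etale, by rw [← gpt_comp, D.hr, hp], fun i => Fin (n i), fun i => inferInstance,
    fun i j => m ''ᵁ D.V (e i j).1, fun i j => m (D.pt (e i j).1), fun i j => ?_, ?_, ?_⟩
  · let q := (e i j).1
    have hfst : pullback.fst f' D.b (D.pt q) = x' i := (fst_liftPt ..).trans (e i j).2
    have hfstm : pullback.fst f D.b (m (D.pt q)) = x i := by
      rw [← Scheme.Hom.comp_apply, hm1, Scheme.Hom.comp_apply, hfst]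
      rfl
    have hsndm : pullback.snd f D.b (m (D.pt q)) = gpt D.r := by
      rw [← Scheme.Hom.comp_apply, hm2]
      exact snd_liftPt ..
    refine ⟨⟨D.pt q, D.mem q, rfl⟩, ?_, hsndm, ?_, ?_, hfstm⟩
    · have := D.finite q
      let iso := IsOpenImmersion.isoOfRangeEq ((D.V q).ι ≫ m) (m ''ᵁ D.V q).ι (by
        rw [Scheme.Hom.comp_base, TopCat.coe_comp, Set.range_comp, Scheme.Opens.range_ι, Scheme.Opens.range_ι]
        rfl)
      have : IsFinite (iso.hom ≫ (m ''ᵁ D.V q).ι ≫ pullback.snd f D.b) := by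
        rw [IsOpenImmersion.isoOfRangeEq_hom_fac_assoc, Category.assoc, hm2]
        infer_instance
      exact (MorphismProperty.cancel_left_of_respectsIso @IsFinite iso.hom _).1 this
    · rintro _ ⟨z, hz, rfl⟩ hzu
      rw [D.unique q z hz (by rw [← hm2, Scheme.Hom.comp_apply]; exact hzu)]
      rfl
    · let v := m (D.pt q)
      let Pw := pullback.snd f D.b
      have hpi : PIAt Pw v := by
        have h0 := D.pi (D.pt q) (snd_liftPt ..) (by rw [hfst]; exact ⟨i, rfl⟩)
        intro K' _ _ q₁ q₂ h₁ h₂ he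
        have hlift : ∀ q' : Spec (CommRingCat.of K') ⟶ pullback f D.b, gpt q' = v →
            ∃ l, l ≫ m = q' ∧ gpt l = D.pt q := by
          intro q' hq'
          have hr : Set.range q' ⊆ Set.range m := by
            rintro _ ⟨z, rfl⟩
            exact ⟨D.pt q, (hq'.symm.trans (congrArg q' (Subsingleton.elim _ z)))⟩
          refine ⟨IsOpenImmersion.lift m q' hr, IsOpenImmersion.lift_fac _ _ _, ?_⟩
          apply m.isOpenEmbedding.injective
          rw [← gpt_comp, IsOpenImmersion.lift_fac, hq']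
        obtain ⟨l₁, rfl, hl₁⟩ := hlift q₁ h₁
        obtain ⟨l₂, rfl, hl₂⟩ := hlift q₂ h₂
        rw [h0 K' l₁ l₂ hl₁ hl₂ (by rw [← hm2, ← Category.assoc, ← Category.assoc]; exact he)]
      exact hpi
  · intro i j i' j' h
    have h1 : (e i j).1 = (e i' j').1 := D.pt_injective (m.isOpenEmbedding.injective h)
    have hi : i = i' := by
      apply hinj
      have := (e i j).2.symm.trans ((congrArg (fun q => gpt q.1.1) h1).trans (e i' j').2)
      exact congrArg Subtype.val this
    subst hi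
    exact ⟨rfl, heq_of_eq ((e i).injective (Subtype.ext h1))⟩
  · intro w i hwu hwx
    obtain ⟨z, rfl⟩ : w ∈ Set.range m := by
      rw [Scheme.Pullback.range_map]
      exact ⟨⟨⟨x i, hx i⟩, hwx.symm⟩, _, rfl⟩
    have hz1 : pullback.fst f' D.b z = x' i := by
      apply Subtype.ext
      refine Eq.trans ?_ hwx
      rw [← Scheme.Hom.comp_apply m, hm1, Scheme.Hom.comp_apply]
      rfl
    obtain ⟨q, hq⟩ := D.eq_pt z (by rw [← hm2, Scheme.Hom.comp_apply]; exact hwu) (hz1.symm ▸ ⟨i, rfl⟩)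
    obtain ⟨j, hj⟩ := (e i).surjective ⟨q, by
      rw [← hq] at hz1
      exact (fst_liftPt ..).symm.trans hz1⟩
    refine ⟨j, ?_⟩
    show m z = m (D.pt (e i j).1)
    rw [hj, hq]

/-- A point of a finite open piece is quasi-finite. -/
theorem quasiFiniteAt_of_isFinite_open {P U : Scheme.{u}} (π : P ⟶ U) [LocallyOfFiniteType π]
    (V : P.Opens) [IsFinite (V.ι ≫ π)] {v : P} (hv : v ∈ V) : π.QuasiFiniteAt v := by
  have : (⟨v, hv⟩ : V.toScheme) ∈ V.ι ⁻¹ᵁ π.quasiFiniteLocus := by
    rw [← Scheme.Hom.quasiFiniteLocus_comp, (V.ι ≫ π).quasiFiniteLocus_eq_top_iff.2 inferInstance]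
    trivial
  exact this

/-- The splitting with field-theoretic conclusions. -/
theorem exists_qf_splitting {X S : Scheme.{u}} (f : X ⟶ S) [LocallyOfFiniteType f] (s : S)
    {ι : Type} [Finite ι] (x : ι → ↑X) (hinj : Function.Injective x) (hs : ∀ i, f (x i) = s)
    (hx : ∀ i, f.QuasiFiniteAt (x i)) :
    ∃ (U : Scheme.{u}) (g : U ⟶ S) (u : U), Etale g ∧ g u = s ∧
      ∃ (J : ι → Type) (_ : ∀ i, Finite (J i)) (V : ∀ i, J i → (pullback f g).Opens)
        (v : ∀ i, J i → ↑(pullback f g)),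
        (∀ i j, v i j ∈ V i j ∧ IsFinite ((V i j).ι ≫ pullback.snd f g) ∧ pullback.snd f g (v i j) = u ∧
          (∀ w : ↑(pullback f g), w ∈ V i j → pullback.snd f g w = u → w = v i j) ∧
          (letI := ((pullback.snd f g).residueFieldMap (v i j)).hom.toAlgebra
           Module.Finite ↑(U.residueField (pullback.snd f g (v i j))) ↑((pullback f g).residueField (v i j)) ∧
           IsPurelyInseparable ↑(U.residueField (pullback.snd f g (v i j))) ↑((pullback f g).residueField (v i j))) ∧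
          pullback.fst f g (v i j) = x i) ∧
        (∀ i j i' j', v i j = v i' j' → i = i' ∧ HEq j j') ∧
        (∀ (w : ↑(pullback f g)) (i : ι), pullback.snd f g w = u → pullback.fst f g w = x i → ∃ j, w = v i j) := by
  obtain ⟨U, g, u, hg, hgu, J, hJ, V, v, h1, h2, h3⟩ := exists_qf_splitting_PI f s x hinj hs hx
  refine ⟨U, g, u, hg, hgu, J, hJ, V, v, fun i j => ?_, h2, h3⟩
  obtain ⟨a1, a2, a3, a4, a5, a6⟩ := h1 i j
  have hq := quasiFiniteAt_of_isFinite_open (pullback.snd f g) (V i j) a1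
  exact ⟨a1, a2, a3, a4, ⟨residueField_finite_of_quasiFiniteAt _ _ hq,
    isPurelyInseparable_of_PIAt _ _ hq a5⟩, a6⟩

/-- In the separated case the pieces may be taken open, closed and disjoint. -/
theorem exists_qf_splitting_clopen {X S : Scheme.{u}} (f : X ⟶ S) [LocallyOfFiniteType f]
    [IsSeparated f] (s : S) {ι : Type} [Finite ι] (x : ι → ↑X) (hinj : Function.Injective x)
    (hs : ∀ i, f (x i) = s) (hx : ∀ i, f.QuasiFiniteAt (x i)) :
    ∃ (U : Scheme.{u}) (g : U ⟶ S) (u : U), Etale g ∧ g u = s ∧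
      ∃ (J : ι → Type) (_ : ∀ i, Finite (J i)) (V : ∀ i, J i → (pullback f g).Opens) (v : ∀ i, J i → ↑(pullback f g)),
        (∀ i j, IsClopen ((V i j : Set ↑(pullback f g)))) ∧
        (∀ i j i' j', ((V i j : Set ↑(pullback f g)) ∩ (V i' j')).Nonempty → i = i' ∧ HEq j j') ∧
        (∀ i j, v i j ∈ V i j ∧ IsFinite ((V i j).ι ≫ pullback.snd f g) ∧ pullback.snd f g (v i j) = u ∧
          (∀ w : ↑(pullback f g), w ∈ V i j → pullback.snd f g w = u → w = v i j) ∧
          (letI := ((pullback.snd f g).residueFieldMap (v i j)).hom.toAlgebra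
           IsPurelyInseparable ↑(U.residueField (pullback.snd f g (v i j))) ↑((pullback f g).residueField (v i j))) ∧
          pullback.fst f g (v i j) = x i) ∧
        (∀ (w : ↑(pullback f g)) (i : ι), pullback.snd f g w = u → pullback.fst f g w = x i → ∃ j, w ∈ V i j) := by
  obtain ⟨U, g, u, hg, hgu, J, hJ, V, v, h1, h2, h3⟩ := exists_qf_splitting_PI f s x hinj hs hx
  let Pr := pullback.snd f g
  have hcl : ∀ i j, IsClosed (V i j : Set ↑(pullback f g)) := fun i j => by
    have := (h1 i j).2.1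
    have : IsFinite (V i j).ι := IsFinite.of_comp _ Pr
    rw [← Scheme.Opens.range_ι]
    exact (V i j).ι.isClosedMap.isClosed_range
  let Q : Set ((Σ i, J i) × (Σ i, J i)) := {p | p.1 ≠ p.2}
  let C : Set U := ⋃ p ∈ Q, Pr '' ((V p.1.1 p.1.2 : Set ↑(pullback f g)) ∩ V p.2.1 p.2.2)
  have hCcl : IsClosed C := Set.Finite.isClosed_biUnion (Set.toFinite Q) fun p _ => by
    have := (h1 p.1.1 p.1.2).2.1
    have := (((V p.1.1 p.1.2).ι ≫ Pr).isClosedMap _ ((hcl p.2.1 p.2.2).preimage (V p.1.1 p.1.2).ι.continuous))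
    rwa [Scheme.Hom.comp_base, TopCat.coe_comp, Set.image_comp, Set.image_preimage_eq_range_inter,
      Scheme.Opens.range_ι] at this
  have huC : u ∉ C := by
    intro hu
    obtain ⟨p, hp, w, ⟨hw1, hw2⟩, hwu⟩ := Set.mem_iUnion₂.1 hu
    have e1 := (h1 p.1.1 p.1.2).2.2.2.1 w hw1 hwu
    have e2 := (h1 p.2.1 p.2.2).2.2.2.1 w hw2 hwu
    obtain ⟨hi, hj⟩ := h2 _ _ _ _ (e1.symm.trans e2)
    exact hp (Sigma.ext hi hj)
  let O : U.Opens := ⟨Cᶜ, hCcl.isOpen_compl⟩
  let μ := pullMap f g O.ι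
  have hμ : IsPullback μ (pullback.snd f (O.ι ≫ g)) Pr O.ι := isPullback_pullMap f g O.ι
  have : IsOpenImmersion μ := MorphismProperty.of_isPullback hμ.flip inferInstance
  have hμ1 : μ ≫ pullback.fst f g = pullback.fst f (O.ι ≫ g) := pullMap_fst f g O.ι
  have hv : ∀ i j, ∃ v', μ v' = v i j ∧ pullback.snd f (O.ι ≫ g) v' = ⟨u, huC⟩ := fun i j =>
    Scheme.exists_preimage_of_isPullback hμ (v i j) ⟨u, huC⟩ (h1 i j).2.2.1
  choose v' hv' hv'u using hv
  refine ⟨O.toScheme, O.ι ≫ g, ⟨u, huC⟩, inferInstance, hgu, J, hJ, fun i j => μ ⁻¹ᵁ V i j, v',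
    fun i j => ⟨(hcl i j).preimage μ.continuous, (μ ⁻¹ᵁ V i j).2⟩, ?_, fun i j => ?_, ?_⟩
  · intro i j i' j' ⟨w, hw1, hw2⟩
    by_contra hne
    have hQ : ((⟨i, j⟩, ⟨i', j'⟩) : (Σ i, J i) × (Σ i, J i)) ∈ Q := fun h =>
      hne ⟨congrArg Sigma.fst h, (Sigma.mk.inj_iff.1 h).2⟩
    refine (pullback.snd f (O.ι ≫ g) w).2 (Set.mem_iUnion₂.2 ⟨_, hQ, μ w, ⟨hw1, hw2⟩, ?_⟩)
    rw [← Scheme.Hom.comp_apply, hμ.w]
    rfl
  · obtain ⟨a1, a2, a3, a4, a5, a6⟩ := h1 i j
    have hfin : IsFinite ((μ ⁻¹ᵁ V i j).ι ≫ pullback.snd f (O.ι ≫ g)) := isFinite_pullMap f g O.ι (V i j)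
    have hmem : v' i j ∈ μ ⁻¹ᵁ V i j := show μ (v' i j) ∈ V i j from (hv' i j).symm ▸ a1
    refine ⟨hmem, hfin, hv'u i j, fun w hw hwu => ?_, ?_, ?_⟩
    · apply μ.isOpenEmbedding.injective
      rw [hv']
      refine a4 _ hw ?_
      rw [← Scheme.Hom.comp_apply, hμ.w, Scheme.Hom.comp_apply, hwu]
      rfl
    · exact isPurelyInseparable_of_PIAt _ _
        (quasiFiniteAt_of_isFinite_open _ _ hmem) (PIAt.pullMap ((hv' i j).symm ▸ a5))
    · rw [← hμ1, Scheme.Hom.comp_apply, hv', a6]
  · intro w i hwu hwx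
    obtain ⟨j, hj⟩ := h3 (μ w) i (by rw [← Scheme.Hom.comp_apply, hμ.w, Scheme.Hom.comp_apply, hwu]; rfl)
      (by rw [← Scheme.Hom.comp_apply, hμ1]; exact hwx)
    exact ⟨j, show μ w ∈ V i j from hj ▸ (h1 i j).1⟩

end Groth.Agent.LimTop61
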