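import Groth.Agent.LimTop61.HomStage

/-!
Homomorphisms and isomorphisms between inverse images descend to a stage.
-/

set_option autoImplicit false
set_option backward.isDefEq.respectTransparency.types false

noncomputable section

universe u

open CategoryTheory Limits AlgebraicGeometry TopologicalSpace Opposite
open Groth.Agent.QC70 Groth.Agent.QCPull72

namespace Groth.Agent.LimTop61

section Gen

variable {X Y : Scheme.{u}} (f : Y ⟶ X) [IsAffineHom f]

/-- Morphisms out of an inverse image are determined on units over affine opens. -/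
theorem hom_ext_unitSec (F : X.Modules) [F.IsQuasicoherent] {N : Y.Modules}
    (a b : (Scheme.Modules.pullback f).obj F ⟶ N)
    (h : ∀ (U : X.Opens), IsAffineOpen U → ∀ x,
      a.app (f ⁻¹ᵁ U) (unitSec f F (le_refl (f ⁻¹ᵁ U)) x) =
        b.app (f ⁻¹ᵁ U) (unitSec f F (le_refl (f ⁻¹ᵁ U)) x)) : a = b := by
  refine ((Scheme.Modules.pullbackPushforwardAdjunction f).homEquiv F N).injective ?_
  rw [Adjunction.homEquiv_unit, Adjunction.homEquiv_unit]
  refine Scheme.Modules.hom_ext _ _ fun W => ?_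
  ext s
  refine section_ext _ _ _ fun p hp => ?_
  obtain ⟨_, ⟨U, hU, rfl⟩, hpU, hUW⟩ :=
    X.isBasis_affineOpens.exists_subset_of_mem_open (show p ∈ W from hp) W.2
  refine ⟨U, hUW, hpU, ?_⟩
  rw [← app_res, ← app_res]
  have e := h U hU (res F hUW s)
  rw [unitSec, res_self] at e
  exact e

end Gen

section Stage

variable {I : Type u} [SmallCategory I] [IsCofiltered I] {D : I ⥤ Scheme.{u}} {c : Cone D}
  (hc : IsLimit c) [∀ {i j : I} (f : i ⟶ j), IsAffineHom (D.map f)] {i₀ : I}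
  [CompactSpace (D.obj i₀)] [QuasiSeparatedSpace (D.obj i₀)]

include hc in
theorem exists_hom_pullback_eq (F₀ G₀ : (D.obj i₀).Modules) [F₀.IsQuasicoherent] [CohB1.IsFP F₀]
    [G₀.IsQuasicoherent]
    (h : (Scheme.Modules.pullback (c.π.app i₀)).obj F₀ ⟶ (Scheme.Modules.pullback (c.π.app i₀)).obj G₀) :
    ∃ (j : I) (φ : j ⟶ i₀) (hj : (Scheme.Modules.pullback (D.map φ)).obj F₀ ⟶
        (Scheme.Modules.pullback (D.map φ)).obj G₀),
      ((pullbackCompIso (D.map φ) (c.π.app j) (c.w φ)).app F₀).inv ≫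
        (Scheme.Modules.pullback (c.π.app j)).map hj ≫
          ((pullbackCompIso (D.map φ) (c.π.app j) (c.w φ)).app G₀).hom = h := by
  have : IsAffineHom (c.π.app i₀) := isAffineHom_π_app D c hc i₀
  obtain ⟨j, ψ, hψ⟩ := exists_hom_stage hc G₀ F₀
    ((Scheme.Modules.pullbackPushforwardAdjunction (c.π.app i₀)).homEquiv _ _ h)
  let hj := ((Scheme.Modules.pullbackPushforwardAdjunction (D.map j.hom)).homEquiv F₀
    ((Scheme.Modules.pullback (D.map j.hom)).obj G₀)).symm ψ
  have hu : pullUnit (D.map j.hom) F₀ ≫ (Scheme.Modules.pushforward (D.map j.hom)).map hj = ψ :=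
    ((Scheme.Modules.pullbackPushforwardAdjunction (D.map j.hom)).homEquiv_unit _ _ hj).symm.trans
      (Equiv.apply_symm_apply _ _)
  refine ⟨j.left, j.hom, hj, hom_ext_unitSec _ F₀ _ _ fun U hU x => ?_⟩
  have e := preimage_comp_le (D.map j.hom) (c.π.app j.left) (c.w j.hom) U
  have h1 : ((pullbackCompIso (D.map j.hom) (c.π.app j.left) (c.w j.hom)).app F₀).inv.app _
      (unitSec (c.π.app i₀) F₀ (le_refl (c.π.app i₀ ⁻¹ᵁ U)) x) =
        unitSec (c.π.app j.left) ((Scheme.Modules.pullback (D.map j.hom)).obj F₀) e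
          (unitSec (D.map j.hom) F₀ (le_refl _) x) := by
    rw [← trSec_unitSec (D.map j.hom) (c.π.app j.left) (c.w j.hom) F₀ U x]
    exact congr(Scheme.Modules.Hom.app $(((pullbackCompIso (D.map j.hom) (c.π.app j.left)
      (c.w j.hom)).app F₀).hom_inv_id) _ _)
  have h2 : hj.app (D.map j.hom ⁻¹ᵁ U) (unitSec (D.map j.hom) F₀ (le_refl _) x) = ψ.app U x := by
    rw [unitSec, res_self]
    exact congr(Scheme.Modules.Hom.app $hu U x)
  have h3 : h.app (c.π.app i₀ ⁻¹ᵁ U) (unitSec (c.π.app i₀) F₀ (le_refl _) x) =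
      ((Scheme.Modules.pullbackPushforwardAdjunction (c.π.app i₀)).homEquiv _ _ h).app U x := by
    rw [unitSec, res_self, Adjunction.homEquiv_unit]
    rfl
  rw [h3, ← hψ U hU x, Scheme.Modules.Hom.comp_app, Scheme.Modules.Hom.comp_app,
    CategoryTheory.comp_apply, CategoryTheory.comp_apply, h1, pullback_map_app_unitSec, h2]
  rfl

include hc in
theorem nonempty_iso_iff_eventually (F₀ G₀ : (D.obj i₀).Modules) [F₀.IsQuasicoherent]
    [CohB1.IsFP F₀] [G₀.IsQuasicoherent] [CohB1.IsFP G₀] :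
    Nonempty ((Scheme.Modules.pullback (c.π.app i₀)).obj F₀ ≅
        (Scheme.Modules.pullback (c.π.app i₀)).obj G₀) ↔
      ∃ (j : I) (φ : j ⟶ i₀), Nonempty ((Scheme.Modules.pullback (D.map φ)).obj F₀ ≅
        (Scheme.Modules.pullback (D.map φ)).obj G₀) := by
  refine ⟨fun ⟨e⟩ => ?_, fun ⟨j, φ, ⟨e⟩⟩ => ⟨((pullbackCompIso (D.map φ) (c.π.app j) (c.w φ)).app F₀).symm
    ≪≫ (Scheme.Modules.pullback (c.π.app j)).mapIso e ≪≫
      (pullbackCompIso (D.map φ) (c.π.app j) (c.w φ)).app G₀⟩⟩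
  obtain ⟨j, φ, hj, hh⟩ := exists_hom_pullback_eq hc F₀ G₀ e.hom
  have hiso : IsIso ((Scheme.Modules.pullback (c.π.app j)).map hj) := by
    have h' : (Scheme.Modules.pullback (c.π.app j)).map hj =
        ((pullbackCompIso (D.map φ) (c.π.app j) (c.w φ)).app F₀).hom ≫ e.hom ≫
          ((pullbackCompIso (D.map φ) (c.π.app j) (c.w φ)).app G₀).inv := by
      rw [← hh]
      simp
    rw [h']
    infer_instance
  have : CompactSpace (D.obj j) := QuasiCompact.compactSpace_of_compactSpace (D.map φ)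
  have := isQuasicoherent_pullback (D.map φ) F₀
  have := isQuasicoherent_pullback (D.map φ) G₀
  have : F₀.IsFiniteType := SheafOfModules.instIsFiniteTypeOfIsFinitePresentation F₀
  have := isFiniteType_pullback (D.map φ) F₀
  have := isFP_pullback (D.map φ) G₀
  obtain ⟨k, ψ, hk⟩ := (isIso_pullback_map_iff_eventually hc hj).mp hiso
  let i := pullbackCompIso (D.map φ) (D.map ψ) (D.map_comp ψ φ).symm
  exact ⟨k, ψ ≫ φ, ⟨(i.app F₀).symm ≪≫ @asIso _ _ _ _ ((Scheme.Modules.pullback (D.map ψ)).map hj) hk ≪≫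
    i.app G₀⟩⟩

end Stage

end Groth.Agent.LimTop61
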