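import Groth.Prelude.Def_Dual3
import Groth.Prelude.Def_AlgSpMor5
import Groth.Agent.An92.Gor.BaseChange
import Groth.Agent.SpFP87.FlatAt
import Groth.Agent.SpFP87.FibreNoeth
import Groth.Agent.SpPts86.HasAtMorBC
import Groth.Agent.FlatMor66.FlatWeight

/-!
# The Gorenstein property of a morphism of algebraic spaces at a point
-/

set_option autoImplicit false
set_option linter.style.haveILetI false
set_option backward.isDefEq.respectTransparency false
universe u

open CategoryTheory CategoryTheory.Limits AlgebraicGeometry IsLocalRing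
open AlgSp Groth.Agent.SpFP87 Groth.Agent.SpPts86

namespace Groth.Agent.LimTop61

theorem gor_field (K : Type u) [CommRing K] (hK : IsField K) : LocCoh.IsGorensteinLocalRing K := by
  letI := hK.toField
  exact Gor18.regular_gor K

theorem gor_stalk_fibre_etale {X Y : Scheme.{u}} (p : X ⟶ Y) [Etale p] (x : X) :
    LocCoh.IsGorensteinLocalRing (X.presheaf.stalk x ⧸ (maximalIdeal (Y.presheaf.stalk (p x))).map (p.stalkMap x).hom) := by
  rw [FlatMor66.map_maximalIdeal_stalkMap p x]
  exact gor_field _ ((Ideal.Quotient.maximal_ideal_iff_isField_quotient _).1 inferInstance)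

theorem gorAt_of_etale {X Y : Scheme.{u}} (p : X ⟶ Y) [Etale p] (x : X) : Dual3.IsGorensteinAt p x :=
  (An92.Gor.gorAt_iff p x).2 ⟨Flat.stalkMap p x, gor_stalk_fibre_etale p x⟩

/-- Gorenstein local rings along an etale morphism. -/
theorem gor_stalk_etale_iff {X Y : Scheme.{u}} [IsLocallyNoetherian Y] (p : X ⟶ Y) [Etale p] (x : X) :
    LocCoh.IsGorensteinLocalRing (X.presheaf.stalk x) ↔ LocCoh.IsGorensteinLocalRing (Y.presheaf.stalk (p x)) := by
  haveI := LocallyOfFiniteType.isLocallyNoetherian p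
  letI := (p.stalkMap x).hom.toAlgebra
  haveI : Module.Flat (Y.presheaf.stalk (p x)) (X.presheaf.stalk x) := Flat.stalkMap p x
  haveI : IsLocalHom (algebraMap (Y.presheaf.stalk (p x)) (X.presheaf.stalk x)) :=
    inferInstanceAs (IsLocalHom (p.stalkMap x).hom)
  exact ⟨fun h => ((Gor18.gor_flat_iff (A := Y.presheaf.stalk (p x)) (B := X.presheaf.stalk x)).1 h).1,
    fun h => (Gor18.gor_flat_iff (A := Y.presheaf.stalk (p x)) (B := X.presheaf.stalk x)).2
      ⟨h, gor_stalk_fibre_etale p x⟩⟩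

theorem isLocallyNoetherian_fiber_comp {W U V : Scheme.{u}} (p : W ⟶ U) [LocallyOfFiniteType p] (h : U ⟶ V) (v : V)
    [IsLocallyNoetherian (h.fiber v)] : IsLocallyNoetherian ((p ≫ h).fiber v) := by
  haveI : IsLocallyNoetherian (pullback p (pullback.fst h (V.fromSpecResidueField v))) :=
    haveI : IsLocallyNoetherian (pullback h (V.fromSpecResidueField v)) := ‹_›
    LocallyOfFiniteType.isLocallyNoetherian (pullback.snd p (pullback.fst h (V.fromSpecResidueField v)))
  exact isLocallyNoetherian_of_isOpenImmersion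
    (pullbackRightPullbackFstIso h (V.fromSpecResidueField v) p).inv

theorem isLocallyNoetherian_fiber_of_lft {X Y : Scheme.{u}} (r : X ⟶ Y) [LocallyOfFiniteType r] (y : Y) :
    IsLocallyNoetherian (r.fiber y) :=
  LocallyOfFiniteType.isLocallyNoetherian (pullback.snd r (Y.fromSpecResidueField y))

/-- Invariance of the Gorenstein property at a point under etale changes of source and target. -/
theorem gorAt_roof {U V W W' : Scheme.{u}} (h : U ⟶ V) (g : W ⟶ W') (p : W ⟶ U) (r : W' ⟶ V) [Etale p] [Etale r]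
    (comm : g ≫ r = p ≫ h) (z : W) [IsLocallyNoetherian (h.fiber (h (p z)))] :
    Dual3.IsGorensteinAt h (p z) ↔ Dual3.IsGorensteinAt g z := by
  haveI : IsLocallyNoetherian (h.fiber ((p ≫ h) z)) := inferInstanceAs (IsLocallyNoetherian (h.fiber (h (p z))))
  haveI : IsLocallyNoetherian ((p ≫ h).fiber ((p ≫ h) z)) := isLocallyNoetherian_fiber_comp p h _
  haveI : IsLocallyNoetherian ((g ≫ r).fiber ((g ≫ r) z)) := comm.symm ▸ ‹IsLocallyNoetherian ((p ≫ h).fiber ((p ≫ h) z))›
  haveI : IsLocallyNoetherian (r.fiber (r (g z))) := isLocallyNoetherian_fiber_of_lft r _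
  have h1 : Dual3.IsGorensteinAt h (p z) ↔ Dual3.IsGorensteinAt (p ≫ h) z :=
    ⟨fun H => (An92.Gor.gorAt_comp p h z).1 (gorAt_of_etale p z) H,
      fun H => ((An92.Gor.gorAt_comp p h z).2 H (Flat.stalkMap p z)).2⟩
  rw [h1, ← comm]
  exact ⟨fun H => ((An92.Gor.gorAt_comp g r z).2 H (flat_stalkMap_of_comp_etale g r H.1)).1,
    fun H => (An92.Gor.gorAt_comp g r z).1 H (gorAt_of_etale r _)⟩

variable {S : Scheme.{u}} {X Y : Sp S}

/-- The fibres of `f` over field points are locally Noetherian. -/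
def FibresNoeth (f : X ⟶ Y) : Prop :=
  ∀ (k : FieldPt Y) (Xk : Sp S) (a : Xk ⟶ X) (b : Xk ⟶ (yon S).obj k.pt),
    IsPullback a b f k.toHom → IsLocNoethSp Xk

theorem isLocallyNoetherian_fiber_chart (hX : IsAlgSpace X) (hY : IsAlgSpace Y) {f : X ⟶ Y} (hN : FibresNoeth f)
    {U V : Over S} {a : (yon S).obj U ⟶ X} {b : (yon S).obj V ⟶ Y} {h : U ⟶ V}
    (ha : RepWith @Etale a) (hb : RepWith @Etale b) (w : a ≫ f = (yon S).map h ≫ b) (v : ↥V.left) :
    IsLocallyNoetherian (h.left.fiber v) := by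
  let P : Over S := (FieldPt.ofPt b v).pt
  let j : P ⟶ V := Over.homMk (V.left.fromSpecResidueField v) rfl
  have hj : (FieldPt.ofPt b v).toHom = (yon S).map j ≫ b := FieldPt.toHom_ofPt b v
  obtain ⟨R, r₁, r₂, sqR⟩ := exists_isPullback_yon hY.diag b ((yon S).map j ≫ b)
  haveI : Etale r₂.left := etale_snd_of_isPullback sqR hb
  obtain ⟨W, α, β, sqW⟩ := exists_isPullback_yon hY.diag (a ≫ f) ((yon S).map j ≫ b)
  -- `W` is locally noetherian
  have sqQ := IsPullback.of_hasPullback f (FieldPt.ofPt b v).toHom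
  have hQ := isAlgSpace_of_isPullback sqQ hX (IsAlgSpace.yon_obj _) hY.diag
  haveI : IsLocallyNoetherian W.left := by
    let c := sqQ.lift ((yon S).map α ≫ a) ((yon S).map β) (by rw [hj, Category.assoc]; exact sqW.w)
    have hc : IsPullback ((yon S).map α) c a (pullback.fst f (FieldPt.ofPt b v).toHom) := by
      refine IsPullback.of_bot ?_ (sqQ.lift_fst _ _ _).symm sqQ
      rw [sqQ.lift_snd, hj]
      exact sqW
    exact isLocallyNoetherian_chart hQ (hN _ _ _ _ sqQ)
      ((repWith_isStableUnderBaseChange (@Etale : MorphismProperty Scheme.{u})).of_isPullback hc ha)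
  -- `W` is the pullback of `R`
  obtain ⟨n, hn⟩ := (yon S).map_surjective (sqR.lift ((yon S).map (α ≫ h)) ((yon S).map β) (by
    rw [Functor.map_comp, Category.assoc, ← w, sqW.w]))
  have hW : IsPullback α.left n.left h.left r₁.left := by
    refine SpPts86.isPullback_left_of_yon (IsPullback.of_bot (h₁₁ := (yon S).map α) (v₂₁ := (yon S).map r₂)
      (v₂₂ := b) (h₃₁ := (yon S).map j ≫ b) (v₁₁ := (yon S).map n) (v₁₂ := (yon S).map h) (h₂₁ := (yon S).map r₁) ?_ ?_ sqR)
    · rw [hn, sqR.lift_snd, ← w]; exact sqW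
    · rw [hn, sqR.lift_fst, Functor.map_comp]
  -- the fibre is the base change of a section
  obtain ⟨σ, hσ⟩ := (yon S).map_surjective (sqR.lift ((yon S).map j) (𝟙 _) (by rw [Category.id_comp]))
  have hσ1 : σ ≫ r₁ = j := (yon S).map_injective (by rw [Functor.map_comp, hσ, sqR.lift_fst])
  have hσ2 : σ ≫ r₂ = 𝟙 P := (yon S).map_injective (by rw [Functor.map_comp, hσ, sqR.lift_snd, CategoryTheory.Functor.map_id])
  haveI : Etale (σ.left ≫ r₂.left) := by rw [← Over.comp_left, hσ2]; exact inferInstanceAs (Etale (𝟙 P.left))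
  haveI : Etale σ.left :=
    MorphismProperty.of_postcomp (W := @Etale) (W' := @Etale) σ.left r₂.left inferInstance inferInstance
  haveI := LocallyOfFiniteType.isLocallyNoetherian (pullback.fst n.left σ.left)
  have e : σ.left ≫ r₁.left = V.left.fromSpecResidueField v := by rw [← Over.comp_left, hσ1]; rfl
  have hF := (IsPullback.of_hasPullback n.left σ.left).paste_horiz hW
  rw [e] at hF
  exact isLocallyNoetherian_of_isOpenImmersion hF.isoPullback.inv

/-- The Gorenstein property at a point may be tested in one chart. -/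
theorem locPAt_gor_iff_chart (hX : IsAlgSpace X) (hY : IsAlgSpace Y) {f : X ⟶ Y} (hN : FibresNoeth f)
    {U V : Over S} {a : (yon S).obj U ⟶ X} {b : (yon S).obj V ⟶ Y} {h : U ⟶ V}
    (ha : RepWith @Etale a) (hb : RepWith @Etale b) (w : a ≫ f = (yon S).map h ≫ b) (u : ↥U.left) :
    LocPAt (fun h u => Dual3.IsGorensteinAt h u) f (Points.ofPt a u) ↔ Dual3.IsGorensteinAt h.left u := by
  refine ⟨fun H => H a b h u ha hb w rfl, fun H U' V' a' b' h' u' ha' hb' w' hu' => ?_⟩
  obtain ⟨W, W', g, p, q, r, s, z, hp, hq, hr, hs, e1, e2, rfl, rfl⟩ :=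
    exists_roof hX hY ha hb w ha' hb' w' hu'.symm
  haveI := isLocallyNoetherian_fiber_chart hX hY hN ha hb w (h.left (p.left z))
  haveI := isLocallyNoetherian_fiber_chart hX hY hN ha' hb' w' (h'.left (q.left z))
  haveI := hp; haveI := hq; haveI := hr; haveI := hs
  exact (gorAt_roof h'.left g.left q.left s.left e2 z).2 ((gorAt_roof h.left g.left p.left r.left e1 z).1 H)

theorem fieldPt_toHom_map {X Y : Sp S} (g : X ⟶ Y) (p : FieldPt X) : (p.map g).toHom = p.toHom ≫ g := by
  refine uE.injective ?_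
  rw [GrothendieckTopology.uliftYonedaEquiv_comp]
  change uE (uE.symm _) = g.hom.app _ (uE (uE.symm _))
  rw [Equiv.apply_symm_apply, Equiv.apply_symm_apply]
  rfl

/-- A chart of a base change which is a fibre product of schemes. -/
theorem exists_pullback_chart {X' Y' : Sp S} {f : X ⟶ Y} {g : Y' ⟶ Y} {g' : X' ⟶ X} {f' : X' ⟶ Y'}
    (sq : IsPullback g' f' f g) (hX : IsAlgSpace X) (hY : IsAlgSpace Y) (hY' : IsAlgSpace Y') :
    ∃ (A V V' W : Over S) (a : (yon S).obj A ⟶ X) (b : (yon S).obj V ⟶ Y) (b' : (yon S).obj V' ⟶ Y')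
      (c : (yon S).obj W ⟶ X') (h : A ⟶ V) (k : V' ⟶ V) (n : W ⟶ A) (h' : W ⟶ V'),
      RepWith @Etale a ∧ RepWith @Etale b ∧ RepWith @Etale b' ∧ RepWith @Etale c ∧ RepWith @Surjective c ∧
      IsPullback n.left h'.left h.left k.left ∧ a ≫ f = (yon S).map h ≫ b ∧
      b' ≫ g = (yon S).map k ≫ b ∧ c ≫ g' = (yon S).map n ≫ a ∧ c ≫ f' = (yon S).map h' ≫ b' := by
  obtain ⟨V, b, hb, hbs⟩ := hY.atlas
  obtain ⟨V', b', k, hb', hbs', w'⟩ := exists_compatible_chart g hY' hY.diag hb hbs
  have sqP := IsPullback.of_hasPullback f b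
  have hP := isAlgSpace_of_isPullback sqP hX (IsAlgSpace.yon_obj _) hY.diag
  obtain ⟨A, α, hα, hαs⟩ := hP.atlas
  obtain ⟨h, hh⟩ := (yon S).map_surjective (α ≫ pullback.snd f b)
  have sqP' := IsPullback.of_hasPullback f' b'
  let φ : pullback f' b' ⟶ pullback f b :=
    sqP.lift (pullback.fst f' b' ≫ g') (pullback.snd f' b' ≫ (yon S).map k)
      (by rw [Category.assoc, sq.w, pullback.condition_assoc, w', Category.assoc])
  have hφ : IsPullback φ (pullback.snd f' b') (pullback.snd f b) ((yon S).map k) := by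
    refine IsPullback.of_right ?_ (sqP.lift_snd _ _ _) sqP
    rw [sqP.lift_fst, ← w']
    exact sqP'.paste_horiz sq
  let h₀ : pullback h k ⟶ V' := pullback.snd h k
  let n₀ : pullback h k ⟶ A := pullback.fst h k
  have hW : IsPullback ((yon S).map n₀) ((yon S).map h₀) ((yon S).map h) ((yon S).map k) :=
    (IsPullback.of_hasPullback h k).map (yon S)
  let c₀ := hφ.lift ((yon S).map n₀ ≫ α) ((yon S).map h₀) (by rw [Category.assoc, ← hh]; exact hW.w)
  have hc₀ : IsPullback ((yon S).map n₀) c₀ α φ := by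
    refine IsPullback.of_bot ?_ (hφ.lift_fst _ _ _).symm hφ
    rw [hφ.lift_snd, ← hh]
    exact hW
  have hfst' : RepWith (@Etale : MorphismProperty Scheme.{u}) (pullback.fst f' b') ∧
      RepWith (@Surjective : MorphismProperty Scheme.{u}) (pullback.fst f' b') :=
    ⟨(repWith_isStableUnderBaseChange _).of_isPullback sqP'.flip hb',
      (repWith_isStableUnderBaseChange _).of_isPullback sqP'.flip hbs'⟩
  refine ⟨A, V, V', pullback h k, α ≫ pullback.fst f b, b, b', c₀ ≫ pullback.fst f' b', h, k, n₀, h₀,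
    (repWith_isMultiplicative (S := S) @Etale).comp_mem _ _ hα
      ((repWith_isStableUnderBaseChange _).of_isPullback sqP.flip hb), hb, hb',
    (repWith_isMultiplicative (S := S) @Etale).comp_mem _ _
      ((repWith_isStableUnderBaseChange _).of_isPullback hc₀ hα) hfst'.1,
    (repWith_isMultiplicative (S := S) @Surjective).comp_mem _ _
      ((repWith_isStableUnderBaseChange _).of_isPullback hc₀ hαs) hfst'.2,
    (IsPullback.of_hasPullback h k).map (Over.forget S), ?_, w', ?_, ?_⟩
  · rw [Category.assoc, pullback.condition, ← Category.assoc, ← hh]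
  · calc (c₀ ≫ pullback.fst f' b') ≫ g' = c₀ ≫ φ ≫ pullback.fst f b := by rw [sqP.lift_fst, Category.assoc]
      _ = _ := by rw [← Category.assoc, hφ.lift_fst, Category.assoc]
  · rw [Category.assoc, pullback.condition, ← Category.assoc, hφ.lift_snd]

/-- A chart through a point of the source lying over a given chart of the target. -/
theorem exists_chart_over (hX : IsAlgSpace X) (hY : IsAlgSpace Y) (f : X ⟶ Y) {V : Over S}
    {b : (yon S).obj V ⟶ Y} (hb : RepWith @Etale b) :
    ∃ (A : Over S) (α : (yon S).obj A ⟶ pullback f b) (h : A ⟶ V), RepWith @Etale α ∧ RepWith @Surjective α ∧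
      RepWith @Etale (α ≫ pullback.fst f b) ∧ (yon S).map h = α ≫ pullback.snd f b ∧
      (α ≫ pullback.fst f b) ≫ f = (yon S).map h ≫ b ∧
      ∀ (x : Points X) (v : ↥V.left), Points.map f x = Points.ofPt b v →
        ∃ u : ↥A.left, Points.ofPt (α ≫ pullback.fst f b) u = x ∧ h.left u = v := by
  have sqP := IsPullback.of_hasPullback f b
  have hP := isAlgSpace_of_isPullback sqP hX (IsAlgSpace.yon_obj _) hY.diag
  obtain ⟨A, α, hα, hαs⟩ := hP.atlas
  obtain ⟨h, hh⟩ := (yon S).map_surjective (α ≫ pullback.snd f b)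
  refine ⟨A, α, h, hα, hαs, (repWith_isMultiplicative (S := S) @Etale).comp_mem _ _ hα
    ((repWith_isStableUnderBaseChange _).of_isPullback sqP.flip hb), hh,
    by rw [hh, Category.assoc, Category.assoc, pullback.condition], fun x v e => ?_⟩
  rw [Points.ofPt_eq_map_ofScheme] at e
  obtain ⟨z, hz1, hz2⟩ := SpPts86.exists_of_isPullback sqP x _ e
  obtain ⟨u, rfl⟩ := surjective_ofPt hαs z
  refine ⟨u, by rw [← Points.map_ofPt]; exact hz1, (Points.schemeHomeo V).injective ?_⟩
  rw [Points.map_ofPt, ← hh, ofPt_yon_map] at hz2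
  exact hz2

end Groth.Agent.LimTop61
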