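import Groth.Agent.LimTop61.Diag
import Mathlib.AlgebraicGeometry.IdealSheaf.Functorial

set_option autoImplicit false
set_option backward.isDefEq.respectTransparency false
set_option backward.defeqAttrib.useBackward true
universe u

open CategoryTheory CategoryTheory.Limits AlgebraicGeometry

namespace Groth.Agent.LimTop61

/-- Finitely presented ideal sheaves: the closed subscheme is locally of finite presentation. -/
lemma fg_ideal_of_lfp {X : Scheme.{u}} (I : X.IdealSheafData)
    [LocallyOfFinitePresentation I.subschemeι] (U : X.affineOpens) : (I.ideal U).FG := by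
  have h := HasRingHomProperty.appLE @LocallyOfFinitePresentation I.subschemeι inferInstance
    U ⟨_, U.2.preimage I.subschemeι⟩ le_rfl
  rw [← Scheme.Hom.app_eq_appLE] at h
  have hs : Function.Surjective (I.subschemeι.app U).hom :=
    I.subschemeι.app_surjective U U.2
  let : Algebra Γ(X, U) Γ(I.subscheme, I.subschemeι ⁻¹ᵁ U) := (I.subschemeι.app U).hom.toAlgebra
  have : Algebra.FinitePresentation Γ(X, U) Γ(I.subscheme, I.subschemeι ⁻¹ᵁ U) := h
  have := Algebra.FinitePresentation.ker_fG_of_surjective (R := Γ(X, U))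
    (Algebra.ofId Γ(X, U) Γ(I.subscheme, I.subschemeι ⁻¹ᵁ U)) hs
  rw [← I.ker_subschemeι, Scheme.Hom.ker_apply]
  exact this

/-- An ideal sheaf with finitely generated ideals has a finitely presented subscheme. -/
lemma lfp_of_fg_ideal {X : Scheme.{u}} (I : X.IdealSheafData)
    (h : ∀ U : X.affineOpens, (I.ideal U).FG) : LocallyOfFinitePresentation I.subschemeι := by
  rw [HasRingHomProperty.iff_exists_appLE (P := @LocallyOfFinitePresentation)
    (RingHom.finitePresentation_stableUnderComposition.stableUnderCompositionWithLocalizationAway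
      RingHom.finitePresentation_holdsForLocalizationAway).left]
  intro x
  obtain ⟨_, ⟨U, hU, rfl⟩, hxU, -⟩ :=
    X.isBasis_affineOpens.exists_subset_of_mem_open (Set.mem_univ (I.subschemeι x)) isOpen_univ
  refine ⟨⟨U, hU⟩, ⟨_, hU.preimage I.subschemeι⟩, hxU, le_rfl, ?_⟩
  rw [← Scheme.Hom.app_eq_appLE]
  refine RingHom.FinitePresentation.of_surjective _ (I.subschemeι.app_surjective U hU) ?_
  rw [← Scheme.Hom.ker_apply _ ⟨U, hU⟩, I.ker_subschemeι]
  exact h _

/-- Pullbacks of finitely presented ideal sheaves are finitely presented. -/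
lemma lfp_comap {X Y : Scheme.{u}} (I : Y.IdealSheafData) (f : X ⟶ Y)
    [LocallyOfFinitePresentation I.subschemeι] :
    LocallyOfFinitePresentation (I.comap f).subschemeι := by
  rw [← I.comapIso_hom_fst f]
  have : LocallyOfFinitePresentation (pullback.fst f I.subschemeι) :=
    MorphismProperty.pullback_fst _ _ ‹_›
  infer_instance

/-- Being contained in a kernel means factoring through the closed subscheme. -/
lemma le_ker_iff_isIso_snd {W X : Scheme.{u}} (K : X.IdealSheafData) (t : W ⟶ X) :
    K ≤ t.ker ↔ IsIso (pullback.snd K.subschemeι t) := by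
  constructor
  · intro h
    let l : W ⟶ pullback K.subschemeι t :=
      pullback.lift (IsClosedImmersion.lift K.subschemeι t (by simpa using h)) (𝟙 W)
        (by simp)
    have : IsSplitEpi (pullback.snd K.subschemeι t) := ⟨⟨⟨l, pullback.lift_snd _ _ _⟩⟩⟩
    exact isIso_of_mono_of_isSplitEpi _
  · intro h
    have : t = (inv (pullback.snd K.subschemeι t) ≫ pullback.fst _ _) ≫ K.subschemeι := by
      rw [Category.assoc, pullback.condition, IsIso.inv_hom_id_assoc]
    rw [this]
    conv_lhs => rw [← K.ker_subschemeι]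
    exact Scheme.Hom.le_ker_comp _ _

/-- The ideal of an image of a pulled back closed subscheme. -/
lemma map_comap_eq_ker {X' X Y : Scheme.{u}} (L : X.IdealSheafData) (g : X' ⟶ X) (h : X' ⟶ Y)
    {P : Scheme.{u}} (p : P ⟶ X') (q : P ⟶ L.subscheme) (hP : IsPullback p q g L.subschemeι) :
    (L.comap g).map h = (p ≫ h).ker := by
  rw [Scheme.IdealSheafData.map, ← L.comapIso_hom_fst g, Category.assoc,
    Scheme.Hom.ker_comp_of_isIso]
  conv_rhs => rw [← hP.isoPullback_hom_fst, Category.assoc, Scheme.Hom.ker_comp_of_isIso]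

/-- Taking kernels commutes with restricting to an open subscheme. -/
lemma ker_comap_of_isOpenImmersion {X Y U V : Scheme.{u}} (f : X ⟶ Y) (f' : U ⟶ V) (iU : U ⟶ X)
    (iV : V ⟶ Y) [IsOpenImmersion iV] [QuasiCompact f] (H : IsPullback f' iU iV f) :
    f.ker.comap iV = f'.ker := by
  ext1
  funext W
  rw [Scheme.IdealSheafData.ideal_comap_of_isOpenImmersion,
    Scheme.ker_ideal_of_isPullback_of_isOpenImmersion f f' iU iV H W]

end Groth.Agent.LimTop61
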