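import Groth.Agent.LimTop61.ImmLimit
import Groth.Agent.LimTop61.StalkLimit
import Groth.Agent.LimTop61.BaseChange
import Groth.Agent.Approx60.FiniteLimit
import Groth.Agent.Approx60.ImmStage
import Groth.Agent.Lim60.Props
import Groth.Agent.LimDesc62.OpenImm

/-!
Morphisms factoring as an immersion followed by a finite morphism: criterion by the relative
normalization, locality on the base, and spreading out from a local scheme.
-/

set_option autoImplicit false
set_option backward.isDefEq.respectTransparency false
set_option backward.defeqAttrib.useBackward true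

universe u

open CategoryTheory CategoryTheory.Limits AlgebraicGeometry Opposite TopologicalSpace
open Groth.Agent.LimDesc62

namespace Groth.Agent.LimTop61

/-- Factors as an immersion followed by a finite morphism. -/
def PseudoFinite {X Y : Scheme.{u}} (f : X ⟶ Y) : Prop :=
  ∃ (Y' : Scheme.{u}) (f' : X ⟶ Y') (u : Y' ⟶ Y), IsImmersion f' ∧ IsFinite u ∧ f' ≫ u = f

theorem isImmersion_toNormalization {X Y : Scheme.{u}} (f : X ⟶ Y) [QuasiCompact f]
    [QuasiSeparated f] (h : PseudoFinite f) : IsImmersion f.toNormalization := by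
  obtain ⟨Y', f', u, hf', hu, rfl⟩ := h
  have : IsImmersion ((f' ≫ u).toNormalization ≫ (f' ≫ u).normalizationDesc f' u rfl) := by
    rw [Scheme.Hom.toNormalization_normalizationDesc]; exact hf'
  exact IsImmersion.of_comp _ ((f' ≫ u).normalizationDesc f' u rfl)

theorem pseudoFinite_of_toNormalization {X Y : Scheme.{u}} (f : X ⟶ Y) [CompactSpace Y]
    [QuasiSeparatedSpace Y] [QuasiCompact f] [QuasiSeparated f] [LocallyOfFiniteType f]
    (hg : IsImmersion f.toNormalization) : PseudoFinite f := by
  obtain ⟨α, _, _, _, D, π, ⟨hl⟩, hD⟩ := Approx60.exists_integral_limit f.fromNormalization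
  have : CompactSpace X := QuasiCompact.compactSpace_of_compactSpace f
  let E := D ⋙ Over.forget Y
  let c : Cone E := (Over.forget Y).mapCone (Cone.mk (Over.mk f.fromNormalization) π)
  have hc : IsLimit c := isLimitOfPreserves (Over.forget Y) hl
  have : ∀ i, IsFinite (D.obj i).hom := fun i => (hD i).1
  have : ∀ (i j : αᵒᵖ) (a : i ⟶ j), IsAffineHom (E.map a) := fun i j a => by
    have : IsAffineHom ((D.map a).left ≫ (D.obj j).hom) := by rw [Over.w]; infer_instance
    exact IsAffineHom.of_comp (D.map a).left (D.obj j).hom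
  have : ∀ i, CompactSpace (E.obj i) := fun i => by
    let d : (D.obj i).left ⟶ Y := (D.obj i).hom
    have : IsFinite d := (hD i).1
    exact QuasiCompact.compactSpace_of_compactSpace d
  have : ∀ i, QuasiSeparatedSpace (E.obj i) := fun i => by
    let d : (D.obj i).left ⟶ Y := (D.obj i).hom
    have : IsFinite d := (hD i).1
    exact quasiSeparatedSpace_of_quasiSeparated d
  obtain ⟨i⟩ := IsCofiltered.nonempty (C := αᵒᵖ)
  let h : X ⟶ c.pt := f.toNormalization
  have : IsImmersion h := hg
  have e : ∀ j, (h ≫ c.π.app j) ≫ (D.obj j).hom = f := fun j => by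
    refine (Category.assoc _ _ _).trans ?_
    rw [show c.π.app j ≫ (D.obj j).hom = f.fromNormalization from Over.w (π.app j)]
    exact f.toNormalization_fromNormalization
  have : LocallyOfFiniteType (h ≫ c.π.app i) := by
    have : LocallyOfFiniteType ((h ≫ c.π.app i) ≫ (D.obj i).hom) := by rw [e]; infer_instance
    exact locallyOfFiniteType_of_comp _ (D.obj i).hom
  obtain ⟨j, -, hj⟩ := exists_isImmersion_stage E c hc i h
  exact ⟨_, h ≫ c.π.app j, (D.obj j).hom, hj, (hD j).1, e j⟩

/-- Being pseudo-finite is local on the base, detected by the normalization. -/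
theorem isImmersion_toNormalization_of_cover {X Y : Scheme.{u}} (f : X ⟶ Y) [QuasiCompact f]
    [QuasiSeparated f] (𝒰 : Y.OpenCover) (h : ∀ i, PseudoFinite (pullback.snd f (𝒰.f i))) :
    IsImmersion f.toNormalization := by
  refine (IsZariskiLocalAtTarget.iff_of_openCover (P := @IsImmersion)
    (𝒰.pullback₁ f.fromNormalization)).mpr fun i => ?_
  let p := pullback.fst f.fromNormalization (𝒰.f i)
  let g := pullback.snd f (𝒰.f i)
  have hgi := isImmersion_toNormalization g (h i)
  let m : pullback f (𝒰.f i) ⟶ pullback f.fromNormalization (𝒰.f i) :=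
    g.toNormalization ≫ f.normalizationPullback (𝒰.f i)
  have : IsImmersion m := inferInstance
  have hm1 : m ≫ p = pullback.fst f (𝒰.f i) ≫ f.toNormalization := by
    simp [m, p, g]
  have hm2 : m ≫ pullback.snd _ _ = g := by
    simp [m, g]
  have hsq : IsPullback (pullback.fst f (𝒰.f i)) m f.toNormalization p :=
    IsPullback.of_bot (by
      rw [hm2, Scheme.Hom.toNormalization_fromNormalization]
      exact IsPullback.of_hasPullback f (𝒰.f i)) hm1.symm (IsPullback.of_hasPullback _ _)
  show IsImmersion (pullback.snd f.toNormalization p)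
  rw [← hsq.isoPullback_inv_snd]
  infer_instance

/-- A pseudo-finite morphism over a local scheme spreads out to an affine neighbourhood. -/
theorem exists_pseudoFinite_nhd {X Y : Scheme.{u}} (f : X ⟶ Y) [IsNoetherian Y]
    [LocallyOfFiniteType f] [QuasiCompact f] [QuasiSeparated f] (y : Y)
    (h : PseudoFinite (pullback.snd f (Y.fromSpecStalk y))) :
    ∃ (T : Scheme.{u}) (j : T ⟶ Y), IsOpenImmersion j ∧ y ∈ Set.range j ∧
      PseudoFinite (pullback.snd f j) := by
  obtain ⟨Z, g, u, hg, hu, hgu⟩ := h
  let D := nhdSpec Y y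
  let c := nhdCone Y y
  have hc : IsLimit c := isLimitNhdCone Y y
  let ι : ∀ l, D.obj l ⟶ Y := fun l => (nhdι Y y).app l
  have hι : ∀ l, IsOpenImmersion (ι l) := fun l => (OrderDual.ofDual l.unop).1.2.isOpenImmersion_fromSpec
  have hιn : ∀ {l k} (φ : k ⟶ l), D.map φ ≫ ι l = ι k := fun φ => by
    have := (nhdι Y y).naturality φ
    simp only [Functor.const_obj_map, Category.comp_id] at this
    exact this
  have hπ : ∀ l, c.π.app l ≫ ι l = Y.fromSpecStalk y := nhdCone_π_ι Y y
  let uc : Z ⟶ c.pt := u
  have : IsFinite uc := hu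
  have : IsLocallyNoetherian c.pt := inferInstanceAs (IsLocallyNoetherian (Spec (Y.presheaf.stalk y)))
  have : LocallyOfFinitePresentation uc :=
    LocallyOfFinitePresentation.iff_locallyOfFiniteType.mpr inferInstance
  have hgu' : g ≫ uc = pullback.snd f (Y.fromSpecStalk y) := hgu
  obtain ⟨i, Zi, ui, qZ, hui, _, _, hqZ⟩ := Approx60.S0591 D c hc Z uc
  have hfin : IsFinite (pullback.snd ui (c.π.app i)) := by
    rw [← hqZ.isoPullback_inv_snd]; infer_instance
  obtain ⟨j, φ, hj⟩ := Lim60.descProp_isFinite.desc D c hc i ui inferInstance hfin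
  let uj : pullback ui (D.map φ) ⟶ D.obj j := pullback.snd ui (D.map φ)
  have : IsFinite uj := hj
  have : LocallyOfFinitePresentation uj :=
    MorphismProperty.pullback_snd (P := @LocallyOfFinitePresentation) _ _ hui
  -- the source over the stages
  let pj : pullback f (ι j) ⟶ D.obj j := pullback.snd f (ι j)
  have : QuasiCompact pj := inferInstance
  have : QuasiSeparated pj := inferInstance
  have : CompactSpace (pullback f (ι j) : Scheme.{u}) := QuasiCompact.compactSpace_of_compactSpace pj
  have : QuasiSeparatedSpace (pullback f (ι j) : Scheme.{u}) := quasiSeparatedSpace_of_quasiSeparated pj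
  let Xy := pullback f (Y.fromSpecStalk y)
  let py : Xy ⟶ c.pt := pullback.snd f (Y.fromSpecStalk y)
  let q : Xy ⟶ pullback f (ι j) :=
    pullback.lift (pullback.fst f (Y.fromSpecStalk y)) (py ≫ c.π.app j)
      (by rw [Category.assoc, hπ, pullback.condition])
  have hq : IsPullback q py pj (c.π.app j) := by
    refine IsPullback.of_right ?_ (pullback.lift_snd _ _ _) (IsPullback.of_hasPullback f (ι j))
    rw [pullback.lift_fst, hπ]
    exact IsPullback.of_hasPullback f (Y.fromSpecStalk y)
  let E := bcDiagram D pj
  let cE := bcCone D c pj q py hq.w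
  have hcE : IsLimit cE := isLimitBcCone D c hc pj q py hq
  let a : Xy ⟶ pullback ui (D.map φ) :=
    pullback.lift (g ≫ qZ) (py ≫ c.π.app j) (by
      rw [Category.assoc, Category.assoc, hqZ.w, c.w]
      exact (reassoc_of% hgu') _)
  let t : E ⟶ (Functor.const _).obj (D.obj j) :=
    { app := fun k => pullback.fst pj (D.map k.hom) ≫ pj
      naturality := fun k l b => by
        simp [E, pullback.condition]
        try rw [← D.map_comp, Over.w b] }
  obtain ⟨k, γ, hγ1, hγ2⟩ := Scheme.exists_π_app_comp_eq_of_locallyOfFinitePresentation E t uj cE hcE a (by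
    ext k
    simp [cE, t, E, a, uj]
    rw [hq.w])
  let Xk := pullback pj (D.map k.hom)
  let pk : Xk ⟶ D.obj k.left := pullback.snd pj (D.map k.hom)
  let uk : pullback uj (D.map k.hom) ⟶ D.obj k.left := pullback.snd uj (D.map k.hom)
  let gk : Xk ⟶ pullback uj (D.map k.hom) :=
    pullback.lift γ pk (by rw [hγ2]; exact pullback.condition)
  have hgk : gk ≫ uk = pk := pullback.lift_snd _ _ _
  let qk : Xy ⟶ Xk := cE.π.app k
  have hqk : IsPullback qk py pk (c.π.app k.left) := by
    refine IsPullback.of_right ?_ (pullback.lift_snd _ _ _)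
      (IsPullback.of_hasPullback pj (D.map k.hom))
    simp only [qk, cE, bcCone_π_app, pullback.lift_fst]
    exact (c.w k.hom).symm ▸ hq
  let rj : Z ⟶ pullback ui (D.map φ) :=
    pullback.lift qZ (uc ≫ c.π.app j) (by rw [Category.assoc, c.w]; exact hqZ.w)
  have hrj : IsPullback rj uc uj (c.π.app j) := by
    refine IsPullback.of_right ?_ (pullback.lift_snd _ _ _) (IsPullback.of_hasPullback ui (D.map φ))
    rw [pullback.lift_fst, c.w]
    exact hqZ
  let rk : Z ⟶ pullback uj (D.map k.hom) :=
    pullback.lift rj (uc ≫ c.π.app k.left) (by rw [Category.assoc, c.w]; exact hrj.w)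
  have hrk : IsPullback rk uc uk (c.π.app k.left) := by
    refine IsPullback.of_right ?_ (pullback.lift_snd _ _ _)
      (IsPullback.of_hasPullback uj (D.map k.hom))
    rw [pullback.lift_fst, c.w]
    exact hrj
  have hga : g ≫ rj = a := by
    apply pullback.hom_ext
    · simp [rj, a]
    · simp only [rj, a, Category.assoc, pullback.lift_snd]
      exact (reassoc_of% hgu') _
  have hsq : IsPullback qk g gk rk := by
    refine IsPullback.of_bot ?_ ?_ hrk
    · rw [hgk]
      rw [show g ≫ uc = py from hgu]
      exact hqk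
    · apply pullback.hom_ext
      · simp only [gk, rk, Category.assoc, pullback.lift_fst]
        rw [hga]; exact hγ1
      · simp only [gk, rk, Category.assoc, pullback.lift_snd]
        rw [reassoc_of% (show g ≫ uc = py from hgu)]
        exact hqk.w
  have hP : IsImmersion (pullback.snd gk (pullback.fst uk (c.π.app k.left))) := by
    have := respectsIso_isImmersion.{u}
    have hsq' : IsPullback qk (g ≫ hrk.isoPullback.hom) gk (pullback.fst uk (c.π.app k.left)) :=
      hsq.of_iso (Iso.refl _) (Iso.refl _) hrk.isoPullback (Iso.refl _) (by simp) (by simp) (by simp) (by simp)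
    rw [← hsq'.isoPullback_inv_snd]
    infer_instance
  have : CompactSpace (pullback uj (D.map k.hom) : Scheme.{u}) := QuasiCompact.compactSpace_of_compactSpace uk
  have : QuasiSeparatedSpace (pullback uj (D.map k.hom) : Scheme.{u}) := quasiSeparatedSpace_of_quasiSeparated uk
  have : LocallyOfFiniteType gk := by
    have : LocallyOfFiniteType (gk ≫ uk) := by rw [hgk]; infer_instance
    exact locallyOfFiniteType_of_comp gk uk
  have : QuasiCompact gk := by
    have : QuasiCompact (gk ≫ uk) := by rw [hgk]; infer_instance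
    exact QuasiCompact.of_comp gk uk
  have : QuasiSeparated gk := by
    have : QuasiSeparated (gk ≫ uk) := by rw [hgk]; infer_instance
    exact QuasiSeparated.of_comp gk uk
  have := respectsIso_isImmersion.{u}
  have := respectsIso_lft.{u}
  obtain ⟨l, ψ, hl⟩ := descProp_isImmersion.rel D c hc k.left uk gk inferInstance hP
  let N := pullback.fst uk (D.map ψ)
  have hfl : IsPullback (pullback.fst gk N ≫ pullback.fst pj (D.map k.hom) ≫ pullback.fst f (ι j))
      (pullback.snd gk N ≫ pullback.snd uk (D.map ψ)) f (ι l) := by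
    have h1 := ((IsPullback.of_hasPullback gk N).paste_vert (IsPullback.of_hasPullback uk (D.map ψ))).paste_horiz
      (show IsPullback (pullback.fst pj (D.map k.hom)) (gk ≫ uk) pj (D.map k.hom) from
        hgk ▸ IsPullback.of_hasPullback pj (D.map k.hom))
    have h2 := h1.paste_horiz (IsPullback.of_hasPullback f (ι j))
    rw [show ι l = (D.map ψ ≫ D.map k.hom) ≫ ι j by rw [Category.assoc, hιn, hιn]]
    simpa only [Category.assoc] using h2
  refine ⟨D.obj l, ι l, hι l, ?_, ?_⟩
  · refine ⟨c.π.app l (IsLocalRing.closedPoint (Y.presheaf.stalk y)), ?_⟩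
    rw [← Scheme.Hom.comp_apply, hπ]
    exact Scheme.fromSpecStalk_closedPoint
  · have : IsFinite (pullback.snd uk (D.map ψ)) := inferInstance
    refine ⟨_, hfl.isoPullback.inv ≫ pullback.snd gk N, pullback.snd uk (D.map ψ), inferInstance,
      inferInstance, ?_⟩
    rw [Category.assoc]
    exact hfl.isoPullback_inv_snd

end Groth.Agent.LimTop61
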