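import Mathlib

/-!
Rings in which every monic polynomial has a root, and sections of flat quasi-finite algebras over them.
-/

set_option autoImplicit false
set_option backward.isDefEq.respectTransparency false

universe u v

open Polynomial TensorProduct

namespace Groth.Agent.LimTop61

/-- Every monic polynomial of positive degree has a root. -/
def HasRoots (D : Type u) [CommRing D] : Prop :=
  ∀ P : D[X], P.Monic → P.natDegree ≠ 0 → ∃ a, P.eval a = 0

theorem HasRoots.mem_range_of_isIntegral {D : Type u} [CommRing D] (h : HasRoots D) {K : Type v}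
    [CommRing K] [IsDomain K] [Algebra D K] {x : K} (hx : IsIntegral D x) :
    x ∈ Set.range (algebraMap D K) := by
  obtain ⟨P, hP, hPx⟩ := hx
  induction hn : P.natDegree using Nat.strong_induction_on generalizing P with
  | _ n ih =>
    subst hn
    by_cases h0 : P.natDegree = 0
    · rw [hP.natDegree_eq_zero.1 h0] at hPx
      simp at hPx
    obtain ⟨a, ha⟩ := h P hP h0
    obtain ⟨Q, rfl⟩ := dvd_iff_isRoot.2 ha
    rw [eval₂_mul, mul_eq_zero] at hPx
    rcases hPx with hx' | hx'
    · exact ⟨a, (sub_eq_zero.1 (by simpa using hx')).symm⟩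
    · have hQ : Q.Monic := (monic_X_sub_C a).of_mul_monic_left hP
      refine ih Q.natDegree ?_ Q hQ hx' rfl
      have : Nontrivial D := (algebraMap D K).domain_nontrivial
      rw [(monic_X_sub_C a).natDegree_mul hQ, natDegree_X_sub_C]
      omega

theorem HasRoots.localization {C : Type u} [CommRing C] (h : HasRoots C) (M : Submonoid C)
    (L : Type v) [CommRing L] [Algebra C L] [IsLocalization M L] : HasRoots L := by
  intro P hP h0
  rcases subsingleton_or_nontrivial L with hL | hL
  · exact ⟨0, Subsingleton.elim _ _⟩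
  obtain ⟨d, hd⟩ := IsLocalization.exist_integer_multiples M Finset.univ
    (fun i : Fin (P.natDegree + 1) => P.coeff i)
  obtain ⟨R, hRmap, hRdeg, hRmonic⟩ := lifts_and_natDegree_eq_and_monic
    (f := algebraMap C L) (p := scaleRoots P (algebraMap C L d)) ((lifts_iff_coeff_lifts _).2 fun i => by
      rw [coeff_scaleRoots]
      rcases Nat.lt_trichotomy i P.natDegree with hi | rfl | hi
      · obtain ⟨c, hc⟩ := hd ⟨i, by omega⟩ (Finset.mem_univ _)
        obtain ⟨k, hk⟩ : ∃ k, P.natDegree - i = k + 1 := ⟨P.natDegree - i - 1, by omega⟩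
        refine ⟨c * (d : C) ^ k, ?_⟩
        rw [map_mul, hc, map_pow, hk, pow_succ, Algebra.smul_def]
        ring
      · exact ⟨1, by simp [hP]⟩
      · exact ⟨0, by simp [coeff_eq_zero_of_natDegree_lt hi]⟩)
    ((monic_scaleRoots_iff _).2 hP)
  obtain ⟨z, hz⟩ := h R hRmonic (by rw [hRdeg, natDegree_scaleRoots]; exact h0)
  obtain ⟨e, he⟩ := (IsLocalization.map_units L d).exists_left_inv
  refine ⟨e * algebraMap C L z, ?_⟩
  have hz' : (scaleRoots P (algebraMap C L d)).eval (algebraMap C L d * (e * algebraMap C L z)) = 0 := by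
    rw [← mul_assoc, mul_comm (algebraMap C L d) e, he, one_mul, ← hRmap, eval_map,
      eval₂_at_apply, hz, map_zero]
  rw [scaleRoots_eval_mul] at hz'
  exact ((IsLocalization.map_units L d).pow _).mul_right_eq_zero.1 hz'

/-- A flat algebra quasi-finite at a point over the closed point of a local domain in which every
monic polynomial has a root, has a section. -/
theorem exists_algHom_of_flat_quasiFiniteAt {D B : Type u} [CommRing D] [IsLocalRing D] [IsDomain D]
    (h : HasRoots D) [CommRing B] [Algebra D B] [Algebra.FiniteType D B] [Module.Flat D B]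
    (x : Ideal B) [x.IsPrime] [x.LiesOver (IsLocalRing.maximalIdeal D)]
    [Algebra.QuasiFiniteAt D x] : Nonempty (B →ₐ[D] D) := by
  obtain ⟨P, hPx, hP, hP0⟩ :=
    Ideal.exists_ideal_le_liesOver_of_le (p := (⊥ : Ideal D)) (q := IsLocalRing.maximalIdeal D) x bot_le
  obtain ⟨f, hfx, hfi, hf⟩ := Algebra.zariskisMainProperty_iff.1
    (Algebra.ZariskisMainProperty.of_finiteType (R := D) x)
  let π : B →ₐ[D] B ⧸ P := Ideal.Quotient.mkₐ D P
  have hinj : Function.Injective (algebraMap D (B ⧸ P)) := by
    rw [injective_iff_map_eq_zero]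
    intro d hd
    have : d ∈ P.comap (algebraMap D B) :=
      (Ideal.Quotient.eq_zero_iff_mem (I := P) (a := algebraMap D B d)).1 hd
    rw [← Ideal.under, ← hP0.over] at this
    exact this
  obtain ⟨d, hd⟩ := h.mem_range_of_isIntegral (hfi.map π)
  have hdu : IsUnit d := by
    by_contra hu
    have hm : algebraMap D B d ∈ x := by
      have : d ∈ x.under D := by
        rw [← Ideal.over_def x (IsLocalRing.maximalIdeal D)]
        exact hu
      exact this
    have : f - algebraMap D B d ∈ P := by
      rw [← Ideal.Quotient.eq_zero_iff_mem, map_sub]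
      exact sub_eq_zero.2 hd.symm
    exact hfx (by simpa using x.add_mem (hPx this) hm)
  have hsurj : Function.Surjective (Algebra.ofId D (B ⧸ P)) := by
    intro y
    obtain ⟨b, rfl⟩ := Ideal.Quotient.mk_surjective y
    obtain ⟨m, hm⟩ := hf b
    obtain ⟨c, hc⟩ := h.mem_range_of_isIntegral (hm.map π)
    obtain ⟨e, he⟩ := (hdu.pow m).exists_left_inv
    refine ⟨e * c, ?_⟩
    change algebraMap D (B ⧸ P) (e * c) = π b
    rw [map_mul, hc, map_mul, map_pow, ← hd, ← map_pow, ← mul_assoc, ← map_mul, he, map_one, one_mul]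
  let iso : D ≃ₐ[D] B ⧸ P := AlgEquiv.ofBijective (Algebra.ofId D (B ⧸ P)) ⟨hinj, hsurj⟩
  exact ⟨iso.symm.toAlgHom.comp π⟩

/-- A map from an algebra of finite presentation to a localisation at a prime is defined over a
localisation away from one element. -/
theorem exists_algHom_away {A C B : Type u} [CommRing A] [CommRing C] [CommRing B] [Algebra A C]
    [Algebra A B] [Algebra.FinitePresentation A B] (q : Ideal C) [q.IsPrime]
    (σ : B →ₐ[A] Localization.AtPrime q) :
    ∃ c ∉ q, Nonempty (B →ₐ[A] Localization.Away c) := by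
  classical
  obtain ⟨n, f, hf, ⟨gs, hgs⟩⟩ := Algebra.FinitePresentation.out (R := A) (A := B)
  obtain ⟨s, hs⟩ := IsLocalization.exist_integer_multiples q.primeCompl Finset.univ
    (fun i : Fin n => σ (f (MvPolynomial.X i)))
  choose a ha using fun i => hs i (Finset.mem_univ i)
  let Ls := Localization.Away (s : C)
  let val : Fin n → Ls := fun i => algebraMap C Ls (a i) * IsLocalization.Away.invSelf (s : C)
  let ψ : MvPolynomial (Fin n) A →ₐ[A] Ls := MvPolynomial.aeval val
  let τ : Ls →ₐ[C] Localization.AtPrime q :=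
    IsLocalization.liftAlgHom (M := Submonoid.powers (s : C)) (f := Algebra.ofId C _) (by
      rintro ⟨_, k, rfl⟩
      change IsUnit (algebraMap C (Localization.AtPrime q) ((s : C) ^ k))
      rw [map_pow]
      exact (IsLocalization.map_units _ s).pow k)
  have hτ : (τ.restrictScalars A).comp ψ = σ.comp f := by
    refine MvPolynomial.algHom_ext fun i => ?_
    simp only [AlgHom.comp_apply, AlgHom.restrictScalars_apply, ψ, MvPolynomial.aeval_X, val,
      map_mul, AlgHom.commutes, ha, Algebra.smul_def]
    rw [mul_right_comm, ← τ.commutes, ← map_mul, IsLocalization.Away.mul_invSelf, map_one, one_mul]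
  have hker : ∀ g ∈ gs, ∃ t ∉ q, algebraMap C Ls t * ψ g = 0 := by
    intro g hg
    obtain ⟨⟨b, ⟨_, k, rfl⟩⟩, hb⟩ := IsLocalization.surj (Submonoid.powers (s : C)) (ψ g)
    have h0 : algebraMap C (Localization.AtPrime q) b = 0 := by
      rw [← τ.commutes, ← hb, map_mul]
      have : τ (ψ g) = σ (f g) := congrArg (fun F => F g) hτ
      rw [this, show f g = 0 from hgs.le (Ideal.subset_span hg), map_zero, zero_mul]
    obtain ⟨⟨t, ht⟩, htb⟩ := (IsLocalization.map_eq_zero_iff q.primeCompl _ b).1 h0
    refine ⟨t, ht, ?_⟩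
    have hu : IsUnit (algebraMap C Ls ((s : C) ^ k)) :=
      IsLocalization.map_units Ls (⟨_, k, rfl⟩ : Submonoid.powers (s : C))
    rw [← hu.mul_left_eq_zero, mul_assoc, hb, ← map_mul, htb, map_zero]
  choose t htq ht using hker
  let c := (s : C) * ∏ g ∈ gs.attach, t g.1 g.2
  have hcq : c ∉ q := by
    refine fun hc => (Ideal.IsPrime.mem_or_mem ‹_› hc).elim s.2 fun hp => ?_
    obtain ⟨g, -, hg⟩ := (Ideal.IsPrime.prod_mem_iff.1 hp)
    exact htq _ _ hg
  have hsu : IsUnit (algebraMap C (Localization.Away c) (s : C)) :=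
    isUnit_of_dvd_unit ((algebraMap C _).map_dvd (Dvd.intro _ rfl))
      (IsLocalization.Away.algebraMap_isUnit c)
  let η : Ls →ₐ[C] Localization.Away c :=
    IsLocalization.liftAlgHom (M := Submonoid.powers (s : C)) (f := Algebra.ofId C _) (by
      rintro ⟨_, k, rfl⟩
      change IsUnit (algebraMap C (Localization.Away c) ((s : C) ^ k))
      rw [map_pow]
      exact hsu.pow k)
  let ψ' := (η.restrictScalars A).comp ψ
  have hkill : RingHom.ker f ≤ RingHom.ker ψ' := by
    rw [show RingHom.ker f = Ideal.span ↑gs from hgs.symm, Ideal.span_le]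
    intro g hg
    have hdvd : t g hg ∣ c :=
      Dvd.dvd.mul_left (Finset.dvd_prod_of_mem (fun g : gs => t g.1 g.2) (Finset.mem_attach gs ⟨g, hg⟩)) _
    have hu : IsUnit (algebraMap C (Localization.Away c) (t g hg)) :=
      isUnit_of_dvd_unit ((algebraMap C _).map_dvd hdvd) (IsLocalization.Away.algebraMap_isUnit c)
    change η (ψ g) = 0
    rw [← hu.mul_right_eq_zero, ← η.commutes, ← map_mul, ht, map_zero]
  exact ⟨c, hcq, ⟨AlgHom.liftOfSurjective f hf ψ' hkill⟩⟩

end Groth.Agent.LimTop61
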