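import Groth.Agent.LimTop61.FpCrit
import Mathlib.AlgebraicGeometry.AffineTransitionLimit

set_option autoImplicit false
set_option backward.isDefEq.respectTransparency false
set_option backward.defeqAttrib.useBackward true
universe u

open CategoryTheory CategoryTheory.Limits AlgebraicGeometry Opposite

namespace Groth.Agent.LimTop61

/-- Lifting of maps from limits of affine schemes over affine opens implies locally of finite
presentation. -/
theorem locallyOfFinitePresentation_of_lift {X S : Scheme.{u}} (f : X ⟶ S)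
    (H : ∀ (U : S.Opens), IsAffineOpen U → ∀ (J : Type u) [Preorder J] [IsDirected J (· ≤ ·)]
      [Nonempty J] (D : Jᵒᵖ ⥤ Scheme.{u})
      (t : D ⟶ (Functor.const Jᵒᵖ).obj (U : Scheme.{u})) (c : Cone D) (_ : IsLimit c),
      (∀ j, IsAffine (D.obj j)) → ∀ g : c.pt ⟶ X, (∀ j, g ≫ f = c.π.app j ≫ t.app j ≫ U.ι) →
        ∃ (j : Jᵒᵖ) (gj : D.obj j ⟶ X), gj ≫ f = t.app j ≫ U.ι ∧ c.π.app j ≫ gj = g) :
    LocallyOfFinitePresentation f := by
  rw [HasRingHomProperty.iff_appLE (P := @LocallyOfFinitePresentation)]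
  intro U V e
  algebraize [(f.appLE U V e).hom]
  refine finitePresentation_of_lift fun J _ _ _ F c hc g => ?_
  have : IsConnected J := IsFiltered.isConnected J
  let D : Jᵒᵖ ⥤ Scheme.{u} := (F ⋙ Under.forget _).op ⋙ Scheme.Spec
  let cS : Cone D := Scheme.Spec.mapCone ((Under.forget _).mapCocone c).op
  have hcS : IsLimit cS :=
    isLimitOfPreserves Scheme.Spec (isColimitOfPreserves (Under.forget _) hc).op
  let t : D ⟶ (Functor.const Jᵒᵖ).obj (U.1 : Scheme.{u}) :=
    { app := fun j => Spec.map (F.obj j.unop).hom ≫ U.2.isoSpec.inv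
      naturality := fun j k a => by
        simp only [D, Functor.comp_map, Functor.op_map, Functor.const_obj_map,
          Scheme.Spec_map, Quiver.Hom.unop_op]
        rw [← Spec.map_comp_assoc, Under.forget_map, Under.w]
        exact (Category.comp_id _).symm }
  have haff : ∀ j, IsAffine (D.obj j) := fun j => inferInstanceAs (IsAffine (Spec _))
  let gX : cS.pt ⟶ X := Spec.map g.right ≫ V.2.fromSpec
  have hgX : ∀ j, gX ≫ f = cS.π.app j ≫ t.app j ≫ U.1.ι := fun j => by
    simp only [gX, Category.assoc, ← U.2.SpecMap_appLE_fromSpec f V.2 e, t,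
      IsAffineOpen.isoSpec_inv_ι]
    rw [← Spec.map_comp_assoc]
    show _ = Spec.map (c.ι.app j.unop).right ≫ _
    rw [← Spec.map_comp_assoc, Under.w]
    exact congrArg (fun m : Γ(S, U.1) ⟶ c.pt.right => Spec.map m ≫ U.2.fromSpec) (Under.w g)
  obtain ⟨j, gj, hgjf, hgj⟩ := H U.1 U.2 J D t cS hcS haff gX hgX
  have hcpt (j : Jᵒᵖ) : CompactSpace (D.obj j) := by
    have := haff j
    infer_instance
  obtain ⟨k, φ, hk⟩ := exists_map_eq_top D cS hcS (i := j) (gj ⁻¹ᵁ V.1) (by
    rw [← Scheme.Hom.comp_preimage, hgj]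
    simp [gX])
  have hrange : Set.range (D.map φ ≫ gj) ⊆ Set.range V.2.fromSpec := by
    rw [IsAffineOpen.range_fromSpec]
    rintro _ ⟨x, rfl⟩
    exact hk.ge (Set.mem_univ x)
  let l : D.obj k ⟶ Spec Γ(X, V.1) := IsOpenImmersion.lift V.2.fromSpec (D.map φ ≫ gj) hrange
  obtain ⟨ψ, hψ⟩ := Spec.map_surjective l
  have hl : Spec.map ψ ≫ V.2.fromSpec = D.map φ ≫ gj := by
    rw [hψ]; exact IsOpenImmersion.lift_fac _ _ _
  have hψ₁ : f.appLE U V e ≫ ψ = (F.obj k.unop).hom := by
    apply Spec.map_injective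
    rw [← cancel_mono U.2.fromSpec, Spec.map_comp_assoc, U.2.SpecMap_appLE_fromSpec f V.2 e,
      reassoc_of% hl, hgjf, ← Category.assoc, t.naturality]
    simp [t, IsAffineOpen.isoSpec_inv_ι]
  refine ⟨k.unop, Under.homMk ψ hψ₁, ?_⟩
  ext1
  apply Spec.map_injective
  rw [← cancel_mono V.2.fromSpec]
  show Spec.map (ψ ≫ (c.ι.app k.unop).right) ≫ _ = Spec.map g.right ≫ _
  rw [Spec.map_comp_assoc, hl]
  show cS.π.app k ≫ D.map φ ≫ gj = _
  rw [cS.w_assoc, hgj]

end Groth.Agent.LimTop61
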