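import Mathlib.AlgebraicGeometry.Morphisms.UniversallyOpen
import Mathlib.AlgebraicGeometry.AffineSpace
import Mathlib.RingTheory.TensorProduct.MvPolynomial
import Mathlib.LinearAlgebra.TensorProduct.Finiteness

set_option autoImplicit false
set_option backward.isDefEq.respectTransparency false
set_option backward.defeqAttrib.useBackward true
universe u

open CategoryTheory CategoryTheory.Limits AlgebraicGeometry TensorProduct MorphismProperty

namespace Groth.Agent.LimTop61

/-- The base changes of `f` to the affine spaces of positive dimension are open. -/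
def OpenOnAffineSpaces {X Y : Scheme.{u}} (f : X ⟶ Y) : Prop :=
  ∀ (n : ℕ) (P : Scheme.{u}) (p : P ⟶ X) (q : P ⟶ 𝔸(ULift.{u} (Fin (n + 1)); Y)),
    IsPullback p q f (𝔸(ULift.{u} (Fin (n + 1)); Y) ↘ Y) → IsOpenMap q

lemma OpenOnAffineSpaces.comp {X Y X' : Scheme.{u}} {f : X ⟶ Y} (h : OpenOnAffineSpaces f)
    (i : X' ⟶ X) [IsOpenImmersion i] : OpenOnAffineSpaces (i ≫ f) := by
  intro n P p q hP
  have h₀ := IsPullback.of_hasPullback f (𝔸(ULift.{u} (Fin (n + 1)); Y) ↘ Y)
  let r : P ⟶ pullback f (𝔸(ULift.{u} (Fin (n + 1)); Y) ↘ Y) :=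
    pullback.lift (p ≫ i) q (by rw [Category.assoc]; exact hP.w)
  have hr : r ≫ pullback.snd _ _ = q := pullback.lift_snd _ _ _
  have hsq : IsPullback p r i (pullback.fst _ _) := by
    refine IsPullback.of_bot ?_ (pullback.lift_fst _ _ _).symm h₀
    rw [hr]
    exact hP
  have : IsOpenImmersion r := MorphismProperty.of_isPullback hsq ‹_›
  rw [← hr]
  exact (h n _ _ _ h₀).comp r.isOpenEmbedding.isOpenMap

lemma OpenOnAffineSpaces.of_comp {X Y V : Scheme.{u}} (g : X ⟶ V) (j : V ⟶ Y) [IsOpenImmersion j]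
    (h : OpenOnAffineSpaces (g ≫ j)) : OpenOnAffineSpaces g := by
  intro n P p q hP
  have hj := AffineSpace.isPullback_map (n := ULift.{u} (Fin (n + 1))) j
  have : IsOpenImmersion (AffineSpace.map (ULift.{u} (Fin (n + 1))) j) :=
    MorphismProperty.of_isPullback hj.flip ‹_›
  have ho := h n P p _ (hP.paste_vert hj.flip)
  intro U hU
  have hm := (AffineSpace.map (ULift.{u} (Fin (n + 1))) j).isOpenEmbedding
  rw [← hm.injective.preimage_image (⇑q '' U), ← Set.image_comp]
  exact (ho U hU).preimage hm.continuous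

open MvPolynomial in
/-- Openness after every polynomial base change gives openness after every base change. -/
lemma isOpenMap_comap_tensor (A B C' : Type u) [CommRing A] [CommRing B] [CommRing C']
    [Algebra A B] [Algebra A C']
    (h : ∀ n : ℕ, IsOpenMap (PrimeSpectrum.comap
      (MvPolynomial.map (algebraMap A C') :
        MvPolynomial (ULift.{u} (Fin (n + 1))) A →+* MvPolynomial (ULift.{u} (Fin (n + 1))) C'))) :
    IsOpenMap (PrimeSpectrum.comap (algebraMap B (B ⊗[A] C'))) := by
  refine PrimeSpectrum.isTopologicalBasis_basic_opens.isOpenMap_iff.mpr ?_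
  rintro _ ⟨t, rfl⟩
  obtain ⟨S, rfl⟩ := TensorProduct.exists_finset t
  obtain ⟨n, e⟩ : ∃ n, Nonempty (Option S ≃ ULift.{u} (Fin (n + 1))) :=
    ⟨Fintype.card S, ⟨(Fintype.equivFinOfCardEq (by simp)).trans Equiv.ulift.symm⟩⟩
  obtain ⟨e⟩ := e
  let b : ULift.{u} (Fin (n + 1)) → B := fun i => (e.symm i).elim 0 fun s => s.1.1
  let ev : MvPolynomial (ULift.{u} (Fin (n + 1))) A →+* B := eval₂Hom (algebraMap A B) b
  let ψ : MvPolynomial (ULift.{u} (Fin (n + 1))) C' →+* B ⊗[A] C' :=
    eval₂Hom Algebra.TensorProduct.includeRight.toRingHom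
      (fun i => Algebra.TensorProduct.includeLeftRingHom (b i))
  let t₀ : MvPolynomial (ULift.{u} (Fin (n + 1))) C' := ∑ s : S, MvPolynomial.C s.1.2 * X (e (some s))
  have ht : ψ t₀ = ∑ s ∈ S, s.1 ⊗ₜ[A] s.2 := by
    rw [← S.sum_coe_sort]
    simp [t₀, ψ, b]
  let := algebraMvPolynomial (R := A) (S := C') (σ := ULift.{u} (Fin (n + 1)))
  have hs := CommRingCat.isPushout_tensorProduct A B C'
  have hB : CommRingCat.ofHom (algebraMap A B) =
      CommRingCat.ofHom (algebraMap A (MvPolynomial (ULift.{u} (Fin (n + 1))) A)) ≫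
        CommRingCat.ofHom ev := by
    ext a; simp [ev]
  have hC : CommRingCat.ofHom
      (Algebra.TensorProduct.includeRight (R := A) (A := B) (B := C')).toRingHom =
      CommRingCat.ofHom (algebraMap C' (MvPolynomial (ULift.{u} (Fin (n + 1))) C')) ≫
        CommRingCat.ofHom ψ := by
    ext a; simp [ψ]
  rw [hB] at hs
  erw [hC] at hs
  have hp := IsPushout.of_left hs (by
      ext1
      refine MvPolynomial.ringHom_ext (fun a => ?_) (fun i => ?_)
      · simp [ev, ψ]
      · simp [ev, ψ])
    (CommRingCat.isPushout_of_isPushout A (MvPolynomial (ULift.{u} (Fin (n + 1))) A) C'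
      (MvPolynomial (ULift.{u} (Fin (n + 1))) C'))
  have himg := Scheme.image_preimage_eq_of_isPullback
    (isPullback_SpecMap_of_isPushout _ _ _ _ hp.flip)
    (PrimeSpectrum.basicOpen t₀ : Set (PrimeSpectrum _))
  have hpre : PrimeSpectrum.comap ψ ⁻¹' (PrimeSpectrum.basicOpen t₀ : Set (PrimeSpectrum _)) =
      (PrimeSpectrum.basicOpen (∑ s ∈ S, s.1 ⊗ₜ[A] s.2) : Set (PrimeSpectrum _)) := by
    rw [← ht]; rfl
  change IsOpen (_ '' (PrimeSpectrum.basicOpen (∑ s ∈ S, s.1 ⊗ₜ[A] s.2) : Set (PrimeSpectrum (B ⊗[A] C'))))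
  rw [← hpre]
  erw [himg]
  exact (h n _ (PrimeSpectrum.basicOpen t₀).2).preimage (PrimeSpectrum.continuous_comap _)

/-- A morphism is universally open if it is open after base change to the affine spaces. -/
theorem OpenOnAffineSpaces.universallyOpen {X Y : Scheme.{u}} {f : X ⟶ Y}
    (h : OpenOnAffineSpaces f) : UniversallyOpen f := by
  wlog hY : ∃ R, Y = Spec R generalizing X Y
  · refine (IsZariskiLocalAtTarget.iff_of_openCover (P := @UniversallyOpen) Y.affineCover).mpr
      fun i => this ?_ ⟨_, rfl⟩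
    refine OpenOnAffineSpaces.of_comp _ (Y.affineCover.f i) ?_
    rw [show Scheme.Cover.pullbackHom Y.affineCover f i ≫ Y.affineCover.f i =
      pullback.fst f (Y.affineCover.f i) ≫ f from pullback.condition.symm]
    exact h.comp (pullback.fst f (Y.affineCover.f i))
  obtain ⟨R, rfl⟩ := hY
  wlog hX : ∃ S, X = Spec S generalizing X
  · exact (IsZariskiLocalAtSource.iff_of_openCover (P := @UniversallyOpen) X.affineCover).mpr
      fun i => this (h.comp _) ⟨_, rfl⟩
  obtain ⟨S, rfl⟩ := hX
  obtain ⟨φ, rfl⟩ := Spec.map_surjective f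
  refine ⟨universally_mk' _ _ fun {T} g _ ↦ ?_⟩
  wlog hT : ∃ B, T = Spec B generalizing T
  · refine (IsZariskiLocalAtTarget.iff_of_openCover T.affineCover).mpr fun i ↦ ?_
    refine (MorphismProperty.cancel_left_of_respectsIso _
      ((pullbackRightPullbackFstIso ..).inv ≫ (pullbackSymmetry ..).hom) _).mp ?_
    simpa [Scheme.Cover.pullbackHom] using! this _ _ ⟨_, rfl⟩
  obtain ⟨B, rfl⟩ := hT
  obtain ⟨ψ, rfl⟩ := Spec.map_surjective g
  algebraize [φ.hom, ψ.hom]
  refine (MorphismProperty.cancel_left_of_respectsIso _ (pullbackSpecIso R B S).inv _).mp ?_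
  convert_to! topologically _ (Spec.map <| CommRingCat.ofHom (algebraMap B (TensorProduct R B S)))
  · exact pullbackSpecIso_inv_fst ..
  refine isOpenMap_comap_tensor R B S fun n => ?_
  have hφ : φ = CommRingCat.ofHom (algebraMap R S) := rfl
  let e := AffineSpace.SpecIso (ULift.{u} (Fin (n + 1))) R
  have hpb := AffineSpace.isPullback_map (n := ULift.{u} (Fin (n + 1))) (Spec.map φ)
  have ho := h n _ _ _ hpb.flip
  rw [AffineSpace.map_SpecMap] at ho
  have hc : topologically @IsOpenMap (Spec.map (CommRingCat.ofHom (MvPolynomial.map φ.hom :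
      MvPolynomial (ULift.{u} (Fin (n + 1))) R →+* _))) := by
    rw [← MorphismProperty.cancel_left_of_respectsIso (P := topologically @IsOpenMap)
      (AffineSpace.SpecIso (ULift.{u} (Fin (n + 1))) S).hom,
      ← MorphismProperty.cancel_right_of_respectsIso (P := topologically @IsOpenMap) _ e.inv,
      Category.assoc]
    exact ho
  exact hc

end Groth.Agent.LimTop61
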