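import Groth.Agent.Alg80.QuasiSection
import Mathlib

/-!
An fppf cover is refined by a locally quasi-finite fppf cover.
-/

set_option autoImplicit false
set_option backward.isDefEq.respectTransparency false
set_option backward.defeqAttrib.useBackward true

universe u

open CategoryTheory CategoryTheory.Limits AlgebraicGeometry

namespace Groth.Agent.LimTop61

/-- An fppf cover is refined by a locally quasi-finite fppf cover by affine pieces. -/
theorem exists_lqf_refinement {S' S : Scheme.{u}} (g : S' ⟶ S) [Flat g]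
    [LocallyOfFinitePresentation g] [Surjective g] :
    ∃ (T : Scheme.{u}) (h : T ⟶ S) (r : T ⟶ S'), r ≫ g = h ∧ Flat h ∧
      LocallyOfFinitePresentation h ∧ LocallyQuasiFinite h ∧ Surjective h := by
  have key : ∀ s : S, ∃ (Q : Scheme.{u}) (k : Q ⟶ S) (m : Q ⟶ S'), m ≫ g = k ∧ Flat k ∧
      LocallyOfFinitePresentation k ∧ LocallyQuasiFinite k ∧ s ∈ Set.range k := by
    intro s
    obtain ⟨x, rfl⟩ := g.surjective s
    obtain ⟨_, ⟨V, hV, rfl⟩, hxV, -⟩ :=
      S.isBasis_affineOpens.exists_subset_of_mem_open (Set.mem_univ (g x)) isOpen_univ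
    obtain ⟨_, ⟨U, hU, rfl⟩, hxU, hUV⟩ :=
      S'.isBasis_affineOpens.exists_subset_of_mem_open (show x ∈ g ⁻¹ᵁ V from hxV) (g ⁻¹ᵁ V).2
    let R := Γ(S, V)
    let A := Γ(S', U)
    algebraize [(g.appLE V U hUV).hom]
    have : Algebra.FinitePresentation R A :=
      LocallyOfFinitePresentation.finitePresentation_appLE g hV hU hUV
    have : Module.Flat R A := Flat.flat_appLE g hV hU hUV
    have e : Spec.map (g.appLE V U hUV) ≫ hV.fromSpec = hU.fromSpec ≫ g :=
      IsAffineOpen.SpecMap_appLE_fromSpec g hV hU hUV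
    obtain ⟨x', hx'⟩ : x ∈ Set.range hU.fromSpec := by rw [hU.range_fromSpec]; exact hxU
    have hy : Spec.map (g.appLE V U hUV) x' ∈ Set.range (PrimeSpectrum.comap (algebraMap R A)) := ⟨x', rfl⟩
    obtain ⟨B, _, _, j, hfp, hfl, hqf, hmem⟩ := Alg80.QuasiSection.exists_quasiSection (A := A) _ hy
    let b : Spec (.of B) ⟶ Spec R := Spec.map (CommRingCat.ofHom (algebraMap R B))
    have : Flat b := (HasRingHomProperty.Spec_iff (P := @Flat)).mpr (RingHom.flat_algebraMap_iff.mpr hfl)
    have : LocallyOfFinitePresentation b :=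
      (HasRingHomProperty.Spec_iff (P := @LocallyOfFinitePresentation)).mpr
        (RingHom.finitePresentation_algebraMap.mpr hfp)
    have : LocallyQuasiFinite b := (HasRingHomProperty.Spec_iff (P := @LocallyQuasiFinite)).mpr
      (RingHom.quasiFinite_algebraMap.mpr hqf)
    refine ⟨Spec (.of B), b ≫ hV.fromSpec, Spec.map (CommRingCat.ofHom j.toRingHom) ≫ hU.fromSpec,
      ?_, inferInstance, inferInstance, inferInstance, ?_⟩
    · rw [Category.assoc, ← e, ← Spec.map_comp_assoc]
      congr 2
      ext r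
      exact j.commutes r
    · obtain ⟨z, hz⟩ := hmem
      refine ⟨z, ?_⟩
      rw [Scheme.Hom.comp_apply, show b z = Spec.map (g.appLE V U hUV) x' from hz,
        ← Scheme.Hom.comp_apply, e, Scheme.Hom.comp_apply, hx']
  choose Q k m hm hfl hfp hqf hs using key
  refine ⟨∐ Q, Sigma.desc k, Sigma.desc m, ?_, ?_, ?_, ?_, ⟨fun s => ?_⟩⟩
  · refine Sigma.hom_ext _ _ fun i => ?_
    rw [Sigma.ι_desc_assoc, Sigma.ι_desc, hm]
  · have : IsZariskiLocalAtSource (@Flat : MorphismProperty Scheme.{u}) :=
      HasRingHomProperty.instIsZariskiLocalAtSource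
    exact IsZariskiLocalAtSource.sigmaDesc hfl
  · have : IsZariskiLocalAtSource (@LocallyOfFinitePresentation : MorphismProperty Scheme.{u}) :=
      HasRingHomProperty.instIsZariskiLocalAtSource
    exact IsZariskiLocalAtSource.sigmaDesc hfp
  · have : IsZariskiLocalAtSource (@LocallyQuasiFinite : MorphismProperty Scheme.{u}) :=
      HasRingHomProperty.instIsZariskiLocalAtSource
    exact IsZariskiLocalAtSource.sigmaDesc hqf
  · obtain ⟨z, hz⟩ := hs s
    exact ⟨Sigma.ι Q s z, by rw [← Scheme.Hom.comp_apply, Sigma.ι_desc]; exact hz⟩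

end Groth.Agent.LimTop61
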