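import Groth.Agent.Split94.Basic
import Mathlib

/-!
An étale neighbourhood is dominated Zariski locally by a finite free cover.
-/

set_option autoImplicit false
set_option linter.style.haveILetI false
set_option backward.isDefEq.respectTransparency false
set_option backward.defeqAttrib.useBackward true

universe u

open CategoryTheory CategoryTheory.Limits AlgebraicGeometry Polynomial

namespace Groth.Agent.LimTop61

/-- Among the roots in a field splitting `P.f`, one defines the same point as a given field-valued
point. -/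
theorem exists_root_sameKer {R F E L : Type u} [CommRing R] (P : StandardEtalePair R) [Field F]
    [Field E] [Field L] [Algebra R F] [Algebra R E] [Algebra R L] [Algebra F E] [Algebra F L]
    [IsScalarTower R F E] [IsScalarTower R F L] (x : E) (hx : P.HasMap x) {r : ℕ} (ω : Fin r → L)
    (hmap : P.f.map (algebraMap R L) = ∏ j, (X - C (ω j))) :
    ∃ (j : Fin r) (hω : P.HasMap (ω j)), ∀ z, P.lift (ω j) hω z = 0 ↔ P.lift x hx z = 0 := by
  obtain ⟨hx0, hxu⟩ := id hx
  have hint : IsIntegral F x :=
    ⟨P.f.map (algebraMap R F), P.monic_f.map _, by rw [← aeval_def, aeval_map_algebraMap]; exact hx0⟩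
  let m := minpoly F x
  have hdvd : m.map (algebraMap F L) ∣ P.f.map (algebraMap R L) := by
    rw [IsScalarTower.algebraMap_eq R F L, ← Polynomial.map_map]
    exact Polynomial.map_dvd _ (minpoly.dvd F x (by rw [aeval_map_algebraMap]; exact hx0))
  obtain ⟨j, hj⟩ : ∃ j, aeval (ω j) m = 0 := by
    have hsplit : (m.map (algebraMap F L)).Splits := by
      refine Polynomial.Splits.of_dvd ?_ ((P.monic_f.map _).ne_zero) hdvd
      rw [hmap]
      exact Polynomial.Splits.prod fun j _ => Polynomial.Splits.X_sub_C (ω j)
    obtain ⟨y, hy⟩ := hsplit.exists_eval_eq_zero (by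
      rw [degree_map_eq_of_injective (algebraMap F L).injective]
      exact (minpoly.degree_pos hint).ne')
    have hy' : (P.f.map (algebraMap R L)).eval y = 0 := by
      obtain ⟨k, hk⟩ := hdvd
      rw [hk, eval_mul, hy, zero_mul]
    rw [hmap, eval_prod, Finset.prod_eq_zero_iff] at hy'
    obtain ⟨j, -, hj⟩ := hy'
    rw [eval_sub, eval_X, eval_C, sub_eq_zero] at hj
    exact ⟨j, by rw [aeval_def, ← Polynomial.eval_map, ← hj]; exact hy⟩
  let φ₀ : IntermediateField.adjoin F {x} →ₐ[F] L :=
    (IntermediateField.algHomAdjoinIntegralEquiv F hint).symm ⟨ω j, by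
      rw [Polynomial.mem_aroots]
      exact ⟨minpoly.ne_zero hint, hj⟩⟩
  have hφ₀ : φ₀ ⟨x, IntermediateField.mem_adjoin_simple_self F x⟩ = ω j :=
    IntermediateField.algHomAdjoinIntegralEquiv_symm_apply_gen F hint _
  let F' := IntermediateField.adjoin F {x}
  let x' : F' := ⟨x, IntermediateField.mem_adjoin_simple_self F x⟩
  have hx' : P.HasMap x' := by
    constructor
    · apply Subtype.ext
      rw [← IntermediateField.coe_val, ← AlgHom.restrictScalars_apply R, ← Polynomial.aeval_algHom_apply]
      exact hx0
    · rw [isUnit_iff_ne_zero]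
      intro h
      apply hxu.ne_zero
      have := congrArg ((F'.val).restrictScalars R) h
      rwa [← Polynomial.aeval_algHom_apply, map_zero] at this
  have hω : P.HasMap (ω j) := hφ₀ ▸ hx'.map (φ₀.restrictScalars R)
  have e1 : P.lift (ω j) hω = (φ₀.restrictScalars R).comp (P.lift x' hx') := by
    apply P.hom_ext
    rw [AlgHom.comp_apply, P.lift_X, P.lift_X]
    exact hφ₀.symm
  have e2 : P.lift x hx = ((F'.val).restrictScalars R).comp (P.lift x' hx') := by
    apply P.hom_ext
    rw [AlgHom.comp_apply, P.lift_X, P.lift_X]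
    rfl
  refine ⟨j, hω, fun z => ?_⟩
  rw [e1, e2]
  exact (map_eq_zero_iff _ φ₀.injective).trans (map_eq_zero_iff _ (F'.val).injective).symm

/-- A point of a standard étale algebra is reached from a finite free splitting algebra. -/
theorem exists_split_dominating {R : Type u} [CommRing R] (P : StandardEtalePair R) (q : Ideal P.Ring)
    [q.IsPrime] :
    ∃ (T : Type u) (_ : CommRing T) (_ : Algebra R T), Module.Finite R T ∧ Module.Free R T ∧
      Algebra.FinitePresentation R T ∧ Function.Surjective (PrimeSpectrum.comap (algebraMap R T)) ∧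
      ∀ t : PrimeSpectrum T, t.asIdeal.comap (algebraMap R T) = q.comap (algebraMap R P.Ring) →
        ∃ c, c ∉ t.asIdeal ∧ ∃ ψ : P.Ring →ₐ[R] Localization.Away c,
          ∀ t' : PrimeSpectrum (Localization.Away c),
            PrimeSpectrum.comap (algebraMap T (Localization.Away c)) t' = t →
              t'.asIdeal.comap ψ = q := by
  have hR : Nontrivial R :=
    ⟨⟨0, 1, fun h => q.ne_top_iff_one.1 ‹q.IsPrime›.ne_top
      (by rw [← map_one (algebraMap R P.Ring), ← h, map_zero]; exact zero_mem _)⟩⟩
  let r := P.f.natDegree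
  let a : Fin r → R := fun i => (-1) ^ ((i : ℕ) + 1) * P.f.coeff (r - 1 - (i : ℕ))
  have hf : Split94.splitPoly r a = P.f := by
    ext k
    rcases lt_trichotomy k r with hk | rfl | hk
    · have : k = r - 1 - ((⟨r - 1 - k, by omega⟩ : Fin r) : ℕ) := by simp; omega
      rw [this, Split94.splitPoly_coeff, ← mul_assoc, ← pow_add, Even.neg_one_pow ⟨_, rfl⟩, one_mul]
    · have h2 := (Split94.splitPoly_monic r a).coeff_natDegree
      rw [Split94.splitPoly_natDegree] at h2
      rw [h2, P.monic_f.coeff_natDegree]
    · rw [coeff_eq_zero_of_natDegree_lt (by rwa [Split94.splitPoly_natDegree]),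
        coeff_eq_zero_of_natDegree_lt hk]
  let T := Split94.Split r a
  obtain ⟨b⟩ := Split94.exists_basis r R a
  have : Module.Finite R T := .of_basis b
  have : Module.Free R T := .of_basis b
  have : Nontrivial T := by
    have : Nonempty (Fin r.factorial) := ⟨⟨0, r.factorial_pos⟩⟩
    exact b.repr.toEquiv.nontrivial
  have : Module.FaithfullyFlat R T := inferInstance
  refine ⟨T, inferInstance, inferInstance, inferInstance, inferInstance, ?_,
    PrimeSpectrum.comap_surjective_of_faithfullyFlat, fun t ht => ?_⟩
  · exact Algebra.FinitePresentation.quotient (Submodule.fg_span (Set.finite_range _))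
  let L := t.asIdeal.ResidueField
  let E := q.ResidueField
  let p := q.comap (algebraMap R P.Ring)
  let F := p.ResidueField
  let ιE : F →+* E := Ideal.ResidueField.map p q (algebraMap R P.Ring) rfl
  let ιL : F →+* L := Ideal.ResidueField.map p t.asIdeal (algebraMap R T) ht.symm
  letI : Algebra F E := ιE.toAlgebra
  letI : Algebra F L := ιL.toAlgebra
  have : IsScalarTower R F E := .of_algebraMap_eq fun x => by
    exact (Ideal.ResidueField.map_algebraMap p q (algebraMap R P.Ring) rfl x).symm
  have : IsScalarTower R F L := .of_algebraMap_eq fun x => by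
    exact (Ideal.ResidueField.map_algebraMap p t.asIdeal (algebraMap R T) ht.symm x).symm
  let χ : T →ₐ[R] L := IsScalarTower.toAlgHom R T L
  let ω : Fin r → L := fun j => χ (Ideal.Quotient.mk _ (MvPolynomial.X j))
  let ev : P.Ring →ₐ[R] E := IsScalarTower.toAlgHom R P.Ring E
  let x : E := ev P.X
  obtain ⟨hx0, hxu⟩ := (P.hasMap_X.map ev : P.HasMap x)
  have hmap : P.f.map (algebraMap R L) = ∏ j, (X - C (ω j)) := by
    rw [← hf, ← χ.comp_algebraMap, ← Polynomial.map_map, ← Split94.prod_root, Polynomial.map_prod]
    exact Finset.prod_congr rfl fun j _ => by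
      rw [Polynomial.map_sub, Polynomial.map_X, Polynomial.map_C]; rfl
  obtain ⟨j, hω, hsame⟩ := exists_root_sameKer P (F := F) x ⟨hx0, hxu⟩ ω hmap
  let T_j : T := Ideal.Quotient.mk _ (MvPolynomial.X j)
  let c := aeval T_j P.g
  have hc : c ∉ t.asIdeal := by
    intro hc
    apply hω.2.ne_zero
    change aeval (χ T_j) P.g = 0
    rw [Polynomial.aeval_algHom_apply]
    exact (Ideal.algebraMap_residueField_eq_zero).2 hc
  let η : T →ₐ[R] Localization.Away c := IsScalarTower.toAlgHom R T _
  have hroot : aeval T_j P.f = 0 := by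
    rw [aeval_def, ← Polynomial.eval_map, ← hf, ← Split94.prod_root, eval_prod]
    exact Finset.prod_eq_zero (Finset.mem_univ j) (by rw [eval_sub, eval_X, eval_C, sub_self])
  have hη : P.HasMap (η T_j) := by
    refine ⟨by rw [Polynomial.aeval_algHom_apply, hroot, map_zero], ?_⟩
    rw [Polynomial.aeval_algHom_apply]
    exact IsLocalization.Away.algebraMap_isUnit c
  refine ⟨c, hc, P.lift (η T_j) hη, fun t' ht' => ?_⟩
  let θ : Localization.Away c →ₐ[T] L :=
    IsLocalization.liftAlgHom (M := Submonoid.powers c) (f := Algebra.ofId T L) (by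
      rintro ⟨_, k, rfl⟩
      change IsUnit (algebraMap T L (c ^ k))
      rw [map_pow]
      exact (isUnit_iff_ne_zero.2 fun h => hc (Ideal.algebraMap_residueField_eq_zero.1 h)).pow k)
  have hker : RingHom.ker θ = t'.asIdeal := by
    have : (⟨RingHom.ker θ, RingHom.ker_isPrime _⟩ : PrimeSpectrum (Localization.Away c)) = t' := by
      apply PrimeSpectrum.localization_comap_injective (Localization.Away c) (Submonoid.powers c)
      rw [ht']
      refine PrimeSpectrum.ext (Ideal.ext fun y => ?_)
      change θ (algebraMap T _ y) = 0 ↔ _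
      rw [θ.commutes]
      exact Ideal.algebraMap_residueField_eq_zero
    exact congrArg PrimeSpectrum.asIdeal this
  have e1 : (θ.restrictScalars R).comp (P.lift (η T_j) hη) = P.lift (ω j) hω := by
    apply P.hom_ext
    rw [AlgHom.comp_apply, P.lift_X, P.lift_X]
    exact θ.commutes T_j
  have e2 : P.lift x ⟨hx0, hxu⟩ = ev := by
    apply P.hom_ext
    rw [P.lift_X]
  ext z
  rw [Ideal.mem_comap, ← hker, RingHom.mem_ker,
    show θ ((P.lift (η T_j) hη) z) = P.lift (ω j) hω z from congrArg (fun h => h z) e1,
    hsame, e2]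
  exact Ideal.algebraMap_residueField_eq_zero

end Groth.Agent.LimTop61
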