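import Groth.Agent.LimTop61.Descent
import Mathlib.Topology.Constructible

set_option autoImplicit false
set_option backward.isDefEq.respectTransparency false
universe u

open CategoryTheory CategoryTheory.Limits AlgebraicGeometry Topology

namespace Groth.Agent.LimTop61

variable {I : Type u} [SmallCategory I] [IsCofiltered I] (D : I ⥤ Scheme.{u}) (c : Cone D)
  (hc : IsLimit c) [∀ (i j : I) (f : i ⟶ j), IsAffineHom (D.map f)]

omit [IsCofiltered I] in
lemma isConstructible_preimage_map {i₀ i j : I} (a : i ⟶ i₀) (φ : j ⟶ i)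
    [CompactSpace (D.obj i₀)] [QuasiSeparatedSpace (D.obj i₀)] {Z : Set (D.obj i)}
    (hZ : IsConstructible Z) : IsConstructible (⇑(D.map φ) ⁻¹' Z) := by
  have := compactSpace_of_map D a
  have := compactSpace_of_map D (φ ≫ a)
  have := quasiSeparatedSpace_of_map D a
  have := quasiSeparatedSpace_of_map D (φ ≫ a)
  induction hZ using IsConstructible.empty_union_induction with
  | open_retrocompact U ho hc =>
    exact (isCompact_preimage_map D φ (U := ⟨U, ho⟩) hc.isCompact).isConstructible
      (ho.preimage (D.map φ).continuous)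
  | union s hs t ht h1 h2 => rw [Set.preimage_union]; exact h1.union h2
  | compl s hs h => rw [Set.preimage_compl]; exact h.compl

include hc

/-- Constructible subsets of the limit descend to constructible subsets of a stage. -/
theorem exists_isConstructible_preimage_eq (i₀ : I) [CompactSpace (D.obj i₀)]
    [QuasiSeparatedSpace (D.obj i₀)] (Z : Set c.pt) (hZ : IsConstructible Z) :
    ∃ (i : I) (_ : i ⟶ i₀) (Zi : Set (D.obj i)),
      IsConstructible Zi ∧ (⇑(c.π.app i) ⁻¹' Zi : Set c.pt) = Z := by
  have := compactSpace_pt D c hc i₀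
  induction hZ using IsConstructible.empty_union_induction with
  | open_retrocompact U ho hU =>
    obtain ⟨i, φ, V, hV, hVU⟩ := exists_preimage_eq_over D c hc i₀ ⟨U, ho⟩ hU.isCompact
    have := compactSpace_of_map D φ
    have := quasiSeparatedSpace_of_map D φ
    exact ⟨i, φ, V, hV.isConstructible V.2, congrArg (fun W : c.pt.Opens => (W : Set c.pt)) hVU⟩
  | union s hs t ht h1 h2 =>
    obtain ⟨i, φ, Zi, hZi, rfl⟩ := h1
    obtain ⟨j, ψ, Zj, hZj, rfl⟩ := h2
    obtain ⟨m, a, b, -⟩ := IsCofilteredOrEmpty.cone_objs i j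
    refine ⟨m, a ≫ φ, ⇑(D.map a) ⁻¹' Zi ∪ ⇑(D.map b) ⁻¹' Zj,
      (isConstructible_preimage_map D φ a hZi).union (isConstructible_preimage_map D ψ b hZj), ?_⟩
    ext x
    simp only [Set.mem_union, Set.mem_preimage]
    rw [π_apply D c a x, π_apply D c b x]
  | compl s hs h =>
    obtain ⟨i, φ, Zi, hZi, rfl⟩ := h
    exact ⟨i, φ, Ziᶜ, hZi.compl, rfl⟩

end Groth.Agent.LimTop61
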