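import Groth.Agent.Approx60.Morph
import Groth.Agent.Lim60.EvSep
import Groth.Agent.Lim60.EvAffine

/-!
Factorisations of morphisms of qcqs schemes obtained from relative approximation.
-/

set_option autoImplicit false
set_option backward.isDefEq.respectTransparency false

universe u

open CategoryTheory CategoryTheory.Limits AlgebraicGeometry Opposite

namespace Groth.Agent.LimTop61

/-- The underlying system of a relative approximation. -/
theorem exists_affine_fp_factorization {X Y : Scheme.{u}} (f : Y ⟶ X)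
    [CompactSpace X] [QuasiSeparatedSpace X] [CompactSpace Y] [QuasiSeparatedSpace Y] :
    ∃ (Z : Scheme.{u}) (g : Y ⟶ Z) (h : Z ⟶ X), IsAffineHom g ∧ LocallyOfFinitePresentation h ∧
      QuasiCompact h ∧ QuasiSeparated h ∧ (IsSeparated f → IsSeparated h) ∧ g ≫ h = f := by
  obtain ⟨α, _, _, _, D, π, ⟨hl⟩, hobj, hmap⟩ := Approx60.exists_fp_limit f
  have : IsConnected αᵒᵖ := IsCofiltered.isConnected _
  let D₀ := D ⋙ Over.forget X
  let c₀ : Cone D₀ := (Over.forget X).mapCone (Cone.mk (Over.mk f) π)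
  have hc₀ : IsLimit c₀ := isLimitOfPreserves (Over.forget X) hl
  have : ∀ (i j : αᵒᵖ) (a : i ⟶ j), IsAffineHom (D₀.map a) := hmap
  have : ∀ i, CompactSpace (D₀.obj i) := fun i => (hobj i).2.2.2.1
  have : ∀ i, QuasiSeparatedSpace (D₀.obj i) := fun i => (hobj i).2.2.2.2
  let t : D₀ ⟶ (Functor.const αᵒᵖ).obj X :=
    { app := fun i => (D.obj i).hom, naturality := fun i j a => by simp [D₀] }
  have hpick : ∃ i₁ : αᵒᵖ, IsSeparated f → IsSeparated (D.obj i₁).hom := by
    obtain ⟨i₀⟩ := IsCofiltered.nonempty (C := αᵒᵖ)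
    by_cases hf : IsSeparated f
    · have : IsSeparated (c₀.π.app i₀ ≫ t.app i₀) := by
        show IsSeparated ((π.app i₀).left ≫ (D.obj i₀).hom)
        rw [Over.w (π.app i₀)]
        exact hf
      obtain ⟨i₁, h₁⟩ := Lim60.exists_isSeparated_structureMap X D₀ t c₀ hc₀ i₀
      exact ⟨i₁, fun _ => h₁ i₁ (𝟙 _)⟩
    · exact ⟨i₀, fun h => absurd h hf⟩
  obtain ⟨i, hi⟩ := hpick
  exact ⟨(D.obj i).left, (π.app i).left, (D.obj i).hom, isAffineHom_π_app D₀ c₀ hc₀ i,
    (hobj i).1, (hobj i).2.1, (hobj i).2.2.1, hi, Over.w (π.app i)⟩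

/-- Affine morphisms are the limits of affine morphisms of finite presentation. -/
theorem isAffineHom_iff_isLimit_affine_fp {X Y : Scheme.{u}} (f : Y ⟶ X)
    [CompactSpace X] [QuasiSeparatedSpace X] [CompactSpace Y] [QuasiSeparatedSpace Y] :
    IsAffineHom f ↔
      ∃ (I : Type u) (_ : SmallCategory I) (_ : IsFiltered I) (D : Iᵒᵖ ⥤ Over X)
        (c : Limits.Cone D) (_ : Limits.IsLimit c),
        (∀ i, IsAffineHom (D.obj i).hom ∧ LocallyOfFinitePresentation (D.obj i).hom) ∧
        Nonempty (c.pt ≅ Over.mk f) := by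
  constructor
  · intro hf
    obtain ⟨α, _, _, _, D, π, ⟨hl⟩, hobj, hmap⟩ := Approx60.exists_fp_limit f
    have : IsConnected αᵒᵖ := IsCofiltered.isConnected _
    let D₀ := D ⋙ Over.forget X
    let c₀ : Cone D₀ := (Over.forget X).mapCone (Cone.mk (Over.mk f) π)
    have hc₀ : IsLimit c₀ := isLimitOfPreserves (Over.forget X) hl
    have : ∀ (i j : αᵒᵖ) (a : i ⟶ j), IsAffineHom (D₀.map a) := hmap
    have : ∀ i, CompactSpace (D₀.obj i) := fun i => (hobj i).2.2.2.1
    have : ∀ i, QuasiSeparatedSpace (D₀.obj i) := fun i => (hobj i).2.2.2.2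
    let t : D₀ ⟶ (Functor.const αᵒᵖ).obj X :=
      { app := fun i => (D.obj i).hom, naturality := fun i j a => by simp [D₀] }
    obtain ⟨i₀⟩ := IsCofiltered.nonempty (C := αᵒᵖ)
    have : IsAffineHom (c₀.π.app i₀ ≫ t.app i₀) := by
      show IsAffineHom ((π.app i₀).left ≫ (D.obj i₀).hom)
      rw [Over.w (π.app i₀)]
      exact hf
    obtain ⟨i₁, h₁⟩ := Lim60.exists_isAffineHom_structureMap X D₀ t c₀ hc₀ i₀
    have : IsFiltered (Over i₁)ᵒᵖ := inferInstance
    have : IsConnected (Over i₁) := CategoryTheory.isConnected_of_hasTerminal (Over i₁)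
    have : (Over.forget i₁).Initial := inferInstance
    refine ⟨(Over i₁)ᵒᵖ, inferInstance, inferInstance, unopUnop (Over i₁) ⋙ Over.forget i₁ ⋙ D,
      (Cone.mk (Over.mk f) π).whisker (unopUnop (Over i₁) ⋙ Over.forget i₁), ?_, fun k => ?_,
      ⟨Iso.refl _⟩⟩
    · exact (Functor.Initial.isLimitWhiskerEquiv (unopUnop (Over i₁) ⋙ Over.forget i₁) _).symm hl
    · exact ⟨h₁ _ k.unop.unop.hom, (hobj _).1⟩
  · rintro ⟨I, _, _, D, c, hl, hobj, ⟨e⟩⟩
    have : IsConnected Iᵒᵖ := IsCofiltered.isConnected _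
    let D₀ := D ⋙ Over.forget X
    let c₀ : Cone D₀ := (Over.forget X).mapCone c
    have hc₀ : IsLimit c₀ := isLimitOfPreserves (Over.forget X) hl
    have : ∀ {i j : Iᵒᵖ} (a : i ⟶ j), IsAffineHom (D₀.map a) := fun {i j} a => by
      have := (hobj i).1
      have : IsAffineHom ((D.map a).left ≫ (D.obj j).hom) := by rw [Over.w]; infer_instance
      have := (hobj j).1
      exact MorphismProperty.of_postcomp (W := @IsAffineHom) (W' := @IsSeparated) (D.map a).left
        (D.obj j).hom inferInstance ‹_›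
    obtain ⟨i⟩ := IsCofiltered.nonempty (C := Iᵒᵖ)
    have := (hobj i).1
    have : IsAffineHom (c.π.app i).left := isAffineHom_π_app D₀ c₀ hc₀ i
    have hf : f = e.inv.left ≫ (c.π.app i).left ≫ (D.obj i).hom := by
      rw [Over.w]
      exact (Over.w e.inv).symm
    rw [hf]
    have : IsIso e.inv.left := inferInstanceAs (IsIso ((Over.forget X).map e.inv))
    infer_instance

end Groth.Agent.LimTop61
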