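import Groth.Agent.LimTop61.Points
import Mathlib.AlgebraicGeometry.Morphisms.UniversallyOpen

set_option autoImplicit false
set_option backward.isDefEq.respectTransparency false
set_option backward.defeqAttrib.useBackward true
universe u

open CategoryTheory CategoryTheory.Limits AlgebraicGeometry

namespace Groth.Agent.LimTop61

variable {I : Type u} [SmallCategory I] [IsCofiltered I] (D : I ⥤ Scheme.{u}) (c : Cone D)
  (hc : IsLimit c) [∀ (i j : I) (f : i ⟶ j), IsAffineHom (D.map f)]

include hc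

lemma isTopologicalBasis_preimage :
    TopologicalSpace.IsTopologicalBasis
      {s : Set c.pt | ∃ (i : I) (V : (D.obj i).Opens), IsAffineOpen V ∧ s = c.π.app i ⁻¹' V} := by
  have := isBasis_preimage_isAffineOpen D c hc
  unfold TopologicalSpace.Opens.IsBasis at this
  convert this using 1
  ext s
  constructor
  · rintro ⟨i, V, hV, rfl⟩; exact ⟨_, ⟨i, V, hV, rfl⟩, rfl⟩
  · rintro ⟨_, ⟨i, V, hV, rfl⟩, rfl⟩; exact ⟨i, V, hV, rfl⟩

/-- With surjective projections, a projection is open iff the transition maps are. -/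
lemma isOpenMap_π_iff (i : I) (hs : ∀ (j : I) (_ : j ⟶ i), Surjective (c.π.app j)) :
    IsOpenMap (c.π.app i) ↔ ∀ (j : I) (φ : j ⟶ i), IsOpenMap (D.map φ) := by
  refine ⟨fun h j φ U hU => ?_, fun h => ?_⟩
  · have heq : D.map φ '' U = c.π.app i '' (c.π.app j ⁻¹' U) := by
      conv_lhs => rw [← Set.image_preimage_eq U (hs j φ).surj]
      rw [Set.image_image]
      exact Set.image_congr fun x _ => π_apply D c φ x
    rw [heq]
    exact h _ (hU.preimage (c.π.app j).continuous)
  · rw [(isTopologicalBasis_preimage D c hc).isOpenMap_iff]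
    rintro _ ⟨k, V, -, rfl⟩
    obtain ⟨m, a, b, -⟩ := IsCofilteredOrEmpty.cone_objs i k
    have heq : c.π.app i '' (c.π.app k ⁻¹' V) = D.map a '' (D.map b ⁻¹' V) := by
      conv_rhs => rw [← Set.image_preimage_eq (D.map b ⁻¹' (V : Set (D.obj k))) (hs m a).surj]
      rw [Set.image_image]
      refine Set.Subset.antisymm ?_ ?_
      · rintro _ ⟨x, hx, rfl⟩
        refine ⟨x, ?_, π_apply D c a x⟩
        show D.map b (c.π.app m x) ∈ V
        rw [π_apply]; exact hx
      · rintro _ ⟨x, hx, rfl⟩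
        refine ⟨x, ?_, (π_apply D c a x).symm⟩
        show c.π.app k x ∈ V
        rw [← π_apply D c b x]; exact hx
    rw [heq]
    exact h m a _ (V.2.preimage (D.map b).continuous)

omit [IsCofiltered I] [∀ (i j : I) (f : i ⟶ j), IsAffineHom (D.map f)] hc in
lemma bcCone_π_isPullback {i : I} {T X : Scheme.{u}} (a : T ⟶ D.obj i) (q : X ⟶ T) (p : X ⟶ c.pt)
    (h : IsPullback q p a (c.π.app i)) (j : Over i) :
    IsPullback ((bcCone D c a q p h.w).π.app j) p (pullback.snd a (D.map j.hom))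
      (c.π.app j.left) := by
  refine IsPullback.of_right ?_ (by simp) (IsPullback.of_hasPullback a (D.map j.hom))
  convert h using 1 <;> simp

/-- With surjective projections, a projection is universally open iff the transition maps are. -/
lemma universallyOpen_π_iff (i : I) (hs : ∀ (j : I) (_ : j ⟶ i), Surjective (c.π.app j)) :
    UniversallyOpen (c.π.app i) ↔ ∀ (j : I) (φ : j ⟶ i), UniversallyOpen (D.map φ) := by
  refine ⟨fun h j φ => ⟨fun X' Y' i₁ i₂ f' H => ?_⟩, fun h => ⟨fun X' Y' i₁ i₂ f' H => ?_⟩⟩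
  · have P := (IsPullback.of_hasPullback i₁ (c.π.app j)).paste_horiz H
    rw [c.w] at P
    have hopen : IsOpenMap (pullback.fst i₁ (c.π.app j) ≫ f') :=
      h.universally_isOpenMap _ _ _ P
    have : Surjective (pullback.fst i₁ (c.π.app j)) :=
      MorphismProperty.pullback_fst (P := @Surjective) _ _ (hs j φ)
    intro U hU
    have heq : f' '' U = (pullback.fst i₁ (c.π.app j) ≫ f') ''
        (pullback.fst i₁ (c.π.app j) ⁻¹' U) := by
      conv_lhs => rw [← Set.image_preimage_eq U (pullback.fst i₁ (c.π.app j)).surjective]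
      rw [Set.image_image]
      rfl
    rw [heq]
    exact hopen _ (hU.preimage (pullback.fst i₁ (c.π.app j)).continuous)
  · have hs' (j : Over i) (_ : j ⟶ Over.mk (𝟙 i)) :
        Surjective ((bcCone D c i₂ f' i₁ H.w).π.app j) :=
      MorphismProperty.of_isPullback (P := @Surjective)
        (bcCone_π_isPullback D c i₂ f' i₁ H j).flip (hs j.left j.hom)
    have hbc := (isOpenMap_π_iff _ _ (isLimitBcCone D c hc i₂ f' i₁ H) (Over.mk (𝟙 i)) hs').mpr
      fun j φ => by
        have := h j.left φ.left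
        have : UniversallyOpen ((bcDiagram D i₂).map φ) :=
          MorphismProperty.of_isPullback (bcDiagram_map_isPullback D i₂ φ).flip this
        exact Scheme.Hom.isOpenMap _
    have : IsIso (D.map (Over.mk (𝟙 i)).hom) := by
      show IsIso (D.map (𝟙 i)); infer_instance
    have e : f' = (bcCone D c i₂ f' i₁ H.w).π.app (Over.mk (𝟙 i)) ≫
        pullback.fst i₂ (D.map (Over.mk (𝟙 i)).hom) := by simp
    show IsOpenMap _
    rw [e]
    show IsOpenMap (⇑(pullback.fst i₂ (D.map (Over.mk (𝟙 i)).hom)) ∘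
      ⇑((bcCone D c i₂ f' i₁ H.w).π.app (Over.mk (𝟙 i))))
    exact IsOpenMap.comp (Scheme.Hom.isOpenMap _) hbc

/-- Openness of a morphism passes to the limit from the stages. -/
lemma isOpenMap_of_stages {i₀ : I} {X₀ Y₀ : Scheme.{u}} (f₀ : X₀ ⟶ Y₀) (g₀ : Y₀ ⟶ D.obj i₀)
    {X Y : Scheme.{u}} (f : X ⟶ Y) (g : Y ⟶ c.pt) (qY : Y ⟶ Y₀) (qX : X ⟶ X₀)
    (hY : IsPullback qY g g₀ (c.π.app i₀)) (hX : IsPullback qX f f₀ qY)
    {i : I} (φ : i ⟶ i₀)
    (h : ∀ (j : I) (ψ : j ⟶ i),
      IsOpenMap (pullback.snd f₀ (pullback.fst g₀ (D.map (ψ ≫ φ))))) :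
    IsOpenMap f := by
  have hP := hX.paste_vert hY
  rw [(isTopologicalBasis_preimage _ _ (isLimitBcCone D c hc _ _ _ hP)).isOpenMap_iff]
  rintro _ ⟨k, V, -, rfl⟩
  obtain ⟨m, a, b, hab⟩ := IsCofiltered.cospan k.hom φ
  let j : Over i₀ := Over.mk (b ≫ φ)
  let e : j ⟶ k := Over.homMk a hab
  let B := pullback f₀ (pullback.fst g₀ (D.map (b ≫ φ)))
  let v : Y ⟶ pullback g₀ (D.map (b ≫ φ)) :=
    pullback.lift qY (g ≫ c.π.app m) (by rw [Category.assoc, c.w, hY.w])
  let w : X ⟶ B := pullback.lift qX (f ≫ v) (by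
    rw [Category.assoc, pullback.lift_fst, hX.w])
  have hsq : IsPullback w f (pullback.snd f₀ (pullback.fst g₀ (D.map (b ≫ φ)))) v := by
    refine IsPullback.of_right ?_ (by simp [w]) (IsPullback.of_hasPullback _ _)
    convert hX using 1 <;> simp [w, v]
  let t : B ⟶ (bcDiagram D (f₀ ≫ g₀)).obj k := pullback.lift (pullback.fst _ _)
    (pullback.snd _ _ ≫ pullback.snd _ _ ≫ D.map a) (by
      rw [pullback.condition_assoc, pullback.condition, Category.assoc, Category.assoc,
        ← D.map_comp, hab])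
  have ht : w ≫ t = (bcCone D c (f₀ ≫ g₀) qX (f ≫ g) hP.w).π.app k := by
    apply pullback.hom_ext <;> simp [w, t, v]
  have heq : f '' ((bcCone D c (f₀ ≫ g₀) qX (f ≫ g) hP.w).π.app k ⁻¹' (V : Set _)) =
      v ⁻¹' (pullback.snd f₀ (pullback.fst g₀ (D.map (b ≫ φ))) '' (t ⁻¹' (V : Set _))) := by
    rw [← ht]
    exact Scheme.image_preimage_eq_of_isPullback hsq (t ⁻¹' (V : Set _))
  rw [heq]
  exact (h m b _ (V.2.preimage t.continuous)).preimage v.continuous

end Groth.Agent.LimTop61
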