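import Mathlib
import Groth.Agent.LimTop61.Points
import Groth.Agent.E4O.BaseChangeDim
import Groth.Agent.E4O.Subscheme
import Groth.Agent.E4O.FibreComp

/-!
Fibre dimension bounds descend along limits of morphisms with closed immersion transition squares.
-/

set_option autoImplicit false
set_option backward.isDefEq.respectTransparency false
set_option backward.defeqAttrib.useBackward true

universe u

open CategoryTheory CategoryTheory.Limits AlgebraicGeometry TopologicalSpace Topology

namespace Groth.Agent.LimTop61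

variable {I : Type u} [SmallCategory I] [IsCofiltered I]

/-- The limit of a diagram of closed immersions is a closed subscheme of each stage. -/
theorem isClosedImmersion_π_of_closed_transitions (P : I ⥤ Scheme.{u}) (c : Cone P) (hc : IsLimit c)
    (hcl : ∀ {i j : I} (a : i ⟶ j), IsClosedImmersion (P.map a)) (i₀ : I) :
    IsClosedImmersion (c.π.app i₀) := by
  let hl := (Functor.Initial.isLimitWhiskerEquiv (Over.forget i₀) c).symm hc
  let K := ⨆ n : Over i₀, (P.map n.hom).ker
  have (n : Over i₀) : IsClosedImmersion (P.map n.hom) := hcl _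
  have hle : K ≤ (c.π.app i₀).ker := iSup_le fun n => by
    rw [← c.w n.hom]
    exact Scheme.Hom.le_ker_comp _ _
  let m : ∀ n : Over i₀, K.subscheme ⟶ P.obj n.left := fun n =>
    IsClosedImmersion.lift (P.map n.hom) K.subschemeι
      (le_trans (le_iSup (fun n : Over i₀ => (P.map n.hom).ker) n) (le_of_eq K.ker_subschemeι.symm))
  have hm : ∀ n, m n ≫ P.map n.hom = K.subschemeι := fun n => IsClosedImmersion.lift_fac _ _ _
  let cK : Cone (Over.forget i₀ ⋙ P) :=
    { pt := K.subscheme
      π :=
        { app := m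
          naturality := fun n n' a => by
            rw [← cancel_mono (P.map n'.hom)]
            show (𝟙 K.subscheme ≫ m n') ≫ _ = (m n ≫ P.map a.left) ≫ _
            rw [Category.id_comp, Category.assoc, ← P.map_comp, Over.w a, hm, hm] } }
  let g : K.subscheme ⟶ c.pt := hl.lift cK
  let h : c.pt ⟶ K.subscheme := IsClosedImmersion.lift K.subschemeι (c.π.app i₀)
    (le_of_eq_of_le K.ker_subschemeι hle)
  have hh : h ≫ K.subschemeι = c.π.app i₀ := IsClosedImmersion.lift_fac _ _ _
  have hg : ∀ n : Over i₀, g ≫ c.π.app n.left = m n := fun n => hl.fac cK n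
  have hg₀ : g ≫ c.π.app i₀ = K.subschemeι := by
    have h1 := hg (Over.mk (𝟙 i₀))
    have h2 := hm (Over.mk (𝟙 i₀))
    simp only [Over.mk_left, Over.mk_hom, CategoryTheory.Functor.map_id, Category.comp_id] at h1 h2
    exact h1.trans h2
  have e1 : h ≫ g = 𝟙 _ := hl.hom_ext fun n => by
    show (h ≫ g) ≫ c.π.app n.left = 𝟙 c.pt ≫ c.π.app n.left
    rw [← cancel_mono (P.map n.hom), Category.assoc h g, hg, Category.assoc, hm, hh, Category.id_comp,
      c.w]
  have e2 : g ≫ h = 𝟙 _ := by
    rw [← cancel_mono K.subschemeι, Category.assoc, hh, hg₀, Category.id_comp]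
  have : IsIso h := ⟨g, e1, e2⟩
  rw [← hh]
  infer_instance

variable {DX DS : I ⥤ Scheme.{u}} (φ : DX ⟶ DS) (cX : Cone DX) (cS : Cone DS)

/-- The stages base changed to the limit base. -/
noncomputable def overBase : I ⥤ Scheme.{u} where
  obj k := pullback (φ.app k) (cS.π.app k)
  map a := pullback.map _ _ _ _ (DX.map a) (𝟙 _) (DS.map a) (φ.naturality a).symm (by simp)
  map_id k := by apply pullback.hom_ext <;> simp
  map_comp a b := by apply pullback.hom_ext <;> simp

/-- The limit as a cone on the base changed stages. -/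
noncomputable def overBaseCone (f : cX.pt ⟶ cS.pt) (hf : ∀ i, f ≫ cS.π.app i = cX.π.app i ≫ φ.app i) :
    Cone (overBase φ cS) where
  pt := cX.pt
  π :=
    { app := fun k => pullback.lift (cX.π.app k) f (hf k).symm
      naturality := fun k l a => by
        apply pullback.hom_ext <;> simp [overBase] }

/-- It is a limit cone. -/
noncomputable def isLimitOverBaseCone (hX : IsLimit cX) (hS : IsLimit cS) (f : cX.pt ⟶ cS.pt)
    (hf : ∀ i, f ≫ cS.π.app i = cX.π.app i ≫ φ.app i) : IsLimit (overBaseCone φ cX cS f hf) where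
  lift s := hX.lift
    { pt := s.pt
      π :=
        { app := fun k => s.π.app k ≫ pullback.fst _ _
          naturality := fun k l a => by
            simp [← s.w a, overBase] } }
  fac s k := by
    apply pullback.hom_ext
    · simp [overBaseCone]
    · have hconn : IsConnected I := IsCofiltered.isConnected I
      simp only [overBaseCone, Category.assoc, pullback.lift_snd]
      refine hS.hom_ext fun l => ?_
      rw [Category.assoc, hf, IsLimit.fac_assoc]
      simp only [Category.assoc, pullback.condition]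
      have e : s.π.app k ≫ pullback.snd (φ.app k) (cS.π.app k) =
          s.π.app l ≫ pullback.snd (φ.app l) (cS.π.app l) :=
        constant_of_preserves_morphisms (fun j => s.π.app j ≫ pullback.snd (φ.app j) (cS.π.app j))
          (fun j j' a => by
            have := congrArg (· ≫ pullback.snd (φ.app j') (cS.π.app j')) (s.w a)
            simpa [overBase] using this) k l
      exact ((reassoc_of% e) (cS.π.app l)).symm
  uniq s m hm := hX.hom_ext fun k => by
    rw [IsLimit.fac]
    simp [← hm k, overBaseCone]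

/-- Fibre dimension bounds descend to a stage. -/
theorem exists_fibre_dim_le_stage (hX : IsLimit cX) (hS : IsLimit cS)
    [∀ (i j : I) (a : i ⟶ j), IsAffineHom (DS.map a)] [∀ i, CompactSpace (DS.obj i)]
    [∀ i, LocallyOfFiniteType (φ.app i)] [∀ i, QuasiCompact (φ.app i)]
    (hcl : ∀ (i j : I) (a : i ⟶ j),
      IsClosedImmersion (pullback.lift (DX.map a) (φ.app i) (φ.naturality a)))
    (f : cX.pt ⟶ cS.pt) (hf : ∀ i, f ≫ cS.π.app i = cX.π.app i ≫ φ.app i) (d : ℕ)
    (hd : ∀ s : cS.pt, topologicalKrullDim ↥(f.fiber s) ≤ d) :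
    ∃ i : I, ∀ s : DS.obj i, topologicalKrullDim ↥((φ.app i).fiber s) ≤ d := by
  by_contra! hne
  have hfac : ∀ {k l : I} (a : k ⟶ l), pullback.lift (DX.map a) (φ.app k) (φ.naturality a) ≫
      pullback.fst _ _ = DX.map a := fun a => pullback.lift_fst _ _ _
  have hpb : ∀ {k l : I} (a : k ⟶ l), IsPullback (pullback.fst (φ.app l) (DS.map a))
      (pullback.snd _ _) (φ.app l) (DS.map a) := fun a => IsPullback.of_hasPullback _ _
  have hfdeg : ∀ {k l : I} (a : k ⟶ l) (z : DX.obj k),
      E4O.fdeg (φ.app k) z ≤ E4O.fdeg (φ.app l) (DX.map a z) := by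
    intro k l a z
    have := hcl k l a
    have h1 := E4O.fdeg_comp_closedImmersion (pullback.lift (DX.map a) (φ.app k) (φ.naturality a))
      (pullback.snd _ _) z
    rw [pullback.lift_snd] at h1
    rw [h1]
    refine (E4O.fdeg_le_of_isPullback (hpb a) _).trans (le_of_eq ?_)
    rw [← Scheme.Hom.comp_apply, pullback.lift_fst]
  have hcompX : ∀ k, CompactSpace (DX.obj k) := fun k =>
    QuasiCompact.compactSpace_of_compactSpace (φ.app k)
  have haffX : ∀ (k l : I) (a : k ⟶ l), IsAffineHom (DX.map a) := fun k l a => by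
    have := hcl k l a
    have : IsAffineHom (pullback.fst (φ.app l) (DS.map a)) :=
      MorphismProperty.of_isPullback (hpb a).flip inferInstance
    rw [← hfac a]
    infer_instance
  let Z : ∀ k, Set (DX.obj k) := fun k => {x | (d : WithBot ℕ∞) < FlatMor.fibreDimAt (φ.app k) x}
  have hZc : ∀ k, IsClosed (Z k) := fun k => by
    rw [← isOpen_compl_iff, isOpen_iff_forall_mem_open]
    intro x hx
    obtain ⟨U, hxU, hU⟩ := E4O.exists_open_forall_fibreDimAt_le (φ.app k) x
    exact ⟨U, fun y hy => (not_lt.2 ((hU y hy).trans (not_lt.1 hx))), U.2, hxU⟩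
  have hZne : ∀ k, (Z k).Nonempty := fun k => by
    obtain ⟨s, hs⟩ := hne k
    rw [← not_le, E4O.dim_fiber_le_iff] at hs
    push_neg at hs
    obtain ⟨x, -, hx⟩ := hs
    exact ⟨x, lt_of_lt_of_le hx (E4O.fdeg_le_fibreDimAt specializes_rfl rfl)⟩
  have hmaps : ∀ {k l : I} (a : k ⟶ l), Set.MapsTo (DX.map a) (Z k) (Z l) := by
    intro k l a x hx
    obtain ⟨z, hz, hzf, heq, -, -⟩ := E4O.exists_fibreDimAt_eq (φ.app k) x
    change (d : WithBot ℕ∞) < _ at hx ⊢
    rw [heq] at hx
    refine lt_of_lt_of_le hx (le_trans ?_ (E4O.fdeg_le_fibreDimAt (hz.map (DX.map a).continuous) ?_))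
    · exact_mod_cast hfdeg a z
    · rw [← Scheme.Hom.comp_apply, ← Scheme.Hom.comp_apply, φ.naturality a, Scheme.Hom.comp_apply,
        Scheme.Hom.comp_apply, hzf]
  obtain ⟨x, hx⟩ := exists_mem_of_isClosed_of_nonempty DX cX hX Z hZc hZne
    (fun k => (hZc k).isCompact) hmaps
  obtain ⟨i₀⟩ := IsCofiltered.nonempty (C := I)
  let P := overBase φ cS
  let cP := overBaseCone φ cX cS f hf
  have hP : IsLimit cP := isLimitOverBaseCone φ cX cS hX hS f hf
  have hclP : ∀ {k l : I} (a : k ⟶ l), IsClosedImmersion (P.map a) := by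
    intro k l a
    have := hcl k l a
    let u : P.obj k ⟶ pullback (pullback.snd (φ.app l) (DS.map a)) (cS.π.app k) :=
      pullback.map _ _ _ _ (pullback.lift (DX.map a) (φ.app k) (φ.naturality a)) (𝟙 _) (𝟙 _)
        (by simp) (by simp)
    let e : pullback (pullback.snd (φ.app l) (DS.map a)) (cS.π.app k) ≅ P.obj l :=
      pullbackLeftPullbackSndIso (φ.app l) (DS.map a) (cS.π.app k) ≪≫
        pullback.congrHom rfl (cS.w a)
    have hu : IsClosedImmersion u := MorphismProperty.pullbackMap (P := @IsClosedImmersion)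
      (i₁ := pullback.lift (DX.map a) (φ.app k) (φ.naturality a)) (i₂ := 𝟙 cS.pt)
      this (inferInstance : IsClosedImmersion (𝟙 cS.pt)) (pullback.lift_snd _ _ _).symm
      (Category.id_comp _).symm
    have : P.map a = u ≫ e.hom := by
      apply pullback.hom_ext <;> simp [P, u, e, overBase]
    rw [this]
    infer_instance
  have : ∀ (k l : I) (a : k ⟶ l), IsAffineHom (P.map a) := fun k l a => by
    have := hclP a; infer_instance
  let s := f x
  let F : Scheme.{u} := (pullback.snd (φ.app i₀) (cS.π.app i₀)).fiber s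
  have : NoetherianSpace F := by
    have : LocallyOfFiniteType ((pullback.snd (φ.app i₀) (cS.π.app i₀)).fiberToSpecResidueField s) :=
      MorphismProperty.pullback_snd _ _ inferInstance
    have : QuasiCompact ((pullback.snd (φ.app i₀) (cS.π.app i₀)).fiberToSpecResidueField s) :=
      MorphismProperty.pullback_snd _ _ inferInstance
    have : IsLocallyNoetherian F :=
      LocallyOfFiniteType.isLocallyNoetherian
        ((pullback.snd (φ.app i₀) (cS.π.app i₀)).fiberToSpecResidueField s)
    have : CompactSpace F := QuasiCompact.compactSpace_of_compactSpace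
      ((pullback.snd (φ.app i₀) (cS.π.app i₀)).fiberToSpecResidueField s)
    have : AlgebraicGeometry.IsNoetherian F := ⟨⟩
    infer_instance
  let ιF : F ⟶ P.obj i₀ := (pullback.snd (φ.app i₀) (cS.π.app i₀)).fiberι s
  let A : Over i₀ → Closeds F := fun n => ⟨ιF ⁻¹' Set.range (P.map n.hom),
    ((hclP n.hom).base_closed.isClosed_range).preimage ιF.continuous⟩
  obtain ⟨_, ⟨n₁, rfl⟩, hmin⟩ := (wellFounded_lt (α := Closeds F)).has_min (Set.range A) ⟨_, Over.mk (𝟙 i₀), rfl⟩
  have hle : ∀ n, (A n₁ : Set F) ⊆ A n := fun n => by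
    obtain ⟨m, a, b, -⟩ := IsCofilteredOrEmpty.cone_objs n₁ n
    have hsub : ∀ {n n' : Over i₀} (t : n' ⟶ n), A n' ≤ A n := by
      intro n n' t y hy
      obtain ⟨z, hz⟩ := hy
      refine ⟨P.map t.left z, ?_⟩
      rw [← Scheme.Hom.comp_apply, ← P.map_comp, Over.w t]
      exact hz
    have heq : A m = A n₁ := ((hsub a).lt_or_eq).resolve_left (hmin _ ⟨m, rfl⟩)
    exact heq ▸ hsub b
  have hxk := hx n₁.left
  obtain ⟨z, hz, hzf, heq, -, -⟩ := E4O.exists_fibreDimAt_eq (φ.app n₁.left) (cX.π.app n₁.left x)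
  change (d : WithBot ℕ∞) < _ at hxk
  rw [heq] at hxk
  have hzs : φ.app n₁.left z = cS.π.app n₁.left s := by
    rw [hzf, ← Scheme.Hom.comp_apply, ← hf, Scheme.Hom.comp_apply]
    rfl
  obtain ⟨y₁, hy₁, hy₁s, hy₁d⟩ := E4O.exists_fdeg_eq_of_isPullback
    (IsPullback.of_hasPullback (φ.app n₁.left) (cS.π.app n₁.left)) z s hzs
  have hsnd : ∀ {k l : I} (a : k ⟶ l), P.map a ≫ pullback.snd _ _ = pullback.snd _ _ := fun a => by
    dsimp only [P, overBase]
    rw [pullback.lift_snd, Category.comp_id]
  obtain ⟨w, hw⟩ := E4O.exists_fiberι_eq (pullback.snd (φ.app i₀) (cS.π.app i₀))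
    (y := s) (x := P.map n₁.hom y₁) ((Scheme.Hom.comp_apply _ _ _).symm.trans
      ((congrArg (fun q : P.obj n₁.left ⟶ cS.pt => q y₁) (hsnd n₁.hom)).trans hy₁s))
  have hyn : ∀ n : Over i₀, ∃ y : P.obj n.left, P.map n.hom y = P.map n₁.hom y₁ := fun n => by
    obtain ⟨y, hy⟩ := hle n (show w ∈ (A n₁ : Set F) from ⟨y₁, hw.symm⟩)
    exact ⟨y, hy.trans hw⟩
  choose y hy using hyn
  have hinj : ∀ n : Over i₀, Function.Injective (P.map n.hom) := fun n =>
    (hclP n.hom).base_closed.injective
  obtain ⟨xw, hxw⟩ := exists_π_apply_eq (Over.forget i₀ ⋙ P) (cP.whisker (Over.forget i₀))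
    ((Functor.Initial.isLimitWhiskerEquiv (Over.forget i₀) cP).symm hP) y (fun {n n'} t => hinj n' (by
      show P.map n'.hom (P.map t.left (y n)) = _
      rw [← Scheme.Hom.comp_apply, ← P.map_comp, Over.w t, hy, hy]))
  have hyy : y n₁ = y₁ := hinj n₁ (hy n₁)
  have := isClosedImmersion_π_of_closed_transitions P cP hP hclP n₁.left
  have hfe : cP.π.app n₁.left ≫ pullback.snd _ _ = f := by simp [cP, overBaseCone]
  have : LocallyOfFiniteType f := by rw [← hfe]; infer_instance
  have hdeg : E4O.fdeg f xw = E4O.fdeg (φ.app n₁.left) z := by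
    have h1 := E4O.fdeg_comp_closedImmersion (cP.π.app n₁.left) (pullback.snd (φ.app n₁.left) (cS.π.app n₁.left)) xw
    rw [hfe] at h1
    rw [h1, ← hy₁d]
    exact congrArg _ ((hxw n₁).trans hyy)
  have hle2 := (E4O.dim_fiber_le_iff f (f xw) d).1 (hd _) xw rfl
  rw [hdeg] at hle2
  exact absurd hle2 (not_le.2 hxk)

end Groth.Agent.LimTop61
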