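import Mathlib.RingTheory.Extension.Presentation.Core
import Mathlib.AlgebraicGeometry.Morphisms.FinitePresentation
import Mathlib.AlgebraicGeometry.Limits
import Mathlib.Algebra.Category.Ring.Constructions
import Mathlib.AlgebraicGeometry.Pullbacks

/-!
A finitely presented morphism of affine schemes comes from a finite type algebra over the integers.
-/

set_option autoImplicit false
set_option backward.isDefEq.respectTransparency false

universe u

open CategoryTheory CategoryTheory.Limits AlgebraicGeometry TensorProduct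

namespace Groth.Agent.LimTop61

theorem exists_affine_model {X S : Scheme.{u}} (f : X ⟶ S) [IsAffine X] [IsAffine S]
    [LocallyOfFinitePresentation f] :
    ∃ (X₀ S₀ : Scheme.{u}) (f₀ : X₀ ⟶ S₀) (g : S ⟶ S₀) (g' : X ⟶ X₀), IsAffine X₀ ∧ IsAffine S₀ ∧
      IsPullback g' f f₀ g ∧ Algebra.FiniteType ℤ Γ(S₀, ⊤) ∧ LocallyOfFiniteType f₀ := by
  let R : CommRingCat.{u} := Γ(S, ⊤)
  let B : CommRingCat.{u} := Γ(X, ⊤)
  have hf : f.appTop.hom.FinitePresentation :=
    (HasRingHomProperty.iff_of_isAffine (P := @LocallyOfFinitePresentation)).mp inferInstance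
  let _ : Algebra R B := f.appTop.hom.toAlgebra
  have : Algebra.FinitePresentation R B := hf
  let P := Algebra.Presentation.ofFinitePresentation R B
  let B₀ := P.ModelOfHasCoeffs P.Core
  let a : CommRingCat.of P.Core ⟶ R := CommRingCat.ofHom (algebraMap P.Core R)
  let b : CommRingCat.of P.Core ⟶ CommRingCat.of B₀ := CommRingCat.ofHom (algebraMap P.Core B₀)
  have hpush : IsPushout a b (CommRingCat.ofHom (algebraMap R (R ⊗[P.Core] B₀)))
      (CommRingCat.ofHom ((Algebra.TensorProduct.includeRight : B₀ →ₐ[P.Core] R ⊗[P.Core] B₀).toRingHom)) :=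
    CommRingCat.isPushout_tensorProduct P.Core R B₀
  let e : CommRingCat.of (R ⊗[P.Core] B₀) ≅ B := (P.tensorModelOfHasCoeffsEquiv P.Core).toRingEquiv.toCommRingCatIso
  let inr : CommRingCat.of B₀ ⟶ B :=
    CommRingCat.ofHom ((Algebra.TensorProduct.includeRight : B₀ →ₐ[P.Core] R ⊗[P.Core] B₀).toRingHom) ≫ e.hom
  have hpush' : IsPushout a b f.appTop inr := by
    refine hpush.of_iso (Iso.refl _) (Iso.refl _) (Iso.refl _) e ?_ ?_ ?_ ?_
    · simp
    · simp
    · ext r
      exact (P.tensorModelOfHasCoeffsEquiv P.Core).commutes r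
    · simp [inr]
  have hsq := (isPullback_SpecMap_of_isPushout _ _ _ _ hpush').flip
  have hfin : Algebra.FiniteType ℤ P.Core := inferInstance
  have hft : b.hom.FiniteType := RingHom.finiteType_algebraMap.mpr inferInstance
  refine ⟨Spec (CommRingCat.of B₀), Spec (CommRingCat.of P.Core), Spec.map b,
    S.isoSpec.hom ≫ Spec.map a, X.isoSpec.hom ≫ Spec.map inr, inferInstance, inferInstance, ?_, ?_,
    HasRingHomProperty.Spec_iff.mpr hft⟩
  · refine hsq.of_iso X.isoSpec.symm (Iso.refl _) S.isoSpec.symm (Iso.refl _) ?_ ?_ ?_ ?_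
    · simp
    · rw [Iso.symm_hom, Iso.symm_hom, Iso.comp_inv_eq, Category.assoc, Iso.eq_inv_comp]
      exact Scheme.isoSpec_hom_naturality f
    · simp
    · simp
  · let e₀ := (Scheme.ΓSpecIso (CommRingCat.of P.Core)).symm.commRingCatIsoToRingEquiv.toIntAlgEquiv
    exact hfin.equiv e₀

end Groth.Agent.LimTop61
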