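import Groth.Agent.SpFP87.EffCartier
import Groth.Agent.SpPts86.Codim
import Groth.Agent.TopDim50.Basic
import Groth.Agent.E4O.FibreDim
/-!
An effective Cartier divisor has local dimension smaller than the ambient space.
-/

set_option autoImplicit false
universe u
open CategoryTheory AlgebraicGeometry TopologicalSpace Topology Order

namespace Groth.Agent.LimTop61.CartierDim

theorem series_succ_le {X Y : Type u} [TopologicalSpace X] [TopologicalSpace Y] [QuasiSober X] [T0Space X]
    {j : Y → X} (hj : IsClosedEmbedding j) (h : ∀ η : X, (∀ z, z ⤳ η → z = η) → η ∉ Set.range j)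
    (l : LTSeries (IrreducibleCloseds Y)) :
    ((l.length + 1 : ℕ) : WithBot ℕ∞) ≤ topologicalKrullDim X := by
  let m : IrreducibleCloseds Y → IrreducibleCloseds X := fun T =>
    ⟨j '' T, T.isIrreducible.image j hj.continuous.continuousOn, hj.isClosedMap _ T.isClosed⟩
  have hm : StrictMono m := fun A B hAB => by
    have h1 : (A : Set Y) ⊂ B := hAB
    exact ⟨Set.image_mono h1.1, fun he => h1.2 ((Set.image_subset_image_iff hj.injective).1 he)⟩
  let l' := l.map m hm
  obtain ⟨C, hC, hle⟩ := exists_mem_irreducibleComponents_subset_of_isIrreducible (j '' (l.last : Set Y))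
    (m l.last).isIrreducible
  obtain ⟨η, hη⟩ := QuasiSober.sober hC.1 (isClosed_of_mem_irreducibleComponents C hC)
  have hmax : ∀ z, z ⤳ η → z = η := fun z hz => by
    have h1 : C ⊆ closure {z} := by
      rw [← hη.def]
      exact closure_minimal (Set.singleton_subset_iff.2 hz.mem_closure) isClosed_closure
    have h2 : closure {z} ⊆ C := hC.2 isIrreducible_singleton.closure h1
    have h3 : η ⤳ z := by
      rw [specializes_iff_mem_closure, hη.def]
      exact h2 (subset_closure rfl)
    exact (hz.antisymm h3).eq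
  let Cc : IrreducibleCloseds X := ⟨C, hC.1, isClosed_of_mem_irreducibleComponents C hC⟩
  have hlt : (l'.last : IrreducibleCloseds X) < Cc := by
    rw [LTSeries.last_map]
    refine lt_of_le_of_ne hle fun he => h η hmax ?_
    have h1 : η ∈ (Cc : Set X) := hη.mem
    rw [← he] at h1
    obtain ⟨y, -, hy⟩ := h1
    exact ⟨y, hy⟩
  exact LTSeries.length_le_krullDim (l'.snoc Cc hlt)

/-- A maximal point is not in the support of an effective Cartier ideal. -/
theorem notMem_support {V : Scheme.{u}} {I : V.IdealSheafData} (hI : BlowUp.IsEffCartierIdeal I) (η : V)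
    (h : ∀ z, z ⤳ η → z = η) : η ∉ I.support := by
  intro hη
  obtain ⟨W, hW, f, hf, hfI⟩ := hI η
  have h1 : η ∈ (I.support : Set V) ∩ (W.1 : Set V) := ⟨hη, hW⟩
  rw [Scheme.IdealSheafData.coe_support_inter, hfI, Scheme.zeroLocus_span, ] at h1
  obtain ⟨hz, -⟩ := h1
  rw [Scheme.mem_zeroLocus_iff] at hz
  let p := W.2.primeIdealOf ⟨η, hW⟩
  have hfp : f ∈ p.asIdeal := by
    by_contra hc
    refine hz f rfl ?_
    have hb : p ∈ PrimeSpectrum.basicOpen f := hc
    rw [← W.2.fromSpec_preimage_basicOpen] at hb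
    have h2 : W.2.fromSpec p ∈ V.basicOpen f := hb
    rwa [show W.2.fromSpec p = η from W.2.fromSpec_primeIdealOf ⟨η, hW⟩] at h2
  have hmin : p.asIdeal ∈ minimalPrimes Γ(V, W.1) := by
    refine ⟨⟨p.isPrime, bot_le⟩, fun q hq hle => ?_⟩
    let q' : PrimeSpectrum Γ(V, W.1) := ⟨q, hq.1⟩
    have hsp : q' ⤳ p := (PrimeSpectrum.le_iff_specializes q' p).1 hle
    have := h _ ((hsp.map W.2.fromSpec.continuous).trans (specializes_of_eq (W.2.fromSpec_primeIdealOf ⟨η, hW⟩)))
    exact (congrArg PrimeSpectrum.asIdeal (W.2.fromSpec.isOpenEmbedding.injective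
      (this.trans (W.2.fromSpec_primeIdealOf ⟨η, hW⟩).symm))).ge
  exact Set.disjoint_left.1 (Ideal.disjoint_nonZeroDivisors_of_mem_minimalPrimes hmin) hfp hf

theorem localDim_lt {V : Scheme.{u}} {I : V.IdealSheafData} (hI : BlowUp.IsEffCartierIdeal I)
    (w : I.subscheme) (d : WithBot ℕ∞) (hd : FlatMor.localDim ↥V (I.subschemeι w) = d) (hfin : d ≠ ⊤) :
    FlatMor.localDim ↥I.subscheme w < d := by
  obtain ⟨U, hwU, hU⟩ := TopDim50.exists_localDim_eq (I.subschemeι w)
  rw [hd] at hU
  let U' : Opens ↥I.subscheme := ⟨I.subschemeι ⁻¹' (U : Set V), U.isOpen.preimage I.subschemeι.continuous⟩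
  let j : U' → (U : Set V) := fun y => ⟨I.subschemeι y.1, y.2⟩
  have hj : IsClosedEmbedding j := I.subschemeι.isClosedEmbedding.restrictPreimage (U : Set V)
  haveI : QuasiSober (U : Set V) := U.isOpen.isOpenEmbedding_subtypeVal.quasiSober
  have hmax : ∀ η : (U : Set V), (∀ z, z ⤳ η → z = η) → η ∉ Set.range j := by
    rintro η hη ⟨y, rfl⟩
    refine notMem_support hI (I.subschemeι y.1) (fun z hz => ?_) ?_
    · have hzU : z ∈ (U : Set V) := hz.mem_open U.isOpen y.2
      exact congrArg Subtype.val (hη ⟨z, hzU⟩ ((subtype_specializes_iff _ _).2 hz))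
    · rw [← SetLike.mem_coe, ← Scheme.IdealSheafData.range_subschemeι]
      exact ⟨_, rfl⟩
  have key : ∀ l : LTSeries (IrreducibleCloseds U'), ((l.length + 1 : ℕ) : WithBot ℕ∞) ≤ d := fun l =>
    (series_succ_le hj hmax l).trans hU.ge
  have hne : Nonempty (IrreducibleCloseds U') :=
    ⟨⟨closure {⟨w, hwU⟩}, isIrreducible_singleton.closure, isClosed_closure⟩⟩
  have h0 := key (RelSeries.singleton _ hne.some)
  induction d using WithBot.recBotCoe with
  | bot => exact absurd h0 (by simp)
  | coe d => induction d using ENat.recTopCoe with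
    | top => exact absurd rfl hfin
    | coe n =>
      change ((_ : ℕ) : WithBot ℕ∞) ≤ ((n : ℕ) : WithBot ℕ∞) at h0
      change FlatMor.localDim ↥I.subscheme w < ((n : ℕ) : WithBot ℕ∞)
      have hn : 0 < n := lt_of_lt_of_le (Nat.succ_pos _) (Nat.cast_le.1 h0)
      refine lt_of_le_of_lt ((TopDim50.localDim_le U' hwU).trans
        (TopDim50.dim_le_of_forall_series (c := ((n - 1 : ℕ) : WithBot ℕ∞)) fun l => ?_))
        (Nat.cast_lt.2 (Nat.sub_lt hn one_pos))
      have := Nat.cast_le.1 (key l)
      exact Nat.cast_le.2 (by omega)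

end Groth.Agent.LimTop61.CartierDim
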