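import Groth.Agent.LimTop61.ConsDescent
import Groth.Agent.LimTop61.Descent
import Mathlib.Topology.NoetherianSpace
import Mathlib.Topology.Connected.Clopen

/-!
Components of a limit and of its stages.
-/

set_option autoImplicit false
set_option backward.isDefEq.respectTransparency false
universe u

open CategoryTheory CategoryTheory.Limits AlgebraicGeometry TopologicalSpace

namespace Groth.Agent.LimTop61

section Topology

variable {X : Type u} [TopologicalSpace X] [NoetherianSpace X]

/-- Connected components of a Noetherian space are open. -/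
lemma isOpen_connectedComponent_of_noetherianSpace (x : X) : IsOpen (connectedComponent x) := by
  have h : (connectedComponent x)ᶜ =
      ⋃ Z ∈ {Z ∈ irreducibleComponents X | Z ⊆ (connectedComponent x)ᶜ}, Z := by
    refine Set.Subset.antisymm (fun y hy => ?_) (Set.iUnion₂_subset fun Z hZ => hZ.2)
    refine Set.mem_biUnion (x := irreducibleComponent y)
      ⟨irreducibleComponent_mem_irreducibleComponents y, fun z hz hzx => hy ?_⟩
      mem_irreducibleComponent
    have := isIrreducible_irreducibleComponent.isConnected.isPreconnected.subset_connectedComponent hz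
      (mem_irreducibleComponent (x := y))
    rwa [← connectedComponent_eq hzx] at this
  rw [← isClosed_compl_iff, h]
  refine Set.Finite.isClosed_biUnion ?_ fun Z hZ => isClosed_of_mem_irreducibleComponents Z hZ.1
  exact NoetherianSpace.finite_irreducibleComponents.subset fun Z hZ => hZ.1

/-- A Noetherian space has finitely many connected components. -/
lemma finite_range_connectedComponent :
    (Set.range (connectedComponent : X → Set X)).Finite := by
  classical
  refine ((NoetherianSpace.finite_irreducibleComponents (α := X)).image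
    fun Z => if h : Z.Nonempty then connectedComponent h.choose else ∅).subset ?_
  rintro _ ⟨x, rfl⟩
  refine ⟨_, irreducibleComponent_mem_irreducibleComponents x, ?_⟩
  have hne : (irreducibleComponent x).Nonempty := ⟨x, mem_irreducibleComponent⟩
  simp only [dif_pos hne]
  exact (connectedComponent_eq (isIrreducible_irreducibleComponent.isConnected.isPreconnected.subset_connectedComponent
    mem_irreducibleComponent hne.choose_spec)).symm

end Topology

variable {I : Type u} [SmallCategory I] [IsCofiltered I] (D : I ⥤ Scheme.{u}) (c : Cone D)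
  (hc : IsLimit c) [∀ (i j : I) (f : i ⟶ j), IsAffineHom (D.map f)]

omit [∀ (i j : I) (f : i ⟶ j), IsAffineHom (D.map f)] in
lemma exists_common_stage (i₀ : I) {α : Type*} [Finite α] (s : α → I) :
    ∃ i, Nonempty (i ⟶ i₀) ∧ ∀ a, Nonempty (i ⟶ s a) := by
  classical
  cases nonempty_fintype α
  obtain ⟨i, hi⟩ := IsCofiltered.inf_objs_exists (insert i₀ (Finset.univ.image s))
  exact ⟨i, hi (Finset.mem_insert_self _ _),
    fun a => hi (Finset.mem_insert_of_mem (Finset.mem_image_of_mem s (Finset.mem_univ a)))⟩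

include hc

/-- If the limit has Noetherian space and maps densely to the late stages, then irreducible
components eventually correspond bijectively. -/
theorem eventually_bijOn_irreducibleComponents (i₀ : I) [NoetherianSpace c.pt]
    (hd : ∀ (j : I) (_ : j ⟶ i₀), DenseRange (c.π.app j)) :
    ∃ (i : I) (_ : i ⟶ i₀), ∀ (j : I) (_ : j ⟶ i),
      Set.BijOn (fun Y : Set c.pt => closure (⇑(c.π.app j) '' (Y : Set c.pt) : Set (D.obj j)))
        (irreducibleComponents c.pt) (irreducibleComponents (D.obj j)) := by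
  classical
  have : Finite (irreducibleComponents c.pt) := NoetherianSpace.finite_irreducibleComponents.to_subtype
  have hsep : ∀ Y : irreducibleComponents c.pt, ∃ (i : I) (V : (D.obj i).Opens),
      (c.π.app i ⁻¹' V : Set c.pt) = (Y : Set c.pt)ᶜ := fun Y => by
    obtain ⟨i, V, -, hV⟩ := exists_preimage_eq D c hc
      ⟨(Y : Set c.pt)ᶜ, (isClosed_of_mem_irreducibleComponents _ Y.2).isOpen_compl⟩
      (NoetherianSpace.isCompact _)
    exact ⟨i, V, congrArg (fun U : c.pt.Opens => (U : Set c.pt)) hV⟩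
  choose s V hV using hsep
  obtain ⟨i, ⟨φ⟩, hi⟩ := exists_common_stage i₀ s
  refine ⟨i, φ, fun j ψ => ?_⟩
  let F : Set c.pt → Set (D.obj j) := fun Y => closure (⇑(c.π.app j) '' Y)
  have key : ∀ Y ∈ irreducibleComponents c.pt, ∀ Y' ∈ irreducibleComponents c.pt, F Y ⊆ F Y' → Y = Y' := by
    intro Y hY Y' hY' hle
    suffices Y ⊆ Y' from this.antisymm (hY.2 hY'.1 this)
    intro z hz
    by_contra hzY'
    obtain ⟨χ⟩ := hi ⟨Y', hY'⟩
    let V' := D.map (ψ ≫ χ) ⁻¹ᵁ V ⟨Y', hY'⟩
    have hV' : ∀ w, c.π.app j w ∈ V' ↔ w ∉ Y' := fun w => by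
      show D.map (ψ ≫ χ) (c.π.app j w) ∈ V ⟨Y', hY'⟩ ↔ _
      rw [π_apply]
      exact Set.ext_iff.mp (hV ⟨Y', hY'⟩) w
    obtain ⟨_, hw, w, hwY, rfl⟩ := mem_closure_iff.mp
      (hle (subset_closure ⟨z, hz, rfl⟩) : c.π.app j z ∈ F Y') V' V'.2 ((hV' z).mpr hzY')
    exact (hV' w).mp hw hwY
  have hirr : ∀ Y ∈ irreducibleComponents c.pt, IsIrreducible (F Y) := fun Y hY =>
    (hY.1.image _ (c.π.app j).continuous.continuousOn).closure
  have hsurj : ∀ Z ∈ irreducibleComponents (D.obj j), ∃ Y ∈ irreducibleComponents c.pt, F Y = Z := by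
    intro Z hZ
    let T := (NoetherianSpace.finite_irreducibleComponents (α := c.pt)).toFinset.image F
    have hcl : ∀ t ∈ T, IsClosed t := fun t ht => by
      obtain ⟨Y, -, rfl⟩ := Finset.mem_image.mp ht
      exact isClosed_closure
    have hsub : Z ⊆ ⋃₀ (T : Set (Set (D.obj j))) := by
      have hcl' : IsClosed (⋃₀ (T : Set (Set (D.obj j)))) := by
        rw [Set.sUnion_eq_biUnion]
        exact T.finite_toSet.isClosed_biUnion hcl
      refine (Set.subset_univ Z).trans ((hd j (ψ ≫ φ)).closure_range.ge.trans (closure_minimal ?_ hcl'))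
      rintro _ ⟨w, rfl⟩
      refine ⟨F (irreducibleComponent w), ?_, subset_closure ⟨w, mem_irreducibleComponent, rfl⟩⟩
      rw [Finset.mem_coe]
      exact Finset.mem_image_of_mem F
        ((Set.Finite.mem_toFinset _).mpr (irreducibleComponent_mem_irreducibleComponents w))
    obtain ⟨t, ht, hZt⟩ := isIrreducible_iff_sUnion_isClosed.mp hZ.1 T hcl hsub
    obtain ⟨Y, hY, rfl⟩ := Finset.mem_image.mp ht
    rw [Set.Finite.mem_toFinset] at hY
    exact ⟨Y, hY, (hZt.antisymm (hZ.2 (hirr Y hY) hZt)).symm⟩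
  refine ⟨fun Y hY => ?_, fun Y hY Y' hY' h => key Y hY Y' hY' h.le, fun Z hZ => hsurj Z hZ⟩
  obtain ⟨Z, hZ, hYZ⟩ := exists_mem_irreducibleComponents_subset_of_isIrreducible (F Y) (hirr Y hY)
  obtain ⟨Y', hY', rfl⟩ := hsurj Z hZ
  obtain rfl := key Y hY Y' hY' hYZ
  exact hZ

/-- If the limit has Noetherian space and maps densely to the late stages, then connected
components eventually correspond bijectively. -/
theorem eventually_bijOn_connectedComponents (i₀ : I) [CompactSpace (D.obj i₀)] [NoetherianSpace c.pt]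
    (hd : ∀ (j : I) (_ : j ⟶ i₀), DenseRange (c.π.app j)) :
    ∃ (i : I) (_ : i ⟶ i₀), ∀ (j : I) (_ : j ⟶ i),
      Set.BijOn (fun C : Set c.pt => closure (⇑(c.π.app j) '' (C : Set c.pt) : Set (D.obj j)))
        (Set.range (connectedComponent : c.pt → Set c.pt))
        (Set.range (connectedComponent : D.obj j → Set (D.obj j))) := by
  classical
  have : Finite (Set.range (connectedComponent : c.pt → Set c.pt)) :=
    finite_range_connectedComponent.to_subtype
  have hclop : ∀ C : Set.range (connectedComponent : c.pt → Set c.pt), ∃ (i : I) (_ : i ⟶ i₀)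
      (W : Set (D.obj i)), IsClopen W ∧ (c.π.app i ⁻¹' W : Set c.pt) = C := by
    rintro ⟨_, x, rfl⟩
    let U : c.pt.Opens := ⟨connectedComponent x, isOpen_connectedComponent_of_noetherianSpace x⟩
    let U' : c.pt.Opens := ⟨(connectedComponent x)ᶜ, isClosed_connectedComponent.isOpen_compl⟩
    obtain ⟨i, φ, V, V', -, -, hV, hV'⟩ := exists_preimage_eq_over₂ D c hc i₀ U U'
      (NoetherianSpace.isCompact _) (NoetherianSpace.isCompact _)
    have hVs : ∀ z, c.π.app i z ∈ V ↔ z ∈ connectedComponent x := fun z =>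
      Set.ext_iff.mp (congrArg (fun U : c.pt.Opens => (U : Set c.pt)) hV) z
    have hV's : ∀ z, c.π.app i z ∈ V' ↔ z ∉ connectedComponent x := fun z =>
      Set.ext_iff.mp (congrArg (fun U : c.pt.Opens => (U : Set c.pt)) hV') z
    have hdisj : (V : Set (D.obj i)) ∩ (V' : Set (D.obj i)) = ∅ := by
      by_contra hne
      obtain ⟨z, hz⟩ := (hd i φ).exists_mem_open (V.2.inter V'.2) (Set.nonempty_iff_ne_empty.mpr hne)
      exact (hV's z).mp hz.2 ((hVs z).mp hz.1)
    have := compactSpace_of_map D φ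
    obtain ⟨k, χ, hk⟩ := exists_preimage_subset D c hc ((V : Set (D.obj i)) ∪ (V' : Set (D.obj i)))ᶜ ∅
      (isConsClosed_of_isClosed (V.2.union V'.2).isClosed_compl)
      (isConsClosed_of_isClosed (by rw [Set.compl_empty]; exact isClosed_univ))
      (fun z hz => by
        by_cases hzx : z ∈ connectedComponent x
        · exact absurd (Or.inl ((hVs z).mpr hzx)) hz
        · exact absurd (Or.inr ((hV's z).mpr hzx)) hz)
    refine ⟨k, χ ≫ φ, ⇑(D.map χ) ⁻¹' V, ⟨?_, V.2.preimage (D.map χ).continuous⟩, ?_⟩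
    · have heq : (⇑(D.map χ) ⁻¹' V)ᶜ = (⇑(D.map χ) ⁻¹' V' : Set (D.obj k)) := by
        ext y
        refine ⟨fun hy => ?_, fun hy hy' => (hdisj.le ⟨hy', hy⟩).elim⟩
        by_contra hy'
        exact (hk (show D.map χ y ∈ ((V : Set (D.obj i)) ∪ V')ᶜ from fun h => h.elim hy hy')).elim
      rw [← isOpen_compl_iff, heq]
      exact V'.2.preimage (D.map χ).continuous
    · ext z
      show D.map χ (c.π.app k z) ∈ V ↔ _
      rw [π_apply]
      exact hVs z
  choose s t W hW hWC using hclop
  obtain ⟨i, ⟨φ⟩, hi⟩ := exists_common_stage i₀ s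
  refine ⟨i, φ, fun j ψ => ?_⟩
  let F : Set c.pt → Set (D.obj j) := fun C => closure (⇑(c.π.app j) '' C)
  have key : ∀ x : c.pt, F (connectedComponent x) = connectedComponent (c.π.app j x) ∧
      c.π.app j ⁻¹' F (connectedComponent x) = connectedComponent x := by
    intro x
    obtain ⟨χ⟩ := hi ⟨_, x, rfl⟩
    let W' := ⇑(D.map (ψ ≫ χ)) ⁻¹' W ⟨_, x, rfl⟩
    have hW' : IsClopen W' := (hW _).preimage (D.map (ψ ≫ χ)).continuous
    have hW'C : c.π.app j ⁻¹' W' = connectedComponent x := by
      ext z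
      show D.map (ψ ≫ χ) (c.π.app j z) ∈ W ⟨_, x, rfl⟩ ↔ _
      rw [π_apply]
      exact Set.ext_iff.mp (hWC ⟨_, x, rfl⟩) z
    have hFW : F (connectedComponent x) = W' := by
      refine Set.Subset.antisymm (closure_minimal (Set.image_subset_iff.mpr hW'C.ge) hW'.1) fun y hy => ?_
      rw [mem_closure_iff]
      intro O hO hyO
      obtain ⟨z, hz⟩ := (hd j (ψ ≫ φ)).exists_mem_open (hO.inter hW'.2) ⟨y, hyO, hy⟩
      exact ⟨_, hz.1, z, hW'C.le hz.2, rfl⟩
    refine ⟨Set.Subset.antisymm ?_ ?_, by rw [hFW, hW'C]⟩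
    · exact (isPreconnected_connectedComponent.image _ (c.π.app j).continuous.continuousOn).closure.subset_connectedComponent
        (subset_closure ⟨x, mem_connectedComponent, rfl⟩)
    · rw [hFW]
      exact hW'.connectedComponent_subset (hW'C.ge mem_connectedComponent)
  refine ⟨?_, ?_, ?_⟩
  · rintro _ ⟨x, rfl⟩
    exact ⟨c.π.app j x, (key x).1.symm⟩
  · rintro _ ⟨x, rfl⟩ _ ⟨x', rfl⟩ (h : F _ = F _)
    rw [← (key x).2, h, (key x').2]
  · rintro _ ⟨y, rfl⟩
    have hfin := finite_range_connectedComponent (X := c.pt)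
    have hcl : IsClosed (⋃ C ∈ Set.range (connectedComponent : c.pt → Set c.pt), F C) :=
      hfin.isClosed_biUnion fun _ _ => isClosed_closure
    have hy : y ∈ ⋃ C ∈ Set.range (connectedComponent : c.pt → Set c.pt), F C := by
      refine closure_minimal ?_ hcl ((hd j (ψ ≫ φ)) y)
      rintro _ ⟨w, rfl⟩
      exact Set.mem_biUnion ⟨w, rfl⟩ (subset_closure ⟨w, mem_connectedComponent, rfl⟩)
    obtain ⟨C, ⟨x, rfl⟩, hyC⟩ := Set.mem_iUnion₂.mp hy
    refine ⟨_, ⟨x, rfl⟩, ?_⟩
    show F (connectedComponent x) = connectedComponent y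
    rw [(key x).1] at hyC ⊢
    exact connectedComponent_eq hyC

/-- With embeddings as transition maps and a Noetherian stage, the late projections are dominant. -/
lemma eventually_denseRange_of_isEmbedding (i₀ : I) [NoetherianSpace (D.obj i₀)]
    (he : ∀ (i j : I) (φ : i ⟶ j), Topology.IsEmbedding ⇑(D.map φ)) :
    ∃ (i : I) (_ : i ⟶ i₀), ∀ (j : I) (_ : j ⟶ i), DenseRange (c.π.app j) := by
  let K : (D.obj i₀).Opens := ⟨(closure (Set.range (c.π.app i₀)))ᶜ, isClosed_closure.isOpen_compl⟩
  obtain ⟨i, φ, hi⟩ := exists_map_preimage_le_map_preimage D c hc (i := i₀) (U := K) (V := ⊥)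
    (NoetherianSpace.isCompact _) (fun x hx => absurd (subset_closure (Set.mem_range_self x)) hx)
  refine ⟨i, φ, fun j ψ y => ?_⟩
  rw [(he j i₀ (ψ ≫ φ)).toIsInducing.closure_eq_preimage_closure_image, Set.mem_preimage,
    ← Set.range_comp]
  have hr : (⇑(D.map (ψ ≫ φ)) ∘ ⇑(c.π.app j)) = ⇑(c.π.app i₀) := funext (π_apply D c (ψ ≫ φ))
  rw [hr]
  by_contra hy
  have : D.map ψ y ∈ D.map φ ⁻¹ᵁ K := by
    show D.map φ (D.map ψ y) ∈ K
    rw [← Scheme.Hom.comp_apply, ← D.map_comp]
    exact hy
  exact hi this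

end Groth.Agent.LimTop61
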