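import Groth.Prelude.Def_ProCons
import Groth.Agent.SpecSp50.Maps
import Mathlib.AlgebraicGeometry.Morphisms.Affine
import Mathlib.AlgebraicGeometry.Properties
import Mathlib.AlgebraicGeometry.AffineTransitionLimit

set_option autoImplicit false
universe u

open CategoryTheory AlgebraicGeometry TopologicalSpace Topology

namespace Groth.Agent.LimTop61

lemma spectralSpace_of_isAffine (X : Scheme.{u}) [IsAffine X] : SpectralSpace X :=
  { (inferInstance : T0Space X), (inferInstance : CompactSpace X),
    (inferInstance : QuasiSober X), (inferInstance : QuasiSeparatedSpace X),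
    (inferInstance : PrespectralSpace X) with }

lemma spectralSpace_of_isAffineOpen {X : Scheme.{u}} {U : X.Opens} (hU : IsAffineOpen U) :
    SpectralSpace (U : Scheme.{u}) :=
  have : IsAffine (U : Scheme.{u}) := hU
  spectralSpace_of_isAffine _

/-- A morphism of affine schemes is continuous for the constructible topologies. -/
lemma continuous_cons_of_hom {X Y : Scheme.{u}} [IsAffine X] [IsAffine Y] (f : X ⟶ Y) :
    @Continuous X Y (constructibleTopology X) (constructibleTopology Y) f :=
  SpecSp50.continuous_cons_of_isSpectralMap f.isSpectralMap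

/-- Closedness in the constructible topology of every affine open. -/
def IsConsClosed {X : Scheme.{u}} (E : Set X) : Prop :=
  ∀ U : X.Opens, IsAffineOpen U →
    IsClosed[constructibleTopology (U : Scheme.{u})] (U.ι ⁻¹' E)

/-- Closedness in the constructible topology is local on affine neighbourhoods. -/
lemma isConsClosed_of_local {X : Scheme.{u}} {E : Set X}
    (h : ∀ x : X, ∃ B : X.Opens, x ∈ B ∧ IsAffineOpen B ∧
      IsClosed[constructibleTopology (B : Scheme.{u})] (B.ι ⁻¹' E)) :
    IsConsClosed E := by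
  intro U hU
  have hUaff : IsAffine (U : Scheme.{u}) := hU
  have := spectralSpace_of_isAffineOpen hU
  have hloc : ∀ x : (U : Scheme.{u}), ∃ B : X.Opens, IsAffineOpen B ∧ B ≤ U ∧ U.ι x ∈ B ∧
      IsClosed[constructibleTopology (B : Scheme.{u})] (B.ι ⁻¹' E) := by
    intro x
    obtain ⟨B, hxB, hB, hBE⟩ := h (U.ι x)
    obtain ⟨_, ⟨B', hB', rfl⟩, hxB', hB'le⟩ := X.isBasis_affineOpens.exists_subset_of_mem_open
      (show U.ι x ∈ ((B ⊓ U : X.Opens) : Set X) from ⟨hxB, x.2⟩) (B ⊓ U).2
    have hle : B' ≤ B := fun y hy => (hB'le hy).1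
    refine ⟨B', hB', fun y hy => (hB'le hy).2, hxB', ?_⟩
    have : IsAffine (B' : Scheme.{u}) := hB'
    have : IsAffine (B : Scheme.{u}) := hB
    have := @IsClosed.preimage _ _ (constructibleTopology (B' : Scheme.{u}))
      (constructibleTopology (B : Scheme.{u})) _ (continuous_cons_of_hom (X.homOfLE hle)) _ hBE
    convert this using 1
    ext z
    simp only [Set.mem_preimage, ← Scheme.Hom.comp_apply, Scheme.homOfLE_ι]
  choose B hB hBU hxB hBE using hloc
  obtain ⟨t, ht⟩ := isCompact_univ.elim_finite_subcover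
    (fun x : (U : Scheme.{u}) => U.ι ⁻¹' (B x : Set X))
    (fun x => (B x).2.preimage U.ι.continuous)
    (fun x _ => Set.mem_iUnion.mpr ⟨x, hxB x⟩)
  have heq : U.ι ⁻¹' E =
      ⋃ x ∈ (t : Set (U : Scheme.{u})), X.homOfLE (hBU x) '' ((B x).ι ⁻¹' E) := by
    ext y
    simp only [Set.mem_iUnion, Set.mem_image, Set.mem_preimage]
    constructor
    · intro hy
      obtain ⟨x, hx, hyx⟩ := Set.mem_iUnion₂.mp (ht (Set.mem_univ y))
      refine ⟨x, hx, ⟨U.ι y, hyx⟩, hy, ?_⟩
      apply U.ι.isOpenEmbedding.injective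
      exact X.homOfLE_apply (hBU x) ⟨U.ι y, hyx⟩
    · rintro ⟨x, -, z, hz, rfl⟩
      rw [← Scheme.Hom.comp_apply, Scheme.homOfLE_ι]
      exact hz
  rw [heq]
  refine @Set.Finite.isClosed_biUnion _ _ (constructibleTopology (U : Scheme.{u})) _ _
    t.finite_toSet fun x _ => ?_
  have := spectralSpace_of_isAffineOpen (hB x)
  have : IsAffine (B x : Scheme.{u}) := hB x
  exact @IsCompact.isClosed _ (constructibleTopology (U : Scheme.{u})) SpecSp50.t2Space_cons _
    (@IsCompact.image _ _ (constructibleTopology (B x : Scheme.{u}))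
      (constructibleTopology (U : Scheme.{u})) _ _
      (SpecSp50.isCompact_cons_of_isClosed_cons (hBE x)) (continuous_cons_of_hom _))

/-- Inverse images preserve closedness in the constructible topology. -/
lemma IsConsClosed.preimage {X Y : Scheme.{u}} (f : X ⟶ Y) {E : Set Y} (hE : IsConsClosed E) :
    IsConsClosed (f ⁻¹' E) := by
  refine isConsClosed_of_local fun x => ?_
  obtain ⟨_, ⟨V, hV, rfl⟩, hxV, -⟩ :=
    Y.isBasis_affineOpens.exists_subset_of_mem_open (Set.mem_univ (f x)) isOpen_univ
  obtain ⟨_, ⟨B, hB, rfl⟩, hxB, hBle⟩ :=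
    X.isBasis_affineOpens.exists_subset_of_mem_open (show x ∈ f ⁻¹ᵁ V from hxV) (f ⁻¹ᵁ V).2
  refine ⟨B, hxB, hB, ?_⟩
  have : IsAffine (B : Scheme.{u}) := hB
  have : IsAffine (V : Scheme.{u}) := hV
  have := @IsClosed.preimage _ _ (constructibleTopology (B : Scheme.{u}))
    (constructibleTopology (V : Scheme.{u})) _ (continuous_cons_of_hom (f.resLE V B hBle)) _ (hE V hV)
  convert this using 1
  ext z
  simp only [Set.mem_preimage, ← Scheme.Hom.comp_apply]
  rw [Scheme.Hom.resLE_comp_ι f hBle]

lemma isClopen_cons_of_isLocallyConstructible {X : Scheme.{u}} {E : Set X}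
    (hE : IsLocallyConstructible E) {U : X.Opens} (hU : IsAffineOpen U) :
    @IsClopen (U : Scheme.{u}) (constructibleTopology (U : Scheme.{u})) (U.ι ⁻¹' E) := by
  have := spectralSpace_of_isAffineOpen hU
  exact SpecSp50.isConstructible_cons_isClopen
    (IsLocallyConstructible.isConstructible
      (hE.preimage_of_isOpenEmbedding U.ι.isOpenEmbedding))

lemma isConsClosed_of_isConstructible {X : Scheme.{u}} {E : Set X} (hE : IsConstructible E) :
    IsConsClosed E :=
  fun _ hU => (isClopen_cons_of_isLocallyConstructible hE.isLocallyConstructible hU).1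

lemma isConsClosed_of_isClosed {X : Scheme.{u}} {E : Set X} (hE : IsClosed E) :
    IsConsClosed E := fun _ hU =>
  have := spectralSpace_of_isAffineOpen hU
  SpecSp50.isClosed_cons_of_isClosed (hE.preimage (Scheme.Opens.ι _).continuous)

lemma IsConsClosed.inter {X : Scheme.{u}} {E F : Set X} (hE : IsConsClosed E)
    (hF : IsConsClosed F) : IsConsClosed (E ∩ F) := fun U hU =>
  @IsClosed.inter _ _ _ (constructibleTopology (U : Scheme.{u})) (hE U hU) (hF U hU)

lemma IsConsClosed.union {X : Scheme.{u}} {E F : Set X} (hE : IsConsClosed E)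
    (hF : IsConsClosed F) : IsConsClosed (E ∪ F) := fun U hU =>
  @IsClosed.union _ _ _ (constructibleTopology (U : Scheme.{u})) (hE U hU) (hF U hU)

lemma isOpenEmbedding_into_open {X : Scheme.{u}} {B : X.Opens} {O : Set X} (hO : IsOpen O)
    (h : (B : Set X) ⊆ O) :
    IsOpenEmbedding (fun z : (B : Scheme.{u}) => (⟨Scheme.Opens.ι B z, h z.2⟩ : O)) :=
  IsOpenEmbedding.of_comp _ hO.isOpenEmbedding_subtypeVal (Scheme.Opens.ι B).isOpenEmbedding

/-- A pro-constructible set is closed in the constructible topology of every affine open. -/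
lemma isConsClosed_of_isProConstructible {X : Scheme.{u}} {E : Set X}
    (hE : ProCons.IsProConstructible E) : IsConsClosed E := by
  refine isConsClosed_of_local fun x => ?_
  obtain ⟨O, hO, hxO, S, hS, hSE⟩ := hE x
  obtain ⟨_, ⟨B, hB, rfl⟩, hxB, hBO⟩ := X.isBasis_affineOpens.exists_subset_of_mem_open hxO hO
  refine ⟨B, hxB, hB, ?_⟩
  have := spectralSpace_of_isAffineOpen hB
  have heq : (Scheme.Opens.ι B) ⁻¹' E =
      ⋂ T ∈ S, (fun z : (B : Scheme.{u}) => (⟨Scheme.Opens.ι B z, hBO z.2⟩ : O)) ⁻¹' T := by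
    ext z
    have := Set.ext_iff.mp hSE ⟨Scheme.Opens.ι B z, hBO z.2⟩
    simp only [Set.mem_iInter, Set.mem_preimage, Set.mem_sInter] at this ⊢
    exact this
  rw [heq]
  refine @isClosed_biInter _ _ (constructibleTopology (B : Scheme.{u})) _ _ fun T hT => ?_
  exact (SpecSp50.isConstructible_cons_isClopen
    ((hS T hT).preimage_of_isOpenEmbedding (isOpenEmbedding_into_open hO hBO)).isConstructible).1

/-- The complement of an ind-constructible set is closed in the constructible topology of every
affine open. -/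
lemma isConsClosed_compl_of_isIndConstructible {X : Scheme.{u}} {E : Set X}
    (hE : ProCons.IsIndConstructible E) : IsConsClosed Eᶜ := by
  refine isConsClosed_of_local fun x => ?_
  obtain ⟨O, hO, hxO, S, hS, hSE⟩ := hE x
  obtain ⟨_, ⟨B, hB, rfl⟩, hxB, hBO⟩ := X.isBasis_affineOpens.exists_subset_of_mem_open hxO hO
  refine ⟨B, hxB, hB, ?_⟩
  have := spectralSpace_of_isAffineOpen hB
  have heq : (Scheme.Opens.ι B) ⁻¹' Eᶜ =
      ⋂ T ∈ S, ((fun z : (B : Scheme.{u}) => (⟨Scheme.Opens.ι B z, hBO z.2⟩ : O)) ⁻¹' T)ᶜ := by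
    ext z
    have := (Set.ext_iff.mp hSE ⟨Scheme.Opens.ι B z, hBO z.2⟩).not
    simp only [Set.mem_iInter, Set.mem_preimage, Set.mem_sUnion, Set.mem_compl_iff, not_exists,
      not_and] at this ⊢
    exact this
  rw [heq]
  refine @isClosed_biInter _ _ (constructibleTopology (B : Scheme.{u})) _ _ fun T hT => ?_
  exact (@IsClopen.compl _ (constructibleTopology (B : Scheme.{u})) _
    (SpecSp50.isConstructible_cons_isClopen
      ((hS T hT).preimage_of_isOpenEmbedding (isOpenEmbedding_into_open hO hBO)).isConstructible)).1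

end Groth.Agent.LimTop61
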