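import Groth.Agent.LimTop61.AmpleStage
import Groth.Agent.LimTop61.BaseChange
import Groth.Agent.Amp73.CounitEpi
import Groth.Agent.Amp73.Local
import Groth.Agent.Props58.PullTensor

/-!
Invertible modules generated relative to a morphism, and descent of this property along limits.
-/

set_option autoImplicit false
set_option backward.isDefEq.respectTransparency false
set_option backward.defeqAttrib.useBackward true

noncomputable section

universe u

open CategoryTheory Limits AlgebraicGeometry TopologicalSpace Opposite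
open Groth.Agent.Var76.LineBundle Groth.Agent.Var76.ZeroScheme

namespace Groth.Agent.LimTop61

variable {X Y : Scheme.{u}} (f : X ⟶ Y)

/-- Near `x`, some section over the preimage of an open of the base generates. -/
def IsGenAt (L : X.Modules) (x : X) : Prop :=
  ∃ (V : Y.Opens) (t : Γ(L, f ⁻¹ᵁ V)) (W : X.Opens) (h : W ≤ f ⁻¹ᵁ V), x ∈ W ∧ IsFrame L W (res L h t)

theorem epi_counit_iff_forall_isGenAt {L : X.Modules} (hL : PicF.IsInvertible L) :
    Epi ((Scheme.Modules.pullbackPushforwardAdjunction f).counit.app L) ↔ ∀ x, IsGenAt f L x := by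
  constructor
  · intro hepi x
    obtain ⟨W, hxW, -, e, he⟩ := Mero90.exists_affine_frame hL x ⊤ trivial
    have hq : Amp73.toFibre x L ≠ 0 := fun h0 =>
      Amp73.toFibre_ne_zero_of_isFrame hL hxW he (by rw [h0]; rfl)
    obtain ⟨V, hxV, t, ht⟩ := Amp73.exists_app_ne_zero f hepi (Amp73.toFibre x L) x
      (Amp73.subsingleton_fibre x L) hq
    obtain ⟨W', hW', hxW', hfr⟩ := Amp73.exists_isFrame_of_toFibre_ne_zero hL hxV ht
    exact ⟨V, t, W', hW', hxW', hfr⟩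
  · intro h
    refine Amp73.epi_counit_of_span f (Mero90.isQCoh_of_isInvertible hL) fun x => ?_
    obtain ⟨V, t, W, hW, hxW, hfr⟩ := h x
    obtain ⟨U, hU, hxU, hUW⟩ := exists_isAffineOpen_mem_and_subset (U := W) hxW
    refine ⟨V, U, le_trans hUW hW, hxU, hU, eq_top_iff.2 fun z _ => ?_⟩
    have hfrU := hfr.res hUW
    rw [res_res] at hfrU
    obtain ⟨a, ha⟩ := (hfrU U le_rfl).2 z
    dsimp only at ha
    rw [Amp73.res_self] at ha
    rw [← ha]
    exact Submodule.smul_mem _ a (Submodule.subset_span ⟨t, rfl⟩)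

theorem isGenAt_of_iso {L M : X.Modules} (φ : L ≅ M) {x : X} (h : IsGenAt f L x) : IsGenAt f M x := by
  obtain ⟨V, t, W, hW, hxW, hfr⟩ := h
  refine ⟨V, φ.hom.app _ t, W, hW, hxW, ?_⟩
  have := (Amp73.isFrame_app_iff φ.hom _).2 hfr
  rwa [Mero90.app_res] at this

variable {X' Y' : Scheme.{u}} {f' : X' ⟶ Y'} {p : X' ⟶ X} {q : Y' ⟶ Y}

theorem isGenAt_pullback (w : p ≫ f = f' ≫ q) {L : X.Modules} {x : X'} (h : IsGenAt f L (p x)) :
    IsGenAt f' ((Scheme.Modules.pullback p).obj L) x := by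
  obtain ⟨V, t, W, hW, hxW, hfr⟩ := h
  have e : f' ⁻¹ᵁ (q ⁻¹ᵁ V) = p ⁻¹ᵁ (f ⁻¹ᵁ V) := by
    rw [← Scheme.Hom.comp_preimage, ← Scheme.Hom.comp_preimage, w]
  refine ⟨q ⁻¹ᵁ V, res _ e.le (Amp73.pullS p L _ t), p ⁻¹ᵁ W, (p.preimage_mono hW).trans e.ge, hxW, ?_⟩
  rw [res_res, Amp73.res_pullS p L hW t]
  exact Props58.PullTensor.isFrame_pullS p hfr

/-- A generating section on the preimage, given as a morphism from the structure sheaf. -/
theorem isGenAt_of_genLocus {L : X.Modules} {U : X.Opens} {V : Y.Opens} (hU : f ⁻¹ᵁ V = U)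
    {M : (U : Scheme.{u}).Modules} (ψ : (Scheme.Modules.pullback U.ι).obj L ≅ M)
    (s : Coh.structureModule (U : Scheme.{u}) ⟶ M) {z : (U : Scheme.{u})}
    (hz : z ∈ CohB1.genLocus M s) : IsGenAt f L (U.ι z) := by
  let ψ' : L.restrict U.ι ≅ M := (Scheme.Modules.restrictFunctorIsoPullback U.ι).app L ≪≫ ψ
  let σ := s ≫ ψ'.inv
  have hz' : z ∈ CohB1.genLocus (L.restrict U.ι) σ := by rwa [Amp73.genLocus_comp_iso]
  have hfr := Amp73.isFrame_genLocus σ
  rw [Amp73.isFrame_restrict_iff] at hfr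
  have hle : f ⁻¹ᵁ V ≤ U.ι ''ᵁ ⊤ := hU.le.trans U.ι_image_top.ge
  let t₀ : Γ(L, U.ι ''ᵁ ⊤) := val (L.restrict U.ι) σ ⊤
  refine ⟨V, res L hle t₀, U.ι ''ᵁ CohB1.genLocus _ σ, ?_, ⟨z, hz', rfl⟩, ?_⟩
  · exact ((U.ι.image_mono le_top).trans U.ι_image_top.le).trans hU.ge
  · rw [res_res]
    have e : (val (L.restrict U.ι) σ (CohB1.genLocus _ σ) : Γ(L, U.ι ''ᵁ CohB1.genLocus _ σ)) =
        res L (U.ι.image_mono le_top) t₀ :=
      (res_val (L.restrict U.ι) σ (le_top : CohB1.genLocus _ σ ≤ ⊤)).symm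
    rw [e] at hfr
    exact hfr

/-- Conversely, a witness gives a morphism from the structure sheaf on the preimage. -/
theorem exists_genLocus_of_isGenAt {L : X.Modules} {V : Y.Opens} {t : Γ(L, f ⁻¹ᵁ V)} {W : X.Opens}
    (hW : W ≤ f ⁻¹ᵁ V) (hfr : IsFrame L W (res L hW t)) {U : X.Opens} (hU : U ≤ f ⁻¹ᵁ V)
    {M : (U : Scheme.{u}).Modules} (ψ : (Scheme.Modules.pullback U.ι).obj L ≅ M)
    {z : (U : Scheme.{u})} (hz : U.ι z ∈ W) :
    ∃ s : Coh.structureModule (U : Scheme.{u}) ⟶ M, z ∈ CohB1.genLocus M s := by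
  let ψ' : L.restrict U.ι ≅ M := (Scheme.Modules.restrictFunctorIsoPullback U.ι).app L ≪≫ ψ
  have hle : U.ι ''ᵁ ⊤ ≤ f ⁻¹ᵁ V := U.ι_image_top.le.trans hU
  let σ := Var76.Frames.ofSection (L.restrict U.ι) (res L hle t)
  refine ⟨σ ≫ ψ'.hom, ?_⟩
  rw [Amp73.genLocus_comp_iso]
  refine (Amp73.isFrame_iff_le_genLocus σ (U.ι ⁻¹ᵁ W)).1 ?_ hz
  rw [Amp73.isFrame_restrict_iff, Var76.Frames.val_ofSection]
  have h := hfr.res (U.ι.image_preimage_le W)
  rw [res_res] at h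
  show IsFrame L _ (res L (U.ι.image_mono le_top) (res L hle t))
  rw [res_res]
  exact h

variable {I : Type u} [SmallCategory I] [IsCofiltered I] {D : I ⥤ Scheme.{u}} {c : Cone D}
  (hc : IsLimit c) [∀ {i j : I} (f : i ⟶ j), IsAffineHom (D.map f)]

include hc

/-- A generating locus of a section on the limit comes from one on a stage. -/
theorem exists_genLocus_stage {i₀ : I} [CompactSpace (D.obj i₀)] [QuasiSeparatedSpace (D.obj i₀)]
    {L₀ : (D.obj i₀).Modules} (hL₀ : PicF.IsInvertible L₀)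
    (s : Coh.structureModule c.pt ⟶ (Scheme.Modules.pullback (c.π.app i₀)).obj L₀) :
    ∃ (j : I) (φ : j ⟶ i₀) (t : Coh.structureModule (D.obj j) ⟶ (Scheme.Modules.pullback (D.map φ)).obj L₀),
      c.π.app j ⁻¹ᵁ CohB1.genLocus _ t = CohB1.genLocus _ s := by
  have : L₀.IsQuasicoherent := Mero90.isQCoh_of_isInvertible hL₀
  let q := c.π.app i₀
  let h := (PicLoc.pullbackStructureIso q).hom ≫ s
  obtain ⟨j, φ, hj, hhj⟩ := exists_hom_pullback_eq hc (Coh.structureModule (D.obj i₀)) L₀ h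
  let t : Coh.structureModule (D.obj j) ⟶ (Scheme.Modules.pullback (D.map φ)).obj L₀ :=
    (PicLoc.pullbackStructureIso (D.map φ)).inv ≫ hj
  refine ⟨j, φ, t, ?_⟩
  let cO := (pullbackCompIso (D.map φ) (c.π.app j) (c.w φ)).app (Coh.structureModule (D.obj i₀))
  let cG := (pullbackCompIso (D.map φ) (c.π.app j) (c.w φ)).app L₀
  let e : Coh.structureModule c.pt ≅ (Scheme.Modules.pullback (c.π.app j)).obj (Coh.structureModule (D.obj j)) :=
    (PicLoc.pullbackStructureIso q).symm ≪≫ cO.symm ≪≫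
      (Scheme.Modules.pullback (c.π.app j)).mapIso (PicLoc.pullbackStructureIso (D.map φ))
  have h1 : (e.hom ≫ (Scheme.Modules.pullback (c.π.app j)).map t) ≫ cG.hom = s := by
    simp only [e, t, Iso.trans_hom, Iso.symm_hom, Functor.mapIso_hom, Category.assoc,
      ← Functor.map_comp_assoc, Iso.hom_inv_id_assoc]
    simp only [cO, cG, hhj, h]
    simp
  refine (Amp73.genLocus_iso_comp_map (c.π.app j) (Amp73.isInvertible_pullback _ hL₀) t e).symm.trans ?_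
  refine (Amp73.genLocus_comp_iso (e.hom ≫ (Scheme.Modules.pullback (c.π.app j)).map t) cG.hom).symm.trans ?_
  exact congrArg (CohB1.genLocus _) h1

omit hc

/-- The base change of a morphism over the `i₀`-th stage to a stage. -/
abbrev stageHom {i₀ : I} {X₀ Y₀ : Scheme.{u}} (f₀ : X₀ ⟶ Y₀) (g₀ : Y₀ ⟶ D.obj i₀) (k : Over i₀) :
    pullback (f₀ ≫ g₀) (D.map k.hom) ⟶ pullback g₀ (D.map k.hom) :=
  pullback.lift (pullback.fst _ _ ≫ f₀) (pullback.snd _ _)
    (by rw [Category.assoc]; exact pullback.condition)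

variable (D c) in
/-- Relative generation descends to a stage. -/
theorem exists_stage_epi_counit (hc : IsLimit c) (i₀ : I) [CompactSpace (D.obj i₀)]
    [QuasiSeparatedSpace (D.obj i₀)] {X₀ Y₀ : Scheme.{u}} (f₀ : X₀ ⟶ Y₀) (g₀ : Y₀ ⟶ D.obj i₀)
    [QuasiCompact g₀] [QuasiSeparated g₀] [QuasiCompact (f₀ ≫ g₀)] [QuasiSeparated (f₀ ≫ g₀)]
    (L₀ : X₀.Modules) (hL₀ : PicF.IsInvertible L₀)
    {X Y : Scheme.{u}} (f : X ⟶ Y) (g : Y ⟶ c.pt) (qY : Y ⟶ Y₀) (qX : X ⟶ X₀)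
    (hY : IsPullback qY g g₀ (c.π.app i₀)) (hX : IsPullback qX f f₀ qY)
    (hgen : Epi ((Scheme.Modules.pullbackPushforwardAdjunction f).counit.app ((Scheme.Modules.pullback qX).obj L₀))) :
    ∃ (j : I) (φ : j ⟶ i₀), ∀ (k : I) (ψ : k ⟶ j) (Xk Yk : Scheme.{u}) (fk : Xk ⟶ Yk) (gk : Yk ⟶ D.obj k)
      (pY : Yk ⟶ Y₀) (pX : Xk ⟶ X₀), IsPullback pY gk g₀ (D.map (ψ ≫ φ)) → IsPullback pX fk f₀ pY →
        Epi ((Scheme.Modules.pullbackPushforwardAdjunction fk).counit.app ((Scheme.Modules.pullback pX).obj L₀)) := by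
  classical
  have : CompactSpace X₀ := QuasiCompact.compactSpace_of_compactSpace (f₀ ≫ g₀)
  have : QuasiSeparatedSpace X₀ := quasiSeparatedSpace_of_quasiSeparated (f₀ ≫ g₀)
  have : CompactSpace Y₀ := QuasiCompact.compactSpace_of_compactSpace g₀
  have : QuasiSeparatedSpace Y₀ := quasiSeparatedSpace_of_quasiSeparated g₀
  have hXc : IsPullback qX (f ≫ g) (f₀ ≫ g₀) (c.π.app i₀) := hX.paste_vert hY
  let E := bcDiagram D (f₀ ≫ g₀)
  let cE := bcCone D c (f₀ ≫ g₀) qX (f ≫ g) hXc.w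
  have hcE : IsLimit cE := isLimitBcCone D c hc _ _ _ hXc
  let F := bcDiagram D g₀
  let cF := bcCone D c g₀ qY g hY.w
  have hcF : IsLimit cF := isLimitBcCone D c hc _ _ _ hY
  have : ∀ {a b : Over i₀} (u : a ⟶ b), IsAffineHom (E.map u) := fun u => inferInstance
  have : ∀ {a b : Over i₀} (u : a ⟶ b), IsAffineHom (F.map u) := fun u => inferInstance
  have : CompactSpace cE.pt := Scheme.compactSpace_of_isLimit E cE hcE
  have hcomm : ∀ k, cE.π.app k ≫ stageHom f₀ g₀ k = f ≫ cF.π.app k := fun k => by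
    apply pullback.hom_ext <;> simp [cE, cF, stageHom, hX.w]
  have hfgen := (epi_counit_iff_forall_isGenAt f (Amp73.isInvertible_pullback qX hL₀)).1 hgen
  -- each point is covered by a generating locus at a stage
  have key : ∀ x : cE.pt, ∃ (k : Over i₀) (G : (E.obj k).Opens), x ∈ cE.π.app k ⁻¹ᵁ G ∧
      ∀ z : E.obj k, z ∈ G → IsGenAt (stageHom f₀ g₀ k)
        ((Scheme.Modules.pullback (pullback.fst (f₀ ≫ g₀) (D.map k.hom))).obj L₀) z := by
    intro x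
    obtain ⟨V, t, W, hW, hxW, hfr⟩ := hfgen x
    obtain ⟨_, ⟨k, V', hV', rfl⟩, hxV', hle⟩ :=
      Opens.isBasis_iff_nbhd.mp (isBasis_preimage_isAffineOpen F cF hcF)
        (show (f x : Y) ∈ V from hW hxW)
    let fk : E.obj k ⟶ F.obj k := stageHom f₀ g₀ k
    have : QuasiCompact fk := by
      have : QuasiCompact (fk ≫ pullback.snd g₀ (D.map k.hom)) := by
        rw [pullback.lift_snd]; infer_instance
      exact QuasiCompact.of_comp fk (pullback.snd g₀ (D.map k.hom))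
    let U : (E.obj k).Opens := fk ⁻¹ᵁ V'
    have hUc : IsCompact (U : Set (E.obj k)) := fk.isCompact_preimage hV'.isCompact
    have hU : cE.π.app k ⁻¹ᵁ U = f ⁻¹ᵁ (cF.π.app k ⁻¹ᵁ V') := by
      rw [← Scheme.Hom.comp_preimage, ← Scheme.Hom.comp_preimage, hcomm]
    have : ∀ l : Over k, CompactSpace ((opensDiagram E k U).obj l) := fun l =>
      isCompact_iff_compactSpace.mp (QuasiCompact.isCompact_preimage (f := E.map l.hom) _ U.2 hUc)
    have : ∀ l : Over k, QuasiSeparatedSpace ((opensDiagram E k U).obj l) := fun l =>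
      (isQuasiSeparated_iff_quasiSeparatedSpace _ (E.map l.hom ⁻¹ᵁ U).2).1 (.of_quasiSeparatedSpace _)
    have hc' := isLimitOpensCone E cE hcE k U
    let r : Over k := Over.mk (𝟙 k)
    let p : ((opensDiagram E k U).obj r : Scheme.{u}) ⟶ X₀ :=
      (E.map r.hom ⁻¹ᵁ U).ι ≫ E.map r.hom ≫ pullback.fst (f₀ ≫ g₀) (D.map k.hom)
    let L' := (Scheme.Modules.pullback p).obj L₀
    have hL' : PicF.IsInvertible L' := Amp73.isInvertible_pullback p hL₀
    have hp : (opensCone E cE k U).π.app r ≫ p = (cE.π.app k ⁻¹ᵁ U).ι ≫ qX := by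
      simp [p, cE, r]
    let ψ : (Scheme.Modules.pullback (cE.π.app k ⁻¹ᵁ U).ι).obj ((Scheme.Modules.pullback qX).obj L₀) ≅
        (Scheme.Modules.pullback ((opensCone E cE k U).π.app r)).obj L' :=
      (pullbackCompIso qX (cE.π.app k ⁻¹ᵁ U).ι rfl).app L₀ ≪≫
        ((pullbackCompIso p ((opensCone E cE k U).π.app r) hp).app L₀).symm
    have hxU : x ∈ cE.π.app k ⁻¹ᵁ U := hU.ge hxV'
    obtain ⟨s, hs⟩ := exists_genLocus_of_isGenAt f hW hfr
      (U := cE.π.app k ⁻¹ᵁ U) (hU.le.trans (f.preimage_mono hle)) ψ (z := ⟨x, hxU⟩) hxW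
    obtain ⟨l, φ, τ, hτ⟩ := exists_genLocus_stage hc' (i₀ := r) hL' s
    refine ⟨l.left, (E.map l.hom ⁻¹ᵁ U).ι ''ᵁ CohB1.genLocus _ τ, ?_, ?_⟩
    · refine ⟨(opensCone E cE k U).π.app l ⟨x, hxU⟩, hτ.ge hs, ?_⟩
      have e : (opensCone E cE k U).π.app l ≫ (E.map l.hom ⁻¹ᵁ U).ι =
          (cE.π.app k ⁻¹ᵁ U).ι ≫ cE.π.app l.left := Scheme.Hom.resLE_comp_ι _ _
      exact congrArg (fun a => a (⟨x, hxU⟩ : (cE.π.app k ⁻¹ᵁ U : Scheme.{u}))) e
    · rintro _ ⟨z, hz, rfl⟩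
      have hsq : E.map l.hom ≫ fk = stageHom f₀ g₀ l.left ≫ F.map l.hom := by
        apply pullback.hom_ext <;> simp [fk, E, F, stageHom]
      have hUl : stageHom f₀ g₀ l.left ⁻¹ᵁ (F.map l.hom ⁻¹ᵁ V') = E.map l.hom ⁻¹ᵁ U := by
        rw [← Scheme.Hom.comp_preimage, ← hsq, Scheme.Hom.comp_preimage]
      have hp2 : (opensDiagram E k U).map φ ≫ p =
          (E.map l.hom ⁻¹ᵁ U).ι ≫ pullback.fst (f₀ ≫ g₀) (D.map l.left.hom) := by
        simp [p, r, opensDiagram, E]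
      exact isGenAt_of_genLocus (stageHom f₀ g₀ l.left) hUl
        ((pullbackCompIso (pullback.fst (f₀ ≫ g₀) (D.map l.left.hom)) (E.map l.hom ⁻¹ᵁ U).ι rfl).app L₀ ≪≫
          ((pullbackCompIso p ((opensDiagram E k U).map φ) hp2).app L₀).symm) τ hz
  choose kx G hxG hG using key
  obtain ⟨T, hT⟩ := (isCompact_univ (X := cE.pt)).elim_finite_subcover
    (fun x => SetLike.coe (cE.π.app (kx x) ⁻¹ᵁ G x)) (fun x => (cE.π.app (kx x) ⁻¹ᵁ G x).2)
    fun x _ => Set.mem_iUnion.2 ⟨x, hxG x⟩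
  obtain ⟨m, hm⟩ := IsCofiltered.inf_objs_exists (T.image kx)
  let u : ∀ x : T, m ⟶ kx x.1 := fun x => (hm (Finset.mem_image_of_mem kx x.2)).some
  let G' : (E.obj m).Opens := ⨆ x : T, E.map (u x) ⁻¹ᵁ G x.1
  have : ∀ a, CompactSpace (E.obj a) := fun a => bcDiagram_compactSpace D _ a
  obtain ⟨n, a, hn⟩ := exists_map_eq_top E cE hcE G' (top_le_iff.1 fun y _ => by
    obtain ⟨x, hxT, hy⟩ := Set.mem_iUnion₂.1 (hT (Set.mem_univ y))
    refine (Opens.mem_iSup (s := fun x : T => E.map (u x) ⁻¹ᵁ G x.1)).2 ⟨⟨x, hxT⟩, ?_⟩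
    show y ∈ cE.π.app m ⁻¹ᵁ (E.map (u ⟨x, hxT⟩) ⁻¹ᵁ G x)
    rw [← Scheme.Hom.comp_preimage, cE.w]
    exact hy)
  refine ⟨n.left, n.hom, fun k ψ Xk Yk fk gk pY pX hYk hXk => ?_⟩
  rw [epi_counit_iff_forall_isGenAt fk (Amp73.isInvertible_pullback pX hL₀)]
  intro z
  let wX : Xk ⟶ E.obj n := pullback.lift pX (fk ≫ gk ≫ D.map ψ) (by
    rw [Category.assoc, Category.assoc, ← D.map_comp, ← hYk.w]
    exact (reassoc_of% hXk.w) _)
  let wY : Yk ⟶ F.obj n := pullback.lift pY (gk ≫ D.map ψ)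
    (by rw [Category.assoc, ← D.map_comp]; exact hYk.w)
  have hwn : wX ≫ stageHom f₀ g₀ n = fk ≫ wY := by
    apply pullback.hom_ext <;> simp [wX, wY, stageHom, hXk.w]
  obtain ⟨x, hx⟩ := (Opens.mem_iSup (s := fun x : T => E.map (u x) ⁻¹ᵁ G x.1)).1
    (hn.ge (Opens.mem_top (wX z)))
  let w' : Xk ⟶ E.obj (kx x.1) := wX ≫ E.map (a ≫ u x)
  have hsq : w' ≫ stageHom f₀ g₀ (kx x.1) = fk ≫ (wY ≫ F.map (a ≫ u x)) := by
    rw [← reassoc_of% hwn, Category.assoc]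
    congr 1
    apply pullback.hom_ext <;> simp [E, F, stageHom]
  have hz : w' z ∈ G x.1 := by
    show (wX ≫ E.map (a ≫ u x)) z ∈ G x.1
    rw [E.map_comp]; exact hx
  have h1 := isGenAt_pullback (stageHom f₀ g₀ (kx x.1)) hsq (hG x.1 (w' z) hz)
  exact isGenAt_of_iso fk ((pullbackCompIso (pullback.fst (f₀ ≫ g₀) (D.map (kx x.1).hom)) w'
    (h := pX) (by simp [w', wX, E])).app L₀) h1

end Groth.Agent.LimTop61
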