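import Groth.Agent.LimTop61.QfSplit
import Groth.Agent.Sga84.Top
import Mathlib.AlgebraicGeometry.Morphisms.SchemeTheoreticallyDominant
import Mathlib.AlgebraicGeometry.Morphisms.LocalIso

/-!
A separated flat morphism of finite type which is an isomorphism over a scheme-theoretically dense
quasi-compact open is an open immersion.
-/

set_option autoImplicit false
set_option backward.isDefEq.respectTransparency false
set_option backward.defeqAttrib.useBackward true

universe u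

open CategoryTheory CategoryTheory.Limits AlgebraicGeometry TopologicalSpace

namespace Groth.Agent.LimTop61

theorem isClosedImmersion_of_finite_mono {X Y : Scheme.{u}} (k : X ⟶ Y) [IsFinite k] [Mono k] :
    IsClosedImmersion k := by
  rw [IsClosedImmersion.iff_isFinite_and_mono]
  exact ⟨‹_›, ‹_›⟩

/-- A closed immersion through which a scheme-theoretically dominant morphism factors is iso. -/
theorem isIso_of_factor {X Y W : Scheme.{u}} (k : X ⟶ Y) [IsClosedImmersion k] (j : W ⟶ Y)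
    [IsSchemeTheoreticallyDominant j] (s : W ⟶ X) (hs : s ≫ k = j) : IsIso k := by
  rw [IsClosedImmersion.isIso_iff_ker_eq_bot, ← le_bot_iff, ← j.ker_eq_bot, ← hs]
  exact Scheme.Hom.le_ker_comp s k

variable {X S : Scheme.{u}} (f : X ⟶ S)

theorem mono_of_iso_over_dense [IsSeparated f] [Flat f] (U : S.Opens) [QuasiCompact U.ι]
    [IsSchemeTheoreticallyDominant U.ι] [IsIso (f ∣_ U)] : Mono f := by
  rw [← pullback.isIso_diagonal_iff]
  let a : pullback f f ⟶ S := pullback.fst f f ≫ f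
  have : Flat a := inferInstance
  have : IsSchemeTheoreticallyDominant (a ⁻¹ᵁ U).ι :=
    IsSchemeTheoreticallyDominant.of_isPullback (isPullback_morphismRestrict a U)
  have h1 : ((a ⁻¹ᵁ U).ι ≫ pullback.fst f f) ≫ f = ((a ⁻¹ᵁ U).ι ≫ pullback.snd f f) ≫ f := by
    rw [Category.assoc, Category.assoc, pullback.condition]
  have hl : ∀ (q : (a ⁻¹ᵁ U).toScheme ⟶ X), q ≫ f = (a ⁻¹ᵁ U).ι ≫ a →
      ∃ q' : (a ⁻¹ᵁ U).toScheme ⟶ (f ⁻¹ᵁ U).toScheme,
        q' ≫ (f ⁻¹ᵁ U).ι = q ∧ q' ≫ (f ∣_ U) = a ∣_ U := fun q hq => by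
    refine ⟨IsOpenImmersion.lift (f ⁻¹ᵁ U).ι q ?_, IsOpenImmersion.lift_fac _ _ _, ?_⟩
    · rw [Scheme.Opens.range_ι]
      rintro _ ⟨z, rfl⟩
      show f (q z) ∈ U
      rw [← Scheme.Hom.comp_apply, hq]
      exact z.2
    · rw [← cancel_mono U.ι, Category.assoc, morphismRestrict_ι, IsOpenImmersion.lift_fac_assoc, hq,
        morphismRestrict_ι]
  obtain ⟨q1, e1, e1'⟩ := hl ((a ⁻¹ᵁ U).ι ≫ pullback.fst f f) (Category.assoc _ _ _)
  obtain ⟨q2, e2, e2'⟩ := hl ((a ⁻¹ᵁ U).ι ≫ pullback.snd f f) (h1.symm.trans (Category.assoc _ _ _))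
  have hq : q1 = q2 := by rw [← cancel_mono (f ∣_ U), e1', e2']
  have : IsClosedImmersion (pullback.diagonal f) := IsSeparated.isClosedImmersion_diagonal
  refine isIso_of_factor (pullback.diagonal f) (a ⁻¹ᵁ U).ι ((a ⁻¹ᵁ U).ι ≫ pullback.fst f f) ?_
  apply pullback.hom_ext
  · simp
  · rw [Category.assoc, pullback.diagonal_snd, Category.comp_id, ← e1, hq, e2]

/-- Near every point the morphism becomes an isomorphism over an étale neighbourhood. -/
theorem exists_iso_nhd [IsSeparated f] [LocallyOfFiniteType f] [Flat f] (U : S.Opens)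
    [QuasiCompact U.ι] [IsSchemeTheoreticallyDominant U.ι] [IsIso (f ∣_ U)] (x : X) :
    ∃ W : S.Opens, f x ∈ W ∧ IsIso (f ∣_ W) := by
  have : Mono f := mono_of_iso_over_dense f U
  have : LocallyQuasiFinite f := LocallyQuasiFinite.of_injective f.injective
  obtain ⟨S', g, u, hg, hgu, J, hJ, V, v, h1, -, h3⟩ :=
    exists_qf_splitting_PI f (f x) (ι := Unit) (fun _ => x) (fun _ _ _ => rfl) (fun _ => rfl)
      (fun _ => f.quasiFiniteAt x)
  let P := pullback f g
  let p : P ⟶ S' := pullback.snd f g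
  obtain ⟨w, hw1, hw2⟩ := Scheme.exists_preimage_of_isPullback (IsPullback.of_hasPullback f g) x u hgu.symm
  obtain ⟨j, rfl⟩ := h3 w () hw2 hw1
  obtain ⟨hv, hfin, hvu, -⟩ := h1 () j
  let O := V () j
  let k : O.toScheme ⟶ S' := O.ι ≫ p
  have : IsFinite k := hfin
  have : IsClosedImmersion k := isClosedImmersion_of_finite_mono k
  let U'' := g ⁻¹ᵁ U
  -- over `U''` the base change is an isomorphism
  have hsq : IsPullback ((p ⁻¹ᵁ U'').ι ≫ pullback.fst f g) (p ∣_ U'') f (U''.ι ≫ g) :=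
    (isPullback_morphismRestrict p U'').flip.paste_horiz (IsPullback.of_hasPullback f g)
  have : IsIso (p ∣_ U'') := by
    have h2 : IsPullback (pullback.fst (f ∣_ U) (g ∣_ U) ≫ (f ⁻¹ᵁ U).ι) (pullback.snd (f ∣_ U) (g ∣_ U))
        f (U''.ι ≫ g) := by
      rw [← morphismRestrict_ι g U]
      exact (IsPullback.of_hasPullback _ _).paste_horiz (isPullback_morphismRestrict f U).flip
    rw [← hsq.isoIsPullback_hom_snd X _ h2]
    infer_instance
  -- shrink away from the points over `U''` outside the image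
  let C : Set U'' := (U''.ι ⁻¹' Set.range k)ᶜ
  have hC : IsClosed C := by
    have : C = (p ∣_ U'') '' ((p ⁻¹ᵁ U'').ι ⁻¹' (O : Set P))ᶜ := by
      ext c
      obtain ⟨z, rfl⟩ := (p ∣_ U'').surjective c
      have hinj : Function.Injective p := p.injective
      constructor
      · exact fun hc => ⟨z, fun hz => hc ⟨⟨_, hz⟩, (morphismRestrict_base_coe p U'' z).symm⟩, rfl⟩
      · rintro ⟨z', hz', he⟩ ⟨o, ho⟩
        obtain rfl := (p ∣_ U'').injective he
        exact hz' (by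
          have : (O.ι o : P) = (p ⁻¹ᵁ U'').ι z' := hinj (ho.trans (morphismRestrict_base_coe p U'' z'))
          show (p ⁻¹ᵁ U'').ι z' ∈ O
          exact this ▸ o.2)
    rw [this]
    exact (p ∣_ U'').homeomorph.isClosedMap _ ((p ⁻¹ᵁ U'').ι.continuous.isOpen_preimage _ O.2).isClosed_compl
  let N : S'.Opens := ⟨(closure (U''.ι '' C))ᶜ, isClosed_closure.isOpen_compl⟩
  have : QuasiCompact U''.ι := MorphismProperty.of_isPullback (isPullback_morphismRestrict g U) ‹_›
  have huN : u ∈ N := fun hu => by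
    obtain ⟨c, hc, hcu⟩ := Sga84.exists_specializes_of_mem_closure U''.ι hC hu
    obtain ⟨o, -, ho⟩ := Flat.generalizingMap k (show U''.ι c ⤳ k ⟨_, hv⟩ from hvu.symm ▸ hcu)
    exact hc ⟨o, ho⟩
  let kN := k ∣_ N
  have : IsClosedImmersion kN := IsZariskiLocalAtTarget.restrict ‹IsClosedImmersion k› N
  have hdomS : IsSchemeTheoreticallyDominant U''.ι :=
    IsSchemeTheoreticallyDominant.of_isPullback (isPullback_morphismRestrict g U)
  let j₀ : (N.ι ⁻¹ᵁ U'').toScheme ⟶ N := (N.ι ⁻¹ᵁ U'').ι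
  have : IsSchemeTheoreticallyDominant j₀ :=
    IsSchemeTheoreticallyDominant.of_isPullback (isPullback_morphismRestrict N.ι U'')
  let s₀ : (N.ι ⁻¹ᵁ U'').toScheme ⟶ P := (N.ι ∣_ U'') ≫ inv (p ∣_ U'') ≫ (p ⁻¹ᵁ U'').ι
  have hs₀ : s₀ ≫ p = j₀ ≫ N.ι := by
    simp only [s₀, j₀, Category.assoc, ← morphismRestrict_ι, IsIso.inv_hom_id_assoc]
  have hrange : Set.range s₀ ⊆ Set.range O.ι := by
    rintro _ ⟨z, rfl⟩
    rw [Scheme.Opens.range_ι]
    by_contra hz
    have hb : p (s₀ z) = N.ι (j₀ z) := by rw [← Scheme.Hom.comp_apply, hs₀]; rfl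
    refine (j₀ z).2 (subset_closure ⟨(N.ι ∣_ U'') z, fun ⟨o, ho⟩ => hz ?_, morphismRestrict_base_coe _ _ z⟩)
    have : (O.ι o : P) = s₀ z := p.injective
      (ho.trans ((morphismRestrict_base_coe N.ι U'' z).trans hb.symm))
    exact this ▸ o.2
  let s₁ := IsOpenImmersion.lift O.ι s₀ hrange
  have hs₁ : s₁ ≫ k = j₀ ≫ N.ι := by
    rw [IsOpenImmersion.lift_fac_assoc, hs₀]
  let s₂ := (isPullback_morphismRestrict k N).lift j₀ s₁ hs₁.symm
  have : IsIso kN := isIso_of_factor kN j₀ s₂ (IsPullback.lift_fst _ _ _ _)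
  -- the base change to `N` is an isomorphism
  let σ : N.toScheme ⟶ P := inv kN ≫ (k ⁻¹ᵁ N).ι ≫ O.ι
  have hσ : σ ≫ p = N.ι := by
    show (inv kN ≫ (k ⁻¹ᵁ N).ι ≫ O.ι) ≫ p = N.ι
    rw [Category.assoc, Category.assoc, ← morphismRestrict_ι, IsIso.inv_hom_id_assoc]
  let g' : N.toScheme ⟶ S := N.ι ≫ g
  have : UniversallyOpen g' := inferInstance
  let W : S.Opens := ⟨Set.range g', g'.isOpenMap.isOpen_range⟩
  let gW : N.toScheme ⟶ W := IsOpenImmersion.lift W.ι g' (by rw [Scheme.Opens.range_ι]; rfl)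
  have hgW : gW ≫ W.ι = g' := IsOpenImmersion.lift_fac _ _ _
  refine ⟨W, ⟨⟨u, huN⟩, hgu⟩, ?_⟩
  have : Etale gW := by
    have : Etale (gW ≫ W.ι) := by rw [hgW]; infer_instance
    exact MorphismProperty.of_postcomp (W := @Etale) gW W.ι (inferInstance : Etale W.ι) this
  have : Surjective gW := ⟨fun y => by
    obtain ⟨n, hn⟩ := y.2
    refine ⟨n, Subtype.ext ?_⟩
    exact (congrArg (fun t : N.toScheme ⟶ S => t n) hgW).trans hn⟩
  have hcov : (@Surjective ⊓ @Flat ⊓ @LocallyOfFinitePresentation : MorphismProperty Scheme.{u}) gW :=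
    ⟨⟨inferInstance, inferInstance⟩, inferInstance⟩
  refine MorphismProperty.of_pullback_fst_of_descendsAlong (P := MorphismProperty.isomorphisms Scheme.{u})
    (Q := @Surjective ⊓ @Flat ⊓ @LocallyOfFinitePresentation) (f := gW) (g := f ∣_ W) hcov ?_
  show IsIso (pullback.fst gW (f ∣_ W))
  have hmono : Mono (f ∣_ W) :=
    MorphismProperty.of_isPullback (P := MorphismProperty.monomorphisms Scheme.{u})
      (isPullback_morphismRestrict f W).flip ‹Mono f›
  let sec : N.toScheme ⟶ (f ⁻¹ᵁ W).toScheme := IsOpenImmersion.lift (f ⁻¹ᵁ W).ι (σ ≫ pullback.fst f g) (by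
    rw [Scheme.Opens.range_ι]
    rintro _ ⟨n, rfl⟩
    show f ((σ ≫ pullback.fst f g) n) ∈ W
    rw [← Scheme.Hom.comp_apply, Category.assoc, pullback.condition, ← Category.assoc, hσ]
    exact ⟨n, rfl⟩)
  have hsec : sec ≫ (f ∣_ W) = gW := by
    rw [← cancel_mono W.ι, hgW, Category.assoc, morphismRestrict_ι, IsOpenImmersion.lift_fac_assoc,
      Category.assoc, pullback.condition, ← Category.assoc, hσ]
  refine ⟨pullback.lift (𝟙 _) sec (by rw [Category.id_comp, hsec]), ?_, pullback.lift_fst _ _ _⟩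
  have : Mono (pullback.fst gW (f ∣_ W)) := pullback.fst_of_mono
  rw [← cancel_mono (pullback.fst gW (f ∣_ W)), Category.assoc, pullback.lift_fst, Category.comp_id,
    Category.id_comp]

/-- The morphism is an open immersion. -/
theorem isOpenImmersion_of_iso_over_dense [IsSeparated f] [LocallyOfFiniteType f] [Flat f]
    (U : S.Opens) [QuasiCompact U.ι] [IsSchemeTheoreticallyDominant U.ι] [IsIso (f ∣_ U)] :
    IsOpenImmersion f := by
  choose W hW hWi using exists_iso_nhd f U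
  let T : S.Opens := ⨆ x, W x
  have hr : ∀ x, f x ∈ T := fun x => Opens.mem_iSup.2 ⟨x, hW x⟩
  have htop : f ⁻¹ᵁ T = ⊤ := top_le_iff.1 fun x _ => hr x
  have : IsIso (f ∣_ T) := by
    refine IsZariskiLocalAtTarget.of_iSup_eq_top (P := MorphismProperty.isomorphisms Scheme.{u})
      (fun x => T.ι ⁻¹ᵁ W x) ?_ fun x => ?_
    · rw [← Scheme.Hom.preimage_iSup, Scheme.Opens.ι_preimage_self]
    · refine (MorphismProperty.arrow_mk_iso_iff _ (morphismRestrictRestrict f _ _)).mpr ?_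
      rw [Scheme.Hom.image_preimage_eq_opensRange_inf, Scheme.Opens.opensRange_ι,
        inf_eq_right.mpr (le_iSup W x)]
      exact hWi x
  have : IsIso (f ⁻¹ᵁ T).ι := by rw [htop]; exact (inferInstance : IsIso X.topIso.hom)
  rw [show f = inv (f ⁻¹ᵁ T).ι ≫ (f ∣_ T) ≫ T.ι by rw [morphismRestrict_ι, IsIso.inv_hom_id_assoc]]
  infer_instance

end Groth.Agent.LimTop61
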