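import Groth.Agent.QG99.ValFlatFinite
import Groth.Agent.E4O.BaseChangeDim
import Groth.Agent.E4O.GenOpen
import Groth.Agent.FBase64.Cons.CompDimsTop
import Groth.Agent.Norm57.GenPoints

/-!
A flat proper finitely presented morphism that is finite over a dense open is finite.
-/

set_option autoImplicit false
set_option backward.isDefEq.respectTransparency.types false

universe u

open CategoryTheory CategoryTheory.Limits AlgebraicGeometry TopologicalSpace

namespace Groth.Agent.LimTop61

variable {X S : Scheme.{u}} (f : X ⟶ S)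

/-- Finite fibres are those all of whose components have dimension zero. -/
theorem finite_fibre_iff_dims [LocallyOfFiniteType f] [QuasiCompact f] (s : S) :
    (f ⁻¹' {s}).Finite ↔ (fun T : Set ↥(Set.univ ∩ ⇑f ⁻¹' {s}) => topologicalKrullDim ↥T) ''
      irreducibleComponents ↥(Set.univ ∩ ⇑f ⁻¹' {s}) ⊆ {0} := by
  let h : f.fiber s ≃ₜ ↥(Set.univ ∩ ⇑f ⁻¹' {s}) :=
    (f.fiberHomeo s).trans (Homeomorph.setCongr (Set.univ_inter _).symm)
  change _ ↔ FBase64.CompDims.compDims ↥(Set.univ ∩ ⇑f ⁻¹' {s}) ⊆ {0}
  rw [← FBase64.CompDims.compDims_congr h]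
  haveI : LocallyOfFiniteType (f.fiberToSpecResidueField s) :=
    MorphismProperty.pullback_snd _ _ inferInstance
  constructor
  · intro hfin
    haveI : Finite (f.fiber s) := (f.fiberHomeo s).finite_iff.mpr hfin.to_subtype
    haveI : LocallyQuasiFinite (f.fiberToSpecResidueField s) :=
      .of_finite_preimage_singleton _ fun _ => Set.toFinite _
    haveI : DiscreteTopology (f.fiber s) := by
      rw [discreteTopology_iff_isOpen_singleton]
      intro x
      have hd := (f.fiberToSpecResidueField s).isDiscrete_preimage_singleton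
        (f.fiberToSpecResidueField s x)
      have hu : (f.fiberToSpecResidueField s) ⁻¹' {f.fiberToSpecResidueField s x} = Set.univ :=
        Set.eq_univ_of_forall fun y => Subsingleton.elim _ _
      rw [hu, isDiscrete_iff_discreteTopology] at hd
      haveI := hd
      haveI := (Homeomorph.Set.univ (f.fiber s)).discreteTopology
      exact isOpen_discrete _
    rintro _ ⟨T, hT, rfl⟩
    haveI : Nonempty T := hT.1.nonempty.to_subtype
    haveI : Nonempty (IrreducibleCloseds T) :=
      ⟨⟨closure {Classical.arbitrary T}, isIrreducible_singleton.closure, isClosed_closure⟩⟩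
    exact le_antisymm (topologicalKrullDim_zero_of_discreteTopology T) Order.krullDim_nonneg
  · intro hd
    haveI : IsLocallyNoetherian (f.fiber s) :=
      LocallyOfFiniteType.isLocallyNoetherian (f.fiberToSpecResidueField s)
    haveI : AlgebraicGeometry.IsNoetherian (f.fiber s) := { }
    have hsing : ∀ T ∈ irreducibleComponents (f.fiber s), T.Subsingleton := by
      intro T hT
      haveI : QuasiSober (f.fiber s) := inferInstance
      obtain ⟨x, hx⟩ := QuasiSober.sober hT.1 (isClosed_of_mem_irreducibleComponents T hT)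
      have h0 : topologicalKrullDim T ≤ 0 := (hd ⟨T, hT, rfl⟩ : topologicalKrullDim T = 0).le
      intro a ha b hb
      suffices ∀ a ∈ T, a = x from (this a ha).trans (this b hb).symm
      intro a ha
      rw [topologicalKrullDim, Order.krullDim_nonpos_iff_forall_isMax] at h0
      let A : IrreducibleCloseds T := ⟨closure {⟨a, ha⟩}, isIrreducible_singleton.closure, isClosed_closure⟩
      let B : IrreducibleCloseds T := ⟨closure {⟨x, hx.mem⟩}, isIrreducible_singleton.closure, isClosed_closure⟩
      have hAB : A ≤ B := show closure {(⟨a, ha⟩ : T)} ⊆ closure {⟨x, hx.mem⟩} from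
        specializes_iff_closure_subset.1 ((subtype_specializes_iff _ _).2 (hx.specializes ha))
      have hxa : (⟨a, ha⟩ : T) ⤳ ⟨x, hx.mem⟩ :=
        specializes_iff_mem_closure.2 ((h0 A hAB) (subset_closure rfl))
      exact (((subtype_specializes_iff _ _).1 hxa).antisymm (hx.specializes ha)).eq
    have : (Set.univ : Set (f.fiber s)).Finite := by
      rw [← sUnion_irreducibleComponents]
      exact (NoetherianSpace.finite_irreducibleComponents).sUnion fun T hT => (hsing T hT).finite
    haveI : Finite (f.fiber s) := Set.finite_univ_iff.1 this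
    exact Set.finite_coe_iff.1 ((f.fiberHomeo s).finite_iff.1 inferInstance)

/-- For a flat proper morphism finiteness of fibres propagates to specializations. -/
theorem finite_fibre_of_specializes [Flat f] [IsProper f] {η s : S} (h : η ⤳ s)
    {V0 : S.Opens} [IsFinite (f ∣_ V0)] (hη : η ∈ V0) : (f ⁻¹' {s}).Finite := by
  obtain ⟨R, _, _, _, w, hw0, hw1⟩ := E4O.exists_valuationRing_hom h
  let a : Spec (CommRingCat.of (FractionRing R)) ⟶ Spec (CommRingCat.of R) :=
    Spec.map (CommRingCat.ofHom (algebraMap R (FractionRing R)))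
  have ha : ∀ p, a p = (⟨⊥, Ideal.isPrime_bot⟩ : PrimeSpectrum R) := fun p => by
    refine PrimeSpectrum.ext (le_bot_iff.1 fun r hr => ?_)
    show r ∈ (⊥ : Ideal R)
    rw [Ideal.mem_bot]
    by_contra hr0
    exact p.isPrime.ne_top (Ideal.eq_top_of_isUnit_mem _ hr
      ((IsFractionRing.injective R (FractionRing R)).ne_iff' (map_zero _) |>.2 hr0).isUnit)
  have hrange : Set.range (a ≫ w) ⊆ Set.range V0.ι := by
    rintro _ ⟨p, rfl⟩
    rw [Scheme.Opens.range_ι, Scheme.Hom.comp_apply, ha p]
    exact hw0.symm ▸ hη
  let l := IsOpenImmersion.lift V0.ι (a ≫ w) hrange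
  have hl : l ≫ V0.ι = a ≫ w := IsOpenImmersion.lift_fac _ _ _
  haveI : IsFinite (pullback.snd (pullback.snd f w) a) := by
    have h1 : IsPullback (pullback.fst (f ∣_ V0) l ≫ (f ⁻¹ᵁ V0).ι) (pullback.snd (f ∣_ V0) l) f (a ≫ w) := by
      rw [← hl]
      exact (IsPullback.of_hasPullback (f ∣_ V0) l).paste_horiz (isPullback_morphismRestrict f V0).flip
    have h2 : IsPullback (pullback.fst (pullback.snd f w) a ≫ pullback.fst f w)
        (pullback.snd (pullback.snd f w) a) f (a ≫ w) :=
      (IsPullback.of_hasPullback (pullback.snd f w) a).paste_horiz (IsPullback.of_hasPullback f w)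
    rw [← h2.isoIsPullback_hom_snd X _ h1]
    infer_instance
  haveI : IsFinite (pullback.snd f w) := QG99.isFinite_of_flat_isProper (pullback.snd f w)
  refine (((pullback.snd f w).finite_preimage_singleton (IsLocalRing.closedPoint R)).image
    (pullback.fst f w)).subset fun x hx => ?_
  obtain ⟨z, hz1, hz2⟩ := Scheme.exists_preimage_of_isPullback (IsPullback.of_hasPullback f w) x
    (IsLocalRing.closedPoint R) ((show f x = s from hx).trans hw1.symm)
  exact ⟨z, hz2, hz1⟩

/-- A flat proper finitely presented morphism that is finite over a dense open is finite. -/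
theorem isFinite_of_dense [Flat f] [IsProper f] [LocallyOfFinitePresentation f] (U : S.Opens)
    (hU : Dense (U : Set S)) [IsFinite (f ∣_ U)] : IsFinite f := by
  let G : Set S := {s | (f ⁻¹' {s}).Finite}
  have hUG : ∀ s ∈ U, s ∈ G := fun s hs => finite_fibre_of_specializes f (specializes_refl s) hs
  have hG : Topology.IsLocallyConstructible G := by
    have key := FBase64.CompDims.isLocallyConstructible_compDims f Set.univ
      Topology.IsConstructible.univ.isLocallyConstructible
      (fun s => by simp only [Set.preimage_univ]; exact isClosed_univ.isLocallyClosed)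
    convert (key {0}).union (key ∅) using 1
    ext s
    simp only [G, Set.mem_ofPred_eq, Set.mem_union]
    rw [finite_fibre_iff_dims, Set.subset_singleton_iff_eq, or_comm]
    exact Iff.rfl
  have hall : ∀ s, s ∈ G := by
    intro s
    obtain ⟨η, hη, hηs⟩ := Norm57.exists_isMax'_specializes s
    obtain ⟨z, hz, hzη⟩ := E4O.exists_specializes_of_mem_closure_isLocallyConstructible hG
      (closure_mono (show (U : Set S) ⊆ G from hUG) (hU η))
    have hηG : η ∈ G := hη z hzη ▸ hz
    let V0 : S.Opens := ⟨_, (f.isClosedMap _ f.quasiFiniteLocus.isOpen.isClosed_compl).isOpen_compl⟩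
    haveI : IsFinite (f ∣_ V0) := by
      suffices LocallyQuasiFinite (f ∣_ V0) from .of_isProper_of_locallyQuasiFinite _
      rw [← Scheme.Hom.quasiFiniteLocus_eq_top_iff]
      ext x
      have : f.QuasiFiniteAt ((f ⁻¹ᵁ V0).ι x) := by by_contra H; exact x.2 ⟨_, H, by simp⟩
      rw [← Scheme.Hom.quasiFiniteAt_comp_iff_of_isOpenImmersion, ← morphismRestrict_ι,
        Scheme.Hom.quasiFiniteAt_comp_iff] at this
      simpa
    refine finite_fibre_of_specializes f hηs (V0 := V0) ?_
    rintro ⟨x, hx, hxη⟩
    haveI : Finite (f.fiber (f x)) := (f.fiberHomeo (f x)).finite_iff.mpr (hxη ▸ hηG).to_subtype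
    exact hx (Scheme.Hom.quasiFiniteAt_iff_isOpen_singleton_asFiber.mpr (isOpen_discrete _))
  haveI : LocallyQuasiFinite f := .of_finite_preimage_singleton f hall
  exact .of_isProper_of_locallyQuasiFinite f

end Groth.Agent.LimTop61
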