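import Mathlib.AlgebraicGeometry.Morphisms.Flat
import Mathlib.AlgebraicGeometry.Morphisms.FinitePresentation
import Mathlib.AlgebraicGeometry.Morphisms.ClosedImmersion
import Mathlib.RingTheory.Flat.Localization
import Mathlib.RingTheory.Jacobson.Ideal
import Mathlib.AlgebraicGeometry.Morphisms.Affine

/-!
# Flat semi-localisation along a closed subset of an affine scheme
-/

set_option autoImplicit false
set_option linter.style.haveILetI false
set_option backward.isDefEq.respectTransparency false
universe u

open CategoryTheory CategoryTheory.Limits AlgebraicGeometry Topology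

namespace Groth.Agent.LimTop61

/-- The ring map of an affine morphism is flat at a prime when the stalk map is. -/
theorem flat_algebraMap_localization_of_flat_stalkMap {A B : CommRingCat.{u}} (φ : A ⟶ B)
    (p : PrimeSpectrum B) (h : ((Spec.map φ).stalkMap p).hom.Flat) :
    ((algebraMap B (Localization.AtPrime p.asIdeal)).comp φ.hom).Flat := by
  have h' : (Localization.localRingHom (p.comap φ.hom).asIdeal p.asIdeal φ.hom rfl).Flat :=
    (RingHom.Flat.respectsIso.arrow_mk_iso_iff (Scheme.arrowStalkMapSpecIso φ p)).mp h
  have hA : (algebraMap A (Localization.AtPrime (p.comap φ.hom).asIdeal)).Flat :=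
    RingHom.flat_algebraMap_iff.2 (IsLocalization.flat _ (p.comap φ.hom).asIdeal.primeCompl)
  have := RingHom.Flat.comp hA h'
  convert this using 1
  ext a
  exact (Localization.localRingHom_to_map _ _ _ rfl a).symm

/-- A morphism from an affine scheme flat at the points of a closed subset becomes flat on an affine
scheme flat over the source and covering that closed subset. -/
theorem exists_flat_semilocal {V W : Scheme.{u}} [IsAffine V] [IsAffine W] (h : V ⟶ W) {K : Set V}
    (hK : IsClosed K) (hfl : ∀ v ∈ K, (h.stalkMap v).hom.Flat) :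
    ∃ (V' : Scheme.{u}) (g : V' ⟶ V), IsAffine V' ∧ Flat (g ≫ h) ∧ K ⊆ Set.range g := by
  wlog hV : ∃ B, V = Spec B
  · obtain ⟨V', g, h1, h2, h3⟩ := this (V.isoSpec.inv ≫ h)
      (hK.preimage V.isoSpec.inv.continuous) (fun v hv => by
        rw [Scheme.Hom.stalkMap_comp]
        refine RingHom.Flat.comp (hfl _ hv) ?_
        exact RingHom.Flat.of_bijective (ConcreteCategory.bijective_of_isIso (V.isoSpec.inv.stalkMap v)))
      ⟨_, rfl⟩
    refine ⟨V', g ≫ V.isoSpec.inv, h1, by rwa [Category.assoc], fun v hv => ?_⟩
    obtain ⟨w, hw⟩ := V.isoSpec.inv.surjective v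
    subst hw
    obtain ⟨x, rfl⟩ := h3 hv
    exact ⟨x, rfl⟩
  obtain ⟨B, rfl⟩ := hV
  wlog hW : ∃ A, W = Spec A
  · obtain ⟨V', g, h1, h2, h3⟩ := this B (h ≫ W.isoSpec.hom) hK (fun v hv => by
        rw [Scheme.Hom.stalkMap_comp]
        refine RingHom.Flat.comp ?_ (hfl _ hv)
        exact RingHom.Flat.of_bijective (ConcreteCategory.bijective_of_isIso (W.isoSpec.hom.stalkMap _)))
      ⟨_, rfl⟩
    refine ⟨V', g, h1, ?_, h3⟩
    rw [← Category.assoc] at h2
    simpa using Flat.comp _ W.isoSpec.inv (hg := inferInstance) (hf := h2)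
  obtain ⟨A, rfl⟩ := hW
  obtain ⟨φ, rfl⟩ := Spec.map_surjective h
  let J : Ideal B := PrimeSpectrum.vanishingIdeal (R := B) K
  have hJK : PrimeSpectrum.zeroLocus (J : Set B) = K :=
    (PrimeSpectrum.zeroLocus_vanishingIdeal_eq_closure (R := B) K).trans hK.closure_eq
  let M : Submonoid B := (IsUnit.submonoid (B ⧸ J)).comap (Ideal.Quotient.mk J)
  let B' : Type u := Localization M
  let g : Spec (CommRingCat.of B') ⟶ Spec B := Spec.map (CommRingCat.ofHom (algebraMap B B'))
  refine ⟨_, g, inferInstance, ?_, fun v hv => ?_⟩
  · have hjac : ∀ (m : Ideal B') [m.IsMaximal], J ≤ m.comap (algebraMap B B') := fun m hm j hj => by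
      by_contra hjm
      obtain ⟨y, i, hi, hyi⟩ := hm.exists_inv hjm
      obtain ⟨⟨b, s⟩, hbs⟩ := IsLocalization.surj M y
      -- `i = 1 - y * j`, so `s * i = s - b * j`, which is a unit modulo `J`
      have hu : (s : B) - b * j ∈ M := by
        have hs : IsUnit (Ideal.Quotient.mk J (s : B)) := s.2
        change IsUnit (Ideal.Quotient.mk J ((s : B) - b * j))
        rwa [map_sub, map_mul, Ideal.Quotient.eq_zero_iff_mem.2 hj, mul_zero, sub_zero]
      have : algebraMap B B' ((s : B) - b * j) = algebraMap B B' s * i := by
        rw [map_sub, map_mul, ← hbs]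
        linear_combination -(algebraMap B B' (s : B)) * hyi
      exact hm.ne_top (Ideal.eq_top_of_isUnit_mem _
        (this ▸ m.mul_mem_left _ hi) (IsLocalization.map_units B' ⟨_, hu⟩))
    rw [← Spec.map_comp, HasRingHomProperty.Spec_iff (P := @Flat)]
    change ((algebraMap B B').comp φ.hom).Flat
    algebraize [φ.hom]
    rw [show (algebraMap B B').comp φ.hom = algebraMap A B' from (IsScalarTower.algebraMap_eq A B B').symm,
      RingHom.flat_algebraMap_iff]
    refine Module.flat_of_isLocalized_maximal B' B' (fun m _ => Localization.AtPrime m)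
      (fun m _ => Algebra.linearMap _ _) fun m hm => ?_
    haveI : IsLocalization.AtPrime (Localization.AtPrime m) (m.comap (algebraMap B B')) :=
      IsLocalization.isLocalization_isLocalization_atPrime_isLocalization M _ m
    let p : PrimeSpectrum B := ⟨m.comap (algebraMap B B'), inferInstance⟩
    have hp : p ∈ K := by
      rw [← hJK]
      exact hjac m
    have h1 := flat_algebraMap_localization_of_flat_stalkMap φ p (hfl p hp)
    have h2 : Module.Flat A (Localization.AtPrime p.asIdeal) := by
      rw [← RingHom.flat_algebraMap_iff]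
      convert h1
      exact IsScalarTower.algebraMap_eq A B _
    let e : Localization.AtPrime p.asIdeal ≃ₐ[A] Localization.AtPrime m :=
      (IsLocalization.algEquiv p.asIdeal.primeCompl _ _).restrictScalars A
    exact Module.Flat.of_linearEquiv e.symm.toLinearEquiv
  · have hdisj : Disjoint (M : Set B) (v : PrimeSpectrum B).asIdeal := by
      refine Set.disjoint_left.2 fun s hs hsv => ?_
      obtain ⟨t, ht⟩ := hs.exists_left_inv
      obtain ⟨t, rfl⟩ := Ideal.Quotient.mk_surjective t
      rw [← map_mul, ← map_one (Ideal.Quotient.mk J), Ideal.Quotient.eq] at ht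
      have hJv : J ≤ (v : PrimeSpectrum B).asIdeal := (hJK.ge hv : _)
      refine (v : PrimeSpectrum B).isPrime.one_notMem ?_
      have := Ideal.sub_mem _ (Ideal.mul_mem_left _ t hsv) (hJv ht)
      simpa using this
    have hr : (v : PrimeSpectrum B) ∈ Set.range (PrimeSpectrum.comap (algebraMap B B')) := by
      rw [PrimeSpectrum.localization_comap_range B' M]
      exact hdisj
    exact hr

/-- Constructible subsets of affine schemes are quasi-compact. -/
theorem isCompact_of_isConstructible_affine {X : Scheme.{u}} [IsAffine X] {s : Set X}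
    (hs : IsConstructible s) : IsCompact s := by
  wlog hX : ∃ R, X = Spec R
  · let h := X.isoSpec.inv.homeomorph
    have h1 := this (X := Spec Γ(X, ⊤)) (hs.preimage_of_isOpenEmbedding h.isOpenEmbedding) ⟨_, rfl⟩
    have h2 := h1.image h.continuous
    rwa [Set.image_preimage_eq _ h.surjective] at h2
  obtain ⟨R, rfl⟩ := hX
  refine IsConstructible.induction_of_isTopologicalBasis
    (fun r : R => ((Spec R).basicOpen ((Scheme.ΓSpecIso R).inv r) : Set (Spec R))) ?_ ?_ ?_ ?_ s hs
  · convert! PrimeSpectrum.isTopologicalBasis_basic_opens (R := R) using 1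
    congr 1
    funext r
    exact congrArg SetLike.coe (basicOpen_eq_of_affine r)
  · exact fun r => ((isAffineOpen_top (Spec R)).basicOpen _).isCompact
  · intro i t ht
    rw [Set.sdiff_eq]
    exact ((isAffineOpen_top (Spec R)).basicOpen _).isCompact.inter_right
      (isOpen_biUnion fun j _ => ((Spec R).basicOpen ((Scheme.ΓSpecIso R).inv j)).isOpen).isClosed_compl
  · exact fun s _ t _ h₁ h₂ => h₁.union h₂

/-- The complement of a finitely presented closed subscheme of an affine scheme is quasi-compact. -/
theorem isCompact_compl_range {Z W : Scheme.{u}} [IsAffine W] (i : Z ⟶ W) [IsClosedImmersion i]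
    [LocallyOfFinitePresentation i] : IsCompact (Set.range i)ᶜ := by
  haveI : QuasiSeparatedSpace W := inferInstance
  have hc : IsConstructible (Set.range i) := by
    rw [← Set.image_univ]
    exact i.isConstructible_image .univ
  exact isCompact_of_isConstructible_affine hc.compl

end Groth.Agent.LimTop61
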