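import Groth.Agent.Open62.GenFreeIrred
import Groth.Agent.FlatMor68.FlatSections
import Groth.Agent.FlatMor68.LocFree
import Groth.Agent.Props58.LocFree.FP
import Mathlib.AlgebraicGeometry.Morphisms.FinitePresentation

/-!
Generic flatness over an integral base without Noetherian hypotheses.
-/

set_option autoImplicit false
set_option backward.isDefEq.respectTransparency.types false

noncomputable section

universe u

open CategoryTheory Limits AlgebraicGeometry TopologicalSpace Opposite
open Groth.Agent.QC70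

namespace Groth.Agent.LimTop61

/-- Generic freeness of finitely presented modules over a domain. -/
theorem exists_free_away_of_domain {A B : Type u} [CommRing A] [IsDomain A] [CommRing B] [Algebra A B]
    [Algebra.FinitePresentation A B] (M : Type u) [AddCommGroup M] [Module B M] [Module A M]
    [IsScalarTower A B M] [Module.FinitePresentation B M] :
    ∃ t : A, t ≠ 0 ∧ Module.Free (Localization.Away t) (LocalizedModule (Submonoid.powers t) M) := by
  have hp : minimalPrimes A = {⊥} := IsDomain.minimalPrimes_eq_singleton_bot A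
  have hF : IsField (Localization.AtPrime (⊥ : Ideal A)) := by
    rw [IsLocalRing.isField_iff_maximalIdeal_eq, ← Localization.AtPrime.map_eq_maximalIdeal,
      Ideal.map_bot]
  let _ := hF.toField
  obtain ⟨t, ht, h⟩ := Open62.exists_free_away_of_flat_atPrime (⊥ : Ideal A) hp (B := B) M
    (Module.Flat.of_free (R := Localization.AtPrime (⊥ : Ideal A))
      (M := LocalizedModule (⊥ : Ideal A).primeCompl M))
  exact ⟨t, fun h0 => ht (h0 ▸ Submodule.zero_mem _), h⟩

theorem exists_flatOver_nonempty_open {X Y : Scheme.{u}} (u' : X ⟶ Y) [IsIntegral Y]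
    [LocallyOfFinitePresentation u'] [QuasiCompact u'] (F : X.Modules) [F.IsQuasicoherent]
    [CohB1.IsFP F] :
    ∃ U : Y.Opens, (U : Set Y).Nonempty ∧ ∀ x : X, u'.base x ∈ U → FlatMod.IsFlatOverAt u' F x := by
  classical
  obtain ⟨y⟩ : Nonempty Y := inferInstance
  obtain ⟨V, hV, hyV, -⟩ := exists_isAffineOpen_mem_and_subset (X := Y) (x := y) (U := ⊤) trivial
  have : Nonempty (V : Scheme.{u}) := ⟨⟨y, hyV⟩⟩
  obtain ⟨s, hs, hcov⟩ := isCompact_iff_finite_and_eq_biUnion_affineOpens.mp
    (show IsCompact ((u' ⁻¹ᵁ V : X.Opens) : Set X) from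
      QuasiCompact.isCompact_preimage (f := u') _ V.2 hV.isCompact)
  have key : ∀ W ∈ hs.toFinset, ∃ t : Γ(Y, V), t ≠ 0 ∧ ∀ (x : X), x ∈ (W : X.affineOpens).1 →
      u'.base x ∈ Y.basicOpen t → FlatMod.IsFlatOverAt u' F x := by
    intro W hW
    have e : W.1 ≤ u' ⁻¹ᵁ V :=
      (le_iSup₂_of_le (f := fun (W' : X.affineOpens) (_ : W' ∈ s) => W'.1) W
        (hs.mem_toFinset.mp hW) le_rfl).trans hcov.ge
    let φ := u'.appLE V W.1 e
    let _ : Algebra Γ(Y, V) Γ(X, W.1) := φ.hom.toAlgebra
    have : Algebra.FinitePresentation Γ(Y, V) Γ(X, W.1) := u'.finitePresentation_appLE hV W.2 e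
    let _ : Module Γ(Y, V) Γ(F, W.1) := Module.compHom _ φ.hom
    have : IsScalarTower Γ(Y, V) Γ(X, W.1) Γ(F, W.1) := IsScalarTower.of_algebraMap_smul fun _ _ => rfl
    have := Props58.LocFree.finitePresentation_sections F W.2
    obtain ⟨t, ht, hfree⟩ := exists_free_away_of_domain (A := Γ(Y, V)) (B := Γ(X, W.1)) Γ(F, W.1)
    refine ⟨t, ht, fun x hxW hxt => ?_⟩
    let r : Γ(X, W.1) := φ t
    have hr : X.basicOpen r = W.1 ⊓ u' ⁻¹ᵁ Y.basicOpen t := Scheme.basicOpen_appLE u' W.1 V e t
    have e' : X.basicOpen r ≤ u' ⁻¹ᵁ V := (X.basicOpen_le r).trans e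
    refine FlatMor68.FlatSections.flatAt_of_sections u' e' (W.2.basicOpen r) hV
      (isLocAt_of_isQuasicoherent F (W.2.basicOpen r)) ?_ (hr.ge ⟨hxW, hxt⟩)
    let ψ := u'.appLE V (X.basicOpen r) e'
    let _ : Module Γ(Y, V) Γ(F, X.basicOpen r) := Module.compHom _ ψ.hom
    have hψ : ∀ a, resO X (X.basicOpen_le r) (φ a) = ψ a := fun a =>
      congr($(u'.appLE_map e (homOfLE (X.basicOpen_le r)).op) a)
    let l : Γ(F, W.1) →ₗ[Γ(Y, V)] Γ(F, X.basicOpen r) :=
      { toFun := fun m => res F (X.basicOpen_le r) m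
        map_add' := fun a b => res_add _ a b
        map_smul' := fun a m => by
          show res F (X.basicOpen_le r) (φ a • m) = ψ a • _
          rw [res_smul, hψ] }
    have hpow : ∀ (n : ℕ) (m : Γ(F, W.1)), t ^ n • m = r ^ n • m := fun n m => by
      show φ (t ^ n) • m = r ^ n • m
      rw [map_pow]
    have hu : IsUnit (resO X (X.basicOpen_le r) r) := RingedSpace.isUnit_res_basicOpen _ r
    have hloc := isLocAt_of_isQuasicoherent F W.2
    have : IsLocalizedModule.Away t l := by
      refine IsLocalizedModule.Away.mk_of_addCommGroup ?_ (fun z => ?_) (fun m hm => ?_)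
      · rw [Module.End.isUnit_iff]
        show Function.Bijective fun z : Γ(F, X.basicOpen r) => ψ t • z
        rw [← hψ]
        obtain ⟨v, hv⟩ := hu
        rw [show resO X (X.basicOpen_le r) (φ t) = (v : Γ(X, X.basicOpen r)) from hv.symm]
        exact (MulAction.bijective v)
      · obtain ⟨n, m, hm⟩ := hloc.exists_of r z
        refine ⟨n, m, ?_⟩
        show ψ (t ^ n) • z = res F (X.basicOpen_le r) m
        rw [hm, map_pow, ← hψ]
      · obtain ⟨n, hn⟩ := hloc.eq_zero_of r m hm
        exact ⟨n, (hpow n m).trans hn⟩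
    have : Module.Flat Γ(Y, V) (LocalizedModule (Submonoid.powers t) Γ(F, W.1)) := by
      have : Module.Flat Γ(Y, V) (Localization.Away t) := IsLocalization.flat _ (Submonoid.powers t)
      have : Module.Flat (Localization.Away t) (LocalizedModule (Submonoid.powers t) Γ(F, W.1)) :=
        Module.Flat.of_free
      exact Module.Flat.trans Γ(Y, V) (Localization.Away t) _
    exact Module.Flat.of_linearEquiv (IsLocalizedModule.iso (Submonoid.powers t) l).symm
  choose t ht hflat using key
  have : IsDomain Γ(Y, V) := inferInstance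
  let T := ∏ W ∈ hs.toFinset.attach, t W.1 W.2
  have hT : T ≠ 0 := Finset.prod_ne_zero_iff.mpr fun W _ => ht W.1 W.2
  refine ⟨Y.basicOpen T, ?_, fun x hx => ?_⟩
  · rw [Set.nonempty_iff_ne_empty]
    intro h
    exact hT ((basicOpen_eq_bot_iff T).mp (SetLike.coe_injective h))
  · obtain ⟨W, hxW⟩ := Opens.mem_iSup.mp (hcov.le (Y.basicOpen_le T hx : x ∈ u' ⁻¹ᵁ V))
    obtain ⟨hWs, hxW⟩ := Opens.mem_iSup.mp hxW
    have hW := hs.mem_toFinset.mpr hWs
    refine hflat W hW x hxW ?_
    have h2 := hx
    rw [show T = t W hW * ∏ W' ∈ hs.toFinset.attach.erase ⟨W, hW⟩, t W'.1 W'.2 from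
      (Finset.mul_prod_erase _ (fun W' : hs.toFinset => t W'.1 W'.2) (Finset.mem_attach _ ⟨W, hW⟩)).symm,
      Scheme.basicOpen_mul] at h2
    exact h2.1

end Groth.Agent.LimTop61
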