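import Groth.Agent.LimTop61.LowerSemi
import Groth.Agent.SpPts86.HasAtMorBC
import Groth.Agent.SpPts86.Proper
import Groth.Agent.S10308
/-!
Dimensions of fibres of morphisms of algebraic spaces.
-/

set_option autoImplicit false
universe u
open CategoryTheory CategoryTheory.Limits AlgebraicGeometry
open AlgSp Groth.Agent.SpFP87 Groth.Agent.SpPts86

namespace Groth.Agent.LimTop61.SpFibreDim

variable {S : Scheme.{u}} {X Y : Sp S} {f : X ⟶ Y}

theorem subsingleton_points_pt {F : Sp S} (k : FieldPt F) : Subsingleton (Points ((yon S).obj k.pt)) :=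
  haveI : Subsingleton ↥k.pt.left := inferInstanceAs (Subsingleton (PrimeSpectrum k.K))
  (Points.schemeEquiv k.pt).symm.subsingleton

theorem map_toHom {F : Sp S} (k : FieldPt F) (t : Points ((yon S).obj k.pt)) :
    Points.map k.toHom t = Points.mk k := by
  obtain ⟨s, rfl⟩ := (Points.schemeHomeo k.pt).surjective t
  exact (Points.ofPt_eq_map_ofScheme k.toHom s).symm.trans (Points.ofPt_toHom k s)

theorem range_fst {k : FieldPt Y} {Xk : Sp S} {fst : Xk ⟶ X} {snd : Xk ⟶ (yon S).obj k.pt}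
    (sq : IsPullback fst snd f k.toHom) :
    Set.range (Points.map fst) = Points.map f ⁻¹' {Points.mk k} := by
  ext x
  constructor
  · rintro ⟨z, rfl⟩
    show Points.map f (Points.map fst z) = Points.mk k
    rw [← Points.map_comp, sq.w, Points.map_comp, map_toHom]
  · intro hx
    obtain ⟨z, hz, -⟩ := exists_of_isPullback sq x
      (Points.ofScheme k.pt (IsLocalRing.closedPoint k.K)) (by
        rw [map_toHom]
        exact hx)
    exact ⟨z, hz⟩

theorem hasAtMor_congr {p q : WithBot ℕ∞ → Prop} (h : ∀ d, p d ↔ q d) {A B : Sp S} {g : A ⟶ B} {x : Points A} :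
    HasAtMor (fun _ _ h u => p (FlatMor.fibreDimAt h u)) g x ↔
      HasAtMor (fun _ _ h u => q (FlatMor.fibreDimAt h u)) g x := by
  rw [funext fun d => propext (h d)]

theorem hasAtMor_not_iff (hX : IsAlgSpace X) (hY : IsAlgSpace Y) (p : WithBot ℕ∞ → Prop) (x : Points X) :
    HasAtMor (fun _ _ h u => ¬ p (FlatMor.fibreDimAt h u)) f x ↔
      ¬ HasAtMor (fun _ _ h u => p (FlatMor.fibreDimAt h u)) f x := by
  obtain ⟨U, V, a, b, h, u, ha, hb, w, hu⟩ := exists_diagram_through hX hY f x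
  constructor
  · intro h1 h2
    exact forall_diagram_of_hasAtMor hX hY (etInv_fibreDim fun d => ¬ p d) h1 ha hb w hu
      (forall_diagram_of_hasAtMor hX hY (etInv_fibreDim p) h2 ha hb w hu)
  · intro h1
    exact ⟨U, V, a, b, h, u, ha, hb, w, hu, fun h2 => h1 ⟨U, V, a, b, h, u, ha, hb, w, hu, h2⟩⟩

theorem fibreDimAt_of_subsingleton {U V : Scheme.{u}} (h : U ⟶ V) [Subsingleton ↥V] (u : U) :
    FlatMor.fibreDimAt h u = FlatMor.localDim ↥U u := by
  have huniv : h ⁻¹' {h u} = Set.univ := Set.eq_univ_of_forall fun t => Subsingleton.elim _ _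
  rw [E4O.fibreDimAt_eq_localDim,
    E4O.localDim_eq_of_homeomorph ((Homeomorph.setCongr huniv).trans (Homeomorph.Set.univ _))]
  rfl

theorem dim_le_iff_fieldBase {Z : Sp S} (hZ : IsAlgSpace Z) {K : Over S} [Subsingleton ↥K.left]
    (snd : Z ⟶ (yon S).obj K) (d : WithBot ℕ∞) :
    dim Z ≤ d ↔ ∀ z : Points Z, HasAtMor (fun _ _ h u => FlatMor.fibreDimAt h u ≤ d) snd z := by
  have hid : RepWith @Etale (𝟙 ((yon S).obj K)) :=
    haveI : MorphismProperty.ContainsIdentities (@Etale : MorphismProperty Scheme.{u}) := ⟨fun _ => inferInstance⟩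
    repWith_id _ K
  constructor
  · intro hd z
    obtain ⟨U, a, ha, has⟩ := hZ.atlas
    obtain ⟨u, hu⟩ := surjective_ofPt has z
    obtain ⟨h, hh⟩ := (yon S).map_surjective (a ≫ snd)
    refine ⟨U, K, a, 𝟙 _, h, u, ha, hid, by rw [Category.comp_id, hh], hu, ?_⟩
    show FlatMor.fibreDimAt h.left u ≤ d
    rw [fibreDimAt_of_subsingleton]
    exact (TopDim50.localDim_le_dim u).trans
      ((le_iSup_of_le (α := WithBot ℕ∞) U (le_iSup_of_le a
        (le_iSup (α := WithBot ℕ∞) (fun _ : RepWith @Etale a => topologicalKrullDim ↥U.left) ha))).trans hd)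
  · intro H
    refine iSup_le (α := WithBot ℕ∞) fun U => iSup_le fun a => iSup_le fun ha => ?_
    rw [TopDim50.dim_eq_iSup_localDim]
    refine iSup_le fun u => ?_
    obtain ⟨h, hh⟩ := (yon S).map_surjective (a ≫ snd)
    rw [← fibreDimAt_of_subsingleton h.left u]
    exact forall_diagram_of_hasAtMor hZ (IsAlgSpace.yon_obj K) (etInv_fibreDim (· ≤ d)) (H _) ha hid
      (by rw [Category.comp_id, hh]) rfl

variable (hX : IsAlgSpace X) (hY : IsAlgSpace Y) (hf : LocP @LocallyOfFiniteType f)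
include hX hY hf

/-- The dimension of a fibre is bounded by `d` iff the relative dimension is at all points over it. -/
theorem dim_le_iff {k : FieldPt Y} {Xk : Sp S} {fst : Xk ⟶ X} {snd : Xk ⟶ (yon S).obj k.pt}
    (sq : IsPullback fst snd f k.toHom) (d : WithBot ℕ∞) :
    dim Xk ≤ d ↔ ∀ x : Points X, Points.map f x = Points.mk k →
      HasAtMor (fun _ _ h u => FlatMor.fibreDimAt h u ≤ d) f x := by
  haveI : Subsingleton ↥k.pt.left := inferInstanceAs (Subsingleton (PrimeSpectrum k.K))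
  rw [dim_le_iff_fieldBase (isAlgSpace_of_isPullback sq hX (IsAlgSpace.yon_obj _) hY.diag) snd d]
  have key := hasAtMor_fibreDim_baseChange (· ≤ d) sq hX hY (IsAlgSpace.yon_obj _) hf
  constructor
  · intro H x hx
    obtain ⟨z, rfl⟩ := (range_fst sq).ge hx
    exact (key z).1 (H z)
  · intro H z
    exact (key z).2 (H _ ((range_fst sq).le ⟨z, rfl⟩))

theorem lt_dim_iff {k : FieldPt Y} {Xk : Sp S} {fst : Xk ⟶ X} {snd : Xk ⟶ (yon S).obj k.pt}
    (sq : IsPullback fst snd f k.toHom) (d : WithBot ℕ∞) :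
    d < dim Xk ↔ ∃ x : Points X, Points.map f x = Points.mk k ∧
      HasAtMor (fun _ _ h u => d < FlatMor.fibreDimAt h u) f x := by
  rw [← not_le, dim_le_iff hX hY hf sq]
  push Not
  refine exists_congr fun x => and_congr Iff.rfl ?_
  rw [← hasAtMor_not_iff hX hY (· ≤ d) x]
  exact hasAtMor_congr (p := fun e => ¬ e ≤ d) (q := fun e => d < e) fun e => not_le

omit hX hY hf in
theorem forall_fibre_iff (p : WithBot ℕ∞ → Prop) (q : Points Y → Prop)
    (h : ∀ (k : FieldPt Y) (Xk : Sp S) (fst : Xk ⟶ X) (snd : Xk ⟶ (yon S).obj k.pt),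
      IsPullback fst snd f k.toHom → (p (dim Xk) ↔ q (Points.mk k))) :
    {y : Points Y | ∀ (k : FieldPt Y), Points.mk k = y → ∀ (Xk : Sp S) (fst : Xk ⟶ X)
      (snd : Xk ⟶ (yon S).obj k.pt), IsPullback fst snd f k.toHom → p (dim Xk)} = {y | q y} := by
  ext y
  constructor
  · intro hy
    obtain ⟨k, rfl⟩ := Points.mk_surjective y
    exact (h k _ _ _ (IsPullback.of_hasPullback f k.toHom)).1 (hy k rfl _ _ _ (IsPullback.of_hasPullback f k.toHom))
  · intro hy k hk Xk fst snd sq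
    subst hk
    exact (h k Xk fst snd sq).2 hy

omit hX hY hf in
/-- Lower semicontinuity on points of the target. -/
theorem isOpen_image_lt (hfl : LocP @Flat f) (hfp : LocP @LocallyOfFinitePresentation f) (d : WithBot ℕ∞) :
    IsOpen {y : Points Y | ∃ x, Points.map f x = y ∧ HasAtMor (fun _ _ h u => d < FlatMor.fibreDimAt h u) f x} := by
  refine isOpen_iff_forall_mem_open.2 ?_
  rintro _ ⟨x, rfl, U, V, a, b, h, u, ha, hb, w, rfl, hu⟩
  haveI : Flat h.left := hfl a b h ha hb w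
  haveI : LocallyOfFinitePresentation h.left := hfp a b h ha hb w
  have e : ∀ t, Points.map f (Points.ofPt a t) = Points.ofPt b (h.left t) := fun t => by
    rw [Points.map_ofPt, w, ofPt_comp]
  refine ⟨Points.ofPt b '' {v : ↥V.left | d < topologicalKrullDim ↥(h.left.fiber v)}, ?_,
    isOpenMap_ofPt hb _ (LowerSemi.isOpen_lt_fibreDim h.left d),
    ⟨h.left u, lt_of_lt_of_le hu (TopDim50.localDim_le_dim _), (e u).symm⟩⟩
  rintro _ ⟨v, hv, rfl⟩
  obtain ⟨p, hp⟩ : ∃ p : h.left.fiber v, d < FlatMor.localDim ↥(h.left.fiber v) p := by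
    change d < topologicalKrullDim ↥(h.left.fiber v) at hv
    rwa [TopDim50.dim_eq_iSup_localDim, lt_iSup_iff] at hv
  obtain ⟨t, ht, hdt⟩ : ∃ t : U.left, h.left t = v ∧ d < FlatMor.fibreDimAt h.left t := by
    have hx : h.left (h.left.fiberι v p) = v := (h.left.range_fiberι v).le ⟨p, rfl⟩
    generalize hy : h.left.fiberι v p = t at hx
    subst hx
    have hpt : p = h.left.asFiber t := (h.left.fiberι _).isEmbedding.injective
      (hy.trans (Scheme.Hom.fiberι_asFiber h.left t).symm)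
    subst hpt
    exact ⟨t, rfl, hp⟩
  exact ⟨_, (e t).trans (congrArg _ ht), U, V, a, b, h, t, ha, hb, w, rfl, hdt⟩

omit hf in
/-- Upper semicontinuity on points of the target, for a closed map. -/
theorem isClosed_image_not_le (hf : LocP @LocallyOfFiniteType f) (hcl : IsClosedMap (Points.map f)) (n : ℕ) :
    IsClosed {y : Points Y | ∃ x, Points.map f x = y ∧
      HasAtMor (fun _ _ h u => (n : WithBot ℕ∞) < FlatMor.fibreDimAt h u) f x} := by
  have hc := hcl _ ((S10308.result (X := ⟨X, hX⟩) (Y := ⟨Y, hY⟩) ⟨f⟩ hf n).isClosed_compl)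
  convert hc using 1
  ext y
  refine exists_congr fun x => ?_
  rw [and_comm, hasAtMor_congr (q := fun e => ¬ e ≤ (n : WithBot ℕ∞)) fun e => not_le.symm,
    hasAtMor_not_iff hX hY (· ≤ (n : WithBot ℕ∞)) x]
  rfl

/-- Fibres of quasi-compact morphisms locally of finite type are finite dimensional. -/
theorem exists_dim_le (hqc : IsQuasiCompactMor f) {k : FieldPt Y} {Xk : Sp S} {fst : Xk ⟶ X}
    {snd : Xk ⟶ (yon S).obj k.pt} (sq : IsPullback fst snd f k.toHom) :
    ∃ n : ℕ, dim Xk ≤ (n : WithBot ℕ∞) := by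
  haveI : CompactSpace ↥k.pt.left := inferInstanceAs (CompactSpace (PrimeSpectrum k.K))
  haveI : CompactSpace (Points ((yon S).obj k.pt)) := compactSpace_points_yon _
  haveI : CompactSpace (Points Xk) := compactSpace_of_isQuasiCompactMor hqc (IsAlgSpace.yon_obj _) sq
  have hK : IsCompact (Set.range (Points.map fst)) := isCompact_range (Points.continuous_map fst)
  obtain ⟨n, hn⟩ := hK.elim_directed_cover
    (fun n : ℕ => {x : Points X | HasAtMor (fun _ _ h u => FlatMor.fibreDimAt h u ≤ (n : WithBot ℕ∞)) f x})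
    (fun n => S10308.result (X := ⟨X, hX⟩) (Y := ⟨Y, hY⟩) ⟨f⟩ hf n)
    (fun x _ => by
      obtain ⟨U, V, a, b, h, u, ha, hb, w, hu⟩ := exists_diagram_through hX hY f x
      haveI : LocallyOfFiniteType h.left := hf a b h ha hb w
      obtain ⟨z, -, -, hz, -, -⟩ := E4O.exists_fibreDimAt_eq h.left u
      exact Set.mem_iUnion.2 ⟨E4O.fdeg h.left z, U, V, a, b, h, u, ha, hb, w, hu, hz.le⟩)
    (Monotone.directed_le fun m n hmn x ⟨U, V, a, b, h, u, ha, hb, w, hu, hle⟩ =>
      ⟨U, V, a, b, h, u, ha, hb, w, hu, le_trans (a := FlatMor.fibreDimAt h.left u) hle (by exact_mod_cast hmn)⟩)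
  exact ⟨n, (dim_le_iff hX hY hf sq _).2 fun x hx => hn ((range_fst sq).ge hx)⟩

end Groth.Agent.LimTop61.SpFibreDim

namespace Groth.Agent.LimTop61.SpFibreDim

variable {S : Scheme.{u}} {X Y : Sp S} {f : X ⟶ Y}

theorem isClosedMap_of_isUnivClosedMor (hY : IsAlgSpace Y) (hc : IsUnivClosedMor f) :
    IsClosedMap (Points.map f) :=
  hc hY (𝟙 Y) (𝟙 _) _ (IsPullback.of_horiz_isIso ⟨by simp⟩)

theorem lt_succ_iff (x : WithBot ℕ∞) (m : ℕ) :
    x < ((m + 1 : ℕ) : WithBot ℕ∞) ↔ x ≤ (m : WithBot ℕ∞) := by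
  induction x using WithBot.recBotCoe with
  | bot => simp
  | coe x => induction x using ENat.recTopCoe with
    | top =>
      exact ⟨fun h => absurd h (not_lt.2 (WithBot.coe_le_coe.2 le_top)),
        fun h => absurd h (not_le.2 (WithBot.coe_lt_coe.2 (ENat.natCast_lt_top m)))⟩
    | coe x =>
      change ((x : ℕ) : WithBot ℕ∞) < _ ↔ ((x : ℕ) : WithBot ℕ∞) ≤ _
      simp only [Nat.cast_lt, Nat.cast_le, Nat.lt_succ_iff]

theorem lt_zero_iff (x : WithBot ℕ∞) : x < 0 ↔ x ≤ ⊥ := by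
  induction x using WithBot.recBotCoe with
  | bot => simp
  | coe x => simp [← WithBot.coe_zero]

theorem fibreDim_not_le_bot (hX : IsAlgSpace X) (hY : IsAlgSpace Y) (hf : LocP @LocallyOfFiniteType f)
    (x : Points X) : ¬ HasAtMor (fun _ _ h u => FlatMor.fibreDimAt h u ≤ ⊥) f x := by
  rintro ⟨U, V, a, b, h, u, ha, hb, w, -, hle⟩
  haveI : LocallyOfFiniteType h.left := hf a b h ha hb w
  obtain ⟨z, -, -, hz, -, -⟩ := E4O.exists_fibreDimAt_eq h.left u
  exact WithBot.coe_ne_bot (hz.symm.trans (le_bot_iff.1 hle))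

theorem dim_le_bot_iff (hX : IsAlgSpace X) (hY : IsAlgSpace Y) (hf : LocP @LocallyOfFiniteType f)
    {k : FieldPt Y} {Xk : Sp S} {fst : Xk ⟶ X} {snd : Xk ⟶ (yon S).obj k.pt}
    (sq : IsPullback fst snd f k.toHom) : dim Xk ≤ ⊥ ↔ Points.mk k ∉ Set.range (Points.map f) := by
  rw [dim_le_iff hX hY hf sq]
  constructor
  · rintro H ⟨x, hx⟩
    exact fibreDim_not_le_bot hX hY hf x (H x hx)
  · intro H x hx
    exact absurd ⟨x, hx⟩ H

/-- For a proper morphism the locus where the fibre has dimension at most `c` is open (`c = ⊥` or finite). -/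
theorem isOpen_le (hX : IsAlgSpace X) (hY : IsAlgSpace Y) (hf : LocP @LocallyOfFiniteType f)
    (hcl : IsClosedMap (Points.map f)) (c : WithBot ℕ∞) (hc : c ≠ ((⊤ : ℕ∞) : WithBot ℕ∞)) :
    IsOpen {y : Points Y | ∀ (k : FieldPt Y), Points.mk k = y → ∀ (Xk : Sp S) (fst : Xk ⟶ X)
      (snd : Xk ⟶ (yon S).obj k.pt), IsPullback fst snd f k.toHom → dim Xk ≤ c} := by
  induction c using WithBot.recBotCoe with
  | bot =>
    rw [forall_fibre_iff (· ≤ ⊥) (fun y => y ∉ Set.range (Points.map f))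
      fun k Xk fst snd sq => dim_le_bot_iff hX hY hf sq]
    exact hcl.isClosed_range.isOpen_compl
  | coe c => induction c using ENat.recTopCoe with
    | top => exact absurd rfl hc
    | coe m =>
      rw [show ((m : ℕ∞) : WithBot ℕ∞) = (m : WithBot ℕ∞) from rfl, forall_fibre_iff (· ≤ ((m : ℕ) : WithBot ℕ∞)) (fun y => ¬ ∃ x, Points.map f x = y ∧
        HasAtMor (fun _ _ h u => (m : WithBot ℕ∞) < FlatMor.fibreDimAt h u) f x)
        fun k Xk fst snd sq => not_lt.symm.trans (not_congr (lt_dim_iff hX hY hf sq _))]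
      exact (isClosed_image_not_le hX hY hf hcl m).isOpen_compl

theorem isOpen_fibre_lt (hX : IsAlgSpace X) (hY : IsAlgSpace Y) (hf : LocP @LocallyOfFiniteType f)
    (hfl : LocP @Flat f) (hfp : LocP @LocallyOfFinitePresentation f) (d : WithBot ℕ∞) :
    IsOpen {y : Points Y | ∀ (k : FieldPt Y), Points.mk k = y → ∀ (Xk : Sp S) (fst : Xk ⟶ X)
      (snd : Xk ⟶ (yon S).obj k.pt), IsPullback fst snd f k.toHom → d < dim Xk} := by
  rw [forall_fibre_iff (d < ·) (fun y => ∃ x, Points.map f x = y ∧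
    HasAtMor (fun _ _ h u => d < FlatMor.fibreDimAt h u) f x) fun k Xk fst snd sq => lt_dim_iff hX hY hf sq d]
  exact isOpen_image_lt hfl hfp d

end Groth.Agent.LimTop61.SpFibreDim
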