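import Groth.Agent.S10686
import Groth.Agent.Sk62.GeomRedFibre
import Groth.Agent.SpFP87.Reduced
import Groth.Agent.Unr55.EtStalk
import Groth.Agent.SpFP87.FibreNoeth
import Groth.Agent.SpPts86.Charts
import Groth.Agent.LimTop61.SpFibreDim

/-!
# The locus of geometrically reduced fibres of a morphism of algebraic spaces
-/

set_option autoImplicit false
set_option linter.style.haveILetI false
set_option backward.isDefEq.respectTransparency false
universe u

open CategoryTheory CategoryTheory.Limits AlgebraicGeometry AlgSp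
open Groth.Agent.SpFP87 Groth.Agent.SpPts86

namespace Groth.Agent.LimTop61.GeomRedFibres

/-- Geometric reducedness at a point is etale local. -/
theorem isGeomReducedAt_iff_of_etale {k : Type u} [Field k] {U V : Scheme.{u}} (h : U ⟶ V) [Etale h]
    (f : V ⟶ Spec (CommRingCat.of k)) (g : U ⟶ Spec (CommRingCat.of k)) (hg : h ≫ f = g) (u : U) :
    FBase.IsGeomReducedAt g u ↔ FBase.IsGeomReducedAt f (h u) := by
  subst hg
  have key : ∀ (K : Type u) [Field K] [Algebra k K],
      ∃ hK : FBase.bc (h ≫ f) K ⟶ FBase.bc f K, Etale hK ∧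
        hK ≫ FBase.bcπ f K = FBase.bcπ (h ≫ f) K ≫ h ∧
        ∀ y : ↥(FBase.bc f K), FBase.bcπ f K y = h u →
          ∃ x' : ↥(FBase.bc (h ≫ f) K), hK x' = y ∧ FBase.bcπ (h ≫ f) K x' = u := by
    intro K _ _
    let t := Spec.map (CommRingCat.ofHom (algebraMap k K))
    let e := pullbackRightPullbackFstIso f t h
    refine ⟨e.inv ≫ pullback.snd h (pullback.fst f t), ?_, ?_, fun y hy => ?_⟩
    · exact (inferInstance : Etale (e.inv ≫ pullback.snd h (pullback.fst f t)))
    · show (e.inv ≫ pullback.snd h (pullback.fst f t)) ≫ pullback.fst f t = pullback.fst (h ≫ f) t ≫ h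
      rw [Category.assoc, ← pullback.condition, pullbackRightPullbackFstIso_inv_fst_assoc]
    · obtain ⟨w, hw₁, hw₂⟩ := Scheme.Pullback.exists_preimage_pullback (f := h) (g := pullback.fst f t) u y hy.symm
      refine ⟨e.hom w, ?_, ?_⟩
      · show (e.inv ≫ pullback.snd h (pullback.fst f t)) (e.hom w) = y
        rw [← Scheme.Hom.comp_apply, Iso.hom_inv_id_assoc, hw₂]
      · show pullback.fst (h ≫ f) t (e.hom w) = u
        rw [← Scheme.Hom.comp_apply, pullbackRightPullbackFstIso_hom_fst, hw₁]
  constructor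
  · intro hu K _ _ y hy
    obtain ⟨hK, _, -, hlift⟩ := key K
    obtain ⟨x', rfl, hx'⟩ := hlift y hy
    exact (Unr55.isReduced_stalk_iff_of_etale hK x').1 (hu K x' hx')
  · intro hv K _ _ x' hx'
    obtain ⟨hK, _, hc, -⟩ := key K
    refine (Unr55.isReduced_stalk_iff_of_etale hK x').2 (hv K (hK x') ?_)
    show FBase.bcπ f K (hK x') = _
    rw [← Scheme.Hom.comp_apply, hc, Scheme.Hom.comp_apply]
    exact congrArg h hx'

variable {S : Scheme.{u}} {X Y : Space S}

/-- The points over which the fibres are geometrically reduced. -/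
def Good (f : X ⟶ Y) : Set (Points Y.obj) :=
  {y : Points Y.obj | ∀ (k : FieldPt Y.obj), Points.mk k = y →
        ∀ (k' : Type u) [Field k'] (φ : k.K →+* k') (Xk' : Sp S) (a : Xk' ⟶ X.obj)
          (b : Xk' ⟶ (yon S).obj (Over.mk (Spec.map (CommRingCat.ofHom φ) ≫ k.str))),
          IsPullback a b f.hom ((yon S).map (Over.homMk (Spec.map (CommRingCat.ofHom φ)) rfl :
            Over.mk (Spec.map (CommRingCat.ofHom φ) ≫ k.str) ⟶ k.pt) ≫ k.toHom) →
          EtaleLocally (fun U => IsReduced U) Xk'}

/-- The fibre through a point of a morphism of schemes is geometrically reduced at it. -/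
def GR {U V : Scheme.{u}} (h : U ⟶ V) (u : U) : Prop :=
  FBase.IsGeomReducedAt (h.fiberToSpecResidueField (h u)) (h.asFiber u)

theorem gr_iff_fiber {U V : Scheme.{u}} (h : U ⟶ V) (v : V) :
    (∀ u, h u = v → GR h u) ↔ ∀ w : ↥(h.fiber v), FBase.IsGeomReducedAt (h.fiberToSpecResidueField v) w := by
  constructor
  · intro H w
    have hw : h (h.fiberι v w) = v := E4O.apply_fiberι h _ w
    have key : ∀ u, h.fiberι v w = u → h u = v →
        FBase.IsGeomReducedAt (h.fiberToSpecResidueField v) w := by
      intro u hu hv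
      subst hv
      have e : w = h.asFiber u := (h.fiberι (h u)).isEmbedding.injective (hu.trans (h.fiberι_asFiber u).symm)
      rw [e]
      exact H u rfl
    exact key _ rfl hw
  · rintro H u rfl
    exact H _

variable {U V : Over S} {f : X ⟶ Y} {b : (yon S).obj V ⟶ Y.obj} {α : (yon S).obj U ⟶ pullback f.hom b}
  {h : U ⟶ V}

theorem mem_good_iff (hα : RepWith @Etale α) (hαs : RepWith @Surjective α)
    (hh : (yon S).map h = α ≫ pullback.snd f.hom b) (v : ↥V.left) :
    Points.ofPt b v ∈ Good f ↔ ∀ u, h.left u = v → GR h.left u := by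
  have hP : IsAlgSpace (pullback f.hom b) := isAlgSpace_pullback _ _ X.property (IsAlgSpace.yon_obj _) Y.property
  rw [gr_iff_fiber]
  let k : FieldPt Y.obj := FieldPt.ofPt b v
  have hk : Points.mk k = Points.ofPt b v := rfl
  let j : k.pt ⟶ V := Over.homMk (V.left.fromSpecResidueField v) rfl
  have hj : k.toHom = (yon S).map j ≫ b := FieldPt.toHom_ofPt b v
  -- the fibre over an extension of the residue field has the base change of the fibre as chart
  have key : ∀ (K : Type u) [Field K] (φ : k.K →+* K) (XK : Sp S) (a : XK ⟶ X.obj)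
      (c : XK ⟶ (yon S).obj (Over.mk (Spec.map (CommRingCat.ofHom φ) ≫ k.str))),
      IsPullback a c f.hom ((yon S).map (Over.homMk (Spec.map (CommRingCat.ofHom φ)) rfl :
            Over.mk (Spec.map (CommRingCat.ofHom φ) ≫ k.str) ⟶ k.pt) ≫ k.toHom) →
      IsAlgSpace XK ∧ ∃ (T : Over S) (t : (yon S).obj T ⟶ XK), RepWith @Etale t ∧ RepWith @Surjective t ∧
        Nonempty (pullback (h.left.fiberToSpecResidueField v) (Spec.map (CommRingCat.ofHom φ)) ≅ T.left) := by
    intro K _ φ XK a c sq
    rw [hj, ← Category.assoc, ← Functor.map_comp] at sq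
    have hXK := isAlgSpace_of_isPullback sq X.property (IsAlgSpace.yon_obj _) Y.property.diag
    have sqP := IsPullback.of_hasPullback f.hom b
    let pr : XK ⟶ pullback f.hom b := sqP.lift a (c ≫ (yon S).map _) (by rw [sq.w, Category.assoc])
    have hpr : IsPullback pr c (pullback.snd f.hom b) ((yon S).map
        ((Over.homMk (Spec.map (CommRingCat.ofHom φ)) rfl :
            Over.mk (Spec.map (CommRingCat.ofHom φ) ≫ k.str) ⟶ k.pt) ≫ j)) := by
      refine IsPullback.of_right ?_ (sqP.lift_snd _ _ _) sqP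
      rw [sqP.lift_fst]
      exact sq
    obtain ⟨T, t, ht, e, hts⟩ := exists_bc_chart _ (pullback.snd f.hom b) c pr hpr α hα h hh.symm
    exact ⟨hXK, T, t, ht, hts hαs, ⟨pullbackLeftPullbackSndIso h.left (V.left.fromSpecResidueField v)
      (Spec.map (CommRingCat.ofHom φ)) ≪≫ eqToIso e.symm⟩⟩
  constructor
  · intro hG w K _ iA x' _
    letI : Algebra k.K K := iA
    obtain ⟨hXK, T, t, ht, hts, ⟨e⟩⟩ := key K (algebraMap k.K K) _ _ _ (IsPullback.of_hasPullback _ _)
    haveI : IsReduced T.left := isReduced_chart hXK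
      (hG k hk K (algebraMap k.K K) _ _ _ (IsPullback.of_hasPullback _ _)) ht
    haveI : IsReduced (FBase.bc (h.left.fiberToSpecResidueField v) K) := isReduced_of_isOpenImmersion e.hom
    exact inferInstanceAs (_root_.IsReduced ((FBase.bc (h.left.fiberToSpecResidueField v) K).presheaf.stalk x'))
  · intro hw k₁ hk₁
    have T := (Groth.Agent.S10686.result f (Points.ofPt b v)).out 0 1
    refine T.1 ⟨k, hk, fun K _ φ XK a c sq => ?_⟩ k₁ hk₁
    obtain ⟨-, T, t, ht, hts, ⟨e⟩⟩ := key K φ XK a c sq
    refine ⟨T, t, ht, hts, ?_⟩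
    letI : Algebra (IsLocalRing.ResidueField ↑(V.left.presheaf.stalk v)) K := φ.toAlgebra
    haveI : IsReduced (FBase.bc (h.left.fiberToSpecResidueField v) K) :=
      haveI : ∀ x, _root_.IsReduced ((FBase.bc (h.left.fiberToSpecResidueField v) K).presheaf.stalk x) :=
        fun x => hw _ K x rfl
      isReduced_of_isReduced_stalk _
    exact isReduced_of_isOpenImmersion (Y := FBase.bc (h.left.fiberToSpecResidueField v) K) e.inv

/-- Geometric reducedness of the fibre is constant on the points of the chart over a point. -/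
theorem gr_congr (hα : RepWith @Etale α) (hh : (yon S).map h = α ≫ pullback.snd f.hom b)
    {u₁ u₂ : ↥U.left} (e : Points.ofPt α u₁ = Points.ofPt α u₂) (hu : GR h.left u₁) : GR h.left u₂ := by
  have hP : IsAlgSpace (pullback f.hom b) := isAlgSpace_pullback _ _ X.property (IsAlgSpace.yon_obj _) Y.property
  obtain ⟨W, p, q, hp, hq, sq, -, -, -⟩ := exists_common_chart hP hα hα
  obtain ⟨z, hz1, hz2⟩ := exists_pt_common_chart sq u₁ u₂ e
  haveI := hp; haveI := hq
  have hpq : p ≫ h = q ≫ h := (yon S).map_injective (by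
    rw [Functor.map_comp, Functor.map_comp, hh, ← Category.assoc, ← Category.assoc, sq.w])
  have hv : h.left u₂ = h.left u₁ := by
    rw [← hz1, ← hz2, ← Scheme.Hom.comp_apply, ← Scheme.Hom.comp_apply, ← Over.comp_left, ← Over.comp_left, hpq]
  suffices key : ∀ v (hv₁ : h.left u₁ = v) (w₁ w₂ : ↥(h.left.fiber v)),
      h.left.fiberι v w₁ = u₁ → h.left.fiberι v w₂ = u₂ →
      FBase.IsGeomReducedAt (h.left.fiberToSpecResidueField v) w₁ →
      FBase.IsGeomReducedAt (h.left.fiberToSpecResidueField v) w₂ by
    obtain ⟨w₁, hw₁⟩ := E4O.exists_fiberι_eq h.left hv.symm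
    refine key _ hv.symm w₁ _ hw₁ (h.left.fiberι_asFiber u₂) ?_
    have aux : ∀ v (hv : h.left u₁ = v) (w : ↥(h.left.fiber v)), h.left.fiberι v w = u₁ →
        FBase.IsGeomReducedAt (h.left.fiberToSpecResidueField v) w := by
      intro v hv w hw
      subst hv
      rw [(h.left.fiberι (h.left u₁)).isEmbedding.injective (hw.trans (h.left.fiberι_asFiber u₁).symm)]
      exact hu
    exact aux _ hv.symm w₁ hw₁
  rintro v hv₁ w₁ w₂ hw₁ hw₂ hgr
  have hzv : h.left (p.left z) = v := by rw [hz1, hv₁]
  let F := pullback (p.left ≫ h.left) (V.left.fromSpecResidueField v)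
  let sp : F ⟶ h.left.fiber v := (pullbackRightPullbackFstIso h.left (V.left.fromSpecResidueField v) p.left).inv ≫
    pullback.snd p.left (h.left.fiberι v)
  haveI : Etale sp := inferInstanceAs (Etale ((pullbackRightPullbackFstIso h.left _ p.left).inv ≫ pullback.snd _ _))
  have hsp1 : sp ≫ h.left.fiberToSpecResidueField v = pullback.snd _ _ := by
    rw [Category.assoc]
    exact pullbackRightPullbackFstIso_inv_snd_snd _ _ _
  have hsp2 : sp ≫ h.left.fiberι v = pullback.fst _ _ ≫ p.left := by
    show ((pullbackRightPullbackFstIso h.left (V.left.fromSpecResidueField v) p.left).inv ≫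
      pullback.snd p.left (pullback.fst h.left (V.left.fromSpecResidueField v))) ≫ pullback.fst h.left _ = _
    rw [Category.assoc, ← pullback.condition, pullbackRightPullbackFstIso_inv_fst_assoc]
  have e' : p.left ≫ h.left = q.left ≫ h.left := by rw [← Over.comp_left, ← Over.comp_left, hpq]
  let sq' : F ⟶ h.left.fiber v := (pullback.congrHom e' rfl).hom ≫
    (pullbackRightPullbackFstIso h.left (V.left.fromSpecResidueField v) q.left).inv ≫
    pullback.snd q.left (h.left.fiberι v)
  haveI : Etale sq' := inferInstanceAs (Etale ((pullback.congrHom e' rfl).hom ≫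
    (pullbackRightPullbackFstIso h.left _ q.left).inv ≫ pullback.snd _ _))
  have hsq1 : sq' ≫ h.left.fiberToSpecResidueField v = pullback.snd _ _ := by
    show ((pullback.congrHom e' rfl).hom ≫ (pullbackRightPullbackFstIso h.left (V.left.fromSpecResidueField v) q.left).inv ≫
      pullback.snd q.left (pullback.fst h.left (V.left.fromSpecResidueField v))) ≫ pullback.snd h.left _ = _
    rw [Category.assoc, Category.assoc, pullbackRightPullbackFstIso_inv_snd_snd]
    simp [pullback.congrHom_hom]
  have hsq2 : sq' ≫ h.left.fiberι v = pullback.fst _ _ ≫ q.left := by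
    show ((pullback.congrHom e' rfl).hom ≫ (pullbackRightPullbackFstIso h.left (V.left.fromSpecResidueField v) q.left).inv ≫
      pullback.snd q.left (pullback.fst h.left (V.left.fromSpecResidueField v))) ≫ pullback.fst h.left _ = _
    rw [Category.assoc, Category.assoc, ← pullback.condition, pullbackRightPullbackFstIso_inv_fst_assoc,
      ← Category.assoc]
    congr 1
    simp [pullback.congrHom_hom]
  obtain ⟨z', hz', -⟩ := Scheme.Pullback.exists_preimage_pullback (f := p.left ≫ h.left)
    (g := V.left.fromSpecResidueField v) z (IsLocalRing.closedPoint (V.left.residueField v)) (by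
      rw [Scheme.Hom.comp_apply, hzv, Scheme.fromSpecResidueField_apply])
  have e1 : sp z' = w₁ := (h.left.fiberι v).isEmbedding.injective (by
    rw [← Scheme.Hom.comp_apply, hsp2, Scheme.Hom.comp_apply, hz', hz1, hw₁])
  have e2 : sq' z' = w₂ := (h.left.fiberι v).isEmbedding.injective (by
    rw [← Scheme.Hom.comp_apply, hsq2, Scheme.Hom.comp_apply, hz', hz2, hw₂])
  rw [← e2, ← isGeomReducedAt_iff_of_etale sq' _ _ hsq1 z', isGeomReducedAt_iff_of_etale sp _ _ hsp1 z', e1]
  exact hgr

end Groth.Agent.LimTop61.GeomRedFibres
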