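import Groth.Agent.LimTop61.Descent
import Mathlib.AlgebraicGeometry.Morphisms.Separated
import Mathlib.AlgebraicGeometry.Limits

/-!
Gluing morphisms defined at stages of a limit with dominant projections.
-/

set_option autoImplicit false
set_option backward.isDefEq.respectTransparency false
set_option backward.defeqAttrib.useBackward true
universe u

open CategoryTheory CategoryTheory.Limits AlgebraicGeometry TopologicalSpace

namespace Groth.Agent.LimTop61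

variable {J : Type u} [SmallCategory J] [IsCofiltered J] [∀ i j : J, Subsingleton (i ⟶ j)]
  (D : J ⥤ Scheme.{u}) (c : Cone D)
  (hc : IsLimit c) [∀ (i j : J) (f : i ⟶ j), IsAffineHom (D.map f)]

/-- A morphism from an open of a stage agreeing with `g` on the limit. -/
structure StageHom {X : Scheme.{u}} (g : c.pt ⟶ X) (i : J) where
  O : (D.obj i).Opens
  isCompact : IsCompact (O : Set (D.obj i))
  h : O.toScheme ⟶ X
  fac : (c.π.app i ∣_ O) ≫ h = (c.π.app i ⁻¹ᵁ O).ι ≫ g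

/-- Pull back a stage morphism to a later stage. -/
noncomputable def StageHom.pullback {X : Scheme.{u}} {g : c.pt ⟶ X} {i : J} (s : StageHom D c g i)
    {k : J} (φ : k ⟶ i) : StageHom D c g k where
  O := D.map φ ⁻¹ᵁ s.O
  isCompact := isCompact_preimage_map D φ s.isCompact
  h := (D.map φ ∣_ s.O) ≫ s.h
  fac := by
    have e : c.π.app k ⁻¹ᵁ (D.map φ ⁻¹ᵁ s.O) ≤ c.π.app i ⁻¹ᵁ s.O := by
      rw [← Scheme.Hom.comp_preimage, c.w]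
    have : (c.π.app k ∣_ (D.map φ ⁻¹ᵁ s.O)) ≫ (D.map φ ∣_ s.O) =
        c.pt.homOfLE e ≫ (c.π.app i ∣_ s.O) := by
      rw [← cancel_mono s.O.ι]
      simp [morphismRestrict_ι, morphismRestrict_ι_assoc]
    rw [reassoc_of% this, s.fac, Scheme.homOfLE_ι_assoc]

include hc

set_option maxHeartbeats 800000 in
/-- Compatible stage morphisms covering the limit glue at a later stage. -/
theorem exists_hom_stage_of_local [∀ i, IsReduced (D.obj i)] [∀ i, CompactSpace (D.obj i)]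
    [∀ i, QuasiSeparatedSpace (D.obj i)] [CompactSpace c.pt]
    (hd : ∀ i, DenseRange (c.π.app i)) {X : Scheme.{u}} (g : c.pt ⟶ X)
    (H : ∀ x : c.pt, ∃ (i : J) (s : StageHom D c g i), c.π.app i x ∈ s.O) :
    ∃ (i : J) (g' : D.obj i ⟶ X), c.π.app i ≫ g' = g := by
  classical
  choose i₁ s hs using H
  obtain ⟨t, ht⟩ := isCompact_univ.elim_finite_subcover
    (fun x => ((c.π.app (i₁ x) ⁻¹ᵁ (s x).O : c.pt.Opens) : Set c.pt))
    (fun x => (c.π.app (i₁ x) ⁻¹ᵁ (s x).O).2)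
    (fun x _ => Set.mem_iUnion.mpr ⟨x, hs x⟩)
  obtain ⟨i₂, hi₂⟩ := IsCofiltered.inf_objs_exists (t.image i₁)
  have φ₂ (x : t) : i₂ ⟶ i₁ x.1 := (hi₂ (Finset.mem_image_of_mem i₁ x.2)).some
  obtain ⟨i₃, φ₃, h₃⟩ := exists_map_preimage_le_map_preimage D c hc (i := i₂) (U := ⊤)
    (V := ⨆ x : t, D.map (φ₂ x) ⁻¹ᵁ (s x.1).O) isCompact_univ (fun y _ => by
      obtain ⟨x, hx, hxy⟩ := Set.mem_iUnion₂.mp (ht (Set.mem_univ y))
      show c.π.app i₂ y ∈ ⨆ x : t, D.map (φ₂ x) ⁻¹ᵁ (s x.1).O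
      refine Opens.mem_iSup.mpr ⟨⟨x, hx⟩, ?_⟩
      show D.map (φ₂ ⟨x, hx⟩) (c.π.app i₂ y) ∈ (s x).O
      rw [π_apply]
      exact hxy)
  let s₃ (x : t) : StageHom D c g i₃ := (s x.1).pullback D c (φ₃ ≫ φ₂ x)
  have hcov : ∀ z : D.obj i₃, ∃ x : t, z ∈ (s₃ x).O := fun z => by
    obtain ⟨x, hx⟩ := Opens.mem_iSup.mp (h₃ (show z ∈ D.map φ₃ ⁻¹ᵁ ⊤ from trivial))
    refine ⟨x, ?_⟩
    show D.map (φ₃ ≫ φ₂ x) z ∈ (s x.1).O
    rw [D.map_comp, Scheme.Hom.comp_apply]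
    exact hx
  -- the locus of agreement of two of the morphisms
  let E (p : t × t) : Set (D.obj i₃).Opens :=
    {V | ∃ (h₁ : V ≤ (s₃ p.1).O) (h₂ : V ≤ (s₃ p.2).O),
      (D.obj i₃).homOfLE h₁ ≫ (s₃ p.1).h = (D.obj i₃).homOfLE h₂ ≫ (s₃ p.2).h}
  have hE : ∀ p : t × t, c.π.app i₃ ⁻¹ᵁ ((s₃ p.1).O ⊓ (s₃ p.2).O) ≤
      c.π.app i₃ ⁻¹ᵁ sSup (E p) := by
    intro p q hq
    let a := (s₃ p.1)
    let b := (s₃ p.2)
    obtain ⟨_, ⟨(U : X.Opens), (hU : IsAffineOpen U), rfl⟩, (hqU : g q ∈ U), -⟩ :=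
      X.isBasis_affineOpens.exists_subset_of_mem_open (Set.mem_univ (g q)) isOpen_univ
    let V : (D.obj i₃).Opens := a.O.ι ''ᵁ (a.h ⁻¹ᵁ U) ⊓ b.O.ι ''ᵁ (b.h ⁻¹ᵁ U)
    have hval : ∀ (e : StageHom D c g i₃) (hqe : c.π.app i₃ q ∈ e.O),
        c.π.app i₃ q ∈ e.O.ι ''ᵁ (e.h ⁻¹ᵁ U) := by
      intro e hqe
      refine ⟨⟨c.π.app i₃ q, hqe⟩, ?_, rfl⟩
      show e.h ⟨c.π.app i₃ q, hqe⟩ ∈ U
      have hz := congrArg (fun m : (c.π.app i₃ ⁻¹ᵁ e.O).toScheme ⟶ X => m ⟨q, hqe⟩) e.fac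
      simp only [Scheme.Hom.comp_apply] at hz
      have hpt : (c.π.app i₃ ∣_ e.O) ⟨q, hqe⟩ = ⟨c.π.app i₃ q, hqe⟩ := Subtype.ext (morphismRestrict_base _ _ ▸ rfl)
      rw [hpt] at hz
      rw [hz]
      exact hqU
    refine show c.π.app i₃ q ∈ sSup (E p) from Opens.mem_sSup.mpr ⟨V, ?_, hval a hq.1, hval b hq.2⟩
    have h₁ : V ≤ a.O := inf_le_left.trans (Scheme.Opens.ι_image_le _ _)
    have h₂ : V ≤ b.O := inf_le_right.trans (Scheme.Opens.ι_image_le _ _)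
    have e₁ : (⊤ : V.toScheme.Opens) ≤ ((D.obj i₃).homOfLE h₁ ≫ a.h) ⁻¹ᵁ U := fun z _ => by
      obtain ⟨w, hw, hwz⟩ := z.2.1
      show a.h ((D.obj i₃).homOfLE h₁ z) ∈ U
      rwa [show (D.obj i₃).homOfLE h₁ z = w from a.O.ι.isOpenEmbedding.injective (by
        rw [← Scheme.Hom.comp_apply, Scheme.homOfLE_ι]; exact hwz.symm)]
    have e₂ : (⊤ : V.toScheme.Opens) ≤ ((D.obj i₃).homOfLE h₂ ≫ b.h) ⁻¹ᵁ U := fun z _ => by
      obtain ⟨w, hw, hwz⟩ := z.2.2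
      show b.h ((D.obj i₃).homOfLE h₂ z) ∈ U
      rwa [show (D.obj i₃).homOfLE h₂ z = w from b.O.ι.isOpenEmbedding.injective (by
        rw [← Scheme.Hom.comp_apply, Scheme.homOfLE_ι]; exact hwz.symm)]
    let r₁ := IsOpenImmersion.lift U.ι ((D.obj i₃).homOfLE h₁ ≫ a.h) (by
      rw [Scheme.Opens.range_ι]; rintro _ ⟨z, rfl⟩; exact e₁ (Opens.mem_top z))
    let r₂ := IsOpenImmersion.lift U.ι ((D.obj i₃).homOfLE h₂ ≫ b.h) (by
      rw [Scheme.Opens.range_ι]; rintro _ ⟨z, rfl⟩; exact e₂ (Opens.mem_top z))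
    have hr₁ : r₁ ≫ U.ι = (D.obj i₃).homOfLE h₁ ≫ a.h := IsOpenImmersion.lift_fac _ _ _
    have hr₂ : r₂ ≫ U.ι = (D.obj i₃).homOfLE h₂ ≫ b.h := IsOpenImmersion.lift_fac _ _ _
    have : IsAffine U.toScheme := hU
    have : IsDominant (c.π.app i₃ ∣_ V) := ⟨by
      rw [DenseRange, dense_iff_inter_open]
      intro O hO hne
      obtain ⟨o, ho⟩ := hne
      obtain ⟨z, hz⟩ := (hd i₃).exists_mem_open (V.ι.isOpenEmbedding.isOpenMap O hO) ⟨_, o, ho, rfl⟩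
      obtain ⟨w, hw, hwz⟩ := hz
      refine ⟨w, hw, ⟨z, show c.π.app i₃ z ∈ V from hwz ▸ w.2⟩, ?_⟩
      apply V.ι.isOpenEmbedding.injective
      rw [← Scheme.Hom.comp_apply, morphismRestrict_ι, Scheme.Hom.comp_apply]
      exact hwz.symm⟩
    have hfac : ∀ (e : StageHom D c g i₃) (he : V ≤ e.O),
        (c.π.app i₃ ∣_ V) ≫ (D.obj i₃).homOfLE he ≫ e.h = (c.π.app i₃ ⁻¹ᵁ V).ι ≫ g := by
      intro e he
      have : (c.π.app i₃ ∣_ V) ≫ (D.obj i₃).homOfLE he =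
          c.pt.homOfLE ((Opens.map (c.π.app i₃).base).map (homOfLE he)).le ≫ (c.π.app i₃ ∣_ e.O) := by
        rw [← cancel_mono e.O.ι]
        simp [morphismRestrict_ι]
      rw [reassoc_of% this, e.fac, Scheme.homOfLE_ι_assoc]
    have hr : r₁ = r₂ := ext_of_isDominant (c.π.app i₃ ∣_ V) (by
      rw [← cancel_mono U.ι, Category.assoc, Category.assoc, hr₁, hr₂, hfac a h₁, hfac b h₂])
    refine ⟨h₁, h₂, ?_⟩
    rw [← hr₁, hr, hr₂]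
  have hpair : ∀ p : t × t, ∃ (k : J) (ψ : k ⟶ i₃),
      D.map ψ ⁻¹ᵁ ((s₃ p.1).O ⊓ (s₃ p.2).O) ≤ D.map ψ ⁻¹ᵁ sSup (E p) := fun p =>
    exists_map_preimage_le_map_preimage D c hc
      ((s₃ p.1).isCompact.inter_of_isOpen (s₃ p.2).isCompact (s₃ p.1).O.2 (s₃ p.2).O.2) (hE p)
  choose k ψ hk using hpair
  obtain ⟨j, hj⟩ := IsCofiltered.inf_objs_exists (insert i₃ (Finset.univ.image k))
  have φ₄ : j ⟶ i₃ := (hj (Finset.mem_insert_self _ _)).some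
  let s₄ (x : t) : StageHom D c g j := (s₃ x).pullback D c φ₄
  have hF : IsOpenCover (fun x : t => (s₄ x).O) := IsOpenCover.mk (by
    rw [eq_top_iff]
    intro z _
    obtain ⟨x, hx⟩ := hcov (D.map φ₄ z)
    exact Opens.mem_iSup.mpr ⟨x, hx⟩)
  let 𝒰 := (D.obj j).openCoverOfIsOpenCover _ hF
  have hagree : ∀ x y : t, (D.obj j).homOfLE (inf_le_left : (s₄ x).O ⊓ (s₄ y).O ≤ (s₄ x).O) ≫ (s₄ x).h =
      (D.obj j).homOfLE (inf_le_right : (s₄ x).O ⊓ (s₄ y).O ≤ (s₄ y).O) ≫ (s₄ y).h := by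
    intro x y
    let p : t × t := (x, y)
    have χ : j ⟶ k p := (hj (Finset.mem_insert_of_mem (Finset.mem_image_of_mem k (Finset.mem_univ p)))).some
    have hle : (s₄ x).O ⊓ (s₄ y).O ≤ D.map φ₄ ⁻¹ᵁ sSup (E p) := by
      rw [Subsingleton.elim φ₄ (χ ≫ ψ p), D.map_comp, Scheme.Hom.comp_preimage]
      intro z hz
      refine hk p ?_
      have hz' : D.map φ₄ z ∈ (s₃ x).O ⊓ (s₃ y).O := hz
      rw [Subsingleton.elim φ₄ (χ ≫ ψ p), D.map_comp, Scheme.Hom.comp_apply] at hz'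
      exact hz'
    let G : E p → ((s₄ x).O ⊓ (s₄ y).O : (D.obj j).Opens).toScheme.Opens := fun V =>
      ((s₄ x).O ⊓ (s₄ y).O).ι ⁻¹ᵁ (D.map φ₄ ⁻¹ᵁ V.1)
    have hG : IsOpenCover G := IsOpenCover.mk (by
      rw [eq_top_iff]
      intro z _
      obtain ⟨V, hV, hzV⟩ := Opens.mem_sSup.mp (hle z.2)
      exact Opens.mem_iSup.mpr ⟨⟨V, hV⟩, hzV⟩)
    refine (Scheme.openCoverOfIsOpenCover _ G hG).hom_ext _ _ fun ⟨V, h₁, h₂, hV⟩ => ?_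
    show (G ⟨V, h₁, h₂, hV⟩).ι ≫ _ = (G ⟨V, h₁, h₂, hV⟩).ι ≫ _
    let m : (G ⟨V, h₁, h₂, hV⟩).toScheme ⟶ V.toScheme :=
      IsOpenImmersion.lift V.ι ((G ⟨V, h₁, h₂, hV⟩).ι ≫ ((s₄ x).O ⊓ (s₄ y).O).ι ≫ D.map φ₄) (by
        rw [Scheme.Opens.range_ι]
        rintro _ ⟨z, rfl⟩
        exact z.2)
    have hm : m ≫ V.ι = (G ⟨V, h₁, h₂, hV⟩).ι ≫ ((s₄ x).O ⊓ (s₄ y).O).ι ≫ D.map φ₄ :=
      IsOpenImmersion.lift_fac _ _ _
    have hx : m ≫ (D.obj i₃).homOfLE h₁ = (G ⟨V, h₁, h₂, hV⟩).ι ≫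
        (D.obj j).homOfLE (inf_le_left : (s₄ x).O ⊓ (s₄ y).O ≤ (s₄ x).O) ≫ (D.map φ₄ ∣_ (s₃ x).O) := by
      rw [← cancel_mono (s₃ x).O.ι, Category.assoc, Category.assoc, Category.assoc, morphismRestrict_ι]
      refine ((congrArg (m ≫ ·) ((D.obj i₃).homOfLE_ι h₁)).trans hm).trans ?_
      exact congrArg ((G _).ι ≫ ·) (Scheme.homOfLE_ι_assoc _ _ (D.map φ₄)).symm
    have hy : m ≫ (D.obj i₃).homOfLE h₂ = (G ⟨V, h₁, h₂, hV⟩).ι ≫
        (D.obj j).homOfLE (inf_le_right : (s₄ x).O ⊓ (s₄ y).O ≤ (s₄ y).O) ≫ (D.map φ₄ ∣_ (s₃ y).O) := by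
      rw [← cancel_mono (s₃ y).O.ι, Category.assoc, Category.assoc, Category.assoc, morphismRestrict_ι]
      refine ((congrArg (m ≫ ·) ((D.obj i₃).homOfLE_ι h₂)).trans hm).trans ?_
      exact congrArg ((G _).ι ≫ ·) (Scheme.homOfLE_ι_assoc _ _ (D.map φ₄)).symm
    have := congrArg (m ≫ ·) hV
    simp only [reassoc_of% hx, reassoc_of% hy] at this
    exact this
  refine ⟨j, 𝒰.glueMorphisms (fun x => (s₄ x).h) (fun x y => by
    rw [← cancel_epi (isPullback_opens_inf _ _).isoPullback.hom]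
    simpa [𝒰] using! hagree x y), ?_⟩
  refine ((c.pt).openCoverOfIsOpenCover (fun x : t => c.π.app j ⁻¹ᵁ (s₄ x).O)
    (IsOpenCover.mk (eq_top_iff.mpr fun z _ => by
      obtain ⟨x, hx⟩ := hcov (D.map φ₄ (c.π.app j z))
      exact Opens.mem_iSup.mpr ⟨x, hx⟩))).hom_ext _ _ fun x => ?_
  show (c.π.app j ⁻¹ᵁ (s₄ x).O).ι ≫ c.π.app j ≫ _ = (c.π.app j ⁻¹ᵁ (s₄ x).O).ι ≫ g
  rw [← morphismRestrict_ι_assoc, ← (s₄ x).fac]
  exact congrArg (_ ≫ ·) (𝒰.ι_glueMorphisms _ _ x)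

end Groth.Agent.LimTop61
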