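import Groth.Agent.LimTop61.PullSec
import Groth.Agent.Props58.LocFree.FP

/-!
Homomorphisms between inverse images on the limit come from a stage.
-/

set_option autoImplicit false
set_option backward.isDefEq.respectTransparency.types false

noncomputable section

universe u

open CategoryTheory Limits AlgebraicGeometry TopologicalSpace Opposite
open Groth.Agent.QC70 Groth.Agent.QCPull72

namespace Groth.Agent.LimTop61

section Gen

variable {X Y : Scheme.{u}}

lemma unitSec_eq_zero_of_le (f : Y ⟶ X) (G : X.Modules) {U : X.Opens} {V V' : Y.Opens}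
    (e : V ≤ f ⁻¹ᵁ U) (e' : V' ≤ f ⁻¹ᵁ U) (h : V' ≤ V) {x : Γ(G, U)}
    (hx : unitSec f G e x = 0) : unitSec f G e' x = 0 := by
  have := unitSec_res f G e e' le_rfl h x
  rw [res_self, hx, res_zero] at this
  exact this

end Gen

section Stage

variable {I : Type u} [SmallCategory I] [IsCofiltered I] {D : I ⥤ Scheme.{u}} {c : Cone D}
  (hc : IsLimit c) [∀ {i j : I} (f : i ⟶ j), IsAffineHom (D.map f)] {i₀ : I}
  (G : (D.obj i₀).Modules) [G.IsQuasicoherent]

/-- Transition between stages. -/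
abbrev mv {j k : Over i₀} (q : k ⟶ j) (U : (D.obj i₀).Opens) :=
  trSec (D.map j.hom) (D.map q.left) (by rw [← D.map_comp, Over.w]) G (h := D.map k.hom) U

/-- Transition from a stage to the limit. -/
abbrev mvLim (j : Over i₀) (U : (D.obj i₀).Opens) :=
  trSec (D.map j.hom) (c.π.app j.left) (c.w j.hom) G (h := c.π.app i₀) U

variable {U : (D.obj i₀).Opens} (hU : IsAffineOpen U)

include hU in
lemma mvLim_mv {j k : Over i₀} (q : k ⟶ j) (y : Γ(PushPull (D.map j.hom) G, U)) :
    mvLim (c := c) G k U (mv G q U y) = mvLim (c := c) G j U y :=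
  trSec_trSec _ _ _ G _ _ _ _ (c.w q.left) hU y

include hU in
lemma mv_mv {j k l : Over i₀} (q : k ⟶ j) (r : l ⟶ k) (y : Γ(PushPull (D.map j.hom) G, U)) :
    mv G r U (mv G q U y) = mv G (r ≫ q) U y :=
  trSec_trSec _ _ _ G _ _ _ _ (by rw [Over.comp_left, D.map_comp]) hU y

include hc hU in
/-- Sections over an affine open of the limit come from a stage. -/
theorem exists_lift_sec (z : Γ(PushPull (c.π.app i₀) G, U)) :
    ∃ (j : Over i₀) (y : Γ(PushPull (D.map j.hom) G, U)), mvLim (c := c) G j U y = z := by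
  have : IsAffineHom (c.π.app i₀) := isAffineHom_π_app D c hc i₀
  have hz := (span_unitSec_eq_top (c.π.app i₀) G hU (hU.preimage _) le_rfl).ge
    (Submodule.mem_top (x := (show Γ((Scheme.Modules.pullback (c.π.app i₀)).obj G,
      c.π.app i₀ ⁻¹ᵁ U) from z)))
  refine Submodule.span_induction
    (p := fun (z : Γ((Scheme.Modules.pullback (c.π.app i₀)).obj G, c.π.app i₀ ⁻¹ᵁ U)) _ =>
      ∃ (j : Over i₀) (y : Γ(PushPull (D.map j.hom) G, U)), mvLim (c := c) G j U y = z)
    ?_ ?_ ?_ ?_ hz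
  · rintro _ ⟨x, rfl⟩
    exact ⟨Over.mk (𝟙 i₀), unitSec _ G (le_refl _) x, trSec_unitSec _ _ _ G U x⟩
  · exact ⟨Over.mk (𝟙 i₀), 0, map_zero _⟩
  · rintro a b _ _ ⟨j, y, rfl⟩ ⟨k, w, rfl⟩
    obtain ⟨l, p, q, -⟩ := IsCofilteredOrEmpty.cone_objs j k
    exact ⟨l, mv G p U y + mv G q U w, by rw [map_add, mvLim_mv G hU, mvLim_mv G hU]; rfl⟩
  · rintro r a _ ⟨j, y, rfl⟩
    obtain ⟨k, r', hr⟩ := exists_section_stage hc hU r
    obtain ⟨l, p, q, -⟩ := IsCofilteredOrEmpty.cone_objs j k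
    have el : D.map l.hom ⁻¹ᵁ U ≤ D.map q.left ⁻¹ᵁ (D.map k.hom ⁻¹ᵁ U) := by
      rw [← Scheme.Hom.comp_preimage, ← D.map_comp, Over.w]
    let rl : Γ(D.obj l.left, D.map l.hom ⁻¹ᵁ U) := (D.map q.left).appLE _ _ el r'
    refine ⟨l, (show Γ(PushPull (D.map l.hom) G, U) from
      rl • (show Γ((Scheme.Modules.pullback (D.map l.hom)).obj G, D.map l.hom ⁻¹ᵁ U) from
        mv G p U y)), ?_⟩
    have h1 : (c.π.app l.left).appLE (D.map l.hom ⁻¹ᵁ U) (c.π.app i₀ ⁻¹ᵁ U)
        (by rw [← Scheme.Hom.comp_preimage, c.w]) rl = r := by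
      rw [← hr]
      show ((D.map q.left).appLE _ _ el ≫ (c.π.app l.left).appLE _ _ _) r' = _
      rw [Scheme.Hom.appLE_comp_appLE]
      simp only [c.w]
    rw [← mvLim_mv (c := c) G hU p y]
    show ((pullbackCompIso (D.map l.hom) (c.π.app l.left) (c.w l.hom)).hom.app G).app _
      (unitSec (c.π.app l.left) _ _ (rl • _)) = _
    rw [unitSec_smul, Scheme.Modules.Hom.app_smul, h1]
    rfl

include hc hU in
/-- A section killed in the limit is killed at a stage. -/
theorem exists_mv_eq_zero {j : Over i₀} (y : Γ(PushPull (D.map j.hom) G, U))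
    (hy : mvLim (c := c) G j U y = 0) : ∃ (k : Over i₀) (q : k ⟶ j), mv G q U y = 0 := by
  have := isQuasicoherent_pullback (D.map j.hom) G
  obtain ⟨l, hl⟩ := exists_unitSec_eq_zero hc ((Scheme.Modules.pullback (D.map j.hom)).obj G)
    (hU.preimage (D.map j.hom)) y
    (unitSec_eq_zero_of_le _ _ _ _ (by rw [← Scheme.Hom.comp_preimage, c.w])
      ((trSec_eq_zero_iff _ _ _ G y).mp hy))
  refine ⟨Over.mk (l.hom ≫ j.hom), Over.homMk l.hom, (trSec_eq_zero_iff _ _ _ G y).mpr ?_⟩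
  exact unitSec_eq_zero_of_le _ _ _ _
    (le_of_eq (by rw [← Scheme.Hom.comp_preimage, ← D.map_comp]; rfl)) (hl l (𝟙 l))

include hc hU in
/-- Finitely many sections killed in the limit are killed at one stage. -/
theorem exists_mv_eq_zero_finset {j : Over i₀} (s : Finset Γ(PushPull (D.map j.hom) G, U))
    (hs : ∀ y ∈ s, mvLim (c := c) G j U y = 0) :
    ∃ (k : Over i₀) (q : k ⟶ j), ∀ y ∈ s, mv G q U y = 0 := by
  classical
  induction s using Finset.induction with
  | empty => exact ⟨j, 𝟙 j, fun y hy => absurd hy (Finset.notMem_empty y)⟩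
  | insert a t ha ih =>
    obtain ⟨k, q, hk⟩ := ih fun y hy => hs y (Finset.mem_insert_of_mem hy)
    obtain ⟨l, r, hl⟩ := exists_mv_eq_zero hc G hU (mv G q U a)
      (by rw [mvLim_mv G hU]; exact hs a (Finset.mem_insert_self a t))
    refine ⟨l, r ≫ q, fun y hy => ?_⟩
    rw [← mv_mv G hU]
    rcases Finset.mem_insert.mp hy with rfl | hy
    · exact hl
    · rw [hk y hy, map_zero]

include hc hU in
/-- A linear map out of a finitely presented module into sections on the limit comes from a stage. -/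
theorem exists_linear_stage {M : Type u} [AddCommGroup M] [Module Γ(D.obj i₀, U) M]
    [Module.FinitePresentation Γ(D.obj i₀, U) M]
    (h : M →ₗ[Γ(D.obj i₀, U)] Γ(PushPull (c.π.app i₀) G, U)) :
    ∃ (j : Over i₀) (l : M →ₗ[Γ(D.obj i₀, U)] Γ(PushPull (D.map j.hom) G, U)),
      ∀ m, mvLim (c := c) G j U (l m) = h m := by
  classical
  obtain ⟨n, π, hπ⟩ := Module.Finite.exists_fin' Γ(D.obj i₀, U) M
  obtain ⟨w, hw⟩ := Module.FinitePresentation.fg_ker π hπ
  choose jv yv hyv using fun a : Fin n => exists_lift_sec hc G hU (h (π (Pi.single a 1)))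
  obtain ⟨j, hj⟩ := IsCofiltered.inf_objs_exists
    (Finset.univ.image jv ∪ {Over.mk (𝟙 i₀)})
  have q : ∀ a, j ⟶ jv a := fun a =>
    (hj (Finset.mem_union_left _ (Finset.mem_image_of_mem _ (Finset.mem_univ a)))).some
  let b : (Fin n → Γ(D.obj i₀, U)) →ₗ[Γ(D.obj i₀, U)] Γ(PushPull (D.map j.hom) G, U) :=
    (Pi.basisFun _ _).constr ℕ fun a => mv G (q a) U (yv a)
  have hb : (mvLim (c := c) G j U).comp b = h.comp π := by
    refine (Pi.basisFun _ _).ext fun a => ?_
    rw [LinearMap.comp_apply, LinearMap.comp_apply, Module.Basis.constr_basis, mvLim_mv G hU, hyv,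
      Pi.basisFun_apply]
  obtain ⟨k, r, hk⟩ := exists_mv_eq_zero_finset hc G hU (w.image b) (by
    intro y hy
    obtain ⟨v, hv, rfl⟩ := Finset.mem_image.mp hy
    have hv0 : π v = 0 := LinearMap.mem_ker.mp (hw.le (Submodule.subset_span hv))
    exact (LinearMap.congr_fun hb v).trans (by rw [LinearMap.comp_apply, hv0, map_zero]))
  have hker : LinearMap.ker π ≤ LinearMap.ker ((mv G r U).comp b) := by
    rw [← hw, Submodule.span_le]
    intro v hv
    exact hk _ (Finset.mem_image_of_mem _ hv)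
  refine ⟨k, ((LinearMap.ker π).liftQ _ hker).comp
    (π.quotKerEquivOfSurjective hπ).symm.toLinearMap, fun m => ?_⟩
  obtain ⟨v, rfl⟩ := hπ m
  rw [LinearMap.comp_apply, LinearEquiv.coe_coe,
    show (π.quotKerEquivOfSurjective hπ).symm (π v) = Submodule.Quotient.mk v from
      (π.quotKerEquivOfSurjective hπ).injective ((LinearEquiv.apply_symm_apply _ _).trans rfl),
    Submodule.liftQ_apply, LinearMap.comp_apply, mvLim_mv G hU]
  exact LinearMap.congr_fun hb v

set_option maxHeartbeats 1600000 in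
include hc in
/-- A morphism into the direct image of the inverse image on the limit comes from a stage. -/
theorem exists_hom_stage [CompactSpace (D.obj i₀)] [QuasiSeparatedSpace (D.obj i₀)]
    (F : (D.obj i₀).Modules) [F.IsQuasicoherent] [CohB1.IsFP F]
    (h : F ⟶ PushPull (c.π.app i₀) G) :
    ∃ (j : Over i₀) (ψ : F ⟶ PushPull (D.map j.hom) G),
      ∀ (U : (D.obj i₀).Opens), IsAffineOpen U →
        ∀ x, mvLim (c := c) G j U (ψ.app U x) = h.app U x := by
  classical
  obtain ⟨s, hs, hcov⟩ := isCompact_iff_finite_and_eq_biUnion_affineOpens.mp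
    (show IsCompact ((⊤ : (D.obj i₀).Opens) : Set (D.obj i₀)) from isCompact_univ)
  have := hs.to_subtype
  have := Fintype.ofFinite s
  let W : s → (D.obj i₀).Opens := fun a => a.1.1
  have hW : ∀ a, IsAffineOpen (W a) := fun a => a.1.2
  have htop : (⊤ : (D.obj i₀).Opens) ≤ ⨆ a, W a := by
    intro p _
    obtain ⟨U, hpU⟩ := Opens.mem_iSup.mp (hcov.le (Set.mem_univ p : p ∈ (⊤ : (D.obj i₀).Opens)))
    obtain ⟨hUs, hpU⟩ := Opens.mem_iSup.mp hpU
    exact Opens.mem_iSup.mpr ⟨⟨U, hUs⟩, hpU⟩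
  have hl : ∀ a, ∃ (j : Over i₀) (l : Γ(F, W a) →ₗ[Γ(D.obj i₀, W a)] Γ(PushPull (D.map j.hom) G, W a)),
      ∀ m, mvLim (c := c) G j (W a) (l m) = h.app (W a) m := fun a =>
    have := Props58.LocFree.finitePresentation_sections F (hW a)
    exists_linear_stage hc G (hW a) (appLinear h (W a))
  choose ja la hla using hl
  obtain ⟨j, hj⟩ := IsCofiltered.inf_objs_exists (Finset.univ.image ja ∪ {Over.mk (𝟙 i₀)})
  have qa : ∀ a, j ⟶ ja a := fun a =>
    (hj (Finset.mem_union_left _ (Finset.mem_image_of_mem _ (Finset.mem_univ a)))).some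
  let θ : ∀ a, HomOn F (PushPull (D.map j.hom) G) (W a) := fun a =>
    (HomOn.ofLinear (hW a) (la a)).comp (trHomOn (h := D.map j.hom) (D.map (ja a).hom) (D.map (qa a).left)
      (by rw [← D.map_comp, Over.w]) G (W a))
  -- the local morphisms induce `h`
  have hθ : ∀ a (V : (D.obj i₀).Opens) (hV : V ≤ W a) (_ : IsAffineOpen V) (x : Γ(F, V)),
      mvLim (c := c) G j V ((θ a).app V hV x) = h.app V x := by
    intro a V hV hVa x
    have e := (mvLim_mv (c := c) G hVa (qa a) ((HomOn.ofLinear (hW a) (la a)).app V hV x))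
    refine e.trans ?_
    exact HomOn.ext_of_affine (hW a) (isLocAt_of_isQuasicoherent F (hW a))
      ((HomOn.ofLinear (hW a) (la a)).comp (trHomOn (h := c.π.app i₀) (D.map (ja a).hom) (c.π.app (ja a).left) (c.w (ja a).hom) G (W a)))
      (HomOn.ofHom h (W a)) (by
        ext m
        show mvLim (c := c) G (ja a) (W a) ((HomOn.ofLinear (hW a) (la a)).app (W a) le_rfl m) = _
        rw [HomOn.ofLinear_app_self, hla]
        rfl) hV x
  -- finite affine covers of the overlaps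
  have hov : ∀ p : s × s, ∃ t : Set (D.obj i₀).affineOpens, t.Finite ∧
      W p.1 ⊓ W p.2 = ⨆ V ∈ t, (V : (D.obj i₀).Opens) := fun p =>
    isCompact_iff_finite_and_eq_biUnion_affineOpens.mp
      ((hW p.1).isCompact.inter_of_isOpen (hW p.2).isCompact (W p.1).2 (W p.2).2)
  choose t ht htcov using hov
  have hgen : ∀ V : (D.obj i₀).affineOpens, ∃ u : Finset Γ(F, V.1),
      Submodule.span Γ(D.obj i₀, V.1) (u : Set Γ(F, V.1)) = ⊤ := fun V =>
    have := Props58.LocFree.finitePresentation_sections F V.2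
    Module.Finite.fg_top
  choose u hu using hgen
  have hag : ∀ (p : s × s) (V : t p), ∃ (k : Over i₀) (q : k ⟶ j), ∀ x ∈ u V.1,
      mv G q V.1.1 ((θ p.1).app V.1.1 (((le_iSup₂_of_le V.1 V.2 le_rfl).trans (htcov p).ge).trans inf_le_left) x) =
        mv G q V.1.1 ((θ p.2).app V.1.1 (((le_iSup₂_of_le V.1 V.2 le_rfl).trans (htcov p).ge).trans inf_le_right) x) := by
    intro p V
    have hle := (le_iSup₂_of_le (f := fun (W' : (D.obj i₀).affineOpens) (_ : W' ∈ t p) => W'.1)
      V.1 V.2 le_rfl).trans (htcov p).ge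
    obtain ⟨k, q, hk⟩ := exists_mv_eq_zero_finset hc G V.1.2 ((u V.1).image fun x =>
      (θ p.1).app V.1.1 (hle.trans inf_le_left) x - (θ p.2).app V.1.1 (hle.trans inf_le_right) x) (by
        intro y hy
        obtain ⟨x, -, rfl⟩ := Finset.mem_image.mp hy
        rw [map_sub, hθ p.1 _ _ V.1.2, hθ p.2 _ _ V.1.2, sub_self])
    refine ⟨k, q, fun x hx => sub_eq_zero.mp ?_⟩
    rw [← map_sub]
    exact hk _ (Finset.mem_image_of_mem _ hx)
  choose kp qp hkp using hag
  have : ∀ p, Finite (t p) := fun p => (ht p).to_subtype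
  have : ∀ p, Fintype (t p) := fun p => Fintype.ofFinite _
  let T := Σ p : s × s, t p
  have qall : ∃ (k : Over i₀) (q : k ⟶ j), ∀ pv : T, ∃ r : k ⟶ kp pv.1 pv.2, r ≫ qp pv.1 pv.2 = q := by
    let H : Finset (Σ' (X Y : Over i₀) (_ : X ∈ Finset.univ.image (fun pv : T => kp pv.1 pv.2) ∪ {j})
        (_ : Y ∈ Finset.univ.image (fun pv : T => kp pv.1 pv.2) ∪ {j}), X ⟶ Y) :=
      Finset.univ.image fun pv : T => ⟨kp pv.1 pv.2, j,
        Finset.mem_union_left _ (Finset.mem_image_of_mem _ (Finset.mem_univ pv)),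
        Finset.mem_union_right _ (Finset.mem_singleton_self j), qp pv.1 pv.2⟩
    obtain ⟨k, T', hT⟩ := IsCofiltered.inf_exists _ H
    exact ⟨k, T' (Finset.mem_union_right _ (Finset.mem_singleton_self j)), fun pv =>
      ⟨_, hT _ _ (Finset.mem_image_of_mem _ (Finset.mem_univ pv))⟩⟩
  obtain ⟨k, q, hq⟩ := qall
  let φ : ∀ a, HomOn F (PushPull (D.map k.hom) G) (W a) := fun a =>
    (θ a).comp (trHomOn (h := D.map k.hom) (D.map j.hom) (D.map q.left) (by rw [← D.map_comp, Over.w]) G (W a))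
  have hφ : HomOn.Compatible φ := by
    intro a b V hVa hVb x
    refine section_ext _ _ _ fun p hp => ?_
    have hp' : p ∈ ⨆ V ∈ t (a, b), (V : (D.obj i₀).Opens) := (htcov (a, b)).le ⟨hVa hp, hVb hp⟩
    obtain ⟨O, hO⟩ := Opens.mem_iSup.mp hp'
    obtain ⟨hOt, hpO⟩ := Opens.mem_iSup.mp hO
    refine ⟨V ⊓ O.1, inf_le_left, ⟨hp, hpO⟩, ?_⟩
    rw [← (φ a).app_res, ← (φ b).app_res]
    have hO1 : O.1 ≤ W a ⊓ W b :=
      (le_iSup₂_of_le (f := fun (W' : (D.obj i₀).affineOpens) (_ : W' ∈ t (a, b)) => W'.1)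
        O hOt le_rfl).trans (htcov (a, b)).ge
    refine HomOn.ext_of_affine O.2 (isLocAt_of_isQuasicoherent F O.2)
      ((φ a).mono (hO1.trans inf_le_left)) ((φ b).mono (hO1.trans inf_le_right)) ?_ inf_le_right _
    refine LinearMap.ext_on (hu O) fun y hy => ?_
    obtain ⟨r, hr⟩ := hq ⟨(a, b), ⟨O, hOt⟩⟩
    show mv G q O.1 ((θ a).app O.1 (hO1.trans inf_le_left) y) =
      mv G q O.1 ((θ b).app O.1 (hO1.trans inf_le_right) y)
    subst hr
    rw [← mv_mv G O.2, ← mv_mv G O.2]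
    exact congrArg (mv G r O.1) (hkp (a, b) ⟨O, hOt⟩ y hy)
  refine ⟨k, (HomOn.glue hφ htop).toHom, fun U hU x => ?_⟩
  refine section_ext _ _ _ fun p hp => ?_
  obtain ⟨a, ha⟩ := Opens.mem_iSup.mp (htop (show p ∈ (⊤ : (D.obj i₀).Opens) from trivial))
  obtain ⟨_, ⟨V, hV, rfl⟩, hpV, hVUW⟩ := (D.obj i₀).isBasis_affineOpens.exists_subset_of_mem_open
    (show p ∈ (U ⊓ W a : (D.obj i₀).Opens) from ⟨hp, ha⟩) (U ⊓ W a).2
  have hVUW' : V ≤ U ⊓ W a := hVUW
  refine ⟨V, hVUW'.trans inf_le_left, hpV, ?_⟩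
  rw [← trSec_res, ← app_res, ← app_res, HomOn.toHom_app,
    HomOn.glue_app hφ htop le_top a (hVUW'.trans inf_le_right)]
  show mvLim (c := c) G k V (mv G q V ((θ a).app V (hVUW'.trans inf_le_right) _)) = _
  rw [mvLim_mv G hV, hθ a V _ hV]

end Stage

end Groth.Agent.LimTop61
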