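import Groth.Agent.LimTop61.IdealLfp
import Groth.Agent.LimTop61.WrapQC
import Groth.Agent.LimTop61.BaseChange

set_option autoImplicit false
set_option backward.isDefEq.respectTransparency false
set_option backward.defeqAttrib.useBackward true
universe u

open CategoryTheory CategoryTheory.Limits AlgebraicGeometry TopologicalSpace

namespace Groth.Agent.LimTop61

lemma comap_le_comap_iff_isIso {T' T : Scheme.{u}} (K L : T.IdealSheafData) (g : T' ⟶ T)
    {P : Scheme.{u}} (p : P ⟶ T') (q : P ⟶ L.subscheme) (hP : IsPullback p q g L.subschemeι) :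
    K.comap g ≤ L.comap g ↔
      IsIso (pullback.snd (pullback.snd K.subschemeι L.subschemeι) q) := by
  have := @Scheme.IdealSheafData.le_map_iff_comap_le T' T (L.comap g) g K
  rw [← this, map_comap_eq_ker L g g p q hP, hP.w, le_ker_iff_isIso_snd]
  exact (prop_snd_snd_iff (P := MorphismProperty.isomorphisms Scheme.{u}) _ _ _).symm

/-- The comap of an ideal of an affine scheme to an affine scheme. -/
lemma comap_ideal_top {X Y : Scheme.{u}} [IsAffine X] [IsAffine Y] (I : Y.IdealSheafData)
    (f : X ⟶ Y) : I.comap f =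
      Scheme.IdealSheafData.ofIdealTop ((I.ideal ⟨⊤, isAffineOpen_top Y⟩).map f.appTop.hom) := by
  refine eq_of_forall_ge_iff fun M => ?_
  rw [← Scheme.IdealSheafData.le_map_iff_comap_le]
  constructor
  · intro h
    refine Scheme.IdealSheafData.le_of_isAffine ?_
    have := h ⟨⊤, isAffineOpen_top Y⟩
    rw [Scheme.IdealSheafData.ideal_map M f ⟨⊤, isAffineOpen_top Y⟩
        (show IsAffineOpen (f ⁻¹ᵁ ⊤) from isAffineOpen_top X),
      ← Ideal.map_le_iff_le_comap] at this
    simpa using! this
  · intro h
    refine Scheme.IdealSheafData.le_of_isAffine ?_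
    rw [Scheme.IdealSheafData.ideal_map M f ⟨⊤, isAffineOpen_top Y⟩
      (show IsAffineOpen (f ⁻¹ᵁ ⊤) from isAffineOpen_top X), ← Ideal.map_le_iff_le_comap]
    have := h ⟨⊤, isAffineOpen_top X⟩
    simpa using! this

/-- An ideal sheaf of an affine scheme with finitely generated global ideal. -/
lemma lfp_ofIdealTop {X : Scheme.{u}} [IsAffine X] (I : Ideal Γ(X, ⊤)) (hI : I.FG) :
    LocallyOfFinitePresentation (Scheme.IdealSheafData.ofIdealTop I).subschemeι :=
  lfp_of_fg_ideal _ fun U => by
    rw [Scheme.IdealSheafData.ofIdealTop_ideal]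
    exact Ideal.FG.map hI _

variable {I : Type u} [SmallCategory I] [IsCofiltered I] (D : I ⥤ Scheme.{u}) (c : Cone D)
  (hc : IsLimit c) [∀ (i j : I) (f : i ⟶ j), IsAffineHom (D.map f)]

include hc

/-- A containment of finitely presented ideal sheaves in the limit holds at a stage. -/
theorem exists_comap_le_stage {i : I} {T : Scheme.{u}} [CompactSpace T] (a : T ⟶ D.obj i)
    (K L : T.IdealSheafData) [LocallyOfFinitePresentation K.subschemeι]
    (h : K.comap (pullback.fst a (c.π.app i)) ≤ L.comap (pullback.fst a (c.π.app i))) :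
    ∃ (j : I) (φ : j ⟶ i),
      K.comap (pullback.fst a (D.map φ)) ≤ L.comap (pullback.fst a (D.map φ)) := by
  have hlfp := LimDesc62.isStableUnderBaseChange_lfp.{u}
  have hlfp' := LimDesc62.respectsIso_lfp.{u}
  have : CompactSpace L.subscheme := QuasiCompact.compactSpace_of_compactSpace L.subschemeι
  let f₀ := pullback.snd K.subschemeι L.subschemeι
  have hf₀ : LocallyOfFinitePresentation f₀ := MorphismProperty.pullback_snd _ _ ‹_›
  have hsq {S' : Scheme.{u}} (s : S' ⟶ D.obj i) :
      IsPullback (pullback.lift (pullback.fst (L.subschemeι ≫ a) s ≫ L.subschemeι)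
          (pullback.snd (L.subschemeι ≫ a) s) (by rw [Category.assoc, pullback.condition]))
        (pullback.fst (L.subschemeι ≫ a) s) (pullback.fst a s) L.subschemeι := by
    refine (IsPullback.of_bot ?_ (pullback.lift_fst _ _ _).symm (IsPullback.of_hasPullback a s)).flip
    rw [pullback.lift_snd]
    exact IsPullback.of_hasPullback _ _
  obtain ⟨j, φ, hj⟩ := descend_of_compact_target LimDesc62.descProp_isIso D c hc i f₀
    (L.subschemeι ≫ a) hf₀ ((comap_le_comap_iff_isIso K L _ _ _ (hsq (c.π.app i))).mp h)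
  exact ⟨j, φ, (comap_le_comap_iff_isIso K L _ _ _ (hsq (D.map φ))).mpr hj⟩

/-- An equality of finitely presented ideal sheaves in the limit holds at a stage. -/
theorem exists_comap_eq_stage {i : I} {T : Scheme.{u}} [CompactSpace T] (a : T ⟶ D.obj i)
    (K L : T.IdealSheafData) [LocallyOfFinitePresentation K.subschemeι]
    [LocallyOfFinitePresentation L.subschemeι]
    (h : K.comap (pullback.fst a (c.π.app i)) = L.comap (pullback.fst a (c.π.app i))) :
    ∃ (j : I) (φ : j ⟶ i),
      K.comap (pullback.fst a (D.map φ)) = L.comap (pullback.fst a (D.map φ)) := by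
  obtain ⟨j, φ, hj⟩ := exists_comap_le_stage D c hc a K L h.le
  obtain ⟨k, ψ, hk⟩ := exists_comap_le_stage D c hc a L K h.ge
  obtain ⟨m, u, v, e⟩ := IsCofiltered.cospan φ ψ
  refine ⟨m, u ≫ φ, le_antisymm ?_ ?_⟩
  · have := Scheme.IdealSheafData.comap_mono (pullback.map a (D.map (u ≫ φ)) a (D.map φ) (𝟙 T)
      (D.map u) (𝟙 _) (by simp) (by simp)) hj
    simpa [← Scheme.IdealSheafData.comap_comp, pullback.map] using this
  · have := Scheme.IdealSheafData.comap_mono (pullback.map a (D.map (u ≫ φ)) a (D.map ψ) (𝟙 T)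
      (D.map v) (𝟙 _) (by simp) (by simp [e])) hk
    simpa [← Scheme.IdealSheafData.comap_comp, pullback.map] using this

/-- A finitely presented ideal sheaf on an affine limit of affines comes from a stage. -/
theorem exists_comap_eq_of_isAffine [∀ i, IsAffine (D.obj i)] (J : c.pt.IdealSheafData)
    [LocallyOfFinitePresentation J.subschemeι] :
    ∃ (j : I) (K : (D.obj j).IdealSheafData), LocallyOfFinitePresentation K.subschemeι ∧
      K.comap (c.π.app j) = J := by
  classical
  have : IsAffine c.pt := Scheme.isAffine_of_isLimit _ hc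
  obtain ⟨s, hs⟩ := fg_ideal_of_lfp J ⟨⊤, isAffineOpen_top _⟩
  choose i t ht using fun x : s => exists_appTop_π_eq_of_isAffine_of_isLimit D c hc x.1
  obtain ⟨m, hm⟩ := IsCofiltered.inf_objs_exists (s.attach.image i)
  let f (x : s) : m ⟶ i x := (hm (Finset.mem_image_of_mem i (Finset.mem_attach _ x))).some
  let K₀ : Ideal Γ(D.obj m, ⊤) := Ideal.span (Set.range fun x : s => (D.map (f x)).appTop (t x))
  have hK₀ : K₀.FG := ⟨Finset.univ.image fun x : s => (D.map (f x)).appTop (t x), by simp [K₀]⟩
  refine ⟨m, .ofIdealTop K₀, lfp_ofIdealTop K₀ hK₀, ?_⟩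
  have hr : (fun x : s => (c.π.app m).appTop ((D.map (f x)).appTop (t x))) = Subtype.val := by
    funext x
    rw [← CommRingCat.comp_apply, ← Scheme.Hom.comp_appTop, c.w (f x)]
    exact ht x
  have : IsAffine (((Functor.const I).obj c.pt).obj m) := ‹IsAffine c.pt›
  rw [comap_ideal_top]
  refine Scheme.IdealSheafData.ext_of_isAffine ?_
  rw [← hs]
  simp only [Scheme.IdealSheafData.ofIdealTop_ideal]
  simp [K₀, Ideal.map_span, ← Set.range_comp, Function.comp_def]
  erw [show Set.range (fun x : s => (c.π.app m).appTop ((D.map (f x)).appTop (t x))) =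
    (s : Set Γ(c.pt, ⊤)) by rw [hr]; exact Subtype.range_coe]

end Groth.Agent.LimTop61
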