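import Groth.Agent.LimTop61.ConsDescent
import Groth.Agent.LimTop61.FlatClosure
import Groth.Agent.LimTop61.BaseChange
import Mathlib.AlgebraicGeometry.Morphisms.FlatMono
import Mathlib.AlgebraicGeometry.Morphisms.Immersion

set_option autoImplicit false
set_option backward.isDefEq.respectTransparency false
set_option backward.defeqAttrib.useBackward true
universe u

open CategoryTheory CategoryTheory.Limits AlgebraicGeometry Topology

namespace Groth.Agent.LimTop61

/-- An immersion of finite presentation is flat over an open on which it has a section. -/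
lemma flat_stalkMap_of_section {Z Y : Scheme.{u}} (f : Z ⟶ Y) [Mono f] (V : Y.Opens)
    (g : (V : Scheme.{u}) ⟶ Z) (hg : g ≫ f = V.ι) (z : Z) (hz : f z ∈ V) :
    (f.stalkMap z).hom.Flat := by
  let g' : (V : Scheme.{u}) ⟶ (f ⁻¹ᵁ V : Z.Opens) := IsOpenImmersion.lift (f ⁻¹ᵁ V).ι g (by
    rintro _ ⟨x, rfl⟩
    rw [Scheme.Opens.range_ι]
    show f (g x) ∈ V
    rw [← Scheme.Hom.comp_apply, hg]
    exact x.2)
  have hg' : g' ≫ (f ∣_ V) = 𝟙 _ := by
    rw [← cancel_mono V.ι, Category.assoc, morphismRestrict_ι, ← Category.assoc,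
      IsOpenImmersion.lift_fac, hg, Category.id_comp]
  have : IsIso (f ∣_ V) := by
    refine ⟨g', ?_, hg'⟩
    rw [← cancel_mono (f ⁻¹ᵁ V).ι, ← cancel_mono f, Category.assoc, Category.assoc,
      IsOpenImmersion.lift_fac_assoc, hg, Category.id_comp, morphismRestrict_ι]
  exact (RingHom.Flat.respectsIso.arrow_mk_iso_iff (morphismRestrictStalkMap f V ⟨z, hz⟩)).mp
    (Flat.stalkMap (f ∣_ V) ⟨z, hz⟩)

variable {I : Type u} [SmallCategory I] [IsCofiltered I] (D : I ⥤ Scheme.{u}) (c : Cone D)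
  (hc : IsLimit c) [∀ (i j : I) (f : i ⟶ j), IsAffineHom (D.map f)]

/-- The range of a quasi-compact immersion of finite presentation is open and closed in the
constructible topology. -/
lemma isConsClosed_compl_range {Z Y : Scheme.{u}} (f : Z ⟶ Y) [QuasiCompact f]
    [LocallyOfFinitePresentation f] : IsConsClosed (Set.range f)ᶜ := by
  intro U hU
  have h : IsLocallyConstructible (Set.range f) := by
    rw [← Set.image_univ]
    exact f.isLocallyConstructible_image IsLocallyConstructible.univ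
  exact (@IsClopen.compl _ (constructibleTopology (U : Scheme.{u})) _
    (isClopen_cons_of_isLocallyConstructible h hU)).1

include hc

/-- A closed immersion at the limit comes from one at a stage. -/
theorem exists_isClosedImmersion_pullback {i₀ : I} [CompactSpace (D.obj i₀)] {Z₀ : Scheme.{u}}
    (ι₀ : Z₀ ⟶ D.obj i₀) [IsImmersion ι₀] [LocallyOfFinitePresentation ι₀] [QuasiCompact ι₀]
    (h : IsClosedImmersion (pullback.snd ι₀ (c.π.app i₀))) :
    ∃ (j : I) (φ : j ⟶ i₀), IsClosedImmersion (pullback.snd ι₀ (D.map φ)) := by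
  obtain ⟨j, φ, hj⟩ := exists_isOpen_preimage D c hc (i := i₀) (Set.range ι₀)ᶜ
    (isConsClosed_compl_range ι₀)
    (by rw [compl_compl]; exact isConsClosed_range ι₀) (by
      rw [Set.preimage_compl, isOpen_compl_iff, ← Scheme.Pullback.range_snd]
      exact (pullback.snd ι₀ (c.π.app i₀)).isClosedEmbedding.isClosed_range)
  have : IsPreimmersion (pullback.snd ι₀ (D.map φ)) :=
    MorphismProperty.pullback_snd _ _ inferInstance
  refine ⟨j, φ, .of_isPreimmersion _ ?_⟩
  rw [Scheme.Pullback.range_snd, ← isOpen_compl_iff, ← Set.preimage_compl]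
  exact hj

/-- An open immersion at the limit comes from one at a stage. -/
theorem exists_isOpenImmersion_pullback {i₀ : I} [CompactSpace (D.obj i₀)] {Z₀ : Scheme.{u}}
    (ι₀ : Z₀ ⟶ D.obj i₀) [IsImmersion ι₀] [LocallyOfFinitePresentation ι₀] [QuasiCompact ι₀]
    (h : IsOpenImmersion (pullback.snd ι₀ (c.π.app i₀))) :
    ∃ (j : I) (φ : j ⟶ i₀), IsOpenImmersion (pullback.snd ι₀ (D.map φ)) := by
  classical
  obtain ⟨m, φ, hm⟩ := exists_isOpen_preimage D c hc (i := i₀) (Set.range ι₀)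
    (isConsClosed_range ι₀) (isConsClosed_compl_range ι₀) (by
      rw [← Scheme.Pullback.range_snd]
      exact (pullback.snd ι₀ (c.π.app i₀)).isOpenEmbedding.isOpen_range)
  have := compactSpace_of_map D φ
  let R : (D.obj m).Opens := ⟨_, hm⟩
  obtain ⟨S, hS, hcov⟩ := (isCompact_and_isOpen_iff_finite_and_eq_biUnion_affineOpens
    (X := D.obj m) (U := (R : Set (D.obj m)))).mp
    ⟨((isConsClosed_range ι₀).preimage (D.map φ)).isCompact, hm⟩
  have : Finite S := hS
  have hsec (B : S) : ∃ (k : I) (ψ : k ⟶ m)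
      (g : ((D.map ψ ⁻¹ᵁ B.1.1 : (D.obj k).Opens) : Scheme.{u}) ⟶ Z₀),
      g ≫ ι₀ = Scheme.Opens.ι _ ≫ D.map (ψ ≫ φ) := by
    let E := opensDiagram D m B.1.1
    let t : E ⟶ (Functor.const _).obj (D.obj i₀) :=
      { app := fun k => Scheme.Opens.ι (D.map k.hom ⁻¹ᵁ B.1.1) ≫ D.map (k.hom ≫ φ)
        naturality := fun k l a => by
          show E.map a ≫ _ = (_ ≫ _) ≫ 𝟙 _
          rw [Category.comp_id]
          show (D.map a.left).resLE _ _ _ ≫ _ = _
          rw [Scheme.Hom.resLE_comp_ι_assoc, ← D.map_comp, Over.w_assoc a] }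
    have (k : Over m) : IsAffine (E.obj k) := B.1.2.preimage (D.map k.hom)
    have hsub : Set.range (Scheme.Opens.ι (c.π.app m ⁻¹ᵁ B.1.1)) ⊆
        Set.range (pullback.snd ι₀ (c.π.app i₀)) := by
      rw [Scheme.Opens.range_ι, Scheme.Pullback.range_snd]
      intro s hs
      have hs' : c.π.app m s ∈ R := hcov.ge (Set.mem_biUnion B.2 hs)
      show c.π.app i₀ s ∈ Set.range ι₀
      rw [← π_apply D c φ s]
      exact hs'
    let a : (opensCone D c m B.1.1).pt ⟶ Z₀ :=
      IsOpenImmersion.lift (pullback.snd ι₀ (c.π.app i₀)) _ hsub ≫ pullback.fst _ _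
    have ha : a ≫ ι₀ = Scheme.Opens.ι (c.π.app m ⁻¹ᵁ B.1.1) ≫ c.π.app i₀ := by
      simp only [a, Category.assoc]
      rw [pullback.condition, IsOpenImmersion.lift_fac_assoc]
    obtain ⟨k, g, -, hg⟩ := Scheme.exists_π_app_comp_eq_of_locallyOfFinitePresentation E t ι₀ _
      (isLimitOpensCone D c hc m B.1.1) a (by
        ext k : 2
        simp [t, ha])
    exact ⟨k.left, k.hom, g, hg⟩
  choose k ψ g hg using hsec
  obtain ⟨j, χ, χ', hχ⟩ := IsCofiltered.wideCospan ψ
  have : IsPreimmersion (pullback.snd ι₀ (D.map (χ ≫ φ))) :=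
    MorphismProperty.pullback_snd _ _ inferInstance
  have : LocallyOfFinitePresentation (pullback.snd ι₀ (D.map (χ ≫ φ))) :=
    MorphismProperty.pullback_snd _ _ inferInstance
  have : Flat (pullback.snd ι₀ (D.map (χ ≫ φ))) := by
    refine Flat.of_stalkMap _ fun z => ?_
    have hzR : D.map χ (pullback.snd ι₀ (D.map (χ ≫ φ)) z) ∈ (R : Set (D.obj m)) := by
      show D.map φ _ ∈ Set.range ι₀
      refine ⟨pullback.fst ι₀ (D.map (χ ≫ φ)) z, ?_⟩
      rw [← Scheme.Hom.comp_apply, pullback.condition, Scheme.Hom.comp_apply]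
      exact congrArg (fun q : D.obj j ⟶ D.obj i₀ => q (pullback.snd ι₀ (D.map (χ ≫ φ)) z))
        (D.map_comp χ φ)
    obtain ⟨B, hBS, hzB⟩ := Set.mem_iUnion₂.mp (hcov.le hzR)
    have e : χ' ⟨B, hBS⟩ ≫ ψ ⟨B, hBS⟩ = χ := hχ ⟨B, hBS⟩
    let V : (D.obj j).Opens := D.map (χ' ⟨B, hBS⟩) ⁻¹ᵁ D.map (ψ ⟨B, hBS⟩) ⁻¹ᵁ B.1
    let l : (V : Scheme.{u}) ⟶ Z₀ := (D.map (χ' ⟨B, hBS⟩) ∣_ _) ≫ g ⟨B, hBS⟩
    have hl : l ≫ ι₀ = V.ι ≫ D.map (χ ≫ φ) := by
      simp only [l, Category.assoc, hg]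
      rw [← Category.assoc, morphismRestrict_ι, Category.assoc, ← D.map_comp, ← Category.assoc (χ' _),
        e]
    refine flat_stalkMap_of_section _ V (pullback.lift l V.ι hl) (pullback.lift_snd _ _ _) z ?_
    show D.map (ψ ⟨B, hBS⟩) (D.map (χ' ⟨B, hBS⟩) _) ∈ B.1
    rw [← Scheme.Hom.comp_apply, ← D.map_comp, e]
    exact hzB
  exact ⟨j, χ ≫ φ, IsOpenImmersion.of_flat_of_mono _⟩

end Groth.Agent.LimTop61
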