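import Groth.Agent.LimTop61.ImmDescent

set_option autoImplicit false
set_option backward.isDefEq.respectTransparency false
set_option backward.defeqAttrib.useBackward true
universe u

open CategoryTheory CategoryTheory.Limits AlgebraicGeometry Topology

namespace Groth.Agent.LimTop61

lemma pullback_snd_comp_isPullback {Z Y Y' Y'' : Scheme.{u}} (f : Z ⟶ Y) (a : Y' ⟶ Y)
    (b : Y'' ⟶ Y') (m : Y'' ⟶ Y) (hm : b ≫ a = m) :
    IsPullback (pullback.lift (pullback.fst f m) (pullback.snd f m ≫ b)
      (by rw [pullback.condition, Category.assoc, hm]) : pullback f m ⟶ pullback f a)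
      (pullback.snd f m) (pullback.snd f a) b := by
  subst hm
  refine IsPullback.of_right (h₁₂ := pullback.fst f a) (h₂₂ := a) (v₁₃ := f)
    ?_ (pullback.lift_snd _ _ _) (IsPullback.of_hasPullback f a)
  rw [pullback.lift_fst]
  exact IsPullback.of_hasPullback f (b ≫ a)

variable {I : Type u} [SmallCategory I] [IsCofiltered I] (D : I ⥤ Scheme.{u}) (c : Cone D)
  (hc : IsLimit c) [∀ (i j : I) (f : i ⟶ j), IsAffineHom (D.map f)]

include hc

/-- An isomorphism at the limit comes from one at a stage, for immersions. -/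
theorem exists_isIso_pullback {i₀ : I} [CompactSpace (D.obj i₀)] {Z₀ : Scheme.{u}}
    (ι₀ : Z₀ ⟶ D.obj i₀) [IsImmersion ι₀] [LocallyOfFinitePresentation ι₀] [QuasiCompact ι₀]
    (h : IsIso (pullback.snd ι₀ (c.π.app i₀))) :
    ∃ (j : I) (φ : j ⟶ i₀), IsIso (pullback.snd ι₀ (D.map φ)) := by
  obtain ⟨a, α, ha⟩ := exists_isOpenImmersion_pullback D c hc ι₀ inferInstance
  obtain ⟨b, β, hb⟩ := exists_preimage_subset D c hc (i := i₀) Set.univ (Set.range ι₀)
    (isConsClosed_of_isClosed isClosed_univ) (isConsClosed_compl_range ι₀) (by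
      rw [Set.preimage_univ, ← Scheme.Pullback.range_snd]
      exact (Set.range_eq_univ.mpr (pullback.snd ι₀ (c.π.app i₀)).homeomorph.surjective).ge)
  obtain ⟨m, p, q, hpq⟩ := IsCofiltered.cospan α β
  refine ⟨m, p ≫ α, ?_⟩
  have : IsOpenImmersion (pullback.snd ι₀ (D.map (p ≫ α))) :=
    MorphismProperty.of_isPullback (P := @IsOpenImmersion)
      (pullback_snd_comp_isPullback ι₀ (D.map α) (D.map p) (D.map (p ≫ α))
        (D.map_comp p α).symm) ha
  have : Surjective (pullback.snd ι₀ (D.map (p ≫ α))) := by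
    refine ⟨fun x => ?_⟩
    have hx : D.map (p ≫ α) x ∈ Set.range ι₀ := by
      have := hb (show D.map q x ∈ ⇑(D.map β) ⁻¹' Set.univ from trivial)
      rw [hpq, D.map_comp, Scheme.Hom.comp_apply]
      exact this
    have : x ∈ Set.range (pullback.snd ι₀ (D.map (p ≫ α))) := by
      rw [Scheme.Pullback.range_snd]; exact hx
    exact this
  exact (isIso_iff_isOpenImmersion_and_epi_base _).mpr
    ⟨inferInstance, (TopCat.epi_iff_surjective _).mpr (pullback.snd ι₀ (D.map (p ≫ α))).surjective⟩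

/-- A factorization between immersions at the limit comes from a stage. -/
theorem exists_factor_pullback {i₀ : I} [CompactSpace (D.obj i₀)] {Z₁ Z₂ : Scheme.{u}}
    (ι₁ : Z₁ ⟶ D.obj i₀) (ι₂ : Z₂ ⟶ D.obj i₀) [QuasiCompact ι₁]
    [IsImmersion ι₂] [LocallyOfFinitePresentation ι₂] [QuasiCompact ι₂]
    (k : pullback ι₁ (c.π.app i₀) ⟶ pullback ι₂ (c.π.app i₀))
    (hk : k ≫ pullback.snd ι₂ (c.π.app i₀) = pullback.snd ι₁ (c.π.app i₀)) :
    ∃ (j : I) (φ : j ⟶ i₀) (k' : pullback ι₁ (D.map φ) ⟶ pullback ι₂ (D.map φ)),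
      k' ≫ pullback.snd ι₂ (D.map φ) = pullback.snd ι₁ (D.map φ) := by
  have : CompactSpace Z₁ := QuasiCompact.compactSpace_of_compactSpace ι₁
  let P := bcCone D c ι₁ (pullback.fst ι₁ (c.π.app i₀)) (pullback.snd _ _) pullback.condition
  have hP : IsLimit P := isLimitBcCone D c hc ι₁ _ _ (IsPullback.of_hasPullback _ _)
  let top : Over i₀ := Over.mk (𝟙 i₀)
  let e : (bcDiagram D ι₁).obj top ⟶ Z₁ := pullback.fst ι₁ (D.map top.hom)
  let ι := pullback.snd (pullback.fst ι₁ ι₂) e
  have : IsImmersion ι :=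
    MorphismProperty.pullback_snd _ _ (MorphismProperty.pullback_fst _ _ inferInstance)
  have : LocallyOfFinitePresentation ι :=
    MorphismProperty.pullback_snd _ _ (MorphismProperty.pullback_fst _ _ inferInstance)
  have : QuasiCompact ι :=
    MorphismProperty.pullback_snd _ _ (MorphismProperty.pullback_fst _ _ inferInstance)
  have he : P.π.app top ≫ e = pullback.fst ι₁ (c.π.app i₀) := pullback.lift_fst _ _ _
  let s : P.pt ⟶ pullback ι (P.π.app top) :=
    pullback.lift (pullback.lift
      (pullback.lift (pullback.fst ι₁ (c.π.app i₀)) (k ≫ pullback.fst ι₂ (c.π.app i₀))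
        (by rw [Category.assoc, pullback.condition, pullback.condition, reassoc_of% hk]))
      (P.π.app top) (by rw [pullback.lift_fst, he]))
      (𝟙 _) (by rw [pullback.lift_snd, Category.id_comp])
  have hiso : IsIso (pullback.snd ι (P.π.app top)) := by
    have hs : s ≫ pullback.snd ι (P.π.app top) = 𝟙 _ := pullback.lift_snd _ _ _
    refine ⟨s, ?_, hs⟩
    rw [← cancel_mono (pullback.snd ι (P.π.app top)), Category.assoc, hs]
    exact (Category.comp_id _).trans (Category.id_comp _).symm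
  obtain ⟨j, φ, hφ⟩ := exists_isIso_pullback (bcDiagram D ι₁) P hP ι hiso
  let g : (bcDiagram D ι₁).obj j ⟶ pullback ι₁ ι₂ :=
    inv (pullback.snd ι ((bcDiagram D ι₁).map φ)) ≫ pullback.fst _ _ ≫ pullback.fst _ _
  have hg : g ≫ pullback.fst ι₁ ι₂ = pullback.fst ι₁ (D.map j.hom) := by
    simp only [g, Category.assoc]
    rw [IsIso.inv_comp_eq]
    rw [pullback.condition (f := pullback.fst ι₁ ι₂), ← Category.assoc (pullback.fst ι _)]
    show (pullback.fst ι _ ≫ ι) ≫ e = _
    rw [pullback.condition, Category.assoc]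
    congr 1
    exact pullback.lift_fst _ _ _
  refine ⟨j.left, j.hom, pullback.lift (g ≫ pullback.snd ι₁ ι₂) (pullback.snd ι₁ (D.map j.hom)) ?_,
    pullback.lift_snd _ _ _⟩
  rw [Category.assoc, ← pullback.condition, reassoc_of% hg, pullback.condition]

end Groth.Agent.LimTop61
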