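import Groth.Agent.Lim60.ClosedImmStage

set_option autoImplicit false
set_option backward.isDefEq.respectTransparency false
set_option backward.defeqAttrib.useBackward true

/-! An immersion into a limit, locally of finite type over a stage, is an immersion into a later
stage. -/

universe u

open CategoryTheory CategoryTheory.Limits AlgebraicGeometry Opposite TopologicalSpace
open Groth.Agent.LimDesc62

attribute [local instance] CategoryTheory.isConnected_of_hasTerminal

namespace Groth.Agent.LimTop61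

variable {I : Type u} [SmallCategory I] [IsCofiltered I] (D : I ⥤ Scheme.{u}) (c : Cone D)
  (hc : IsLimit c) [∀ (i j : I) (f : i ⟶ j), IsAffineHom (D.map f)]

include hc

/-- Immersions of quasi-compact schemes into the limit which are locally of finite type over a
stage are immersions into a later stage. -/
theorem exists_isImmersion_stage [∀ i, CompactSpace (D.obj i)] [∀ i, QuasiSeparatedSpace (D.obj i)]
    (i : I) {Y : Scheme.{u}} [CompactSpace Y]
    (h : Y ⟶ c.pt) [IsImmersion h] [LocallyOfFiniteType (h ≫ c.π.app i)] :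
    ∃ (j : I) (_ : j ⟶ i), IsImmersion (h ≫ c.π.app j) := by
  -- a quasi-compact open of the limit in which `Y` is closed
  obtain ⟨s, hs⟩ := (isCompact_range h.continuous).elim_finite_subcover
    (fun V : {V : c.pt.affineOpens // V.1 ≤ h.coborderRange} => (V.1.1 : Set c.pt)) (fun V => V.1.1.2)
    (by
      rintro _ ⟨x, rfl⟩
      have hx0 : h x ∈ h.coborderRange := subset_coborder (Set.mem_range_self x)
      obtain ⟨_, ⟨V, hV, rfl⟩, hxV, hle⟩ := c.pt.isBasis_affineOpens.exists_subset_of_mem_open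
        hx0 h.coborderRange.2
      exact Set.mem_iUnion.mpr ⟨⟨⟨V, hV⟩, fun y hy => hle hy⟩, hxV⟩)
  let U : c.pt.Opens := ⨆ V ∈ s, V.1.1
  have hUc : IsCompact (U : Set c.pt) := by
    simp only [U, TopologicalSpace.Opens.coe_iSup]
    exact s.finite_toSet.isCompact_biUnion fun V _ => V.1.2.isCompact
  have hUle : U ≤ h.coborderRange := iSup₂_le fun V _ => V.2
  have hrange : h ⁻¹ᵁ U = ⊤ := by
    refine top_le_iff.mp fun x _ => ?_
    obtain ⟨V, hV, hx⟩ := Set.mem_iUnion₂.mp (hs ⟨x, rfl⟩)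
    exact TopologicalSpace.Opens.mem_iSup.mpr ⟨V, TopologicalSpace.Opens.mem_iSup.mpr ⟨hV, hx⟩⟩
  obtain ⟨k₀, Uk₀, hUk₀c, hUk₀⟩ := exists_preimage_eq D c hc U hUc
  obtain ⟨k, a, b, -⟩ := IsCofilteredOrEmpty.cone_objs i k₀
  let Uk : (D.obj k).Opens := D.map b ⁻¹ᵁ Uk₀
  have hUk : c.π.app k ⁻¹ᵁ Uk = U := by
    simp only [Uk, ← Scheme.Hom.comp_preimage, c.w, hUk₀]
  have : CompactSpace ((opensDiagram D k Uk).obj (Over.mk (𝟙 k))) :=
    isCompact_iff_compactSpace.mp (QuasiCompact.isCompact_preimage (f := D.map (𝟙 k)) _ Uk.2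
      (QuasiCompact.isCompact_preimage (f := D.map b) _ Uk₀.2 hUk₀c))
  have hh' : Set.range h ⊆ Set.range (c.π.app k ⁻¹ᵁ Uk).ι := by
    rw [Scheme.Opens.range_ι, hUk]
    rintro _ ⟨x, rfl⟩
    exact hrange.ge (Set.mem_univ x)
  let h' : Y ⟶ (opensCone D c k Uk).pt := IsOpenImmersion.lift (c.π.app k ⁻¹ᵁ Uk).ι h hh'
  have e' : h' ≫ (c.π.app k ⁻¹ᵁ Uk).ι = h := IsOpenImmersion.lift_fac _ _ _
  have hle' : (c.π.app k ⁻¹ᵁ Uk) ≤ h.coborderRange := hUk ▸ hUle
  have : IsClosedImmersion h' := by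
    have e2 : h' ≫ c.pt.homOfLE hle' = h.liftCoborder := by
      rw [← cancel_mono h.coborderRange.ι, Category.assoc, Scheme.homOfLE_ι, e',
        Scheme.Hom.liftCoborder_ι]
    have : IsClosedImmersion (h' ≫ c.pt.homOfLE hle') := by rw [e2]; infer_instance
    exact IsClosedImmersion.of_comp h' (c.pt.homOfLE hle')
  let r : Over k := Over.mk (𝟙 k)
  have e : h' ≫ (opensCone D c k Uk).π.app r ≫ (D.map r.hom ⁻¹ᵁ Uk).ι = h ≫ c.π.app k := by
    simp [h', r]
  have : LocallyOfFiniteType (h' ≫ (opensCone D c k Uk).π.app r) := by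
    have : LocallyOfFiniteType ((h' ≫ (opensCone D c k Uk).π.app r) ≫ (D.map r.hom ⁻¹ᵁ Uk).ι ≫ D.map a) := by
      rw [Category.assoc, reassoc_of% e, c.w]; infer_instance
    exact locallyOfFiniteType_of_comp _ ((D.map r.hom ⁻¹ᵁ Uk).ι ≫ D.map a)
  obtain ⟨j, -, hj⟩ := Lim60.exists_isClosedImmersion_stage (opensDiagram D k Uk)
    (opensCone D c k Uk) (isLimitOpensCone D c hc k Uk) r h'
  refine ⟨j.left, j.hom ≫ a, ?_⟩
  have e2 : (h' ≫ (opensCone D c k Uk).π.app j) ≫ (D.map j.hom ⁻¹ᵁ Uk).ι = h ≫ c.π.app j.left := by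
    simp [h']
  rw [← e2]
  infer_instance

end Groth.Agent.LimTop61
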