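import Groth.Agent.LimTop61.IdealGlue
import Groth.Agent.LimDesc62.OpenImm

set_option autoImplicit false
set_option backward.isDefEq.respectTransparency false
set_option backward.defeqAttrib.useBackward true
universe u

open CategoryTheory CategoryTheory.Limits AlgebraicGeometry TopologicalSpace

namespace Groth.Agent.LimTop61

variable {I : Type u} [SmallCategory I] [IsCofiltered I] (D : I ⥤ Scheme.{u}) (c : Cone D)
  (hc : IsLimit c) [∀ (i j : I) (f : i ⟶ j), IsAffineHom (D.map f)]

include hc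

/-- An immersion of finite presentation into a limit of qcqs schemes comes from a stage. -/
theorem exists_immersion_descend [∀ i, CompactSpace (D.obj i)] [∀ i, QuasiSeparatedSpace (D.obj i)]
    {Z : Scheme.{u}} (ι : Z ⟶ c.pt) [IsImmersion ι] [LocallyOfFinitePresentation ι] [QuasiCompact ι] :
    ∃ (j : I) (Zj : Scheme.{u}) (ιj : Zj ⟶ D.obj j) (q : Z ⟶ Zj), IsImmersion ιj ∧
      LocallyOfFinitePresentation ιj ∧ QuasiCompact ιj ∧ IsPullback q ι ιj (c.π.app j) := by
  have : CompactSpace c.pt := Scheme.compactSpace_of_isLimit D c hc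
  have : CompactSpace Z := QuasiCompact.compactSpace_of_compactSpace ι
  obtain ⟨U, hU, hZU, hUc⟩ := LimDesc62.exists_compact_open_of_isLocallyClosed
    (isCompact_range ι.continuous) (IsImmersion.isLocallyClosed_range (f := ι))
  obtain ⟨i, V, hV, rfl⟩ := exists_preimage_eq D c hc U hU
  let l : Z ⟶ c.π.app i ⁻¹ᵁ V := IsOpenImmersion.lift (c.π.app i ⁻¹ᵁ V).ι ι
    (by rw [Scheme.Opens.range_ι]; exact hZU)
  have hl : l ≫ (c.π.app i ⁻¹ᵁ V).ι = ι := IsOpenImmersion.lift_fac _ _ _
  have : IsPreimmersion (l ≫ (c.π.app i ⁻¹ᵁ V).ι) := hl.symm ▸ inferInstance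
  have : IsPreimmersion l := IsPreimmersion.of_comp l (c.π.app i ⁻¹ᵁ V).ι
  have hlc : IsClosed (Set.range l) := by
    have : Set.range l = (c.π.app i ⁻¹ᵁ V).ι ⁻¹' closure (Set.range ι) := by
      ext x
      constructor
      · rintro ⟨z, rfl⟩
        exact subset_closure ⟨z, by rw [← hl]; rfl⟩
      · intro hx
        obtain ⟨z, hz⟩ := hUc ⟨x.2, hx⟩
        exact ⟨z, Subtype.ext (by rw [← hl] at hz; exact hz)⟩
    rw [this]
    exact isClosed_closure.preimage (c.π.app i ⁻¹ᵁ V).ι.continuous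
  have : IsClosedImmersion l := .of_isPreimmersion l hlc
  have : LocallyOfFinitePresentation (l ≫ (c.π.app i ⁻¹ᵁ V).ι) := hl.symm ▸ inferInstance
  have := locallyOfFinitePresentation_of_comp l (c.π.app i ⁻¹ᵁ V).ι
  have (j : Over i) : CompactSpace ↥((opensDiagram D i V).obj j) :=
    isCompact_iff_compactSpace.mp (QuasiCompact.isCompact_preimage _ V.2 hV)
  have (j : Over i) : QuasiSeparatedSpace ↥((opensDiagram D i V).obj j) :=
    (isQuasiSeparated_iff_quasiSeparatedSpace _ (D.map _ ⁻¹ᵁ _).2).mp (.of_quasiSeparatedSpace _)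
  have : LocallyOfFinitePresentation l.ker.subschemeι := by
    rw [show l.ker.subschemeι = inv l.toImage ≫ l from by
      rw [IsIso.eq_inv_comp]; exact l.toImage_imageι]
    infer_instance
  obtain ⟨j, Jn, hJn, hJ⟩ := exists_idealSheaf_descend (opensDiagram D i V) (opensCone D c i V)
    (isLimitOpensCone D c hc i V) l.ker
  let Vj : (D.obj j.left).Opens := D.map j.hom ⁻¹ᵁ V
  let p : (c.π.app i ⁻¹ᵁ V : c.pt.Opens).toScheme ⟶ Vj.toScheme := (opensCone D c i V).π.app j
  have hp : p ≫ Vj.ι = (c.π.app i ⁻¹ᵁ V).ι ≫ c.π.app j.left := Scheme.Hom.resLE_comp_ι _ _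
  have hle : Jn ≤ (l ≫ p).ker := by
    rw [← Scheme.IdealSheafData.map_ker, Scheme.IdealSheafData.le_map_iff_comap_le]
    exact hJ.le
  let q : Z ⟶ Jn.subscheme := IsClosedImmersion.lift Jn.subschemeι (l ≫ p) (by simpa using hle)
  have hq : q ≫ Jn.subschemeι = l ≫ p := IsClosedImmersion.lift_fac _ _ _
  have hsq : IsPullback q l Jn.subschemeι p :=
    (isPullback_of_isClosedImmersion l Jn.subschemeι q p hq.symm
      (by rw [Jn.ker_subschemeι]; exact hJ)).flip
  have hVc : CompactSpace Vj.toScheme := inferInstanceAs (CompactSpace ↥((opensDiagram D i V).obj j))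
  have : QuasiCompact Vj.ι := inferInstance
  refine ⟨j.left, Jn.subscheme, Jn.subschemeι ≫ Vj.ι, q, inferInstance, inferInstance, inferInstance, ?_⟩
  have hsq2 : IsPullback p (c.π.app i ⁻¹ᵁ V).ι Vj.ι (c.π.app j.left) :=
    (IsOpenImmersion.isPullback p (c.π.app i ⁻¹ᵁ V).ι Vj.ι (c.π.app j.left) hp.symm (by
      simp [Vj, ← Scheme.Hom.comp_preimage]))
  rw [← hl]
  exact hsq.paste_vert hsq2

end Groth.Agent.LimTop61
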