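import Mathlib
import Groth.Agent.Amp73.Avoid

/-!
An affine generating locus through the image of the spectrum of an algebra integral over a field.
-/

set_option autoImplicit false
set_option backward.isDefEq.respectTransparency false

noncomputable section

universe u

open CategoryTheory AlgebraicGeometry TopologicalSpace Polynomial
open Groth.Agent.Var76.LineBundle Groth.Agent.Var76.ZeroScheme Groth.Agent.Amp73

namespace Groth.Agent.LimTop61

/-- The sparse polynomial replacing `1 + X` in prime avoidance. -/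
def trigram (k : Type u) [Field k] (N : ℕ) (δ : Prop) [Decidable δ] : k[X] :=
  (if δ then X ^ N else 0) + (X ^ (2 * N) + 1)

/-- A power substitution makes the trigram prime to a given polynomial. -/
theorem exists_trigram_coprime {k : Type u} [Field k] {P : k[X]} (hP : P ≠ 0) (δ : Prop) [Decidable δ]
    (hδ : if δ then (3 : k) ≠ 0 else (2 : k) ≠ 0) :
    ∃ N : ℕ, 0 < N ∧ IsCoprime P (trigram k N δ) := by
  classical
  let K := AlgebraicClosure k
  have hδK : if δ then (3 : K) ≠ 0 else (2 : K) ≠ 0 := by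
    split_ifs with hd <;> simp only [hd, if_true, if_false] at hδ
    · exact (map_ofNat (algebraMap k K) 3) ▸ (map_ne_zero (algebraMap k K)).2 hδ
    · exact (map_ofNat (algebraMap k K) 2) ▸ (map_ne_zero (algebraMap k K)).2 hδ
  let R := (P.map (algebraMap k K)).roots.toFinset
  let N := ∏ r ∈ R.filter (fun r => orderOf r ≠ 0), orderOf r
  have hN : 0 < N := Finset.prod_pos fun r hr => Nat.pos_of_ne_zero (Finset.mem_filter.1 hr).2
  refine ⟨N, hN, (Polynomial.isCoprime_iff_aeval_ne_zero_of_isAlgClosed k K _ _).2 fun r => ?_⟩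
  by_contra! hcon
  obtain ⟨h1, h2⟩ := hcon
  have hr : r ∈ R := by
    simp only [R, Multiset.mem_toFinset, Polynomial.mem_roots', IsRoot.def]
    exact ⟨(Polynomial.map_ne_zero_iff (algebraMap k K).injective).2 hP,
      by rw [Polynomial.eval_map_algebraMap, h1]⟩
  have h3 : (if δ then r ^ N else 0) + ((r ^ N) ^ 2 + 1) = 0 := by
    rw [← pow_mul, mul_comm N 2]
    have h := h2
    rw [trigram, map_add, map_add, map_pow, aeval_X, map_one] at h
    by_cases hd : δ <;> simp [hd] at h ⊢ <;> exact h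
  have h12 : (r ^ N) ^ 12 = 1 := by
    generalize r ^ N = x at h3
    split_ifs at h3
    · linear_combination (x ^ 10 - x ^ 9 + x ^ 7 - x ^ 6 + x ^ 4 - x ^ 3 + x - 1) * h3
    · linear_combination (x ^ 10 - x ^ 8 + x ^ 6 - x ^ 4 + x ^ 2 - 1) * h3
  have hfin : orderOf r ≠ 0 := by
    rw [orderOf_ne_zero_iff, isOfFinOrder_iff_pow_eq_one]
    exact ⟨N * 12, by omega, by rw [pow_mul, h12]⟩
  obtain ⟨q, hq⟩ : orderOf r ∣ N := Finset.dvd_prod_of_mem _ (Finset.mem_filter.2 ⟨hr, hfin⟩)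
  have hone : r ^ N = 1 := by rw [hq, pow_mul, pow_orderOf_eq_one, one_pow]
  rw [hone] at h3
  split_ifs at h3 hδK
  · exact hδK (by linear_combination h3)
  · exact hδK (by linear_combination h3)

/-- Evaluations of the trigram avoid zero at roots. -/
theorem eval₂_trigram_ne_zero {k : Type u} [Field k] {P : k[X]} {N : ℕ} {δ : Prop} [Decidable δ]
    (h : IsCoprime P (trigram k N δ)) {K : Type*} [Field K] (φ : k →+* K) (r : K)
    (hr : P.eval₂ φ r = 0) : (if δ then r ^ N else 0) + (r ^ (2 * N) + 1) ≠ 0 := by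
  obtain ⟨u, v, huv⟩ := h
  intro h0
  have h1 := congrArg (eval₂ φ r) huv
  rw [eval₂_add, eval₂_mul, eval₂_mul, hr, eval₂_one] at h1
  have h2 : (trigram k N δ).eval₂ φ r = 0 := by
    rw [← h0, trigram]; split_ifs <;> simp
  rw [h2, mul_zero, mul_zero, add_zero] at h1
  exact zero_ne_one h1

/-- In an algebra over a field, localizing an integral algebra keeps integrality. -/
theorem isIntegral_away {k A B : Type u} [Field k] [CommRing A] [CommRing B] [Algebra k A]
    [Algebra k B] [Algebra A B] [IsScalarTower k A B] [Algebra.IsIntegral k A] (a : A)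
    [IsLocalization.Away a B] (z : B) : IsIntegral k z := by
  obtain ⟨n, b, hb⟩ := IsLocalization.Away.surj a z
  have ha : IsUnit (algebraMap A B a) := IsLocalization.Away.algebraMap_isUnit a
  have hint : ∀ x : A, IsIntegral k (algebraMap A B x) := fun x =>
    (Algebra.IsIntegral.isIntegral (R := k) x).map (IsScalarTower.toAlgHom k A B)
  let S := Algebra.adjoin k ({algebraMap A B a} : Set B)
  have : Module.Finite k S := Module.Finite.iff_fg.2 (hint a).fg_adjoin_singleton
  have : IsArtinianRing S := IsArtinianRing.of_finite k S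
  let α : S := ⟨algebraMap A B a, Algebra.subset_adjoin rfl⟩
  have hα : α ∈ nonZeroDivisors S := by
    rw [mem_nonZeroDivisors_iff_right]
    intro y hy
    exact Subtype.ext (ha.mul_left_eq_zero.1 (congrArg Subtype.val hy))
  obtain ⟨β, hβ⟩ := (IsArtinianRing.isUnit_of_mem_nonZeroDivisors hα).exists_left_inv
  have hβ' : β.1 * algebraMap A B a = 1 := congrArg Subtype.val hβ
  have hSint : IsIntegral k β.1 := by
    have : Algebra.IsIntegral k S := Algebra.IsIntegral.of_finite k S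
    exact (Algebra.IsIntegral.isIntegral (R := k) β).map S.val
  have hz : z = algebraMap A B b * β.1 ^ n := by
    rw [← hb, mul_assoc, ← mul_pow, mul_comm (algebraMap A B a), hβ', one_pow, mul_one]
  rw [hz]
  exact (hint b).mul (hSint.pow n)

variable {k A : Type u} [Field k] [CommRing A] [Algebra k A] [Algebra.IsIntegral k A]

/-- Evaluation of a function on an open at a point. -/
abbrev evalAt {X : Scheme.{u}} {U : X.Opens} {x : X} (hx : x ∈ U) : Γ(X, U) →+* X.residueField x :=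
  (X.residue x).hom.comp (X.presheaf.germ U x hx).hom

/-- Functions on a quasi-compact open of the spectrum take values in the roots of one polynomial. -/
theorem exists_poly_annihilates {V : (Spec (CommRingCat.of A)).Opens}
    (hV : IsCompact (V : Set (Spec (CommRingCat.of A)))) (ρ : Γ(Spec (CommRingCat.of A), V)) :
    ∃ P : k[X], P ≠ 0 ∧ ∀ (t : Spec (CommRingCat.of A)) (ht : t ∈ V),
      P.eval₂ ((evalAt (show t ∈ (⊤ : (Spec (CommRingCat.of A)).Opens) from trivial)).comp
        ((Scheme.ΓSpecIso (CommRingCat.of A)).inv.hom.comp (algebraMap k A)))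
        (evalAt ht ρ) = 0 := by
  classical
  let T := Spec (CommRingCat.of A)
  obtain ⟨s, hs, hVs⟩ := (isCompact_and_isOpen_iff_finite_and_eq_biUnion_basicOpen (X := T)).1 ⟨hV, V.2⟩
  have hle : ∀ a ∈ s, T.basicOpen a ≤ V := fun a ha x hx => by
    show x ∈ (V : Set T)
    rw [hVs]
    exact Set.mem_biUnion ha hx
  let ψ : k →+* Γ(T, ⊤) := (Scheme.ΓSpecIso (CommRingCat.of A)).inv.hom.comp (algebraMap k A)
  let _ : Algebra k Γ(T, ⊤) := ψ.toAlgebra
  have : Algebra.IsIntegral k Γ(T, ⊤) :=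
    algebraMap_isIntegral_iff.1 (RingHom.IsIntegral.trans _ _
      (algebraMap_isIntegral_iff.2 inferInstance)
      (RingHom.isIntegral_of_surjective _
        (Scheme.ΓSpecIso (CommRingCat.of A)).commRingCatIsoToRingEquiv.symm.surjective))
  have key : ∀ a : s, ∃ P : k[X], P.Monic ∧
      P.eval₂ ((T.presheaf.map (homOfLE le_top).op).hom.comp ψ)
        ((T.presheaf.map (homOfLE (hle a.1 a.2)).op).hom ρ) = 0 := by
    intro a
    let _ : Algebra Γ(T, ⊤) Γ(T, T.basicOpen a.1) :=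
      (T.presheaf.map (homOfLE le_top).op).hom.toAlgebra
    let _ : Algebra k Γ(T, T.basicOpen a.1) :=
      ((T.presheaf.map (homOfLE le_top).op).hom.comp ψ).toAlgebra
    have : IsScalarTower k Γ(T, ⊤) Γ(T, T.basicOpen a.1) := IsScalarTower.of_algebraMap_eq fun _ => rfl
    have : IsLocalization.Away a.1 Γ(T, T.basicOpen a.1) := (isAffineOpen_top T).isLocalization_basicOpen a.1
    exact isIntegral_away (k := k) a.1 _
  choose P hPm hP using key
  have := hs.fintype
  refine ⟨∏ a, P a, (monic_prod_of_monic _ _ fun a _ => hPm a).ne_zero, fun t ht => ?_⟩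
  obtain ⟨a, ha, hta⟩ : ∃ a ∈ s, t ∈ T.basicOpen a := by
    have : t ∈ (V : Set T) := ht
    rw [hVs] at this
    simpa using this
  rw [eval₂_finsetProd]
  refine Finset.prod_eq_zero (Finset.mem_univ ⟨a, ha⟩) ?_
  have h1 := congrArg (evalAt hta) (hP ⟨a, ha⟩)
  rw [map_zero, Polynomial.hom_eval₂] at h1
  have hc : (evalAt hta).comp ((T.presheaf.map (homOfLE le_top).op).hom.comp ψ) =
      (evalAt (show t ∈ (⊤ : T.Opens) from trivial)).comp ψ := by
    refine RingHom.ext fun c => ?_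
    simp [TopCat.Presheaf.germ_res_apply]
  have hv : evalAt hta ((T.presheaf.map (homOfLE (hle a ha)).op).hom ρ) = evalAt ht ρ := by
    simp only [evalAt, RingHom.comp_apply]
    exact congrArg (T.residue t).hom (T.presheaf.germ_res_apply _ t hta ρ)
  rw [hc, hv] at h1
  exact h1

variable (k) in
include k in

/-- Two affine generating loci are replaced by one, on the image of `g`. -/
theorem exists_affine_genSet_two {X : Scheme.{u}} {L : X.Modules} (g : Spec (CommRingCat.of A) ⟶ X) (hL : CohB1.IsAmple L) {G₁ G₂ W : X.Opens}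
    (h₁ : G₁ ∈ GenSet L) (h₂ : G₂ ∈ GenSet L) (a₁ : IsAffineOpen G₁) (a₂ : IsAffineOpen G₂)
    (l₁ : G₁ ≤ W) (l₂ : G₂ ≤ W) :
    ∃ G ∈ GenSet L, IsAffineOpen G ∧ G ≤ W ∧ g ⁻¹ᵁ (G₁ ⊔ G₂) ≤ g ⁻¹ᵁ G := by
  classical
  have := quasiSeparatedSpace_of_isAmple hL
  obtain ⟨n₁, s₁, rfl⟩ := h₁
  obtain ⟨n₂, s₂, rfl⟩ := h₂
  obtain ⟨m, σ, hσ⟩ := exists_common_exponent hL.1 ![n₁, n₂] (fun i => match i with
    | 0 => s₁
    | 1 => s₂)
  have e₁ : CohB1.genLocus _ (σ 0) = CohB1.genLocus _ s₁ := hσ 0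
  have e₂ : CohB1.genLocus _ (σ 1) = CohB1.genLocus _ s₂ := hσ 1
  rw [← e₁] at a₁ l₁ ⊢
  rw [← e₂] at a₂ l₂ ⊢
  clear e₁ e₂ hσ s₁ s₂
  have hP₀ := EGA73.isInvertible_tensorPow hL.1 (m + 1)
  set f₁ := σ 0
  set f₂ := σ 1
  let G := CohB1.genLocus _ f₂
  have hV : IsCompact ((g ⁻¹ᵁ G : (Spec (CommRingCat.of A)).Opens) : Set (Spec (CommRingCat.of A))) :=
    g.isCompact_preimage a₂.isCompact
  have he := isFrame_genLocus f₂
  obtain ⟨r, hr⟩ := exists_coord f₁ he
  let ρ := (g.app G).hom r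
  obtain ⟨P, hP, hPρ⟩ := exists_poly_annihilates (k := k) hV ρ
  let δ : Prop := (3 : k) ≠ 0
  have hδ : if δ then (3 : k) ≠ 0 else (2 : k) ≠ 0 := by
    split_ifs with hd
    · exact hd
    · intro h2
      simp only [δ, not_not] at hd
      exact one_ne_zero (α := k) (by linear_combination hd - h2)
  obtain ⟨N, hN, hcop⟩ := exists_trigram_coprime hP δ hδ
  let M := CohB1.tensorPow (CohB1.tensorPow L (m + 1)) N
  have hM : PicF.IsInvertible M := EGA73.isInvertible_tensorPow hP₀ N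
  let g₁ := SecTwist.powHom f₁ N
  let g₂ := SecTwist.powHom f₂ N
  have hg₁ : CohB1.genLocus M g₁ = CohB1.genLocus _ f₁ := genLocus_powHom hP₀ f₁ N hN
  have hg₂ : CohB1.genLocus M g₂ = CohB1.genLocus _ f₂ := genLocus_powHom hP₀ f₂ N hN
  let J := {i : Fin 3 // i = 1 → δ}
  have hMM := EGA73.isInvertible_tensorMod hM hM
  let τ₀ : Fin 3 → (Coh.structureModule X ⟶ CohB1.tensorMod M M) :=
    ![SecTwist.tmulHom g₁ g₁, SecTwist.tmulHom g₁ g₂, SecTwist.tmulHom g₂ g₂]
  have hτ0 : CohB1.genLocus _ (τ₀ 0) = CohB1.genLocus _ f₁ := by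
    show CohB1.genLocus _ (SecTwist.tmulHom g₁ g₁) = _
    rw [genLocus_tmulHom hM hM, hg₁, inf_idem]
  have hτ1 : CohB1.genLocus _ (τ₀ 1) = CohB1.genLocus _ f₁ ⊓ CohB1.genLocus _ f₂ := by
    show CohB1.genLocus _ (SecTwist.tmulHom g₁ g₂) = _
    rw [genLocus_tmulHom hM hM, hg₁, hg₂]
  have hτ2 : CohB1.genLocus _ (τ₀ 2) = CohB1.genLocus _ f₂ := by
    show CohB1.genLocus _ (SecTwist.tmulHom g₂ g₂) = _
    rw [genLocus_tmulHom hM hM, hg₂, inf_idem]
  let τ : J → (Coh.structureModule X ⟶ CohB1.tensorMod M M) := fun i => τ₀ i.1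
  let S := Var76.Frames.ofSection (CohB1.tensorMod M M) (∑ i, val _ (τ i) ⊤)
  refine ⟨CohB1.genLocus _ S, ?_, isAffineOpen_genLocus_sum hMM τ ?_, ?_, ?_⟩
  · obtain ⟨q, hq⟩ : ∃ q, (m + 1) * N + (m + 1) * N = q + 1 :=
      ⟨(m + 1) * N + (m + 1) * N - 1, (Nat.sub_add_cancel (by have := Nat.mul_pos (show 0 < m + 1 by omega) hN; omega)).symm⟩
    exact ⟨q, S ≫ (EGA73.tensIso (powMul L (m + 1) N) (powMul L (m + 1) N)).hom ≫
      (powAdd L ((m + 1) * N) ((m + 1) * N)).hom ≫ eqToHom (congrArg _ hq), genLocus_comp_iso _ _⟩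
  · rintro ⟨i, hi⟩
    show IsAffineOpen (CohB1.genLocus _ (τ₀ i))
    fin_cases i
    · exact hτ0 ▸ a₁
    · exact hτ1 ▸ isAffineOpen_genLocus_inf hP₀ f₁ a₂
    · exact hτ2 ▸ a₂
  · refine (genLocus_sum_le hMM τ).trans (iSup_le ?_)
    rintro ⟨i, hi⟩
    show CohB1.genLocus _ (τ₀ i) ≤ W
    fin_cases i
    · exact hτ0.le.trans l₁
    · exact hτ1.le.trans (inf_le_left.trans l₁)
    · exact hτ2.le.trans l₂
  intro t ht
  show g t ∈ CohB1.genLocus _ S
  by_cases h2 : g t ∈ CohB1.genLocus _ f₂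
  swap
  · have h1 : g t ∈ CohB1.genLocus _ f₁ := ht.resolve_right h2
    refine mem_genLocus_sum hMM τ (j := ⟨0, fun h => absurd h (by decide)⟩) (hτ0 ▸ h1) ?_
    rintro ⟨i, hi⟩ hne
    show g t ∉ CohB1.genLocus _ (τ₀ i)
    fin_cases i
    · exact absurd rfl hne
    · exact fun h => h2 (hτ1.le h).2
    · exact fun h => h2 (hτ2.le h)
  by_cases h1 : g t ∈ CohB1.genLocus _ f₁
  swap
  · refine mem_genLocus_sum hMM τ (j := ⟨2, fun h => absurd h (by decide)⟩) (hτ2 ▸ h2) ?_
    rintro ⟨i, hi⟩ hne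
    show g t ∉ CohB1.genLocus _ (τ₀ i)
    fin_cases i
    · exact fun h => h1 (hτ0.le h)
    · exact fun h => h1 (hτ1.le h).1
    · exact absurd rfl hne
  have heN : IsFrame M G (epow (val _ f₂ G) N) := isFrame_epow he N
  have hE := isFrame_tm heN heN
  have hv₁ : val M g₁ G = r ^ N • epow (val _ f₂ G) N := by rw [val_powHom, ← hr, epow_smul]
  have hv₂ : val M g₂ G = epow (val _ f₂ G) N := val_powHom f₂ N G
  let cf : Fin 3 → Γ(X, G) := ![r ^ (2 * N), r ^ N, 1]
  have hcf : ∀ i : J, cf i.1 • tm M M (epow (val _ f₂ G) N) (epow (val _ f₂ G) N) = val _ (τ i) G := by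
    rintro ⟨i, hi⟩
    show _ = val _ (τ₀ i) G
    fin_cases i
    · show r ^ (2 * N) • _ = val _ (SecTwist.tmulHom g₁ g₁) G
      rw [val_tmulHom, hv₁, tm_smul, ← pow_add, two_mul]
    · show r ^ N • _ = val _ (SecTwist.tmulHom g₁ g₂) G
      rw [val_tmulHom, hv₁, hv₂, tm_smul_left]
    · show (1 : Γ(X, G)) • _ = val _ (SecTwist.tmulHom g₂ g₂) G
      rw [val_tmulHom, hv₂, one_smul]
  refine ((genLocus_inf_eq_basicOpen S hE (exists_coord_sum τ hE (fun i => cf i.1) hcf)).ge ?_).1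
  rw [X.mem_basicOpen _ (g t) h2]
  have hne : evalAt (show t ∈ g ⁻¹ᵁ G from h2) (g.app G (∑ i : J, cf i.1)) ≠ 0 := by
    have hsum : (∑ i : J, cf i.1) = (if δ then r ^ N else 0) + (r ^ (2 * N) + 1) := by
      rw [← Finset.sum_subtype (Finset.univ.filter fun i : Fin 3 => i = 1 → δ) (by simp) cf,
        Finset.sum_filter, Fin.sum_univ_three]
      by_cases hd : δ <;> simp [hd, cf] <;> ring
    rw [hsum]
    have := eval₂_trigram_ne_zero hcop _ _ (hPρ t h2)
    convert this using 1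
    split_ifs <;> simp [ρ]
  by_contra hu
  apply hne
  have h0 : (X.residue (g t)).hom ((X.presheaf.germ G (g t) h2).hom (∑ i : J, cf i.1)) = 0 :=
    (IsLocalRing.residue_eq_zero_iff _).2 hu
  show ((Spec (CommRingCat.of A)).residue t).hom (((Spec (CommRingCat.of A)).presheaf.germ (g ⁻¹ᵁ G) t h2).hom
    (g.app G (∑ i : J, cf i.1))) = 0
  rw [← Scheme.Hom.germ_stalkMap_apply g G t h2]
  have h1 := congrArg (fun q : X.presheaf.stalk (g t) ⟶ (Spec (CommRingCat.of A)).residueField t =>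
    q.hom ((X.presheaf.germ G (g t) h2).hom (∑ i : J, cf i.1))) (Scheme.residue_residueFieldMap g t)
  simp only [CommRingCat.hom_comp, RingHom.comp_apply] at h1
  rw [← h1, h0, map_zero]

variable (k) in
include k in
/-- An affine generating locus inside `W` through the image of `g`. -/
theorem exists_affine_genSet_of_integral {X : Scheme.{u}} {L : X.Modules}
    (g : Spec (CommRingCat.of A) ⟶ X) (hL : CohB1.IsAmple L) (W : X.Opens)
    (hg : Set.range g.base ⊆ (W : Set X)) :
    ∃ G ∈ GenSet L, IsAffineOpen G ∧ G ≤ W ∧ Set.range g.base ⊆ (G : Set X) := by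
  classical
  have := quasiSeparatedSpace_of_isAmple hL
  choose G hG hxG hGW hGa using fun t => exists_affine_genSet_le hL (g t) W (hg ⟨t, rfl⟩)
  obtain ⟨F, hF⟩ := (isCompact_univ (X := Spec (CommRingCat.of A))).elim_finite_subcover
    (fun t => ((g ⁻¹ᵁ G t : (Spec (CommRingCat.of A)).Opens) : Set (Spec (CommRingCat.of A))))
    (fun t => (g ⁻¹ᵁ G t).2) fun t _ => Set.mem_iUnion.2 ⟨t, hxG t⟩
  have key : ∀ F : Finset (Spec (CommRingCat.of A)),
      ∃ H ∈ GenSet L, IsAffineOpen H ∧ H ≤ W ∧ ∀ t ∈ F, g ⁻¹ᵁ G t ≤ g ⁻¹ᵁ H := by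
    intro F
    induction F using Finset.induction_on with
    | empty =>
      obtain ⟨H, hH, -, hHW, hHa⟩ := exists_affine_genSet_of_finite hL (Z := ∅) Set.finite_empty
        (U := W) (Set.empty_subset _)
      exact ⟨H, hH, hHa, hHW, fun t ht => absurd ht (Finset.notMem_empty t)⟩
    | insert t F _ ih =>
      obtain ⟨H, hH, hHa, hHW, hle⟩ := ih
      obtain ⟨H', hH', ha', hW', hle'⟩ :=
        exists_affine_genSet_two k g hL hH (hG t) hHa (hGa t) hHW (hGW t)
      refine ⟨H', hH', ha', hW', fun t' ht' => ?_⟩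
      rcases Finset.mem_insert.1 ht' with rfl | ht''
      · exact (Scheme.Hom.preimage_mono g le_sup_right).trans hle'
      · exact ((hle t' ht'').trans (Scheme.Hom.preimage_mono g le_sup_left)).trans hle'
  obtain ⟨H, hH, hHa, hHW, hle⟩ := key F
  refine ⟨H, hH, hHa, hHW, ?_⟩
  rintro _ ⟨t, rfl⟩
  obtain ⟨t', ht', ht⟩ := Set.mem_iUnion₂.1 (hF (Set.mem_univ t))
  exact hle t' ht' ht

end Groth.Agent.LimTop61
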