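import Mathlib

/-!
A map of integral algebras is a filtered colimit of maps of finite, finitely presented algebras.
-/

set_option autoImplicit false

universe u

open CategoryTheory CategoryTheory.Limits MvPolynomial

noncomputable section

namespace Groth.Agent.LimTop61.IntPair

variable (A B C : Type u) [CommRing A] [CommRing B] [CommRing C] [Algebra A B] [Algebra A C]
  [Algebra B C] [IsScalarTower A B C]

/-- polynomials on the chosen elements of `B` -/
abbrev PB (E : Finset B) := MvPolynomial E A

/-- polynomials on the chosen elements of `B` and `C` -/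
abbrev PC (E : Finset B) (F : Finset C) := MvPolynomial (E ⊕ F) A

/-- evaluation -/
def evB (E : Finset B) : PB A B E →ₐ[A] B := aeval fun e => e.1

/-- evaluation -/
def evC (E : Finset B) (F : Finset C) : PC A B C E F →ₐ[A] C :=
  aeval (Sum.elim (fun e => algebraMap B C e.1) fun f => f.1)

/-- inclusion -/
def inB (E : Finset B) (F : Finset C) : PB A B E →ₐ[A] PC A B C E F := rename Sum.inl

/-- renaming -/
def renB {E E' : Finset B} (h : E ⊆ E') : PB A B E →ₐ[A] PB A B E' :=
  rename fun e => ⟨e.1, h e.2⟩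

/-- renaming -/
def renC {E E' : Finset B} (h : E ⊆ E') {F F' : Finset C} (h' : F ⊆ F') :
    PC A B C E F →ₐ[A] PC A B C E' F' :=
  rename (Sum.map (fun e => ⟨e.1, h e.2⟩) fun f => ⟨f.1, h' f.2⟩)

variable {A B C}

lemma evB_renB {E E' : Finset B} (h : E ⊆ E') (p : PB A B E) :
    evB A B E' (renB A B h p) = evB A B E p :=
  DFunLike.congr_fun (show (evB A B E').comp (renB A B h) = evB A B E from
    MvPolynomial.algHom_ext fun e => by simp [evB, renB]) p

lemma evC_renC {E E' : Finset B} (h : E ⊆ E') {F F' : Finset C} (h' : F ⊆ F') (p : PC A B C E F) :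
    evC A B C E' F' (renC A B C h h' p) = evC A B C E F p :=
  DFunLike.congr_fun (show (evC A B C E' F').comp (renC A B C h h') = evC A B C E F from
    MvPolynomial.algHom_ext fun e => by cases e <;> simp [evC, renC]) p

lemma evC_inB {E : Finset B} {F : Finset C} (p : PB A B E) :
    evC A B C E F (inB A B C E F p) = algebraMap B C (evB A B E p) :=
  DFunLike.congr_fun (show (evC A B C E F).comp (inB A B C E F) =
      (IsScalarTower.toAlgHom A B C).comp (evB A B E) from
    MvPolynomial.algHom_ext fun e => by simp [evB, evC, inB]) p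

variable (A B C)

/-- a finite stage -/
structure Stage where
  E : Finset B
  F : Finset C
  I : Ideal (PB A B E)
  K : Ideal (PC A B C E F)
  I_fg : I.FG
  K_fg : K.FG
  I_le : I ≤ RingHom.ker (evB A B E)
  K_le : K ≤ RingHom.ker (evC A B C E F)
  map_le : I ≤ K.comap (inB A B C E F)
  finB : Algebra.IsIntegral A (PB A B E ⧸ I)
  finC : Algebra.IsIntegral A (PC A B C E F ⧸ K)
  surjB : Function.Surjective (algebraMap A B) → Function.Surjective (algebraMap A (PB A B E ⧸ I))
  surjC : Function.Surjective (algebraMap A C) →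
    Function.Surjective (algebraMap A (PC A B C E F ⧸ K))
  surjBC : Function.Surjective (algebraMap B C) →
    Function.Surjective (Ideal.quotientMapₐ K (inB A B C E F) map_le)
  nilBC : Function.Surjective (algebraMap B C) → IsNilpotent (RingHom.ker (algebraMap B C)) →
    IsNilpotent (RingHom.ker (Ideal.quotientMapₐ K (inB A B C E F) map_le))

variable {A B C}

instance : Preorder (Stage A B C) where
  le s t := ∃ (h : s.E ⊆ t.E) (h' : s.F ⊆ t.F),
    s.I ≤ t.I.comap (renB A B h) ∧ s.K ≤ t.K.comap (renC A B C h h')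
  le_refl s := ⟨Finset.Subset.refl _, Finset.Subset.refl _,
    fun p hp => by
      rw [Ideal.mem_comap, show renB A B (Finset.Subset.refl s.E) = AlgHom.id A _ from
        MvPolynomial.algHom_ext fun e => by simp [renB]]
      exact hp,
    fun p hp => by
      rw [Ideal.mem_comap, show renC A B C (Finset.Subset.refl s.E) (Finset.Subset.refl s.F) =
        AlgHom.id A _ from MvPolynomial.algHom_ext fun e => by cases e <;> simp [renC]]
      exact hp⟩
  le_trans s t r := by
    rintro ⟨a, b, hI, hK⟩ ⟨a', b', hI', hK'⟩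
    refine ⟨a.trans a', b.trans b', fun p hp => ?_, fun p hp => ?_⟩
    · have := hI' (hI hp)
      rw [Ideal.mem_comap] at this ⊢
      have e : (renB A B a').comp (renB A B a) = renB A B (a.trans a') :=
        MvPolynomial.algHom_ext fun e => by simp [renB]
      rw [← e]
      exact this
    · have := hK' (hK hp)
      rw [Ideal.mem_comap] at this ⊢
      have e : (renC A B C a' b').comp (renC A B C a b) = renC A B C (a.trans a') (b.trans b') :=
        MvPolynomial.algHom_ext fun e => by cases e <;> simp [renC]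
      rw [← e]
      exact this

lemma isIntegral_of_gens {σ : Type*} {Q : Type u} [CommRing Q] [Algebra A Q]
    (φ : MvPolynomial σ A →ₐ[A] Q) (hφ : Function.Surjective φ) (h : ∀ s, IsIntegral A (φ (X s))) :
    Algebra.IsIntegral A Q := ⟨fun q => by
  obtain ⟨p, rfl⟩ := hφ q
  induction p using MvPolynomial.induction_on with
  | C a => rw [← MvPolynomial.algebraMap_eq, AlgHom.commutes]; exact isIntegral_algebraMap
  | add p q hp hq => rw [map_add]; exact hp.add hq
  | mul_X p s hp => rw [map_mul]; exact hp.mul (h s)⟩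

lemma surjective_of_gens {σ : Type*} {Q R : Type u} [CommRing Q] [Algebra A Q] [CommRing R]
    [Algebra A R] (ψ : R →ₐ[A] Q) (φ : MvPolynomial σ A →ₐ[A] Q) (hφ : Function.Surjective φ)
    (h : ∀ s, φ (X s) ∈ ψ.range) : Function.Surjective ψ := fun q => by
  obtain ⟨p, rfl⟩ := hφ q
  induction p using MvPolynomial.induction_on with
  | C a => exact ⟨algebraMap A R a, by rw [← MvPolynomial.algebraMap_eq, AlgHom.commutes, AlgHom.commutes]⟩
  | add p q hp hq => obtain ⟨x, hx⟩ := hp; obtain ⟨y, hy⟩ := hq; exact ⟨x + y, by simp [hx, hy]⟩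
  | mul_X p s hp => obtain ⟨x, hx⟩ := hp; obtain ⟨y, hy⟩ := h s; exact ⟨x * y, by
      rw [map_mul, map_mul, hx]; exact congrArg _ hy⟩

variable [Algebra.IsIntegral A B] [Algebra.IsIntegral A C]

/-- every finite set of data is contained in a stage -/
theorem exists_stage (E₀ : Finset B) (F₀ : Finset C) (RB : Finset (PB A B E₀))
    (RC : Finset (PC A B C E₀ F₀)) (hRB : ∀ p ∈ RB, evB A B E₀ p = 0)
    (hRC : ∀ p ∈ RC, evC A B C E₀ F₀ p = 0) :
    ∃ (s : Stage A B C) (h : E₀ ⊆ s.E) (h' : F₀ ⊆ s.F),
      (∀ p ∈ RB, renB A B h p ∈ s.I) ∧ ∀ p ∈ RC, renC A B C h h' p ∈ s.K := by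
  classical
  let lift : C → B := Function.invFun (algebraMap B C)
  let E := E₀ ∪ F₀.image lift
  let hE : E₀ ⊆ E := Finset.subset_union_left
  have hlift : ∀ f : F₀, lift f.1 ∈ E := fun f =>
    Finset.mem_union_right _ (Finset.mem_image_of_mem lift f.2)
  choose pB hpB hpB' using fun b : B => Algebra.IsIntegral.isIntegral (R := A) b
  choose pC hpC hpC' using fun c : C => Algebra.IsIntegral.isIntegral (R := A) c
  let σ : PC A B C E F₀ →ₐ[A] PB A B E :=
    aeval (Sum.elim (fun e => X e) fun f => X ⟨lift f.1, hlift f⟩)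
  have hσin : ∀ p, σ (inB A B C E F₀ p) = p := fun p =>
    DFunLike.congr_fun (show σ.comp (inB A B C E F₀) = AlgHom.id A _ from
      MvPolynomial.algHom_ext fun e => by simp [σ, inB]) p
  let qB : Finset (PB A B E) := RB.image (renB A B hE) ∪
    Finset.univ.image (fun e : E => Polynomial.aeval (X e : PB A B E) (pB e.1)) ∪
    (if Function.Surjective (algebraMap A B) then
      Finset.univ.image (fun e : E => (X e : PB A B E) - algebraMap A _ (Function.invFun (algebraMap A B) e.1))
      else ∅)
  let qC : Finset (PC A B C E F₀) := RC.image (renC A B C hE (Finset.Subset.refl _)) ∪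
    Finset.univ.image (fun f : F₀ => Polynomial.aeval (X (.inr f) : PC A B C E F₀) (pC f.1)) ∪
    (if Function.Surjective (algebraMap B C) then
      Finset.univ.image (fun f : F₀ => (X (.inr f) : PC A B C E F₀) - X (.inl ⟨lift f.1, hlift f⟩))
      else ∅) ∪
    (if Function.Surjective (algebraMap A C) then
      Finset.univ.image (fun s : E ⊕ F₀ => (X s : PC A B C E F₀) - algebraMap A _
        (Function.invFun (algebraMap A C) (Sum.elim (fun e => algebraMap B C e.1) (fun f => f.1) s)))
      else ∅)
  let qN : Finset (PB A B E) :=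
    if h : Function.Surjective (algebraMap B C) ∧ IsNilpotent (RingHom.ker (algebraMap B C)) then
      qC.image (fun q => σ q ^ h.2.choose) else ∅
  let I : Ideal (PB A B E) := Ideal.span (qB ∪ qN : Finset _)
  let K : Ideal (PC A B C E F₀) := I.map (inB A B C E F₀) ⊔ Ideal.span qC
  have hqC : ∀ q ∈ qC, evC A B C E F₀ q = 0 := by
    intro q hq
    simp only [qC, Finset.mem_union, Finset.mem_image] at hq
    rcases hq with ((⟨p, hp, rfl⟩ | ⟨f, -, rfl⟩) | hq) | hq
    · rw [evC_renC]; exact hRC p hp
    · rw [← Polynomial.aeval_algHom_apply]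
      simpa [evC, Polynomial.aeval_def] using hpC' f.1
    · split_ifs at hq with hs
      · obtain ⟨f, -, rfl⟩ := Finset.mem_image.1 hq
        simp [evC, lift, Function.invFun_eq (hs f.1)]
      · simp at hq
    · split_ifs at hq with hs
      · obtain ⟨t, -, rfl⟩ := Finset.mem_image.1 hq
        simp [evC, Function.invFun_eq (hs _)]
      · simp at hq
  have hσev : Function.Surjective (algebraMap B C) → ∀ q,
      algebraMap B C (evB A B E (σ q)) = evC A B C E F₀ q := fun hs q => by
    rw [← evC_inB (F := F₀)]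
    exact DFunLike.congr_fun (show ((evC A B C E F₀).comp (inB A B C E F₀)).comp σ = evC A B C E F₀ from
      MvPolynomial.algHom_ext fun e => by
        cases e <;> simp [evC, inB, σ, lift, Function.invFun_eq (hs _)]) q
  have hI : I ≤ RingHom.ker (evB A B E) := by
    refine Ideal.span_le.2 fun q hq => ?_
    rw [Finset.coe_union] at hq
    rcases hq with hq | hq
    · simp only [qB, Finset.mem_coe, Finset.mem_union, Finset.mem_image] at hq
      rcases hq with (⟨p, hp, rfl⟩ | ⟨e, -, rfl⟩) | hq
      · rw [SetLike.mem_coe, RingHom.mem_ker, evB_renB]; exact hRB p hp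
      · rw [SetLike.mem_coe, RingHom.mem_ker, ← Polynomial.aeval_algHom_apply]
        simpa [evB, Polynomial.aeval_def] using hpB' e.1
      · split_ifs at hq with hs
        · obtain ⟨e, -, rfl⟩ := Finset.mem_image.1 hq
          simp [evB, Function.invFun_eq (hs _)]
        · simp at hq
    · simp only [qN, Finset.mem_coe] at hq
      split_ifs at hq with hh
      · obtain ⟨q', hq', rfl⟩ := Finset.mem_image.1 hq
        rw [SetLike.mem_coe, RingHom.mem_ker, map_pow]
        have hJ : evB A B E (σ q') ∈ RingHom.ker (algebraMap B C) := by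
          rw [RingHom.mem_ker, hσev hh.1, hqC q' hq']
        have h4 := Ideal.pow_mem_pow hJ hh.2.choose
        have h5 : evB A B E (σ q') ^ hh.2.choose ∈ (⊥ : Ideal B) := (hh.2.choose_spec.trans Ideal.zero_eq_bot).le h4
        exact Ideal.mem_bot.1 h5
      · simp at hq
  have hK : K ≤ RingHom.ker (evC A B C E F₀) := by
    refine sup_le (Ideal.map_le_iff_le_comap.2 fun p hp => ?_) (Ideal.span_le.2 fun q hq => hqC q hq)
    have := hI hp
    rw [RingHom.mem_ker] at this
    simp [Ideal.mem_comap, RingHom.mem_ker, evC_inB, this]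
  have hmap : I ≤ K.comap (inB A B C E F₀) := fun p hp =>
    Ideal.mem_sup_left (Ideal.mem_map_of_mem _ hp)
  have hmemB : ∀ q ∈ qB, Ideal.Quotient.mk I q = 0 := fun q hq =>
    Ideal.Quotient.eq_zero_iff_mem.2 (Ideal.subset_span (Finset.mem_union_left _ hq))
  have hmemC : ∀ q ∈ qC, Ideal.Quotient.mk K q = 0 := fun q hq =>
    Ideal.Quotient.eq_zero_iff_mem.2 (Ideal.mem_sup_right (Ideal.subset_span hq))
  let mB := Ideal.Quotient.mkₐ A I
  let mC := Ideal.Quotient.mkₐ A K
  have hB : ∀ e : E, IsIntegral A (mB (X e)) := fun e => ⟨pB e.1, hpB e.1, by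
    rw [← Polynomial.aeval_def, Polynomial.aeval_algHom_apply]
    exact hmemB _ (Finset.mem_union_left _ (Finset.mem_union_right _
      (Finset.mem_image_of_mem _ (Finset.mem_univ e))))⟩
  let τ := Ideal.quotientMapₐ K (inB A B C E F₀) hmap
  have hτ : ∀ p, τ (mB p) = mC (inB A B C E F₀ p) := fun p => rfl
  refine ⟨{ E := E, F := F₀, I := I, K := K,
            I_fg := ⟨_, rfl⟩,
            K_fg := Submodule.FG.sup (Ideal.FG.map (show I.FG from ⟨_, rfl⟩) _) ⟨qC, rfl⟩,
            I_le := hI, K_le := hK, map_le := hmap,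
            finB := isIntegral_of_gens mB Ideal.Quotient.mk_surjective hB,
            finC := isIntegral_of_gens mC Ideal.Quotient.mk_surjective ?_,
            surjB := fun hs => ?_, surjC := fun hs => ?_, surjBC := fun hs => ?_,
            nilBC := fun hs hn => ?_ }, hE, Finset.Subset.refl _, fun p hp => ?_, fun p hp => ?_⟩
  · rintro (e | f)
    · have := (hB e).map τ
      rwa [hτ, inB, rename_X] at this
    · refine ⟨pC f.1, hpC f.1, ?_⟩
      rw [← Polynomial.aeval_def, Polynomial.aeval_algHom_apply]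
      exact hmemC _ (Finset.mem_union_left _ (Finset.mem_union_left _ (Finset.mem_union_right _
        (Finset.mem_image_of_mem _ (Finset.mem_univ f)))))
  · refine surjective_of_gens (Algebra.ofId A _) mB Ideal.Quotient.mk_surjective fun e =>
      ⟨Function.invFun (algebraMap A B) e.1, ?_⟩
    have := hmemB ((X e : PB A B E) - algebraMap A _ (Function.invFun (algebraMap A B) e.1))
      (Finset.mem_union_right _ (by
        rw [if_pos hs]; exact Finset.mem_image_of_mem _ (Finset.mem_univ e)))
    rw [map_sub, sub_eq_zero] at this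
    exact this.symm
  · refine surjective_of_gens (Algebra.ofId A _) mC Ideal.Quotient.mk_surjective fun t =>
      ⟨Function.invFun (algebraMap A C) (Sum.elim (fun e => algebraMap B C e.1) (fun f => f.1) t), ?_⟩
    have := hmemC ((X t : PC A B C E F₀) - algebraMap A _
      (Function.invFun (algebraMap A C) (Sum.elim (fun e => algebraMap B C e.1) (fun f => f.1) t)))
      (Finset.mem_union_right _ (by
        rw [if_pos hs]; exact Finset.mem_image_of_mem _ (Finset.mem_univ t)))
    rw [map_sub, sub_eq_zero] at this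
    exact this.symm
  · refine surjective_of_gens τ mC Ideal.Quotient.mk_surjective ?_
    rintro (e | f)
    · exact ⟨mB (X e), by change τ (mB (X e)) = _; rw [hτ, inB, rename_X]⟩
    · refine ⟨mB (X ⟨lift f.1, hlift f⟩), ?_⟩
      change τ (mB _) = _
      rw [hτ, inB, rename_X]
      have := hmemC ((X (.inr f) : PC A B C E F₀) - X (.inl ⟨lift f.1, hlift f⟩))
        (Finset.mem_union_left _ (Finset.mem_union_right _ (by
          rw [if_pos hs]; exact Finset.mem_image_of_mem _ (Finset.mem_univ f))))
      rw [map_sub, sub_eq_zero] at this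
      exact this.symm
  · let N : Ideal (PB A B E ⧸ I) := Ideal.span (qC.image fun q => mB (σ q) : Finset _)
    have h1 : RingHom.ker τ ≤ N := by
      intro x hx
      obtain ⟨p, rfl⟩ := Ideal.Quotient.mk_surjective x
      have hx' : inB A B C E F₀ p ∈ K := Ideal.Quotient.eq_zero_iff_mem.1 hx
      have h2 : mB (σ (inB A B C E F₀ p)) ∈ N := by
        refine (show K ≤ N.comap (mB.comp σ).toRingHom from sup_le ?_ ?_) hx'
        · refine Ideal.map_le_iff_le_comap.2 fun r hr => ?_
          change mB (σ (inB A B C E F₀ r)) ∈ N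
          rw [hσin, show mB r = 0 from Ideal.Quotient.eq_zero_iff_mem.2 hr]
          exact N.zero_mem
        · exact Ideal.span_le.2 fun q hq => Ideal.subset_span (Finset.mem_image_of_mem _ hq)
      rwa [hσin] at h2
    have h3 : N ≤ nilradical _ := by
      refine Ideal.span_le.2 fun x hx => ?_
      obtain ⟨q, hq, rfl⟩ := Finset.mem_image.1 hx
      refine ⟨hn.choose, ?_⟩
      show mB (σ q) ^ hn.choose = 0
      rw [← map_pow]
      exact Ideal.Quotient.eq_zero_iff_mem.2 (Ideal.subset_span (Finset.mem_union_right _ (by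
        simp only [qN]; rw [dif_pos ⟨hs, hn⟩]; exact Finset.mem_image_of_mem _ hq)))
    obtain ⟨n, hn'⟩ := (Ideal.FG.isNilpotent_iff_le_nilradical (I := N) ⟨_, rfl⟩).2 h3
    exact ⟨n, le_bot_iff.1 ((Ideal.pow_right_mono h1 n).trans_eq hn')⟩
  · exact Ideal.subset_span (Finset.mem_union_left _ (Finset.mem_union_left _ (Finset.mem_union_left _
      (Finset.mem_image_of_mem _ hp))))
  · exact Ideal.mem_sup_right (Ideal.subset_span (Finset.mem_union_left _ (Finset.mem_union_left _
      (Finset.mem_union_left _ (Finset.mem_image_of_mem _ hp)))))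

/-- two stages plus extra relations are dominated by a stage -/
theorem exists_ge (s t : Stage A B C) (RB : Finset (PB A B (s.E)))
    (RC : Finset (PC A B C s.E s.F)) (hRB : ∀ p ∈ RB, evB A B _ p = 0)
    (hRC : ∀ p ∈ RC, evC A B C _ _ p = 0) :
    ∃ (r : Stage A B C) (_ : s ≤ r) (_ : t ≤ r) (h : s.E ⊆ r.E) (h' : s.F ⊆ r.F),
      (∀ p ∈ RB, renB A B h p ∈ r.I) ∧ ∀ p ∈ RC, renC A B C h h' p ∈ r.K := by
  classical
  obtain ⟨gI, hgI⟩ := s.I_fg
  obtain ⟨gK, hgK⟩ := s.K_fg
  obtain ⟨gI', hgI'⟩ := t.I_fg
  obtain ⟨gK', hgK'⟩ := t.K_fg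
  have a : s.E ⊆ s.E ∪ t.E := Finset.subset_union_left
  have a' : t.E ⊆ s.E ∪ t.E := Finset.subset_union_right
  have b : s.F ⊆ s.F ∪ t.F := Finset.subset_union_left
  have b' : t.F ⊆ s.F ∪ t.F := Finset.subset_union_right
  obtain ⟨r, h, h', hI, hK⟩ := exists_stage (s.E ∪ t.E) (s.F ∪ t.F)
    ((gI ∪ RB).image (renB A B a) ∪ gI'.image (renB A B a'))
    ((gK ∪ RC).image (renC A B C a b) ∪ gK'.image (renC A B C a' b'))
    (by
      intro p hp
      simp only [Finset.mem_union, Finset.mem_image] at hp
      rcases hp with ⟨q, hq | hq, rfl⟩ | ⟨q, hq, rfl⟩ <;> rw [evB_renB]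
      · exact RingHom.mem_ker.1 (s.I_le (hgI ▸ Ideal.subset_span hq))
      · exact hRB q hq
      · exact RingHom.mem_ker.1 (t.I_le (hgI' ▸ Ideal.subset_span hq)))
    (by
      intro p hp
      simp only [Finset.mem_union, Finset.mem_image] at hp
      rcases hp with ⟨q, hq | hq, rfl⟩ | ⟨q, hq, rfl⟩ <;> rw [evC_renC]
      · exact RingHom.mem_ker.1 (s.K_le (hgK ▸ Ideal.subset_span hq))
      · exact hRC q hq
      · exact RingHom.mem_ker.1 (t.K_le (hgK' ▸ Ideal.subset_span hq)))
  have eB : ∀ {E : Finset B} (x : E ⊆ s.E ∪ t.E) (q : PB A B E),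
      renB A B h (renB A B x q) = renB A B (x.trans h) q := fun x q =>
    DFunLike.congr_fun (show (renB A B h).comp (renB A B x) = _ from
      MvPolynomial.algHom_ext fun e => by simp [renB]) q
  have eC : ∀ {E : Finset B} {F : Finset C} (x : E ⊆ s.E ∪ t.E) (y : F ⊆ s.F ∪ t.F)
      (q : PC A B C E F),
      renC A B C h h' (renC A B C x y q) = renC A B C (x.trans h) (y.trans h') q := fun x y q =>
    DFunLike.congr_fun (show (renC A B C h h').comp (renC A B C x y) = _ from
      MvPolynomial.algHom_ext fun e => by cases e <;> simp [renC]) q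
  refine ⟨r, ⟨a.trans h, b.trans h', ?_, ?_⟩, ⟨a'.trans h, b'.trans h', ?_, ?_⟩, a.trans h, b.trans h',
    fun p hp => ?_, fun p hp => ?_⟩
  · rw [← hgI]; refine Ideal.span_le.2 fun q hq => ?_
    rw [SetLike.mem_coe, Ideal.mem_comap, ← eB a]
    exact hI _ (by simp only [Finset.mem_union, Finset.mem_image]; exact Or.inl ⟨q, Or.inl hq, rfl⟩)
  · rw [← hgK]; refine Ideal.span_le.2 fun q hq => ?_
    rw [SetLike.mem_coe, Ideal.mem_comap, ← eC a b]
    exact hK _ (by simp only [Finset.mem_union, Finset.mem_image]; exact Or.inl ⟨q, Or.inl hq, rfl⟩)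
  · rw [← hgI']; refine Ideal.span_le.2 fun q hq => ?_
    rw [SetLike.mem_coe, Ideal.mem_comap, ← eB a']
    exact hI _ (by simp only [Finset.mem_union, Finset.mem_image]; exact Or.inr ⟨q, hq, rfl⟩)
  · rw [← hgK']; refine Ideal.span_le.2 fun q hq => ?_
    rw [SetLike.mem_coe, Ideal.mem_comap, ← eC a' b']
    exact hK _ (by simp only [Finset.mem_union, Finset.mem_image]; exact Or.inr ⟨q, hq, rfl⟩)
  · rw [← eB a]
    exact hI _ (by simp only [Finset.mem_union, Finset.mem_image]; exact Or.inl ⟨p, Or.inr hp, rfl⟩)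
  · rw [← eC a b]
    exact hK _ (by simp only [Finset.mem_union, Finset.mem_image]; exact Or.inl ⟨p, Or.inr hp, rfl⟩)

instance : Nonempty (Stage A B C) :=
  ⟨(exists_stage (A := A) (∅ : Finset B) (∅ : Finset C) ∅ ∅ (by simp) (by simp)).choose⟩

instance : IsDirectedOrder (Stage A B C) := ⟨fun s t => by
  obtain ⟨r, h, h', -⟩ := exists_ge s t ∅ ∅ (by simp) (by simp)
  exact ⟨r, h, h'⟩⟩

/-- transition map -/
def tB {s t : Stage A B C} (h : s ≤ t) : (PB A B s.E ⧸ s.I) →ₐ[A] (PB A B t.E ⧸ t.I) :=
  Ideal.quotientMapₐ t.I (renB A B h.1) h.2.2.1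

/-- transition map -/
def tC {s t : Stage A B C} (h : s ≤ t) : (PC A B C s.E s.F ⧸ s.K) →ₐ[A] (PC A B C t.E t.F ⧸ t.K) :=
  Ideal.quotientMapₐ t.K (renC A B C h.1 h.2.1) h.2.2.2

/-- the maps to `B` -/
def gB (s : Stage A B C) : (PB A B s.E ⧸ s.I) →ₐ[A] B :=
  Ideal.Quotient.liftₐ s.I (evB A B s.E) fun _ hp => RingHom.mem_ker.1 (s.I_le hp)

/-- the maps to `C` -/
def gC (s : Stage A B C) : (PC A B C s.E s.F ⧸ s.K) →ₐ[A] C :=
  Ideal.Quotient.liftₐ s.K (evC A B C s.E s.F) fun _ hp => RingHom.mem_ker.1 (s.K_le hp)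

omit [Algebra.IsIntegral A B] [Algebra.IsIntegral A C] in
/-- Recognise a filtered colimit of algebras on elements. -/
def isColimitUnder {ι : Type u} [SmallCategory ι] [IsFiltered ι] {R : CommRingCat.{u}}
    (F : ι ⥤ Under R) (c : Cocone F)
    (hsurj : ∀ x : c.pt.right, ∃ i y, (c.ι.app i).right.hom y = x)
    (hker : ∀ i (y : (F.obj i).right), (c.ι.app i).right.hom y = 0 →
      ∃ (j : ι) (φ : i ⟶ j), (F.map φ).right.hom y = 0) : IsColimit c :=
  let c' := (Under.forget R).mapCocone c
  haveI : PreservesFilteredColimits (forget CommRingCat.{u}) := inferInstance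
  have : PreservesColimit (F ⋙ Under.forget R) (forget CommRingCat.{u}) := inferInstance
  haveI : ReflectsColimit (F ⋙ Under.forget R) (forget CommRingCat.{u}) :=
    reflectsColimit_of_reflectsIsomorphisms _ _
  have hc' : IsColimit c' := isColimitOfReflects (forget CommRingCat.{u})
    (Types.FilteredColimit.isColimitOf _ _
      (fun x => by obtain ⟨i, y, hy⟩ := hsurj x; exact ⟨i, y, hy.symm⟩)
      (fun i j xi xj h => by
        let k := IsFiltered.max i j
        let fi := IsFiltered.leftToMax i j
        let fj := IsFiltered.rightToMax i j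
        have h' : (c.ι.app k).right.hom ((F.map fi).right.hom xi - (F.map fj).right.hom xj) = 0 := by
          rw [map_sub, sub_eq_zero]
          have e1 := congrArg (fun q => q.right.hom xi) (c.w fi)
          have e2 := congrArg (fun q => q.right.hom xj) (c.w fj)
          exact e1.trans (h.trans e2.symm)
        obtain ⟨l, φ, hl⟩ := hker k _ h'
        refine ⟨l, fi ≫ φ, fj ≫ φ, ?_⟩
        rw [map_sub, sub_eq_zero] at hl
        simp only [Functor.comp_map, Functor.map_comp]
        exact hl))
  { desc := fun s => Under.homMk (hc'.desc ((Under.forget R).mapCocone s)) (by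
      obtain ⟨i⟩ := IsFiltered.nonempty (C := ι)
      have h1 : c.pt.hom = (F.obj i).hom ≫ (c.ι.app i).right := (Under.w (c.ι.app i)).symm
      rw [h1, Category.assoc]
      refine (congrArg (_ ≫ ·) (hc'.fac ((Under.forget R).mapCocone s) i)).trans ?_
      exact Under.w (s.ι.app i))
    fac := fun s j => Under.UnderMorphism.ext (hc'.fac ((Under.forget R).mapCocone s) j)
    uniq := fun s m hm => Under.UnderMorphism.ext (hc'.uniq ((Under.forget R).mapCocone s) m.right
      fun j => congrArg (fun q => q.right) (hm j)) }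

variable (A B C)

/-- the diagram for `B` -/
def DB : Stage A B C ⥤ Under (CommRingCat.of A) where
  obj s := Under.mk (CommRingCat.ofHom (algebraMap A (PB A B s.E ⧸ s.I)))
  map φ := Under.homMk (CommRingCat.ofHom (tB (leOfHom φ)).toRingHom)
    (CommRingCat.hom_ext (RingHom.ext fun a => (tB (leOfHom φ)).commutes a))
  map_id s := by
    refine Under.UnderMorphism.ext (CommRingCat.hom_ext ?_)
    refine Ideal.Quotient.ringHom_ext (MvPolynomial.ringHom_ext (fun a => ?_) fun e => ?_) <;>
      simp [tB, renB] <;> rfl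
  map_comp φ ψ := by
    refine Under.UnderMorphism.ext (CommRingCat.hom_ext ?_)
    refine Ideal.Quotient.ringHom_ext (MvPolynomial.ringHom_ext (fun a => ?_) fun e => ?_) <;>
      simp [tB, renB] <;> rfl

/-- the diagram for `C` -/
def DC : Stage A B C ⥤ Under (CommRingCat.of A) where
  obj s := Under.mk (CommRingCat.ofHom (algebraMap A (PC A B C s.E s.F ⧸ s.K)))
  map φ := Under.homMk (CommRingCat.ofHom (tC (leOfHom φ)).toRingHom)
    (CommRingCat.hom_ext (RingHom.ext fun a => (tC (leOfHom φ)).commutes a))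
  map_id s := by
    refine Under.UnderMorphism.ext (CommRingCat.hom_ext ?_)
    refine Ideal.Quotient.ringHom_ext (MvPolynomial.ringHom_ext (fun a => ?_) fun e => ?_) <;>
      (try cases e) <;> simp [tC, renC] <;> rfl
  map_comp φ ψ := by
    refine Under.UnderMorphism.ext (CommRingCat.hom_ext ?_)
    refine Ideal.Quotient.ringHom_ext (MvPolynomial.ringHom_ext (fun a => ?_) fun e => ?_) <;>
      (try cases e) <;> simp [tC, renC] <;> rfl

/-- the morphism of diagrams -/
def tau : DB A B C ⟶ DC A B C where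
  app s := Under.homMk (CommRingCat.ofHom (Ideal.quotientMapₐ s.K (inB A B C s.E s.F) s.map_le).toRingHom)
    (CommRingCat.hom_ext (RingHom.ext fun a => (Ideal.quotientMapₐ s.K _ s.map_le).commutes a))
  naturality s t φ := by
    refine Under.UnderMorphism.ext (CommRingCat.hom_ext ?_)
    refine Ideal.Quotient.ringHom_ext (MvPolynomial.ringHom_ext (fun a => ?_) fun e => ?_)
    · exact congrArg (Ideal.Quotient.mk t.K) (by simp [renB, renC, inB])
    · exact congrArg (Ideal.Quotient.mk t.K) (by simp [renB, renC, inB])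

/-- the cocone for `B` -/
def cB : DB A B C ⟶ (Functor.const _).obj (Under.mk (CommRingCat.ofHom (algebraMap A B))) where
  app s := Under.homMk (CommRingCat.ofHom (gB s).toRingHom)
    (CommRingCat.hom_ext (RingHom.ext fun a => (gB s).commutes a))
  naturality s t φ := by
    refine Under.UnderMorphism.ext (CommRingCat.hom_ext ?_)
    refine Ideal.Quotient.ringHom_ext (MvPolynomial.ringHom_ext (fun a => ?_) fun e => ?_) <;>
      simp [DB, tB, gB, renB, evB] <;> rfl

/-- the cocone for `C` -/
def cC : DC A B C ⟶ (Functor.const _).obj (Under.mk (CommRingCat.ofHom (algebraMap A C))) where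
  app s := Under.homMk (CommRingCat.ofHom (gC s).toRingHom)
    (CommRingCat.hom_ext (RingHom.ext fun a => (gC s).commutes a))
  naturality s t φ := by
    refine Under.UnderMorphism.ext (CommRingCat.hom_ext ?_)
    refine Ideal.Quotient.ringHom_ext (MvPolynomial.ringHom_ext (fun a => ?_) fun e => ?_) <;>
      (try cases e) <;> simp [DC, tC, gC, renC, evC] <;> rfl

/-- colimit `B` -/
def isColimitB : IsColimit (Cocone.mk _ (cB A B C)) := isColimitUnder _ _
  (fun (b : B) => by
    classical
    obtain ⟨s, h, -, -⟩ := exists_stage (A := A) (B := B) (C := C) {b} ∅ ∅ ∅ (by simp) (by simp)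
    refine ⟨s, Ideal.Quotient.mk _ (X ⟨b, h (Finset.mem_singleton_self b)⟩), ?_⟩
    change gB s _ = _
    simp [gB, evB])
  (fun s y hy => by
    obtain ⟨p, rfl⟩ := Ideal.Quotient.mk_surjective y
    have hp : evB A B s.E p = 0 := hy
    obtain ⟨r, hsr, -, h, -, hI, -⟩ := exists_ge s s {p} ∅
      (fun q hq => by rw [Finset.mem_singleton.1 hq]; exact hp) (by simp)
    exact ⟨r, homOfLE hsr, Ideal.Quotient.eq_zero_iff_mem.2 (hI p (Finset.mem_singleton_self p))⟩)

/-- colimit `C` -/
def isColimitC : IsColimit (Cocone.mk _ (cC A B C)) := isColimitUnder _ _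
  (fun (b : C) => by
    classical
    obtain ⟨s, -, h, -⟩ := exists_stage (A := A) (B := B) (C := C) ∅ {b} ∅ ∅ (by simp) (by simp)
    refine ⟨s, Ideal.Quotient.mk _ (X (.inr ⟨b, h (Finset.mem_singleton_self b)⟩)), ?_⟩
    change gC s _ = _
    simp [gC, evC])
  (fun s y hy => by
    obtain ⟨p, rfl⟩ := Ideal.Quotient.mk_surjective y
    have hp : evC A B C s.E s.F p = 0 := hy
    obtain ⟨r, hsr, -, h, h', -, hK⟩ := exists_ge s s ∅ {p} (by simp)
      (fun q hq => by rw [Finset.mem_singleton.1 hq]; exact hp)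
    exact ⟨r, homOfLE hsr, Ideal.Quotient.eq_zero_iff_mem.2 (hK p (Finset.mem_singleton_self p))⟩)

lemma finite_fp_of_stage {σ : Type u} [Finite σ] (I : Ideal (MvPolynomial σ A)) (hI : I.FG)
    [Algebra.IsIntegral A (MvPolynomial σ A ⧸ I)] :
    (algebraMap A (MvPolynomial σ A ⧸ I)).Finite ∧
      (algebraMap A (MvPolynomial σ A ⧸ I)).FinitePresentation := by
  haveI : Algebra.FinitePresentation A (MvPolynomial σ A ⧸ I) :=
    Algebra.FinitePresentation.quotient hI
  exact ⟨RingHom.finite_algebraMap.2 Algebra.IsIntegral.finite,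
    RingHom.finitePresentation_algebraMap.2 inferInstance⟩

end Groth.Agent.LimTop61.IntPair
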