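import Groth.Agent.LimTop61.AbsClosureScheme
import Groth.Agent.LimTop61.QfRefine

/-!
An fppf cover is dominated Zariski locally by an integral surjective morphism.
-/

set_option autoImplicit false
set_option linter.style.haveILetI false
set_option backward.isDefEq.respectTransparency false
set_option backward.defeqAttrib.useBackward true

universe u

open CategoryTheory CategoryTheory.Limits AlgebraicGeometry TensorProduct

noncomputable section

namespace Groth.Agent.LimTop61

/-- The ring-theoretic core. -/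
theorem exists_section_away {A C B : Type u} [CommRing A] [CommRing C] [CommRing B] [Algebra A C]
    [Algebra A B] [Algebra.FinitePresentation A B] [Module.Flat A B] [Algebra.QuasiFinite A B]
    (hC : HasRoots C) (q : Ideal C) [q.IsPrime] [IsDomain (Localization.AtPrime q)]
    (x : PrimeSpectrum B)
    (hx : PrimeSpectrum.comap (algebraMap A B) x = PrimeSpectrum.comap (algebraMap A C) ⟨q, ‹_›⟩) :
    ∃ c ∉ q, Nonempty (B →ₐ[A] Localization.Away c) := by
  let D := Localization.AtPrime q
  have hclosed : PrimeSpectrum.comap (algebraMap A D) (IsLocalRing.closedPoint D) =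
      PrimeSpectrum.comap (algebraMap A B) x := by
    rw [hx, IsScalarTower.algebraMap_eq A C D, PrimeSpectrum.comap_comp_apply]
    congr 1
    exact PrimeSpectrum.ext (IsLocalization.AtPrime.under_maximalIdeal D q)
  obtain ⟨w, hw, -⟩ := Scheme.exists_preimage_of_isPullback
    (isPullback_SpecMap_of_isPushout _ _ _ _ (CommRingCat.isPushout_tensorProduct A D B))
    (IsLocalRing.closedPoint D) x hclosed
  have hD : HasRoots D := hC.localization q.primeCompl D
  let P : Ideal (D ⊗[A] B) := w.asIdeal
  have : P.IsPrime := w.isPrime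
  have : P.LiesOver (IsLocalRing.maximalIdeal D) := ⟨(congrArg PrimeSpectrum.asIdeal hw).symm⟩
  have : Algebra.QuasiFinite D (D ⊗[A] B) := inferInstance
  have : Algebra.QuasiFiniteAt D P := inferInstance
  obtain ⟨σ⟩ := exists_algHom_of_flat_quasiFiniteAt hD P
  exact exists_algHom_away q ((σ.restrictScalars A).comp Algebra.TensorProduct.includeRight)

/-- The statement of S1378. -/
theorem exists_integral_refinement {S' S : Scheme.{u}} (g : S' ⟶ S) [Flat g]
    [LocallyOfFinitePresentation g] [Surjective g] :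
    ∃ (T : Scheme.{u}) (π : T ⟶ S), Surjective π ∧ IsIntegralHom π ∧
      ∀ t : ↑T, ∃ (V : T.Opens) (r : ↑V ⟶ S'), t ∈ V ∧ r ≫ g = V.ι ≫ π := by
  obtain ⟨Q, h, m, hm, hfl, hfp, hqf, hsurj⟩ := exists_lqf_refinement g
  refine ⟨AbsClosure.T S, AbsClosure.π S, inferInstance, inferInstance, fun t => ?_⟩
  obtain ⟨_, ⟨U, hU, rfl⟩, htU, -⟩ :=
    S.isBasis_affineOpens.exists_subset_of_mem_open (Set.mem_univ (AbsClosure.π S t)) isOpen_univ
  obtain ⟨z, hz⟩ : t ∈ ((AbsClosure.chart S).f ⟨U, hU⟩).opensRange := by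
    rw [← AbsClosure.π_preimage]; exact htU
  obtain ⟨x, hx⟩ := h.surjective (AbsClosure.π S t)
  obtain ⟨_, ⟨W, hW, rfl⟩, hxW, hWU⟩ :=
    Q.isBasis_affineOpens.exists_subset_of_mem_open (show x ∈ h ⁻¹ᵁ U by
      show h x ∈ U
      rw [hx]; exact htU) (h ⁻¹ᵁ U).2
  let A := Γ(S, U)
  let C := AbsClosure.integ S U
  let B := Γ(Q, W)
  let φ : A →+* C := ((AbsClosure.diagramMap S).app (.op U)).hom
  algebraize [(h.appLE U W hWU).hom, φ]
  have : Algebra.FinitePresentation A B :=
    LocallyOfFinitePresentation.finitePresentation_appLE h hU hW hWU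
  have : Module.Flat A B := Flat.flat_appLE h hU hW hWU
  have : Algebra.QuasiFinite A B := LocallyQuasiFinite.quasiFinite_appLE hU hW hWU
  let q : Ideal C := z.asIdeal
  have : q.IsPrime := z.isPrime
  have := AbsClosure.isDomain_localization S U q
  obtain ⟨x', hx'⟩ : x ∈ Set.range hW.fromSpec := by rw [hW.range_fromSpec]; exact hxW
  have hcomap : PrimeSpectrum.comap (algebraMap A B) x' = PrimeSpectrum.comap (algebraMap A C) z := by
    apply hU.fromSpec.isOpenEmbedding.injective
    change (Spec.map (h.appLE U W hWU) ≫ hU.fromSpec) x' =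
      (Spec.map ((AbsClosure.diagramMap S).app (.op U)) ≫ hU.fromSpec) z
    rw [IsAffineOpen.SpecMap_appLE_fromSpec h hU hW hWU, ← AbsClosure.chart_π S ⟨U, hU⟩,
      Scheme.Hom.comp_apply, Scheme.Hom.comp_apply, hx', hx]
    exact congrArg (AbsClosure.π S) hz.symm
  obtain ⟨c, hc, ⟨σ⟩⟩ := exists_section_away (A := A) (B := B) (AbsClosure.hasRoots_integ S U) q x' hcomap
  let L := Localization.Away c
  let j : Spec (.of L) ⟶ AbsClosure.T S :=
    Spec.map (CommRingCat.ofHom (algebraMap C L)) ≫ (AbsClosure.chart S).f ⟨U, hU⟩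
  have : IsOpenImmersion (Spec.map (CommRingCat.ofHom (algebraMap C L))) :=
    IsOpenImmersion.of_isLocalization c
  have : IsOpenImmersion j := inferInstanceAs (IsOpenImmersion (_ ≫ _))
  let r : Spec (.of L) ⟶ S' := Spec.map (CommRingCat.ofHom σ.toRingHom) ≫ hW.fromSpec ≫ m
  have hr : r ≫ g = j ≫ AbsClosure.π S := by
    simp only [r, j, Category.assoc, hm, AbsClosure.chart_π]
    rw [← IsAffineOpen.SpecMap_appLE_fromSpec h hU hW hWU, ← Spec.map_comp_assoc,
      ← Spec.map_comp_assoc]
    congr 2
    ext a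
    exact σ.commutes a
  refine ⟨j.opensRange, j.isoOpensRange.inv ≫ r, ?_, ?_⟩
  · obtain ⟨w, hw⟩ : z ∈ Set.range (PrimeSpectrum.comap (algebraMap C L)) := by
      rw [PrimeSpectrum.localization_away_comap_range L c]
      exact hc
    exact ⟨w, by rw [Scheme.Hom.comp_apply]; exact (congrArg _ hw).trans hz⟩
  · rw [Category.assoc, hr, ← Scheme.Hom.isoOpensRange_inv_comp j]
    simp only [j, Category.assoc]

end Groth.Agent.LimTop61
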