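import Groth.Agent.LimTop61.QfSplit

/-!
Étale localisation splitting an integral algebra over a prime.
-/

set_option autoImplicit false
set_option linter.style.haveILetI false
set_option backward.isDefEq.respectTransparency false
set_option backward.defeqAttrib.useBackward true

universe u

open CategoryTheory CategoryTheory.Limits AlgebraicGeometry TensorProduct

namespace Groth.Agent.LimTop61

/-- The residue field extension at a prime of an integral algebra is algebraic. -/
theorem isAlgebraic_residueField {R S : Type u} [CommRing R] [CommRing S] [Algebra R S]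
    [Algebra.IsIntegral R S] (p : Ideal R) [p.IsPrime] (q : Ideal S) [q.IsPrime]
    (hq : q.comap (algebraMap R S) = p) :
    letI := (Ideal.ResidueField.map p q (algebraMap R S) hq.symm).toAlgebra
    Algebra.IsAlgebraic p.ResidueField q.ResidueField := by
  letI := (Ideal.ResidueField.map p q (algebraMap R S) hq.symm).toAlgebra
  have : IsScalarTower R p.ResidueField q.ResidueField := .of_algebraMap_eq fun x =>
    (Ideal.ResidueField.map_algebraMap p q (algebraMap R S) hq.symm x).symm
  refine ⟨fun z => ?_⟩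
  have hS : ∀ a : S, IsAlgebraic p.ResidueField (algebraMap S q.ResidueField a) := fun a =>
    (((Algebra.IsIntegral.isIntegral (R := R) a).map
      (IsScalarTower.toAlgHom R S q.ResidueField)).tower_top (A := p.ResidueField)).isAlgebraic
  obtain ⟨a, s, -, rfl⟩ := IsFractionRing.div_surjective (A := S ⧸ q) z
  obtain ⟨a, rfl⟩ := Ideal.Quotient.mk_surjective a
  obtain ⟨s, rfl⟩ := Ideal.Quotient.mk_surjective s
  rw [div_eq_mul_inv]
  exact (hS a).mul (hS s).inv

/-- Two maps to a field agreeing on generators of the separable closure and on the base agree. -/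
theorem eq_of_agree_separableClosure' {F E L : Type u} [Field F] [Field E] [Field L] [Algebra F E]
    [Algebra.IsAlgebraic F E] [Module.Finite F (separableClosure F E)]
    (σ₁ σ₂ : E →+* L) (hF : ∀ z, σ₁ (algebraMap F E z) = σ₂ (algebraMap F E z))
    (hS : ∀ i, σ₁ (Module.finBasis F (separableClosure F E) i : E) =
      σ₂ (Module.finBasis F (separableClosure F E) i : E)) : σ₁ = σ₂ := by
  apply IsPurelyInseparable.injective_comp_algebraMap (separableClosure F E) E L
  ext z
  show σ₁ (z : E) = σ₂ (z : E)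
  conv_lhs => rw [← (Module.finBasis F (separableClosure F E)).sum_repr z]
  conv_rhs => rw [← (Module.finBasis F (separableClosure F E)).sum_repr z]
  simp only [IntermediateField.coe_sum, map_sum, IntermediateField.coe_smul]
  simp only [Algebra.smul_def, map_mul, hF, hS]

set_option backward.isDefEq.respectTransparency true in
/-- Finitely many elements detecting maps out of a residue field. -/
theorem exists_residue_generators {R S : Type u} [CommRing R] [CommRing S] [Algebra R S]
    [Algebra.IsIntegral R S] (p : Ideal R) [p.IsPrime] (q : Ideal S) [q.IsPrime]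
    (hq : q.comap (algebraMap R S) = p)
    (hsep : letI := (Ideal.ResidueField.map p q (algebraMap R S) hq.symm).toAlgebra
      Module.Finite p.ResidueField (separableClosure p.ResidueField q.ResidueField)) :
    ∃ t : Finset S, ∀ (K : Type u) [Field K] (σ₁ σ₂ : q.ResidueField →+* K),
      (σ₁.comp (algebraMap S _)).comp (algebraMap R S) = (σ₂.comp (algebraMap S _)).comp (algebraMap R S) →
      (∀ x ∈ t, σ₁ (algebraMap S _ x) = σ₂ (algebraMap S _ x)) → σ₁ = σ₂ := by
  classical
  letI := (Ideal.ResidueField.map p q (algebraMap R S) hq.symm).toAlgebra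
  haveI := hsep
  haveI := isAlgebraic_residueField p q hq
  let B := Module.finBasis p.ResidueField (separableClosure p.ResidueField q.ResidueField)
  have hfrac : ∀ z : q.ResidueField, ∃ a s : S,
      z = algebraMap S _ a / algebraMap S _ s := fun z => by
    obtain ⟨a, s, -, h⟩ := IsFractionRing.div_surjective (A := S ⧸ q) z
    obtain ⟨a, rfl⟩ := Ideal.Quotient.mk_surjective a
    obtain ⟨s, rfl⟩ := Ideal.Quotient.mk_surjective s
    exact ⟨a, s, h.symm⟩
  choose a s h using hfrac
  refine ⟨Finset.univ.image (fun i => a (B i : q.ResidueField)) ∪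
    Finset.univ.image (fun i => s (B i : q.ResidueField)), fun K _ σ₁ σ₂ hR ht => ?_⟩
  refine eq_of_agree_separableClosure' (F := p.ResidueField) σ₁ σ₂ (fun z => ?_) fun i => ?_
  · refine RingHom.congr_fun (f := σ₁.comp (algebraMap p.ResidueField q.ResidueField))
      (g := σ₂.comp (algebraMap p.ResidueField q.ResidueField)) ?_ z
    refine Ideal.ResidueField.ringHom_ext (RingHom.ext fun r => ?_)
    have := RingHom.congr_fun hR r
    simp only [RingHom.comp_apply, RingHom.algebraMap_toAlgebra] at this ⊢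
    rwa [Ideal.ResidueField.map_algebraMap]
  · rw [h (B i : q.ResidueField), map_div₀, map_div₀,
      ht _ (Finset.mem_union_left _ (Finset.mem_image_of_mem _ (Finset.mem_univ i))),
      ht _ (Finset.mem_union_right _ (Finset.mem_image_of_mem _ (Finset.mem_univ i)))]

set_option backward.isDefEq.respectTransparency true in
/-- A finite subalgebra detecting the field-valued points over a prime. -/
theorem exists_detecting_subalgebra {R S : Type u} [CommRing R] [CommRing S] [Algebra R S]
    [Algebra.IsIntegral R S] (p : Ideal R) [p.IsPrime]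
    (hfin : {q : PrimeSpectrum S | q.asIdeal.comap (algebraMap R S) = p}.Finite)
    (hsep : ∀ (q : PrimeSpectrum S) (hq : q.asIdeal.comap (algebraMap R S) = p),
      letI := (Ideal.ResidueField.map p q.asIdeal (algebraMap R S) hq.symm).toAlgebra
      Module.Finite p.ResidueField (separableClosure p.ResidueField q.asIdeal.ResidueField)) :
    ∃ S₀ : Subalgebra R S, Module.Finite R S₀ ∧
      ∀ (K : Type u) [Field K] (φ ψ : S →+* K),
        φ.comp (algebraMap R S) = ψ.comp (algebraMap R S) →
        (RingHom.ker φ).comap (algebraMap R S) = p → (∀ x ∈ S₀, φ x = ψ x) → φ = ψ := by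
  classical
  let Q := {q : PrimeSpectrum S | q.asIdeal.comap (algebraMap R S) = p}
  have : Finite Q := hfin.to_subtype
  -- separating elements
  have hsep' : ∀ w : {w : Q × Q // ¬ w.1.1.asIdeal ≤ w.2.1.asIdeal}, ∃ x,
      x ∈ w.1.1.1.asIdeal ∧ x ∉ w.1.2.1.asIdeal := fun w => SetLike.not_le_iff_exists.1 w.2
  choose sepel hsepel using hsep'
  -- elements generating separable closures
  have hgen : ∀ q : Q, ∃ t : Finset S, ∀ (K : Type u) [Field K] (σ₁ σ₂ : q.1.asIdeal.ResidueField →+* K),
      (σ₁.comp (algebraMap S _)).comp (algebraMap R S) = (σ₂.comp (algebraMap S _)).comp (algebraMap R S) →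
      (∀ x ∈ t, σ₁ (algebraMap S _ x) = σ₂ (algebraMap S _ x)) → σ₁ = σ₂ :=
    fun q => exists_residue_generators p q.1.asIdeal q.2 (hsep q.1 q.2)
  choose t ht using hgen
  let G : Set S := Set.range sepel ∪ ⋃ q : Q, (t q : Set S)
  have hG : G.Finite := (Set.finite_range _).union (Set.finite_iUnion fun q => (t q).finite_toSet)
  refine ⟨Algebra.adjoin R G,
    ⟨(Submodule.fg_top _).2 (fg_adjoin_of_finite hG fun x _ => Algebra.IsIntegral.isIntegral x)⟩,
    fun K _ φ ψ hR hp h => ?_⟩
  have hG' : ∀ x ∈ G, φ x = ψ x := fun x hx => h x (Algebra.subset_adjoin hx)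
  have hpψ : (RingHom.ker ψ).comap (algebraMap R S) = p := by
    rw [← hp, RingHom.comap_ker, RingHom.comap_ker, hR]
  let qφ : Q := ⟨⟨RingHom.ker φ, RingHom.ker_isPrime φ⟩, hp⟩
  let qψ : Q := ⟨⟨RingHom.ker ψ, RingHom.ker_isPrime ψ⟩, hpψ⟩
  have hle : ∀ a b : Q, (∀ x ∈ G, x ∈ a.1.asIdeal → x ∈ b.1.asIdeal) → a.1.asIdeal ≤ b.1.asIdeal := by
    intro a b hab
    by_contra hne
    obtain ⟨h1, h2⟩ := hsepel ⟨(a, b), hne⟩
    exact h2 (hab _ (Or.inl ⟨_, rfl⟩) h1)
  have hq : RingHom.ker φ = RingHom.ker ψ :=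
    le_antisymm (hle qφ qψ fun x hx hxa => show ψ x = 0 from (hG' x hx).symm.trans hxa)
      (hle qψ qφ fun x hx hxa => show φ x = 0 from (hG' x hx).trans hxa)
  haveI : qφ.1.asIdeal.IsPrime := qφ.1.isPrime
  have hu : ∀ (χ : S →+* K), RingHom.ker χ = qφ.1.asIdeal →
      qφ.1.asIdeal.primeCompl ≤ (IsUnit.submonoid K).comap χ := fun χ hχ x hx =>
    isUnit_iff_ne_zero.2 fun h0 => hx (hχ ▸ h0)
  let σ₁ := Ideal.ResidueField.lift (I := qφ.1.asIdeal) φ le_rfl (hu φ rfl)
  let σ₂ := Ideal.ResidueField.lift (I := qφ.1.asIdeal) ψ hq.le (hu ψ hq.symm)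
  have e1 : ∀ x, σ₁ (algebraMap S _ x) = φ x := fun x => Ideal.ResidueField.lift_algebraMap _ φ le_rfl (hu φ rfl) x
  have e2 : ∀ x, σ₂ (algebraMap S _ x) = ψ x := fun x => Ideal.ResidueField.lift_algebraMap _ ψ hq.le (hu ψ hq.symm) x
  have hσ : σ₁ = σ₂ := ht qφ K σ₁ σ₂
    (RingHom.ext fun r => (e1 _).trans ((RingHom.congr_fun hR r).trans (e2 _).symm))
    (fun x hx => (e1 x).trans ((hG' x (Or.inr (Set.mem_iUnion.2 ⟨qφ, hx⟩))).trans (e2 x).symm))
  ext x
  exact (e1 x).symm.trans ((congrArg (fun σ => σ (algebraMap S _ x)) hσ).trans (e2 x))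

/-- A complete orthogonal family of idempotents from a clopen partition of the spectrum. -/
theorem exists_completeOrthogonalIdempotents_of_partition {B : Type u} [CommRing B] {ι : Type*}
    [Fintype ι] (V : ι → Set (PrimeSpectrum B)) (hc : ∀ i, IsClopen (V i))
    (hd : ∀ i j, (V i ∩ V j).Nonempty → i = j) (hcov : ∀ x, ∃ i, x ∈ V i) :
    ∃ e : ι → B, CompleteOrthogonalIdempotents e ∧ ∀ i x, x ∈ V i ↔ e i ∉ x.asIdeal := by
  classical
  choose e he hV using fun i => PrimeSpectrum.exists_idempotent_basicOpen_eq_of_isClopen (hc i)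
  have hmem : ∀ i (x : PrimeSpectrum B), x ∈ V i ↔ e i ∉ x.asIdeal := fun i x => by rw [hV i]; rfl
  have hortho : Pairwise fun i j => e i * e j = 0 := fun i j hij => by
    obtain ⟨n, hn⟩ : IsNilpotent (e i * e j) := by
      rw [← mem_nilradical, nilradical_eq_sInf, Ideal.mem_sInf]
      intro I hI
      by_contra hne
      refine hij (hd i j ⟨⟨I, hI⟩, (hmem i _).2 fun h => hne (I.mul_mem_right _ h),
        (hmem j _).2 fun h => hne (I.mul_mem_left _ h)⟩)
    rw [← ((he i).mul (he j)).pow_succ_eq n, pow_succ, hn, zero_mul]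
  have ho : OrthogonalIdempotents e := ⟨he, hortho⟩
  refine ⟨e, ⟨ho, ?_⟩, hmem⟩
  have hu : IsUnit (∑ i, e i) := by
    by_contra hu
    obtain ⟨I, hI, hmemI⟩ := exists_max_ideal_of_mem_nonunits hu
    obtain ⟨i, hi⟩ := hcov ⟨I, hI.isPrime⟩
    apply (hmem i _).1 hi
    have hsum := I.mul_mem_left (e i) hmemI
    rwa [Finset.mul_sum, Finset.sum_eq_single i (fun j _ hj => hortho (Ne.symm hj))
      (fun h => absurd (Finset.mem_univ i) h), (he i).eq] at hsum
  exact (IsIdempotentElem.iff_eq_one_of_isUnit hu).1 ho.isIdempotentElem_sum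

/-- Idempotents cutting out purely inseparable points of a base change of a finite algebra. -/
theorem exists_etale_split_finite {R S : Type u} [CommRing R] [CommRing S] [Algebra R S]
    [Module.Finite R S] (p : Ideal R) [p.IsPrime] :
    ∃ (R' : Type u) (_ : CommRing R') (_ : Algebra R R') (p' : Ideal R') (_ : p'.IsPrime),
      Algebra.Etale R R' ∧ p'.comap (algebraMap R R') = p ∧
      ∃ (m : ℕ) (e : Fin m → R' ⊗[R] S) (v : Fin m → PrimeSpectrum (R' ⊗[R] S)),
        CompleteOrthogonalIdempotents e ∧ ∀ j, e j ∉ (v j).asIdeal ∧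
          (v j).asIdeal.comap (algebraMap R' (R' ⊗[R] S)) = p' ∧
          (∀ w : PrimeSpectrum (R' ⊗[R] S), e j ∉ w.asIdeal →
            w.asIdeal.comap (algebraMap R' (R' ⊗[R] S)) = p' → w = v j) ∧
          ∀ (K : Type u) [Field K] [IsAlgClosed K] (φ ψ : R' ⊗[R] S →+* K),
            RingHom.ker φ = (v j).asIdeal → RingHom.ker ψ = (v j).asIdeal →
            φ.comp (algebraMap R' _) = ψ.comp (algebraMap R' _) → φ = ψ := by
  classical
  let f : Spec (.of S) ⟶ Spec (.of R) := Spec.map (CommRingCat.ofHom (algebraMap R S))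
  have : IsFinite f := (IsFinite.SpecMap_iff _).mpr (RingHom.finite_algebraMap.mpr ‹_›)
  let s : Spec (CommRingCat.of R) := ⟨p, ‹p.IsPrime›⟩
  have hfibfin : (f ⁻¹' {s}).Finite :=
    have : Algebra.QuasiFinite R S := inferInstance
    f.finite_preimage_singleton s
  have := hfibfin.to_subtype
  obtain ⟨n, ⟨en⟩⟩ : ∃ n, Nonempty (Fin n ≃ f ⁻¹' {s}) := ⟨_, ⟨(Finite.equivFin _).symm⟩⟩
  obtain ⟨U, g, u, hg, hgu, J, hJ, V, v, h1, h2, h3⟩ :=
    exists_qf_splitting_PI f s (fun i => (en i).1) (fun i j h => en.injective (Subtype.ext h))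
      (fun i => (en i).2) (fun i => f.quasiFiniteAt _)
  let σ := Σ i, J i
  let Pr := pullback.snd f g
  have hcl : ∀ i j, IsClosed (V i j : Set ↑(pullback f g)) := fun i j => by
    have := (h1 i j).2.1
    have : IsFinite (V i j).ι := IsFinite.of_comp _ Pr
    rw [← Scheme.Opens.range_ι]
    exact (V i j).ι.isClosedMap.isClosed_range
  let bad : Set ↑(pullback f g) := (⋃ a : σ, (V a.1 a.2 : Set ↑(pullback f g)))ᶜ ∪
    ⋃ w ∈ {w : σ × σ | w.1 ≠ w.2}, ((V w.1.1 w.1.2 : Set ↑(pullback f g)) ∩ V w.2.1 w.2.2)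
  have hbad : IsClosed bad :=
    ((isOpen_iUnion fun a : σ => (V a.1 a.2).2).isClosed_compl).union
      ((Set.toFinite _).isClosed_biUnion fun w _ => (hcl _ _).inter (hcl _ _))
  have huC : u ∉ Pr '' bad := by
    rintro ⟨w, hw, hwu⟩
    rcases hw with hw | hw
    · apply hw
      have hfw : pullback.fst f g w ∈ f ⁻¹' {s} := by
        show f (pullback.fst f g w) = s
        rw [← Scheme.Hom.comp_apply, pullback.condition, Scheme.Hom.comp_apply, hwu, hgu]
      obtain ⟨i, hi⟩ := en.surjective ⟨_, hfw⟩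
      obtain ⟨j, hj⟩ := h3 w i hwu (congrArg Subtype.val hi).symm
      exact Set.mem_iUnion.2 ⟨⟨i, j⟩, hj ▸ (h1 i j).1⟩
    · obtain ⟨a, ha, hwa, hwb⟩ := Set.mem_iUnion₂.1 hw
      have e1 := (h1 a.1.1 a.1.2).2.2.2.1 w hwa hwu
      have e2 := (h1 a.2.1 a.2.2).2.2.2.1 w hwb hwu
      obtain ⟨hi, hj⟩ := h2 _ _ _ _ (e1.symm.trans e2)
      exact ha (Sigma.ext hi hj)
  obtain ⟨_, ⟨U', hU', rfl⟩, huU', hU'C⟩ :=
    U.isBasis_affineOpens.exists_subset_of_mem_open (show u ∈ (Pr '' bad)ᶜ from huC)
      (Pr.isClosedMap _ hbad).isOpen_compl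
  let h : Spec Γ(U, U') ⟶ U := hU'.fromSpec
  obtain ⟨θ, hθ⟩ := Spec.map_surjective (h ≫ g)
  algebraize [θ.hom]
  have : Algebra.Etale R Γ(U, U') := by
    have : Etale (Spec.map θ) := by rw [hθ]; infer_instance
    exact (HasRingHomProperty.Spec_iff (P := @Etale)).mp this
  let R' := Γ(U, U')
  have sq : IsPullback (Spec.map (CommRingCat.ofHom
      (Algebra.TensorProduct.includeRight : S →ₐ[R] R' ⊗[R] S).toRingHom))
      (Spec.map (CommRingCat.ofHom (algebraMap R' (R' ⊗[R] S)))) f (h ≫ g) := by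
    rw [← hθ]
    exact (isPullback_SpecMap_of_isPushout _ _ _ _
      (CommRingCat.isPushout_tensorProduct R R' S)).flip
  let μ : Spec (.of (R' ⊗[R] S)) ⟶ pullback f g :=
    pullback.lift (Spec.map (CommRingCat.ofHom
      (Algebra.TensorProduct.includeRight : S →ₐ[R] R' ⊗[R] S).toRingHom))
      (Spec.map (CommRingCat.ofHom (algebraMap R' (R' ⊗[R] S))) ≫ h)
      (by rw [Category.assoc]; exact sq.w)
  let pR : Spec (.of (R' ⊗[R] S)) ⟶ Spec Γ(U, U') :=
    Spec.map (CommRingCat.ofHom (algebraMap R' (R' ⊗[R] S)))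
  have hμ1 : μ ≫ pullback.fst f g = _ := pullback.lift_fst _ _ _
  have hμ2 : μ ≫ Pr = pR ≫ h := pullback.lift_snd _ _ _
  have hμsq : IsPullback μ pR Pr h :=
    IsPullback.of_right (hμ1.symm ▸ sq) hμ2 (IsPullback.of_hasPullback f g)
  let p' : PrimeSpectrum R' := hU'.primeIdealOf ⟨u, huU'⟩
  have hp'u : h p' = u := hU'.fromSpec_primeIdealOf ⟨u, huU'⟩
  have hp'R : p'.asIdeal.comap (algebraMap R R') = p := by
    have : Spec.map θ p' = s := by
      rw [hθ, Scheme.Hom.comp_apply, hp'u, hgu]
    exact congrArg PrimeSpectrum.asIdeal this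
  let W : σ → Set (PrimeSpectrum (R' ⊗[R] S)) := fun a => μ ⁻¹' (V a.1 a.2 : Set ↑(pullback f g))
  have hWc : ∀ a, IsClopen (W a) := fun a =>
    ⟨(hcl a.1 a.2).preimage μ.continuous, (V a.1 a.2).2.preimage μ.continuous⟩
  have hgood : ∀ x, μ x ∉ bad := fun x hx => by
    have : Pr (μ x) ∈ U' := by
      rw [← Scheme.Hom.comp_apply, hμ2, Scheme.Hom.comp_apply]
      have h0 := Set.mem_range_self (f := h) (pR x)
      rwa [show Set.range h = U' from hU'.range_fromSpec] at h0
    exact hU'C this ⟨μ x, hx, rfl⟩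
  have : Fintype σ := Fintype.ofFinite σ
  obtain ⟨e, he, hmem⟩ := exists_completeOrthogonalIdempotents_of_partition W hWc
    (fun a b ⟨x, hxa, hxb⟩ => by
      by_contra hne
      exact hgood x (Or.inr (Set.mem_iUnion₂.2 ⟨(a, b), hne, hxa, hxb⟩)))
    (fun x => by
      by_contra hne
      exact hgood x (Or.inl fun hx => hne (by
        obtain ⟨a, ha⟩ := Set.mem_iUnion.1 hx
        exact ⟨a, ha⟩)))
  have hlift : ∀ a : σ, ∃ x, μ x = v a.1 a.2 ∧ pR x = p' := fun a =>
    Scheme.exists_preimage_of_isPullback hμsq (v a.1 a.2) p' ((h1 a.1 a.2).2.2.1.trans hp'u.symm)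
  choose x hx1 hx2 using hlift
  let eσ := Fintype.equivFin σ
  refine ⟨R', inferInstance, inferInstance, p'.asIdeal, p'.isPrime, inferInstance, hp'R,
    Fintype.card σ, e ∘ eσ.symm, fun j => x (eσ.symm j), (CompleteOrthogonalIdempotents.equiv eσ.symm).2 he, fun j => ?_⟩
  set a := eσ.symm j
  have hxV : x a ∈ W a := show μ (x a) ∈ V a.1 a.2 from (hx1 a).symm ▸ (h1 a.1 a.2).1
  have huniq : ∀ w, w ∈ W a → pR w = p' → w = x a := by
    intro w hw hwp
    have hμw : μ w = v a.1 a.2 := (h1 a.1 a.2).2.2.2.1 _ hw (by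
      rw [← Scheme.Hom.comp_apply, hμ2, Scheme.Hom.comp_apply, hwp, hp'u])
    have : IsOpenImmersion μ := MorphismProperty.of_isPullback hμsq.flip (inferInstanceAs (IsOpenImmersion h))
    exact μ.isOpenEmbedding.injective (hμw.trans (hx1 a).symm)
  refine ⟨(hmem a _).1 hxV, congrArg PrimeSpectrum.asIdeal (hx2 a),
    fun w hw hwp => huniq w ((hmem a w).2 hw) (PrimeSpectrum.ext hwp), fun K _ _ φ ψ hφ hψ hR => ?_⟩
  let qφ : Spec (.of K) ⟶ Spec (.of (R' ⊗[R] S)) := Spec.map (CommRingCat.ofHom φ)
  let qψ : Spec (.of K) ⟶ Spec (.of (R' ⊗[R] S)) := Spec.map (CommRingCat.ofHom ψ)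
  have hker : ∀ χ : R' ⊗[R] S →+* K, RingHom.ker χ = (x a).asIdeal →
      FlatMor66.gpt (Spec.map (CommRingCat.ofHom χ) ≫ μ) = v a.1 a.2 := fun χ hχ => by
    rw [FlatMor66.gpt_comp, ← hx1 a]
    congr 1
    refine PrimeSpectrum.ext ?_
    rw [← hχ]
    ext z
    change χ z ∈ IsLocalRing.maximalIdeal K ↔ χ z = 0
    rw [IsLocalRing.mem_maximalIdeal, mem_nonunits_iff, isUnit_iff_ne_zero, not_not]
  have hsnd : qφ ≫ pR = qψ ≫ pR := by
    simp only [qφ, qψ, pR, ← Spec.map_comp]
    exact congrArg (fun χ => Spec.map (CommRingCat.ofHom χ)) hR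
  have heq : qφ ≫ μ = qψ ≫ μ :=
    (h1 a.1 a.2).2.2.2.2.1 K _ _ (hker φ hφ) (hker ψ hψ)
      (by rw [Category.assoc, Category.assoc, hμ2, reassoc_of% hsnd])
  exact congrArg CommRingCat.Hom.hom (Spec.map_injective (hμsq.hom_ext heq hsnd))

/-- Every prime is the kernel of a map to an algebraically closed field. -/
theorem exists_geom_point {B : Type u} [CommRing B] (P : Ideal B) [P.IsPrime] :
    ∃ (K : Type u) (_ : Field K) (_ : IsAlgClosed K) (χ : B →+* K), RingHom.ker χ = P := by
  refine ⟨AlgebraicClosure P.ResidueField, inferInstance, inferInstance,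
    (algebraMap P.ResidueField (AlgebraicClosure P.ResidueField)).comp (algebraMap _ _), ?_⟩
  ext z
  rw [RingHom.mem_ker]
  exact (map_eq_zero_iff _ (algebraMap P.ResidueField (AlgebraicClosure P.ResidueField)).injective).trans
    Ideal.algebraMap_residueField_eq_zero

set_option backward.isDefEq.respectTransparency true in
/-- Maps to an algebraically closed field extend along a base changed integral extension. -/
theorem exists_lift_tensor {R R' S : Type u} [CommRing R] [CommRing R'] [CommRing S] [Algebra R R']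
    [Algebra R S] [Algebra.IsIntegral R S] (S₀ : Subalgebra R S) {K : Type u} [Field K] [IsAlgClosed K]
    (ψ₀ : R' ⊗[R] S₀ →+* K) :
    ∃ Φ : R' ⊗[R] S →+* K, ∀ z, Φ (Algebra.TensorProduct.map (AlgHom.id R' R') S₀.val z) = ψ₀ z := by
  let ι₀ : S₀ →+* R' ⊗[R] S₀ := (Algebra.TensorProduct.includeRight : S₀ →ₐ[R] R' ⊗[R] S₀).toRingHom
  let q₀ := RingHom.ker (ψ₀.comp ι₀)
  haveI : q₀.IsPrime := RingHom.ker_isPrime _
  haveI : Algebra.IsIntegral S₀ S := Algebra.IsIntegral.tower_top R
  obtain ⟨q, -, hqP, hq⟩ := Ideal.exists_ideal_over_prime_of_isIntegral q₀ (⊥ : Ideal S)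
    (fun x hx => by
      have : x = 0 := Subtype.ext hx
      rw [this]; exact zero_mem _)
  letI := (Ideal.ResidueField.map q₀ q (algebraMap S₀ S) hq.symm).toAlgebra
  haveI := isAlgebraic_residueField q₀ q hq
  let τ : q₀.ResidueField →+* K := Ideal.ResidueField.lift q₀ (ψ₀.comp ι₀) le_rfl
    (fun x hx => isUnit_iff_ne_zero.2 hx)
  letI : Algebra q₀.ResidueField K := τ.toAlgebra
  let σ : q.ResidueField →ₐ[q₀.ResidueField] K := IsAlgClosed.lift
  let φS : S →+* K := σ.toRingHom.comp (algebraMap S _)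
  have hφS : ∀ x : S₀, φS x = ψ₀ (ι₀ x) := fun x => by
    have h1 : algebraMap S q.ResidueField (algebraMap S₀ S x) =
        algebraMap q₀.ResidueField q.ResidueField (algebraMap S₀ _ x) :=
      (Ideal.ResidueField.map_algebraMap q₀ q (algebraMap S₀ S) hq.symm x).symm
    refine (congrArg σ h1).trans ((σ.commutes _).trans ?_)
    exact Ideal.ResidueField.lift_algebraMap q₀ (ψ₀.comp ι₀) le_rfl _ x
  let φR : R' →+* K := ψ₀.comp (algebraMap R' _)
  letI : Algebra R K := (φR.comp (algebraMap R R')).toAlgebra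
  let φR' : R' →ₐ[R] K := { φR with commutes' := fun r => rfl }
  let φS' : S →ₐ[R] K :=
    { φS with
      commutes' := fun r => by
        refine ((hφS (algebraMap R S₀ r))).trans (congrArg ψ₀ ?_)
        exact ((Algebra.TensorProduct.includeRight : S₀ →ₐ[R] R' ⊗[R] S₀).commutes r).trans
          (IsScalarTower.algebraMap_apply R R' (R' ⊗[R] S₀) r) }
  let Φ : R' ⊗[R] S →ₐ[R] K := Algebra.TensorProduct.lift φR' φS' fun _ _ => Commute.all _ _
  refine ⟨Φ.toRingHom, fun z => ?_⟩
  induction z using TensorProduct.induction_on with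
  | zero => simp
  | tmul a b =>
    show Φ (a ⊗ₜ (b : S)) = _
    rw [Algebra.TensorProduct.lift_tmul,
      show a ⊗ₜ[R] b = algebraMap R' (R' ⊗[R] S₀) a * ι₀ b by simp [ι₀], map_mul, ← hφS]
    rfl
  | add x y hx hy => rw [map_add, map_add, map_add, hx, hy]

set_option backward.isDefEq.respectTransparency true in
/-- Uniqueness of geometric points gives one point with purely inseparable residue field. -/
theorem purelyInseparable_of_unique_point {R A : Type u} [CommRing R] [CommRing A] [Algebra R A]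
    [Algebra.IsIntegral R A] (p : Ideal R) [p.IsPrime]
    (key : ∀ (K : Type u) [Field K] [IsAlgClosed K] (Φ Φ' : A →+* K),
      Φ.comp (algebraMap R A) = Φ'.comp (algebraMap R A) →
      (RingHom.ker Φ).comap (algebraMap R A) = p → Φ = Φ')
    (r : PrimeSpectrum A) (hr : r.asIdeal.comap (algebraMap R A) = p) :
    (∀ r' : PrimeSpectrum A, r'.asIdeal.comap (algebraMap R A) = p → r' = r) ∧
      letI := (Ideal.ResidueField.map p r.asIdeal (algebraMap R A) hr.symm).toAlgebra
      IsPurelyInseparable p.ResidueField r.asIdeal.ResidueField := by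
  let K := AlgebraicClosure r.asIdeal.ResidueField
  refine ⟨fun r' hr' => ?_, ?_⟩
  · letI := (Ideal.ResidueField.map p r'.asIdeal (algebraMap R A) hr'.symm).toAlgebra
    letI i1 := (Ideal.ResidueField.map p r.asIdeal (algebraMap R A) hr.symm)
    letI : Algebra p.ResidueField K := ((algebraMap r.asIdeal.ResidueField K).comp i1).toAlgebra
    haveI := isAlgebraic_residueField p r'.asIdeal hr'
    let σ : r'.asIdeal.ResidueField →ₐ[p.ResidueField] K := IsAlgClosed.lift
    let Φ : A →+* K := (algebraMap r.asIdeal.ResidueField K).comp (algebraMap _ _)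
    let Φ' : A →+* K := σ.toRingHom.comp (algebraMap _ _)
    have hkΦ : RingHom.ker Φ = r.asIdeal := by
      ext z
      rw [RingHom.mem_ker]
      exact (map_eq_zero_iff _ (algebraMap r.asIdeal.ResidueField K).injective).trans
        Ideal.algebraMap_residueField_eq_zero
    have hkΦ' : RingHom.ker Φ' = r'.asIdeal := by
      ext z
      rw [RingHom.mem_ker]
      exact (map_eq_zero_iff _ σ.toRingHom.injective).trans Ideal.algebraMap_residueField_eq_zero
    have heq : Φ = Φ' := by
      refine key K Φ Φ' (RingHom.ext fun a => ?_) (hkΦ.symm ▸ hr)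
      have h1 : algebraMap A r'.asIdeal.ResidueField (algebraMap R A a) =
          algebraMap p.ResidueField r'.asIdeal.ResidueField (algebraMap R _ a) :=
        (Ideal.ResidueField.map_algebraMap p r'.asIdeal (algebraMap R A) hr'.symm a).symm
      refine Eq.trans ?_ ((congrArg σ h1).trans (σ.commutes _)).symm
      exact congrArg (algebraMap r.asIdeal.ResidueField K)
        (Ideal.ResidueField.map_algebraMap p r.asIdeal (algebraMap R A) hr.symm a).symm
    exact PrimeSpectrum.ext (hkΦ'.symm.trans ((congrArg RingHom.ker heq.symm).trans hkΦ))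
  · letI := (Ideal.ResidueField.map p r.asIdeal (algebraMap R A) hr.symm).toAlgebra
    haveI := isAlgebraic_residueField p r.asIdeal hr
    rw [isPurelyInseparable_iff_finSepDegree_eq_one, Field.finSepDegree]
    have : Nonempty (Field.Emb p.ResidueField r.asIdeal.ResidueField) :=
      ⟨IsScalarTower.toAlgHom _ r.asIdeal.ResidueField K⟩
    have : Subsingleton (Field.Emb p.ResidueField r.asIdeal.ResidueField) := ⟨fun σ₁ σ₂ => by
      have hk : RingHom.ker (σ₁.toRingHom.comp (algebraMap A r.asIdeal.ResidueField)) = r.asIdeal := by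
        ext z
        rw [RingHom.mem_ker]
        exact (map_eq_zero_iff _ σ₁.toRingHom.injective).trans Ideal.algebraMap_residueField_eq_zero
      have heq := key K (σ₁.toRingHom.comp (algebraMap A r.asIdeal.ResidueField))
        (σ₂.toRingHom.comp (algebraMap A r.asIdeal.ResidueField)) (RingHom.ext fun a => by
          have h1 : algebraMap A r.asIdeal.ResidueField (algebraMap R A a) =
              algebraMap p.ResidueField r.asIdeal.ResidueField (algebraMap R _ a) :=
            (Ideal.ResidueField.map_algebraMap p r.asIdeal (algebraMap R A) hr.symm a).symm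
          exact ((congrArg σ₁ h1).trans (σ₁.commutes _)).trans
            ((congrArg σ₂ h1).trans (σ₂.commutes _)).symm) (hk.symm ▸ hr)
      exact AlgHom.coe_ringHom_injective (Ideal.ResidueField.ringHom_ext heq)⟩
    exact Nat.card_of_subsingleton (Classical.arbitrary _)

end Groth.Agent.LimTop61
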