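import Groth.Agent.LimTop61.LciLocal
import Groth.Agent.LimTop61.GorPt
import Groth.Agent.SpPts86.LocPNear
import Groth.Agent.S1494
/-!
# The lci locus of a morphism of algebraic spaces
-/

set_option autoImplicit false
set_option linter.style.haveILetI false
set_option backward.isDefEq.respectTransparency false
universe u

open CategoryTheory CategoryTheory.Limits AlgebraicGeometry AlgSp Topology
open Groth.Agent.SpFP87 Groth.Agent.SpPts86 Groth.Agent.LimTop61.LciLocal
open Groth.Agent.FlatMor68.KoszulCalc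

namespace Groth.Agent.LimTop61.LciNear

/-- The affine form of being lci near a point. -/
def LciPt {X Y : Scheme.{u}} (f : X ⟶ Y) (x : X) : Prop :=
  ∃ (U : X.Opens) (V : Y.Opens) (hU : IsAffineOpen U) (hV : IsAffineOpen V) (hUV : U ≤ f ⁻¹ᵁ V), x ∈ U ∧
    letI := (f.appLE V U hUV).hom.toAlgebra
    LCI.IsLCI Γ(Y, V) Γ(X, U)

theorem lciHom_comp_iso {A B C : CommRingCat.{u}} (f : A ⟶ B) (e : B ⟶ C) [IsIso e] :
    FlatMor68.LCICalc.LCIHom (f ≫ e).hom ↔ FlatMor68.LCICalc.LCIHom f.hom :=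
  (HasRingHomProperty.isLocal_ringHomProperty lciProp.{u}).respectsIso.cancel_right_isIso f e

theorem nearPt_iff {X Y : Scheme.{u}} (f : X ⟶ Y) (x : X) :
    SpPts86.NearPt AlgSp.lci X Y f x ↔ LciPt f x := by
  constructor
  · rintro ⟨W, hxW, hW⟩
    rw [lci_eq] at hW
    obtain ⟨_, ⟨V, hV, rfl⟩, hxV, -⟩ :=
      Y.isBasis_affineOpens.exists_subset_of_mem_open (Set.mem_univ (f x)) isOpen_univ
    obtain ⟨_, ⟨U, hU, rfl⟩, hxU, hUle⟩ := X.isBasis_affineOpens.exists_subset_of_mem_open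
      (show x ∈ W ⊓ f ⁻¹ᵁ V from ⟨hxW, hxV⟩) (W ⊓ f ⁻¹ᵁ V).isOpen
    have hUW : U ≤ W := fun y hy => (hUle hy).1
    have hUV : U ≤ f ⁻¹ᵁ V := fun y hy => (hUle hy).2
    refine ⟨U, V, hU, hV, hUV, hxU, ?_⟩
    have hU0 : IsAffineOpen (W.ι ⁻¹ᵁ U) := hU.preimage_of_isOpenImmersion W.ι (by simpa using hUW)
    have h1 := lci_appLE hW hU0 hV (W.ι.preimage_mono hUV)
    have h2 : (W.ι ≫ f).appLE V (W.ι ⁻¹ᵁ U) (W.ι.preimage_mono hUV) = f.appLE V U hUV ≫ W.ι.app U := by
      rw [← Scheme.Hom.appLE_eq_app, Scheme.Hom.appLE_comp_appLE]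
    haveI : IsIso (W.ι.app U) := W.ι.isIso_app U (by simpa using hUW)
    exact (lciHom_comp_iso _ (W.ι.app U)).1 (h2 ▸ h1)
  · rintro ⟨U, V, hU, hV, hUV, hxU, h⟩
    refine ⟨U, hxU, ?_⟩
    rw [lci_eq, HasRingHomProperty.iff_exists_appLE (P := lciProp.{u}) FlatMor68.LCICalc.lciHom_source]
    intro w
    haveI : IsAffine U.toScheme := hU
    refine ⟨⟨V, hV⟩, ⟨U.ι ⁻¹ᵁ U, hU.preimage_of_isOpenImmersion U.ι (by simp)⟩, w.2, U.ι.preimage_mono hUV, ?_⟩
    haveI : IsIso (U.ι.app U) := U.ι.isIso_app U (by simp)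
    have h2 : (U.ι ≫ f).appLE V (U.ι ⁻¹ᵁ U) (U.ι.preimage_mono hUV) = f.appLE V U hUV ≫ U.ι.app U := by
      rw [← Scheme.Hom.appLE_eq_app, Scheme.Hom.appLE_comp_appLE]
    rw [h2]
    exact (lciHom_comp_iso _ (U.ι.app U)).2 h

theorem etInv_nearPt : SpPts86.EtInv (SpPts86.NearPt (AlgSp.lci : MorphismProperty Scheme.{u})) := by
  intro U U' V V' h h' a b ha hb comm u'
  haveI := ha; haveI := hb
  constructor
  · rintro ⟨W, hW, hP⟩
    refine ⟨a ⁻¹ᵁ W, hW, lci_of_comp_smooth _ b inferInstance ?_⟩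
    rw [Category.assoc, comm, ← Category.assoc, ← morphismRestrict_ι a W, Category.assoc]
    exact lci_comp (lci_of_smooth _ inferInstance) hP
  · rintro ⟨W', hW', hP⟩
    have he : Etale (W'.ι ≫ a) := inferInstance
    let O : U.Opens := ⟨Set.range (W'.ι ≫ a), (W'.ι ≫ a).isOpenMap.isOpen_range⟩
    let c : W'.toScheme ⟶ O.toScheme := IsOpenImmersion.lift O.ι (W'.ι ≫ a)
      (by rintro _ ⟨z, rfl⟩; exact ⟨⟨_, z, rfl⟩, rfl⟩)
    have hc : c ≫ O.ι = W'.ι ≫ a := IsOpenImmersion.lift_fac _ _ _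
    haveI : Etale c := by
      haveI : Etale (c ≫ O.ι) := hc ▸ he
      exact Etale.of_comp c O.ι
    haveI : Surjective c := ⟨fun y => by
      obtain ⟨z, hz⟩ : y.1 ∈ Set.range (W'.ι ≫ a) := y.2
      refine ⟨z, O.ι.injective ?_⟩
      rw [← Scheme.Hom.comp_apply, hc]
      exact hz⟩
    refine ⟨O, ⟨⟨u', hW'⟩, rfl⟩, lci_of_cover c _ inferInstance inferInstance ?_⟩
    rw [reassoc_of% hc, ← comm, ← Category.assoc]
    exact lci_comp hP (lci_of_smooth _ inferInstance)

variable {S : Scheme.{u}} {X Y : Sp S}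

/-- Being lci near a point may be tested in one chart. -/
theorem locPNear_iff_chart (hX : IsAlgSpace X) (hY : IsAlgSpace Y) {f : X ⟶ Y} {U V : Over S}
    {a : (yon S).obj U ⟶ X} {b : (yon S).obj V ⟶ Y} {h : U ⟶ V}
    (ha : RepWith @Etale a) (hb : RepWith @Etale b) (w : a ≫ f = (yon S).map h ≫ b) (u : ↥U.left) :
    LocPNear AlgSp.lci f (Points.ofPt a u) ↔ SpPts86.NearPt AlgSp.lci U.left V.left h.left u := by
  constructor
  · rintro ⟨W, j, hj, hxj, hP⟩
    let O : U.left.Opens := ⟨Points.ofPt a ⁻¹' Set.range (Points.map j),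
      (isOpen_range_map hj).preimage (Points.continuous_ofPt a)⟩
    let U' : Over S := Over.mk (O.ι ≫ U.hom)
    let i : U' ⟶ U := Over.homMk O.ι rfl
    haveI : Etale i.left := inferInstanceAs (Etale O.ι)
    have hai : RepWith @Etale ((yon S).map i ≫ a) := repWith_etale_comp i ha
    obtain ⟨a', ha'⟩ := exists_factor_of_range_subset hj ((yon S).map i ≫ a) (by
      rw [range_map_yon]
      rintro _ ⟨t, rfl⟩
      rw [ofPt_comp]
      exact t.2)
    have hW := isAlgSpace_of_representable j hj.rep hX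
    have ha'e : RepWith @Etale a' := by
      refine repWith_etale_of_isEtaleMor hW (Functor.relativelyRepresentable.of_diag hW.diag a') ?_
      exact SpPts86.isEtaleMor_of_comp hW (isEtaleMor_of_repWith_etale (repWith_mono
        (fun _ _ g (_ : IsOpenImmersion g) => (inferInstance : Etale g)) hj))
        (ha' ▸ isEtaleMor_of_repWith_etale hai)
    refine ⟨O, hxj, hP a' b (i ≫ h) ha'e hb ?_⟩
    rw [← Category.assoc, ha', Category.assoc, w, Functor.map_comp, Category.assoc]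
  · intro hu
    obtain ⟨W, hW, hP⟩ := hu
    let W' : Over S := Over.mk (W.ι ≫ U.hom)
    let i : W' ⟶ U := Over.homMk W.ι rfl
    let O := Points.ofPt a '' (W : Set ↥U.left)
    have hO : IsOpen O := isOpenMap_ofPt ha _ W.isOpen
    have hj := repWith_restrictι (F := X) hO
    have hOX : IsAlgSpace (restrictSheaf X O) := isAlgSpace_restrictSheaf hX hO
    refine ⟨_, restrictι X O, hj, (range_map_restrictι hO).ge ⟨u, hW, rfl⟩, fun U'' V'' a'' b'' h'' ha'' hb'' w'' => ?_⟩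
    have hje : RepWith @Etale (a'' ≫ restrictι X O) :=
      (repWith_isMultiplicative (S := S) @Etale).comp_mem _ _ ha''
        (repWith_mono (fun _ _ g (_ : IsOpenImmersion g) => (inferInstance : Etale g)) hj)
    have key : ∀ t, SpPts86.NearPt AlgSp.lci U''.left V''.left h''.left t := fun t => by
      obtain ⟨z, hz, hzt⟩ : Points.ofPt (a'' ≫ restrictι X O) t ∈ O := by
        rw [← Points.map_ofPt]; exact (range_map_restrictι hO).le ⟨_, rfl⟩
      obtain ⟨R, R', g, p, q, r, s, z', hp, hq, hr, hs, e1, e2, hz1, hz2⟩ :=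
        exists_roof hX hY ha hb w hje hb'' (by rw [Category.assoc]; exact w'') hzt
      rw [← hz2, etInv_nearPt h''.left g.left q.left s.left hq hs e2 z',
        ← etInv_nearPt h.left g.left p.left r.left hp hr e1 z', hz1]
      exact ⟨W, hz, hP⟩
    choose N hN hPN using key
    exact (IsZariskiLocalAtSource.iff_of_iSup_eq_top (P := AlgSp.lci) N
      (top_le_iff.1 fun t _ => TopologicalSpace.Opens.mem_iSup.2 ⟨t, hN t⟩)).2 hPN

end Groth.Agent.LimTop61.LciNear
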