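import Groth.Agent.CM62.DimConst
import Groth.Agent.TopDim50.Basic
import Groth.Agent.EGA4H10.TensorFields
/-!
Lower semicontinuity of the fibre dimension for flat morphisms locally of finite presentation.
-/

set_option autoImplicit false
set_option backward.isDefEq.respectTransparency false
universe u
open CategoryTheory AlgebraicGeometry TopologicalSpace

namespace Groth.Agent.LimTop61.LowerSemi

variable {X S : Scheme.{u}} (f : X ⟶ S)

/-- The local ring of the fibre at a point without proper generalization in the fibre. -/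
theorem ringKrullDim_stalk_asFiber {z : X} (hgen : ∀ z', z' ⤳ z → f z' = f z → z' = z) :
    ringKrullDim ((f.fiber (f z)).presheaf.stalk (f.asFiber z)) = 0 := by
  have h : Order.coheight (f.asFiber z) = 0 := by
    rw [Order.coheight_eq_zero]
    intro w hw
    have h1 : w ⤳ f.asFiber z := hw
    have h2 : f.fiberι (f z) w ⤳ f.fiberι (f z) (f.asFiber z) := h1.map (f.fiberι (f z)).continuous
    rw [Scheme.Hom.fiberι_asFiber] at h2
    have h3 : f (f.fiberι (f z) w) = f z := (f.range_fiberι (f z)).le ⟨w, rfl⟩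
    have h4 : w = f.asFiber z := (f.fiberι (f z)).isEmbedding.injective
      ((hgen _ h2 h3).trans (Scheme.Hom.fiberι_asFiber f z).symm)
    exact h4.le
  rw [ringKrullDim_stalk_eq_coheight, h]
  rfl

/-- Fibre dimension is lower semicontinuous. -/
theorem isOpen_lt_fibreDim [Flat f] [LocallyOfFinitePresentation f] (c : WithBot ℕ∞) :
    IsOpen {s : S | c < topologicalKrullDim (f.fiber s)} := by
  refine isOpen_iff_forall_mem_open.2 fun s hs => ?_
  obtain ⟨p, hp⟩ : ∃ p : f.fiber s, c < FlatMor.localDim ↥(f.fiber s) p := by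
    have h := hs
    change c < topologicalKrullDim ↥(f.fiber s) at h
    rw [TopDim50.dim_eq_iSup_localDim, lt_iSup_iff] at h
    exact h
  obtain ⟨x, rfl⟩ : ∃ x, x = f.fiberι s p := ⟨_, rfl⟩
  have hx : f (f.fiberι s p) = s := (f.range_fiberι s).le ⟨p, rfl⟩
  generalize hy : f.fiberι s p = y at hx
  subst hx
  have hpy : p = f.asFiber y := (f.fiberι _).isEmbedding.injective
    (hy.trans (Scheme.Hom.fiberι_asFiber f y).symm)
  subst hpy
  change c < FlatMor.fibreDimAt f y at hp
  obtain ⟨z, hz, hfz, hd, -, hgen⟩ := E4O.exists_fibreDimAt_eq f y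
  have hgen' : ∀ z', z' ⤳ z → f z' = f z → z' = z := fun z' h1 h2 => hgen z' h1 (h2.trans hfz)
  have hdz : FlatMor.fibreDimAt f z = (E4O.fdeg f z : ℕ) := E4O.fibreDimAt_eq_fdeg hgen'
  haveI : IsLocallyNoetherian (f.fiber (f z)) :=
    haveI : LocallyOfFiniteType (f.fiberToSpecResidueField (f z)) :=
      MorphismProperty.pullback_snd _ _ (inferInstance : LocallyOfFiniteType f)
    LocallyOfFiniteType.isLocallyNoetherian (f.fiberToSpecResidueField (f z))
  have hcm : MoreMor.IsCMAt f z := by
    refine ⟨Flat.stalkMap f z, ?_⟩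
    rw [CAlg1.cmLocal_iff, ringKrullDim_stalk_asFiber f hgen']
    exact WithBot.coe_le_coe.mpr bot_le
  obtain ⟨U, g, hzU, hg, hqf, hfl⟩ := CM62.exists_flat_qf_toAffineSpace f z _ hdz hcm
  haveI : UniversallyOpen f := UniversallyOpen.of_flat f
  refine ⟨f '' (U : Set X), ?_, f.isOpenMap _ U.isOpen, ⟨z, hzU, hfz⟩⟩
  rintro _ ⟨a, ha, rfl⟩
  show c < topologicalKrullDim ↥(f.fiber (f a))
  refine lt_of_lt_of_le ?_ (TopDim50.localDim_le_dim (f.asFiber a))
  show c < FlatMor.fibreDimAt f a
  have h := CM62.fibreDimAt_eq f g hg ⟨a, ha⟩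
  rw [Scheme.Opens.ι_apply] at h
  rw [h, ← hd]
  exact hp

end Groth.Agent.LimTop61.LowerSemi
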