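import Mathlib.Algebra.Category.ModuleCat.FilteredColimits
import Mathlib.Algebra.Module.FinitePresentation
import Mathlib.CategoryTheory.Yoneda
import Mathlib.CategoryTheory.Limits.Types.Filtered

set_option autoImplicit false
set_option backward.isDefEq.respectTransparency false
universe u

open CategoryTheory CategoryTheory.Limits

namespace Groth.Agent.LimTop61

variable {A : Type u} [CommRing A] {J : Type u} [SmallCategory J] [IsFiltered J]
  (N : J ⥤ ModuleCat.{u} A)

lemma exists_eq_of_colimit_eq {i : J} (y z : N.obj i)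
    (h : colimit.ι N i y = colimit.ι N i z) : ∃ (k : J) (a : i ⟶ k), N.map a y = N.map a z := by
  obtain ⟨k, a, b, hab⟩ := (Types.FilteredColimit.isColimit_eq_iff (N ⋙ forget (ModuleCat A))
    (isColimitOfPreserves (forget (ModuleCat A)) (colimit.isColimit N))).mp h
  obtain ⟨l, c, hc⟩ := IsFilteredOrEmpty.cocone_maps a b
  refine ⟨l, a ≫ c, ?_⟩
  have := congrArg (fun w => N.map c w) hab
  simp only [Functor.comp_map] at this
  conv_rhs => rw [hc]
  simpa using this

/-- Two maps from a finite module agreeing in the colimit agree at some stage. -/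
lemma exists_comp_map_eq {M : ModuleCat.{u} A} [Module.Finite A M] {i : J} (f g : M ⟶ N.obj i)
    (h : f ≫ colimit.ι N i = g ≫ colimit.ι N i) :
    ∃ (k : J) (a : i ⟶ k), f ≫ N.map a = g ≫ N.map a := by
  classical
  obtain ⟨s, hs⟩ := Module.Finite.fg_top (R := A) (M := M)
  choose k a hk using fun x : s =>
    exists_eq_of_colimit_eq N (f x.1) (g x.1) congr($h x.1)
  obtain ⟨c'⟩ := IsFiltered.cocone_nonempty (WidePushoutShape.wideSpan i k a)
  refine ⟨c'.pt, c'.ι.app none, ?_⟩
  ext x
  have hx : x ∈ Submodule.span A (s : Set M) := hs ▸ Submodule.mem_top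
  induction hx using Submodule.span_induction with
  | mem x hx =>
    have e := c'.w (WidePushoutShape.Hom.init ⟨x, hx⟩)
    simp only [WidePushoutShape.wideSpan_map] at e
    rw [← e]
    simp only [ModuleCat.hom_comp, LinearMap.comp_apply, N.map_comp]
    exact congrArg _ (hk ⟨x, hx⟩)
  | zero => simp
  | add x y _ _ hx hy => simp [map_add] at hx hy ⊢; rw [hx, hy]
  | smul r x _ hx => simp [map_smul] at hx ⊢; rw [hx]

/-- A map from a finitely presented module into a colimit factors through a stage. -/
lemma exists_comp_ι_eq {M : ModuleCat.{u} A} [Module.FinitePresentation A M]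
    (g : M ⟶ colimit N) : ∃ (i : J) (f : M ⟶ N.obj i), f ≫ colimit.ι N i = g := by
  classical
  obtain ⟨n, m', π, q, hπ, hex⟩ := Module.FinitePresentation.exists_fin' A M
  choose j y hy using fun l : Fin n => Types.jointly_surjective_of_isColimit
    (isColimitOfPreserves (forget (ModuleCat A)) (colimit.isColimit N)) (g (π (Pi.single l 1)))
  obtain ⟨m, hm⟩ := IsFiltered.sup_objs_exists (Finset.univ.image j)
  let F₀ : (Fin n → A) →ₗ[A] N.obj m := Fintype.linearCombination A
    fun l => N.map (hm (Finset.mem_image_of_mem j (Finset.mem_univ l))).some (y l)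
  have hF₀ : ∀ v, colimit.ι N m (F₀ v) = g (π v) := by
    intro v
    have hv : v = ∑ l, v l • (Pi.single l 1 : Fin n → A) := by simp [← Pi.single_smul, Finset.univ_sum_single]
    conv_rhs => rw [hv]
    simp only [F₀, Fintype.linearCombination_apply, map_sum, map_smul]
    refine Finset.sum_congr rfl fun l _ => ?_
    congr 1
    rw [← ConcreteCategory.comp_apply, colimit.w]
    exact hy l
  have : Module.Finite A (LinearMap.ker π) := Module.Finite.iff_fg.mpr (by
    rw [hex.linearMap_ker_eq, LinearMap.range_eq_map]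
    exact Submodule.FG.map q Module.Finite.fg_top)
  obtain ⟨k, a, ha⟩ := exists_comp_map_eq N (M := ModuleCat.of A (LinearMap.ker π))
    (ModuleCat.ofHom (F₀.comp (LinearMap.ker π).subtype)) 0 (by
      ext v
      simp only [ModuleCat.hom_comp, ModuleCat.hom_ofHom, LinearMap.comp_apply]
      refine (hF₀ v.1).trans ?_
      rw [show π v.1 = 0 from v.2, map_zero]
      simp)
  let F₁ : (Fin n → A) →ₗ[A] N.obj k := (N.map a).hom.comp F₀
  have hle : LinearMap.ker π ≤ LinearMap.ker F₁ := fun v hv => by
    have := congr($ha ⟨v, hv⟩)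
    simpa [F₁] using this
  refine ⟨k, ModuleCat.ofHom ((Submodule.liftQ _ F₁ hle).comp
    (LinearMap.quotKerEquivOfSurjective π hπ).symm.toLinearMap), ?_⟩
  ext x
  obtain ⟨v, rfl⟩ := hπ x
  have e : (LinearMap.quotKerEquivOfSurjective π hπ).symm (π v) = Submodule.Quotient.mk v := by
    rw [LinearEquiv.symm_apply_eq]; rfl
  simp only [ModuleCat.hom_comp, ModuleCat.hom_ofHom, LinearMap.comp_apply,
    LinearEquiv.coe_coe, e, Submodule.liftQ_apply, F₁]
  rw [← hF₀ v, ← colimit.w N a]
  rfl

end Groth.Agent.LimTop61
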