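import Mathlib
import Groth.Agent.LimTop61.IntPair

/-!
A pair `B → D ← D'`, the second map surjective with locally nilpotent kernel, is a filtered colimit
of such pairs of finitely presented algebras, and so is the fibre product.
-/

set_option autoImplicit false

universe u

open CategoryTheory CategoryTheory.Limits MvPolynomial

noncomputable section

namespace Groth.Agent.LimTop61.NilPair

variable {A B D D' : Type u} [CommRing A] [CommRing B] [CommRing D] [CommRing D'] [Algebra A B]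
  [Algebra A D] [Algebra A D'] (f : B →ₐ[A] D) (i : D' →ₐ[A] D)

/-- evaluation -/
abbrev ev {T : Type u} [CommRing T] [Algebra A T] (E : Finset T) : MvPolynomial E A →ₐ[A] T :=
  aeval fun e => e.1

/-- evaluation in `D` -/
def evD (E : Finset B) (F : Finset D') : MvPolynomial (E ⊕ F) A →ₐ[A] D :=
  aeval (Sum.elim (fun e => f e.1) fun d => i d.1)

/-- renaming -/
abbrev ren {T : Type u} {E E' : Finset T} (h : E ⊆ E') : MvPolynomial E A →ₐ[A] MvPolynomial E' A :=
  rename fun e => ⟨e.1, h e.2⟩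

/-- renaming -/
abbrev renD {E E' : Finset B} (h : E ⊆ E') {F F' : Finset D'} (h' : F ⊆ F') :
    MvPolynomial (E ⊕ F) A →ₐ[A] MvPolynomial (E' ⊕ F') A :=
  rename (Sum.map (fun e => ⟨e.1, h e.2⟩) fun d => ⟨d.1, h' d.2⟩)

/-- inclusion -/
abbrev inl (E : Finset B) (F : Finset D') : MvPolynomial E A →ₐ[A] MvPolynomial (E ⊕ F) A :=
  rename Sum.inl

/-- inclusion -/
abbrev inr (E : Finset B) (F : Finset D') : MvPolynomial F A →ₐ[A] MvPolynomial (E ⊕ F) A :=
  rename Sum.inr

lemma ev_ren {T : Type u} [CommRing T] [Algebra A T] {E E' : Finset T} (h : E ⊆ E')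
    (p : MvPolynomial E A) : ev E' (ren h p) = ev E p :=
  DFunLike.congr_fun (show (ev E').comp (ren h) = ev E from
    MvPolynomial.algHom_ext fun e => by simp) p

lemma evD_renD {E E' : Finset B} (h : E ⊆ E') {F F' : Finset D'} (h' : F ⊆ F')
    (p : MvPolynomial (E ⊕ F) A) : evD f i E' F' (renD h h' p) = evD f i E F p :=
  DFunLike.congr_fun (show (evD f i E' F').comp (renD h h') = evD f i E F from
    MvPolynomial.algHom_ext fun e => by cases e <;> simp [evD]) p

lemma evD_inl {E : Finset B} {F : Finset D'} (p : MvPolynomial E A) :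
    evD f i E F (inl E F p) = f (ev E p) :=
  DFunLike.congr_fun (show (evD f i E F).comp (inl E F) = f.comp (ev E) from
    MvPolynomial.algHom_ext fun e => by simp [evD]) p

lemma evD_inr {E : Finset B} {F : Finset D'} (p : MvPolynomial F A) :
    evD f i E F (inr E F p) = i (ev F p) :=
  DFunLike.congr_fun (show (evD f i E F).comp (inr E F) = i.comp (ev F) from
    MvPolynomial.algHom_ext fun e => by simp [evD]) p

/-- a finitely presented stage -/
structure Stage where
  E : Finset B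
  F : Finset D'
  I : Ideal (MvPolynomial E A)
  I' : Ideal (MvPolynomial F A)
  K : Ideal (MvPolynomial (E ⊕ F) A)
  I_fg : I.FG
  I'_fg : I'.FG
  K_fg : K.FG
  I_le : I ≤ RingHom.ker (ev E)
  I'_le : I' ≤ RingHom.ker (ev F)
  K_le : K ≤ RingHom.ker (evD f i E F)
  le_l : I ≤ K.comap (inl E F)
  le_r : I' ≤ K.comap (inr E F)
  surj : Function.Surjective (Ideal.quotientMapₐ K (inr E F) le_r)
  nil : ∀ x ∈ RingHom.ker (Ideal.quotientMapₐ K (inr E F) le_r), IsNilpotent x
  surjf : Function.Surjective f → Function.Surjective (Ideal.quotientMapₐ K (inl E F) le_l)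
  nilf : Function.Surjective f → (∀ x ∈ RingHom.ker f.toRingHom, IsNilpotent x) →
    ∀ x ∈ RingHom.ker (Ideal.quotientMapₐ K (inl E F) le_l), IsNilpotent x
  intf : f.toRingHom.IsIntegral → (Ideal.quotientMapₐ K (inl E F) le_l).toRingHom.IsIntegral

variable {f i}

instance : Preorder (Stage f i) where
  le s t := ∃ (h : s.E ⊆ t.E) (h' : s.F ⊆ t.F), s.I ≤ t.I.comap (ren h) ∧
    s.I' ≤ t.I'.comap (ren h') ∧ s.K ≤ t.K.comap (renD h h')
  le_refl s := ⟨Finset.Subset.refl _, Finset.Subset.refl _,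
    fun p hp => by
      rw [Ideal.mem_comap, show ren (Finset.Subset.refl s.E) = AlgHom.id A _ from
        MvPolynomial.algHom_ext fun e => by simp]
      exact hp,
    fun p hp => by
      rw [Ideal.mem_comap, show ren (Finset.Subset.refl s.F) = AlgHom.id A _ from
        MvPolynomial.algHom_ext fun e => by simp]
      exact hp,
    fun p hp => by
      rw [Ideal.mem_comap, show renD (Finset.Subset.refl s.E) (Finset.Subset.refl s.F) =
        AlgHom.id A _ from MvPolynomial.algHom_ext fun e => by cases e <;> simp]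
      exact hp⟩
  le_trans s t r := by
    rintro ⟨a, b, h1, h2, h3⟩ ⟨a', b', h1', h2', h3'⟩
    refine ⟨a.trans a', b.trans b', fun p hp => ?_, fun p hp => ?_, fun p hp => ?_⟩
    · have := h1' (h1 hp)
      rw [Ideal.mem_comap] at this ⊢
      rw [← show (ren a').comp (ren (A := A) a) = ren (a.trans a') from
        MvPolynomial.algHom_ext fun e => by simp]
      exact this
    · have := h2' (h2 hp)
      rw [Ideal.mem_comap] at this ⊢
      rw [← show (ren b').comp (ren (A := A) b) = ren (b.trans b') from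
        MvPolynomial.algHom_ext fun e => by simp]
      exact this
    · have := h3' (h3 hp)
      rw [Ideal.mem_comap] at this ⊢
      rw [← show (renD a' b').comp (renD (A := A) a b) = renD (a.trans a') (b.trans b') from
        MvPolynomial.algHom_ext fun e => by cases e <;> simp]
      exact this

/-- substituting away one set of variables changes a polynomial by the substitution relations -/
lemma sub_mem {σ τ : Type u} (θ : MvPolynomial (σ) A →ₐ[A] MvPolynomial τ A)
    (ι' : MvPolynomial τ A →ₐ[A] MvPolynomial σ A) (L : Ideal (MvPolynomial σ A))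
    (h : ∀ s, ι' (θ (X s)) - X s ∈ L) (p : MvPolynomial σ A) : ι' (θ p) - p ∈ L := by
  rw [← Ideal.Quotient.eq_zero_iff_mem, map_sub, sub_eq_zero]
  exact DFunLike.congr_fun (show ((Ideal.Quotient.mkₐ A L).comp (ι'.comp θ)) = Ideal.Quotient.mkₐ A L from
    MvPolynomial.algHom_ext fun s => Ideal.Quotient.eq.2 (h s)) p

/-- one side of the construction: the nilpotency of the kernel -/
lemma nil_of_powers {σ τ : Type u} (θ : MvPolynomial σ A →ₐ[A] MvPolynomial τ A)
    (ι' : MvPolynomial τ A →ₐ[A] MvPolynomial σ A) (hθ : ∀ p, θ (ι' p) = p)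
    (Q : Finset (MvPolynomial σ A)) (I : Ideal (MvPolynomial τ A))
    (hnil : ∀ q ∈ Q, ∃ n, θ q ^ n ∈ I) (hle : I ≤ (Ideal.span (Q : Set _)).comap ι') :
    ∀ x ∈ RingHom.ker (Ideal.quotientMapₐ _ ι' hle), IsNilpotent x := by
  intro x hx
  obtain ⟨p, rfl⟩ := Ideal.Quotient.mk_surjective x
  have hp : ι' p ∈ Ideal.span (Q : Set _) := Ideal.Quotient.eq_zero_iff_mem.1 hx
  have : Ideal.span (Q : Set _) ≤ (nilradical (MvPolynomial τ A ⧸ I)).comap
      ((Ideal.Quotient.mk I).comp θ.toRingHom) := by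
    refine Ideal.span_le.2 fun q hq => ?_
    obtain ⟨n, hn⟩ := hnil q hq
    refine ⟨n, ?_⟩
    change Ideal.Quotient.mk I (θ q) ^ n = 0
    exact (map_pow _ _ _).symm.trans (Ideal.Quotient.eq_zero_iff_mem.2 hn)
  have h2 := this hp
  change IsNilpotent (Ideal.Quotient.mk I (θ (ι' p))) at h2
  rwa [hθ] at h2

variable (hi : Function.Surjective i) (hnil : ∀ x ∈ RingHom.ker i.toRingHom, IsNilpotent x)

include hi hnil in
/-- every finite set of data is contained in a stage -/
theorem exists_stage (E₀ : Finset B) (F₀ : Finset D') (RB : Finset (MvPolynomial E₀ A))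
    (RB' : Finset (MvPolynomial F₀ A)) (RD : Finset (MvPolynomial (E₀ ⊕ F₀) A))
    (hRB : ∀ p ∈ RB, ev E₀ p = 0) (hRB' : ∀ p ∈ RB', ev F₀ p = 0)
    (hRD : ∀ p ∈ RD, evD f i E₀ F₀ p = 0) :
    ∃ (s : Stage f i) (h : E₀ ⊆ s.E) (h' : F₀ ⊆ s.F), (∀ p ∈ RB, ren h p ∈ s.I) ∧
      (∀ p ∈ RB', ren h' p ∈ s.I') ∧ ∀ p ∈ RD, renD h h' p ∈ s.K := by
  classical
  let l : B → D' := fun b => Function.invFun i (f b)
  have hl : ∀ b, i (l b) = f b := fun b => Function.invFun_eq (hi _)
  let bd : D' → B := fun d => Function.invFun f (i d)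
  have hint : ∀ d : D', ∃ p : Polynomial B, (f.toRingHom.IsIntegral →
      p.Monic ∧ Polynomial.eval₂ f.toRingHom (i d) p = 0) := fun d => by
    by_cases h : f.toRingHom.IsIntegral
    · obtain ⟨p, hp, hp'⟩ := h (i d)
      exact ⟨p, fun _ => ⟨hp, hp'⟩⟩
    · exact ⟨0, fun h' => absurd h' h⟩
  choose pd hpd using hint
  let E : Finset B := E₀ ∪ F₀.image bd ∪ F₀.biUnion fun d => (pd d).coeffs
  let F : Finset D' := F₀ ∪ E.image l
  have hE : E₀ ⊆ E := Finset.subset_union_left.trans Finset.subset_union_left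
  have hF : F₀ ⊆ F := Finset.subset_union_left
  have hlmem : ∀ e : E, l e.1 ∈ F := fun e => Finset.mem_union_right _ (Finset.mem_image_of_mem l e.2)
  have hback : ∀ d : F, ∃ e : E, (Function.Surjective f → f e.1 = i d.1) ∧
      (d.1 ∉ F₀ → l e.1 = d.1) := by
    intro d
    by_cases hd : d.1 ∈ F₀
    · exact ⟨⟨bd d.1, Finset.mem_union_left _ (Finset.mem_union_right _ (Finset.mem_image_of_mem bd hd))⟩,
        fun h => Function.invFun_eq (h _), fun h => absurd hd h⟩
    · obtain ⟨e, he, he'⟩ := Finset.mem_image.1 ((Finset.mem_union.1 d.2).resolve_left hd)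
      exact ⟨⟨e, he⟩, fun _ => by rw [← he', hl], fun _ => he'⟩
  choose back hback1 hback2 using hback
  have hlift : ∀ d : F₀, ∃ q : Polynomial (MvPolynomial E A), f.toRingHom.IsIntegral →
      q.Monic ∧ q.map (ev E).toRingHom = pd d.1 := by
    intro d
    by_cases h : f.toRingHom.IsIntegral
    · have hm : pd d.1 ∈ Polynomial.lifts (ev (A := A) E).toRingHom := by
        rw [Polynomial.lifts_iff_coeff_lifts]
        intro n
        by_cases hn : (pd d.1).coeff n = 0
        · exact ⟨0, by rw [hn]; exact map_zero _⟩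
        · exact ⟨X ⟨(pd d.1).coeff n, Finset.mem_union_right _ (Finset.mem_biUnion.2
            ⟨d.1, d.2, Polynomial.coeff_mem_coeffs hn⟩)⟩, by simp⟩
      rcases subsingleton_or_nontrivial B with hB | hB
      · exact ⟨1, fun _ => ⟨Polynomial.monic_one, Subsingleton.elim _ _⟩⟩
      obtain ⟨q, hq, -, hq'⟩ := Polynomial.lifts_and_degree_eq_and_monic hm (hpd d.1 h).1
      exact ⟨q, fun _ => ⟨hq', hq⟩⟩
    · exact ⟨0, fun h' => absurd h' h⟩
  choose qd hqd using hlift
  let θ' : MvPolynomial (E ⊕ F) A →ₐ[A] MvPolynomial F A :=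
    aeval (Sum.elim (fun e => X ⟨l e.1, hlmem e⟩) X)
  let θ : MvPolynomial (E ⊕ F) A →ₐ[A] MvPolynomial E A :=
    aeval (Sum.elim X fun d => X (back d))
  have hθ' : ∀ p, θ' (inr E F p) = p := fun p =>
    DFunLike.congr_fun (show θ'.comp (inr E F) = AlgHom.id A _ from
      MvPolynomial.algHom_ext fun e => by simp [θ']) p
  have hθ : ∀ p, θ (inl E F p) = p := fun p =>
    DFunLike.congr_fun (show θ.comp (inl E F) = AlgHom.id A _ from
      MvPolynomial.algHom_ext fun e => by simp [θ]) p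
  let Q : Finset (MvPolynomial (E ⊕ F) A) :=
    RD.image (renD hE hF) ∪ (RB.image fun p => inl E F (ren hE p)) ∪
    (RB'.image fun p => inr E F (ren hF p)) ∪
    (Finset.univ.image fun e : E => (X (.inl e) : MvPolynomial (E ⊕ F) A) - X (.inr ⟨l e.1, hlmem e⟩)) ∪
    (if Function.Surjective f then
      Finset.univ.image fun d : F => (X (.inr d) : MvPolynomial (E ⊕ F) A) - X (.inl (back d))
      else ∅) ∪
    (if f.toRingHom.IsIntegral then
      Finset.univ.image fun d : F₀ =>
        (qd d).eval₂ (inl E F).toRingHom (X (.inr ⟨d.1, hF d.2⟩) : MvPolynomial (E ⊕ F) A)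
      else ∅)
  have hQ : ∀ q ∈ Q, evD f i E F q = 0 := by
    intro q hq
    simp only [Q, Finset.mem_union, Finset.mem_image] at hq
    rcases hq with ((((⟨p, hp, rfl⟩ | ⟨p, hp, rfl⟩) | ⟨p, hp, rfl⟩) | ⟨e, -, rfl⟩) | hq) | hq
    · rw [evD_renD]; exact hRD p hp
    · rw [evD_inl, ev_ren, hRB p hp, map_zero]
    · rw [evD_inr, ev_ren, hRB' p hp, map_zero]
    · simp [evD, hl]
    · split_ifs at hq with hs
      · obtain ⟨d, -, rfl⟩ := Finset.mem_image.1 hq
        simp [evD, hback1 d hs]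
      · simp at hq
    · split_ifs at hq with hs
      · obtain ⟨d, -, rfl⟩ := Finset.mem_image.1 hq
        have h1 := (hpd d.1 hs).2
        rw [← (hqd d hs).2, Polynomial.eval₂_map] at h1
        change (evD f i E F).toRingHom _ = 0
        rw [Polynomial.hom_eval₂]
        convert h1 using 2
        · exact RingHom.ext fun p => evD_inl f i p
        · simp [evD]
      · simp at hq
  have hnθ' : ∀ q, ∃ n, q ∈ Q → ev F (θ' q) ^ (n + 1) = 0 := by
    intro q
    by_cases hq : q ∈ Q
    · have h1 : i (ev F (θ' q)) = 0 := by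
        rw [← evD_inr f i (E := E), ← hQ q hq]
        exact DFunLike.congr_fun (show ((evD f i E F).comp (inr E F)).comp θ' = evD f i E F from
          MvPolynomial.algHom_ext fun e => by cases e <;> simp [evD, θ', hl]) q
      obtain ⟨n, hn⟩ := hnil _ h1
      exact ⟨n, fun _ => by rw [pow_succ, hn, zero_mul]⟩
    · exact ⟨0, fun h => absurd h hq⟩
  choose n' hn' using hnθ'
  have hnθ : ∀ q, ∃ n, q ∈ Q → Function.Surjective f → (∀ x ∈ RingHom.ker f.toRingHom, IsNilpotent x) →
      ev E (θ q) ^ (n + 1) = 0 := by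
    intro q
    by_cases hq : q ∈ Q ∧ Function.Surjective f ∧ ∀ x ∈ RingHom.ker f.toRingHom, IsNilpotent x
    · obtain ⟨hq, hs, hk⟩ := hq
      have h1 : f (ev E (θ q)) = 0 := by
        rw [← evD_inl f i (F := F), ← hQ q hq]
        exact DFunLike.congr_fun (show ((evD f i E F).comp (inl E F)).comp θ = evD f i E F from
          MvPolynomial.algHom_ext fun e => by cases e <;> simp [evD, θ, hback1 _ hs]) q
      obtain ⟨n, hn⟩ := hk _ h1
      exact ⟨n, fun _ _ _ => by rw [pow_succ, hn, zero_mul]⟩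
    · exact ⟨0, fun h1 h2 h3 => absurd ⟨h1, h2, h3⟩ hq⟩
  choose n hn using hnθ
  let K : Ideal (MvPolynomial (E ⊕ F) A) := Ideal.span Q
  have hQK : ∀ q ∈ Q, q ∈ K := fun q hq => Ideal.subset_span hq
  have hL' : ∀ e : E, (X (.inl e) : MvPolynomial (E ⊕ F) A) - X (.inr ⟨l e.1, hlmem e⟩) ∈ K :=
    fun e => hQK _ (by simp [Q])
  have hL : Function.Surjective f → ∀ d : F,
      (X (.inr d) : MvPolynomial (E ⊕ F) A) - X (.inl (back d)) ∈ K :=
    fun hs d => hQK _ (Finset.mem_union_left _ (Finset.mem_union_right _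
      (by rw [if_pos hs]; exact Finset.mem_image_of_mem _ (Finset.mem_univ d))))
  have hsub' : ∀ p, inr E F (θ' p) - p ∈ K := sub_mem θ' (inr E F) K (by
    rintro (e | d)
    · have := K.neg_mem (hL' e); rw [neg_sub] at this; simpa [θ'] using this
    · simp [θ'])
  have hsub : Function.Surjective f → ∀ p, inl E F (θ p) - p ∈ K := fun hs => sub_mem θ (inl E F) K (by
    rintro (e | d)
    · simp [θ]
    · have := K.neg_mem (hL hs d); rw [neg_sub] at this; simpa [θ] using this)
  let P : Prop := Function.Surjective f ∧ ∀ x ∈ RingHom.ker f.toRingHom, IsNilpotent x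
  let gI : Finset (MvPolynomial E A) :=
    RB.image (ren hE) ∪ if P then Q.image fun q => θ q ^ (n q + 1) else ∅
  let gI' : Finset (MvPolynomial F A) :=
    RB'.image (ren hF) ∪ Q.image fun q => θ' q ^ (n' q + 1)
  have hI : ∀ g ∈ gI, ev E g = 0 ∧ inl E F g ∈ K := by
    intro g hg
    simp only [gI, Finset.mem_union] at hg
    rcases hg with hg | hg
    · obtain ⟨p, hp, rfl⟩ := Finset.mem_image.1 hg
      exact ⟨by rw [ev_ren]; exact hRB p hp, hQK _ (by
        simp only [Q, Finset.mem_union, Finset.mem_image]; exact Or.inl (Or.inl (Or.inl (Or.inl (Or.inr ⟨p, hp, rfl⟩)))))⟩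
    · split_ifs at hg with hP
      · obtain ⟨q, hq, rfl⟩ := Finset.mem_image.1 hg
        refine ⟨by rw [map_pow]; exact hn q hq hP.1 hP.2, ?_⟩
        rw [map_pow, pow_succ]
        refine K.mul_mem_left _ ?_
        have := K.add_mem (hsub hP.1 q) (hQK q hq)
        rwa [sub_add_cancel] at this
      · simp at hg
  have hI' : ∀ g ∈ gI', ev F g = 0 ∧ inr E F g ∈ K := by
    intro g hg
    simp only [gI', Finset.mem_union] at hg
    rcases hg with hg | hg
    · obtain ⟨p, hp, rfl⟩ := Finset.mem_image.1 hg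
      exact ⟨by rw [ev_ren]; exact hRB' p hp, hQK _ (by
        simp only [Q, Finset.mem_union, Finset.mem_image]; exact Or.inl (Or.inl (Or.inl (Or.inr ⟨p, hp, rfl⟩))))⟩
    · obtain ⟨q, hq, rfl⟩ := Finset.mem_image.1 hg
      refine ⟨by rw [map_pow]; exact hn' q hq, ?_⟩
      rw [map_pow, pow_succ]
      refine K.mul_mem_left _ ?_
      have := K.add_mem (hsub' q) (hQK q hq)
      rwa [sub_add_cancel] at this
  have hl1 : Ideal.span (gI : Set _) ≤ K.comap (inl E F) := Ideal.span_le.2 fun g hg => (hI g hg).2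
  have hl2 : Ideal.span (gI' : Set _) ≤ K.comap (inr E F) := Ideal.span_le.2 fun g hg => (hI' g hg).2
  refine ⟨{ E := E, F := F, I := Ideal.span gI, I' := Ideal.span gI', K := K,
            I_fg := ⟨_, rfl⟩, I'_fg := ⟨_, rfl⟩, K_fg := ⟨_, rfl⟩,
            I_le := Ideal.span_le.2 fun g hg => (hI g hg).1,
            I'_le := Ideal.span_le.2 fun g hg => (hI' g hg).1,
            K_le := Ideal.span_le.2 fun g hg => hQ g hg,
            le_l := hl1, le_r := hl2, surj := fun x => ?_,
            nil := nil_of_powers θ' (inr E F) hθ' Q _ (fun q hq => ⟨n' q + 1, Ideal.subset_span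
              (Finset.mem_union_right _ (Finset.mem_image_of_mem (fun q => θ' q ^ (n' q + 1)) hq))⟩) hl2,
            surjf := fun hs x => ?_,
            nilf := fun hs hk => nil_of_powers θ (inl E F) hθ Q _ (fun q hq => ⟨n q + 1, Ideal.subset_span
              (Finset.mem_union_right _ (by
                rw [if_pos (show P from ⟨hs, hk⟩)]
                exact Finset.mem_image_of_mem (fun q => θ q ^ (n q + 1)) hq))⟩) hl1,
            intf := fun hs => ?_ }, hE, hF, fun p hp => ?_, fun p hp => ?_, fun p hp => ?_⟩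
  · obtain ⟨p, rfl⟩ := Ideal.Quotient.mk_surjective x
    exact ⟨Ideal.Quotient.mk _ (θ' p), Ideal.Quotient.eq.2 (hsub' p)⟩
  · obtain ⟨p, rfl⟩ := Ideal.Quotient.mk_surjective x
    exact ⟨Ideal.Quotient.mk _ (θ p), Ideal.Quotient.eq.2 (hsub hs p)⟩
  · let φ := (Ideal.quotientMapₐ K (inl E F) hl1).toRingHom
    have hgen : ∀ s, φ.IsIntegralElem (Ideal.Quotient.mk K (X s)) := by
      have he : ∀ e : E, φ.IsIntegralElem (Ideal.Quotient.mk K (X (.inl e))) := fun e => by
        have := φ.isIntegralElem_map (x := Ideal.Quotient.mk _ (X e))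
        simpa [φ] using this
      rintro (e | d)
      · exact he e
      · by_cases hd : d.1 ∈ F₀
        · refine ⟨(qd ⟨d.1, hd⟩).map (Ideal.Quotient.mk _), (hqd _ hs).1.map _, ?_⟩
          rw [Polynomial.eval₂_map]
          have h0 := Ideal.Quotient.eq_zero_iff_mem.2 (hQK _ (Finset.mem_union_right _ (by
            rw [if_pos hs]
            exact Finset.mem_image_of_mem (fun d : F₀ => (qd d).eval₂ (inl E F).toRingHom
              (X (.inr ⟨d.1, hF d.2⟩) : MvPolynomial (E ⊕ F) A)) (Finset.mem_univ ⟨d.1, hd⟩))))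
          rw [Polynomial.hom_eval₂] at h0
          exact h0
        · have h1 := Ideal.Quotient.eq.2 (hL' (back d))
          have h2 : (⟨l (back d).1, hlmem _⟩ : F) = d := Subtype.ext (hback2 d hd)
          rw [h2] at h1
          rw [← h1]
          exact he _
    intro x
    obtain ⟨p, rfl⟩ := Ideal.Quotient.mk_surjective x
    induction p using MvPolynomial.induction_on with
    | C a =>
      have h1 := φ.isIntegralElem_map (x := Ideal.Quotient.mk _ (C a))
      have h2 : φ (Ideal.Quotient.mk _ (C a)) = Ideal.Quotient.mk K (C a) :=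
        congrArg (Ideal.Quotient.mk K) (rename_C Sum.inl a)
      rwa [h2] at h1
    | add p q hp hq => rw [map_add]; exact RingHom.IsIntegralElem.add _ hp hq
    | mul_X p s hp => rw [map_mul]; exact RingHom.IsIntegralElem.mul _ hp (hgen s)
  · exact Ideal.subset_span (Finset.mem_union_left _ (Finset.mem_image_of_mem (ren hE) hp))
  · exact Ideal.subset_span (Finset.mem_union_left _ (Finset.mem_image_of_mem (ren hF) hp))
  · exact hQK _ (by simp only [Q, Finset.mem_union, Finset.mem_image]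
                    exact Or.inl (Or.inl (Or.inl (Or.inl (Or.inl ⟨p, hp, rfl⟩)))))

include hi hnil in
/-- two stages plus extra relations are dominated by a stage -/
theorem exists_ge (s t : Stage f i) (RB : Finset (MvPolynomial s.E A))
    (RB' : Finset (MvPolynomial s.F A)) (RD : Finset (MvPolynomial (s.E ⊕ s.F) A))
    (hRB : ∀ p ∈ RB, ev s.E p = 0) (hRB' : ∀ p ∈ RB', ev s.F p = 0)
    (hRD : ∀ p ∈ RD, evD f i _ _ p = 0) :
    ∃ (r : Stage f i) (_ : s ≤ r) (_ : t ≤ r) (h : s.E ⊆ r.E) (h' : s.F ⊆ r.F),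
      (∀ p ∈ RB, ren h p ∈ r.I) ∧ (∀ p ∈ RB', ren h' p ∈ r.I') ∧ ∀ p ∈ RD, renD h h' p ∈ r.K := by
  classical
  obtain ⟨g1, hg1⟩ := s.I_fg
  obtain ⟨g2, hg2⟩ := s.I'_fg
  obtain ⟨g3, hg3⟩ := s.K_fg
  obtain ⟨k1, hk1⟩ := t.I_fg
  obtain ⟨k2, hk2⟩ := t.I'_fg
  obtain ⟨k3, hk3⟩ := t.K_fg
  have a : s.E ⊆ s.E ∪ t.E := Finset.subset_union_left
  have a' : t.E ⊆ s.E ∪ t.E := Finset.subset_union_right
  have b : s.F ⊆ s.F ∪ t.F := Finset.subset_union_left
  have b' : t.F ⊆ s.F ∪ t.F := Finset.subset_union_right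
  obtain ⟨r, h, h', h1, h2, h3⟩ := exists_stage hi hnil (s.E ∪ t.E) (s.F ∪ t.F)
    ((g1 ∪ RB).image (ren a) ∪ k1.image (ren a'))
    ((g2 ∪ RB').image (ren b) ∪ k2.image (ren b'))
    ((g3 ∪ RD).image (renD a b) ∪ k3.image (renD a' b'))
    (by
      intro p hp
      simp only [Finset.mem_union, Finset.mem_image] at hp
      rcases hp with ⟨q, hq | hq, rfl⟩ | ⟨q, hq, rfl⟩ <;> rw [ev_ren]
      · exact RingHom.mem_ker.1 (s.I_le (hg1 ▸ Ideal.subset_span hq))
      · exact hRB q hq
      · exact RingHom.mem_ker.1 (t.I_le (hk1 ▸ Ideal.subset_span hq)))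
    (by
      intro p hp
      simp only [Finset.mem_union, Finset.mem_image] at hp
      rcases hp with ⟨q, hq | hq, rfl⟩ | ⟨q, hq, rfl⟩ <;> rw [ev_ren]
      · exact RingHom.mem_ker.1 (s.I'_le (hg2 ▸ Ideal.subset_span hq))
      · exact hRB' q hq
      · exact RingHom.mem_ker.1 (t.I'_le (hk2 ▸ Ideal.subset_span hq)))
    (by
      intro p hp
      simp only [Finset.mem_union, Finset.mem_image] at hp
      rcases hp with ⟨q, hq | hq, rfl⟩ | ⟨q, hq, rfl⟩ <;> rw [evD_renD]
      · exact RingHom.mem_ker.1 (s.K_le (hg3 ▸ Ideal.subset_span hq))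
      · exact hRD q hq
      · exact RingHom.mem_ker.1 (t.K_le (hk3 ▸ Ideal.subset_span hq)))
  have eB : ∀ {E : Finset B} (x : E ⊆ s.E ∪ t.E) (q : MvPolynomial E A),
      ren h (ren x q) = ren (x.trans h) q := fun x q =>
    DFunLike.congr_fun (show (ren h).comp (ren (A := A) x) = ren (x.trans h) from
      MvPolynomial.algHom_ext fun e => by simp) q
  have eF : ∀ {F : Finset D'} (x : F ⊆ s.F ∪ t.F) (q : MvPolynomial F A),
      ren h' (ren x q) = ren (x.trans h') q := fun x q =>
    DFunLike.congr_fun (show (ren h').comp (ren (A := A) x) = ren (x.trans h') from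
      MvPolynomial.algHom_ext fun e => by simp) q
  have eD : ∀ {E : Finset B} {F : Finset D'} (x : E ⊆ s.E ∪ t.E) (y : F ⊆ s.F ∪ t.F)
      (q : MvPolynomial (E ⊕ F) A), renD h h' (renD x y q) = renD (x.trans h) (y.trans h') q :=
    fun x y q => DFunLike.congr_fun (show (renD h h').comp (renD (A := A) x y) = _ from
      MvPolynomial.algHom_ext fun e => by cases e <;> simp) q
  refine ⟨r, ⟨a.trans h, b.trans h', ?_, ?_, ?_⟩, ⟨a'.trans h, b'.trans h', ?_, ?_, ?_⟩,
    a.trans h, b.trans h', fun p hp => ?_, fun p hp => ?_, fun p hp => ?_⟩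
  · rw [← hg1]; refine Ideal.span_le.2 fun q hq => ?_
    rw [SetLike.mem_coe, Ideal.mem_comap, ← eB a]
    exact h1 _ (Finset.mem_union_left _ (Finset.mem_image_of_mem _ (Finset.mem_union_left _ hq)))
  · rw [← hg2]; refine Ideal.span_le.2 fun q hq => ?_
    rw [SetLike.mem_coe, Ideal.mem_comap, ← eF b]
    exact h2 _ (Finset.mem_union_left _ (Finset.mem_image_of_mem _ (Finset.mem_union_left _ hq)))
  · rw [← hg3]; refine Ideal.span_le.2 fun q hq => ?_
    rw [SetLike.mem_coe, Ideal.mem_comap, ← eD a b]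
    exact h3 _ (Finset.mem_union_left _ (Finset.mem_image_of_mem _ (Finset.mem_union_left _ hq)))
  · rw [← hk1]; refine Ideal.span_le.2 fun q hq => ?_
    rw [SetLike.mem_coe, Ideal.mem_comap, ← eB a']
    exact h1 _ (Finset.mem_union_right _ (Finset.mem_image_of_mem _ hq))
  · rw [← hk2]; refine Ideal.span_le.2 fun q hq => ?_
    rw [SetLike.mem_coe, Ideal.mem_comap, ← eF b']
    exact h2 _ (Finset.mem_union_right _ (Finset.mem_image_of_mem _ hq))
  · rw [← hk3]; refine Ideal.span_le.2 fun q hq => ?_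
    rw [SetLike.mem_coe, Ideal.mem_comap, ← eD a' b']
    exact h3 _ (Finset.mem_union_right _ (Finset.mem_image_of_mem _ hq))
  · rw [← eB a]
    exact h1 _ (Finset.mem_union_left _ (Finset.mem_image_of_mem _ (Finset.mem_union_right _ hp)))
  · rw [← eF b]
    exact h2 _ (Finset.mem_union_left _ (Finset.mem_image_of_mem _ (Finset.mem_union_right _ hp)))
  · rw [← eD a b]
    exact h3 _ (Finset.mem_union_left _ (Finset.mem_image_of_mem _ (Finset.mem_union_right _ hp)))

include hi hnil in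
theorem isFiltered : IsFiltered (Stage f i) := by
  haveI : Nonempty (Stage f i) := ⟨(exists_stage hi hnil (∅ : Finset B) (∅ : Finset D') ∅ ∅ ∅
    (by simp) (by simp) (by simp)).choose⟩
  haveI : IsDirectedOrder (Stage f i) := ⟨fun s t => by
    obtain ⟨r, h, h', -⟩ := exists_ge hi hnil s t ∅ ∅ ∅ (by simp) (by simp) (by simp)
    exact ⟨r, h, h'⟩⟩
  infer_instance

/-- `B_j` -/
abbrev QB (s : Stage f i) := MvPolynomial s.E A ⧸ s.I
/-- `D'_j` -/
abbrev QD' (s : Stage f i) := MvPolynomial s.F A ⧸ s.I'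
/-- `D_j` -/
abbrev QD (s : Stage f i) := MvPolynomial (s.E ⊕ s.F) A ⧸ s.K

/-- `B_j → D_j` -/
def φm (s : Stage f i) : QB s →ₐ[A] QD s := Ideal.quotientMapₐ s.K (inl s.E s.F) s.le_l
/-- `D'_j → D_j` -/
def ψm (s : Stage f i) : QD' s →ₐ[A] QD s := Ideal.quotientMapₐ s.K (inr s.E s.F) s.le_r

/-- the fibre product of a stage -/
def QP (s : Stage f i) : Subalgebra A (QB s × QD' s) :=
  AlgHom.equalizer ((φm s).comp (AlgHom.fst A (QB s) (QD' s))) ((ψm s).comp (AlgHom.snd A (QB s) (QD' s)))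

/-- transition -/
def tB {s t : Stage f i} (h : s ≤ t) : QB s →ₐ[A] QB t := Ideal.quotientMapₐ t.I (ren h.1) h.2.2.1
/-- transition -/
def tD' {s t : Stage f i} (h : s ≤ t) : QD' s →ₐ[A] QD' t :=
  Ideal.quotientMapₐ t.I' (ren h.2.1) h.2.2.2.1
/-- transition -/
def tD {s t : Stage f i} (h : s ≤ t) : QD s →ₐ[A] QD t :=
  Ideal.quotientMapₐ t.K (renD h.1 h.2.1) h.2.2.2.2

lemma φm_t {s t : Stage f i} (h : s ≤ t) (x : QB s) : φm t (tB h x) = tD h (φm s x) := by
  obtain ⟨p, rfl⟩ := Ideal.Quotient.mk_surjective x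
  exact congrArg (Ideal.Quotient.mk t.K) (DFunLike.congr_fun
    (show (inl t.E t.F).comp (ren (A := A) h.1) = (renD h.1 h.2.1).comp (inl s.E s.F) from
      MvPolynomial.algHom_ext fun e => by simp) p)

lemma ψm_t {s t : Stage f i} (h : s ≤ t) (x : QD' s) : ψm t (tD' h x) = tD h (ψm s x) := by
  obtain ⟨p, rfl⟩ := Ideal.Quotient.mk_surjective x
  exact congrArg (Ideal.Quotient.mk t.K) (DFunLike.congr_fun
    (show (inr t.E t.F).comp (ren (A := A) h.2.1) = (renD h.1 h.2.1).comp (inr s.E s.F) from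
      MvPolynomial.algHom_ext fun e => by simp) p)

/-- transition -/
def tP {s t : Stage f i} (h : s ≤ t) : QP s →ₐ[A] QP t :=
  (((tB h).comp (AlgHom.fst A (QB s) (QD' s))).prod ((tD' h).comp (AlgHom.snd A (QB s) (QD' s))) |>.comp
    (QP s).val).codRestrict (QP t) fun x => by
    change φm t (tB h x.1.1) = ψm t (tD' h x.1.2)
    rw [φm_t, ψm_t]
    exact congrArg (tD h) x.2

/-- to `B` -/
def gB (s : Stage f i) : QB s →ₐ[A] B :=
  Ideal.Quotient.liftₐ s.I (ev s.E) fun _ hp => RingHom.mem_ker.1 (s.I_le hp)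
/-- to `D'` -/
def gD' (s : Stage f i) : QD' s →ₐ[A] D' :=
  Ideal.Quotient.liftₐ s.I' (ev s.F) fun _ hp => RingHom.mem_ker.1 (s.I'_le hp)
/-- to `D` -/
def gD (s : Stage f i) : QD s →ₐ[A] D :=
  Ideal.Quotient.liftₐ s.K (evD f i s.E s.F) fun _ hp => RingHom.mem_ker.1 (s.K_le hp)

lemma gD_φm (s : Stage f i) (x : QB s) : gD s (φm s x) = f (gB s x) := by
  obtain ⟨p, rfl⟩ := Ideal.Quotient.mk_surjective x
  exact evD_inl f i p

lemma gD_ψm (s : Stage f i) (x : QD' s) : gD s (ψm s x) = i (gD' s x) := by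
  obtain ⟨p, rfl⟩ := Ideal.Quotient.mk_surjective x
  exact evD_inr f i p

lemma gB_t {s t : Stage f i} (h : s ≤ t) (x : QB s) : gB t (tB h x) = gB s x := by
  obtain ⟨p, rfl⟩ := Ideal.Quotient.mk_surjective x
  exact ev_ren h.1 p

lemma gD'_t {s t : Stage f i} (h : s ≤ t) (x : QD' s) : gD' t (tD' h x) = gD' s x := by
  obtain ⟨p, rfl⟩ := Ideal.Quotient.mk_surjective x
  exact ev_ren h.2.1 p

lemma gD_t {s t : Stage f i} (h : s ≤ t) (x : QD s) : gD t (tD h x) = gD s x := by
  obtain ⟨p, rfl⟩ := Ideal.Quotient.mk_surjective x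
  exact evD_renD f i h.1 h.2.1 p

lemma tB_self {s : Stage f i} (h : s ≤ s) (x : QB s) : tB h x = x := by
  obtain ⟨p, rfl⟩ := Ideal.Quotient.mk_surjective x
  exact congrArg (Ideal.Quotient.mk s.I) (DFunLike.congr_fun
    (show ren h.1 = AlgHom.id A _ from MvPolynomial.algHom_ext fun e => by simp) p)

lemma tD'_self {s : Stage f i} (h : s ≤ s) (x : QD' s) : tD' h x = x := by
  obtain ⟨p, rfl⟩ := Ideal.Quotient.mk_surjective x
  exact congrArg (Ideal.Quotient.mk s.I') (DFunLike.congr_fun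
    (show ren h.2.1 = AlgHom.id A _ from MvPolynomial.algHom_ext fun e => by simp) p)

lemma tB_trans {s t r : Stage f i} (h : s ≤ t) (h' : t ≤ r) (x : QB s) :
    tB h' (tB h x) = tB (h.trans h') x := by
  obtain ⟨p, rfl⟩ := Ideal.Quotient.mk_surjective x
  exact congrArg (Ideal.Quotient.mk r.I) (DFunLike.congr_fun
    (show (ren h'.1).comp (ren (A := A) h.1) = ren (h.trans h').1 from
      MvPolynomial.algHom_ext fun e => by simp) p)

lemma tD'_trans {s t r : Stage f i} (h : s ≤ t) (h' : t ≤ r) (x : QD' s) :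
    tD' h' (tD' h x) = tD' (h.trans h') x := by
  obtain ⟨p, rfl⟩ := Ideal.Quotient.mk_surjective x
  exact congrArg (Ideal.Quotient.mk r.I') (DFunLike.congr_fun
    (show (ren h'.2.1).comp (ren (A := A) h.2.1) = ren (h.trans h').2.1 from
      MvPolynomial.algHom_ext fun e => by simp) p)

/-- an algebra map as a morphism under the base -/
def mkHom {S T : Type u} [CommRing S] [Algebra A S] [CommRing T] [Algebra A T] (φ : S →ₐ[A] T) :
    Under.mk (CommRingCat.ofHom (algebraMap A S)) ⟶ Under.mk (CommRingCat.ofHom (algebraMap A T)) :=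
  Under.homMk (CommRingCat.ofHom φ.toRingHom) (CommRingCat.hom_ext (RingHom.ext φ.commutes))

variable (f i)

/-- diagram -/
def DB : Stage f i ⥤ Under (CommRingCat.of A) where
  obj s := Under.mk (CommRingCat.ofHom (algebraMap A (QB s)))
  map φ := mkHom (tB (leOfHom φ))
  map_id s := Under.UnderMorphism.ext (CommRingCat.hom_ext (Ideal.Quotient.ringHom_ext
    (RingHom.ext fun p => congrArg (Ideal.Quotient.mk s.I) (DFunLike.congr_fun
      (show ren (leOfHom (𝟙 s)).1 = AlgHom.id A _ from MvPolynomial.algHom_ext fun e => by simp) p))))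
  map_comp {s t r} φ ψ := Under.UnderMorphism.ext (CommRingCat.hom_ext (Ideal.Quotient.ringHom_ext
    (RingHom.ext fun p => congrArg (Ideal.Quotient.mk r.I) (DFunLike.congr_fun
      (show ren (leOfHom (φ ≫ ψ)).1 = (ren (A := A) (leOfHom ψ).1).comp (ren (leOfHom φ).1) from
        MvPolynomial.algHom_ext fun e => by simp) p))))

/-- diagram -/
def DD' : Stage f i ⥤ Under (CommRingCat.of A) where
  obj s := Under.mk (CommRingCat.ofHom (algebraMap A (QD' s)))
  map φ := mkHom (tD' (leOfHom φ))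
  map_id s := Under.UnderMorphism.ext (CommRingCat.hom_ext (Ideal.Quotient.ringHom_ext
    (RingHom.ext fun p => congrArg (Ideal.Quotient.mk s.I') (DFunLike.congr_fun
      (show ren (leOfHom (𝟙 s)).2.1 = AlgHom.id A _ from MvPolynomial.algHom_ext fun e => by simp) p))))
  map_comp {s t r} φ ψ := Under.UnderMorphism.ext (CommRingCat.hom_ext (Ideal.Quotient.ringHom_ext
    (RingHom.ext fun p => congrArg (Ideal.Quotient.mk r.I') (DFunLike.congr_fun
      (show ren (leOfHom (φ ≫ ψ)).2.1 = (ren (A := A) (leOfHom ψ).2.1).comp (ren (leOfHom φ).2.1) from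
        MvPolynomial.algHom_ext fun e => by simp) p))))

/-- diagram -/
def DD : Stage f i ⥤ Under (CommRingCat.of A) where
  obj s := Under.mk (CommRingCat.ofHom (algebraMap A (QD s)))
  map φ := mkHom (tD (leOfHom φ))
  map_id s := Under.UnderMorphism.ext (CommRingCat.hom_ext (Ideal.Quotient.ringHom_ext
    (RingHom.ext fun p => congrArg (Ideal.Quotient.mk s.K) (DFunLike.congr_fun
      (show renD (leOfHom (𝟙 s)).1 (leOfHom (𝟙 s)).2.1 = AlgHom.id A _ from
        MvPolynomial.algHom_ext fun e => by cases e <;> simp) p))))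
  map_comp {s t r} φ ψ := Under.UnderMorphism.ext (CommRingCat.hom_ext (Ideal.Quotient.ringHom_ext
    (RingHom.ext fun p => congrArg (Ideal.Quotient.mk r.K) (DFunLike.congr_fun
      (show renD (leOfHom (φ ≫ ψ)).1 (leOfHom (φ ≫ ψ)).2.1 =
          (renD (A := A) (leOfHom ψ).1 (leOfHom ψ).2.1).comp (renD (leOfHom φ).1 (leOfHom φ).2.1) from
        MvPolynomial.algHom_ext fun e => by cases e <;> simp) p))))

/-- diagram -/
def DP : Stage f i ⥤ Under (CommRingCat.of A) where
  obj s := Under.mk (CommRingCat.ofHom (algebraMap A (QP s)))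
  map φ := mkHom (tP (leOfHom φ))
  map_id s := Under.UnderMorphism.ext (CommRingCat.hom_ext (RingHom.ext fun (x : QP s) =>
    Subtype.ext (Prod.ext (tB_self (leOfHom (𝟙 s)) x.1.1) (tD'_self (leOfHom (𝟙 s)) x.1.2))))
  map_comp {s t r} φ ψ := Under.UnderMorphism.ext (CommRingCat.hom_ext (RingHom.ext fun (x : QP s) =>
    Subtype.ext (Prod.ext (tB_trans (leOfHom φ) (leOfHom ψ) x.1.1).symm
      (tD'_trans (leOfHom φ) (leOfHom ψ) x.1.2).symm)))

/-- morphism -/
def natφ : DB f i ⟶ DD f i where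
  app s := mkHom (φm s)
  naturality _ _ φ := Under.UnderMorphism.ext (CommRingCat.hom_ext (RingHom.ext (φm_t (leOfHom φ))))

/-- morphism -/
def natψ : DD' f i ⟶ DD f i where
  app s := mkHom (ψm s)
  naturality _ _ φ := Under.UnderMorphism.ext (CommRingCat.hom_ext (RingHom.ext (ψm_t (leOfHom φ))))

/-- morphism -/
def natπ₁ : DP f i ⟶ DB f i where
  app s := mkHom (S := QP s) (T := QB s) ((AlgHom.fst A (QB s) (QD' s)).comp (QP s).val)
  naturality _ _ _ := Under.UnderMorphism.ext (CommRingCat.hom_ext (RingHom.ext fun _ => rfl))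

/-- morphism -/
def natπ₂ : DP f i ⟶ DD' f i where
  app s := mkHom (S := QP s) (T := QD' s) ((AlgHom.snd A (QB s) (QD' s)).comp (QP s).val)
  naturality _ _ _ := Under.UnderMorphism.ext (CommRingCat.hom_ext (RingHom.ext fun _ => rfl))

/-- cocone -/
def cB : DB f i ⟶ (Functor.const _).obj (Under.mk (CommRingCat.ofHom (algebraMap A B))) where
  app s := mkHom (gB s)
  naturality _ _ φ := Under.UnderMorphism.ext (CommRingCat.hom_ext (RingHom.ext (gB_t (leOfHom φ))))

/-- cocone -/
def cD' : DD' f i ⟶ (Functor.const _).obj (Under.mk (CommRingCat.ofHom (algebraMap A D'))) where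
  app s := mkHom (gD' s)
  naturality _ _ φ := Under.UnderMorphism.ext (CommRingCat.hom_ext (RingHom.ext (gD'_t (leOfHom φ))))

/-- cocone -/
def cD : DD f i ⟶ (Functor.const _).obj (Under.mk (CommRingCat.ofHom (algebraMap A D))) where
  app s := mkHom (gD s)
  naturality _ _ φ := Under.UnderMorphism.ext (CommRingCat.hom_ext (RingHom.ext (gD_t (leOfHom φ))))

include hi hnil

theorem isColimitB : Nonempty (IsColimit (Cocone.mk _ (cB f i))) := by
  haveI := isFiltered (f := f) hi hnil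
  refine ⟨IntPair.isColimitUnder _ _ (fun (b : B) => ?_) fun s y hy => ?_⟩
  · obtain ⟨s, h, -, -⟩ := exists_stage (f := f) hi hnil {b} ∅ ∅ ∅ ∅ (by simp) (by simp) (by simp)
    refine ⟨s, Ideal.Quotient.mk _ (X ⟨b, h (Finset.mem_singleton_self b)⟩), ?_⟩
    first
    | exact (aeval_X (R := A) (fun e : s.E => e.1) _)
    | exact (aeval_X (R := A) (fun e : s.F => e.1) _)
  · obtain ⟨p, rfl⟩ := Ideal.Quotient.mk_surjective y
    have hp : ev s.E p = 0 := hy
    obtain ⟨r, hsr, -, h, h', h1, -⟩ := exists_ge hi hnil s s {p} ∅ ∅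
      (fun q hq => by rw [Finset.mem_singleton.1 hq]; exact hp) (by simp) (by simp)
    exact ⟨r, homOfLE hsr, Ideal.Quotient.eq_zero_iff_mem.2 (h1 p (Finset.mem_singleton_self p))⟩

theorem isColimitD' : Nonempty (IsColimit (Cocone.mk _ (cD' f i))) := by
  haveI := isFiltered (f := f) hi hnil
  refine ⟨IntPair.isColimitUnder _ _ (fun (b : D') => ?_) fun s y hy => ?_⟩
  · obtain ⟨s, -, h, -⟩ := exists_stage (f := f) hi hnil ∅ {b} ∅ ∅ ∅ (by simp) (by simp) (by simp)
    refine ⟨s, Ideal.Quotient.mk _ (X ⟨b, h (Finset.mem_singleton_self b)⟩), ?_⟩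
    first
    | exact (aeval_X (R := A) (fun e : s.E => e.1) _)
    | exact (aeval_X (R := A) (fun e : s.F => e.1) _)
  · obtain ⟨p, rfl⟩ := Ideal.Quotient.mk_surjective y
    have hp : ev s.F p = 0 := hy
    obtain ⟨r, hsr, -, h, h', -, h1, -⟩ := exists_ge hi hnil s s ∅ {p} ∅ (by simp)
      (fun q hq => by rw [Finset.mem_singleton.1 hq]; exact hp) (by simp)
    exact ⟨r, homOfLE hsr, Ideal.Quotient.eq_zero_iff_mem.2 (h1 p (Finset.mem_singleton_self p))⟩

theorem isColimitD : Nonempty (IsColimit (Cocone.mk _ (cD f i))) := by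
  haveI := isFiltered (f := f) hi hnil
  refine ⟨IntPair.isColimitUnder _ _ (fun (d : D) => ?_) fun s y hy => ?_⟩
  · obtain ⟨b, hb⟩ := hi d
    obtain ⟨s, -, h, -⟩ := exists_stage (f := f) hi hnil ∅ {b} ∅ ∅ ∅ (by simp) (by simp) (by simp)
    exact ⟨s, Ideal.Quotient.mk _ (X (.inr ⟨b, h (Finset.mem_singleton_self b)⟩)),
      (aeval_X (R := A) (Sum.elim (fun e : s.E => f e.1) fun d : s.F => i d.1) _).trans hb⟩
  · obtain ⟨p, rfl⟩ := Ideal.Quotient.mk_surjective y
    have hp : evD f i s.E s.F p = 0 := hy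
    obtain ⟨r, hsr, -, h, h', -, -, h1⟩ := exists_ge hi hnil s s ∅ ∅ {p} (by simp) (by simp)
      (fun q hq => by rw [Finset.mem_singleton.1 hq]; exact hp)
    exact ⟨r, homOfLE hsr, Ideal.Quotient.eq_zero_iff_mem.2 (h1 p (Finset.mem_singleton_self p))⟩

variable {P : Type u} [CommRing P] [Algebra A P] {q₁ : P →ₐ[A] B} {q₂ : P →ₐ[A] D'}

theorem exists_cP (hq : ∀ p, f (q₁ p) = i (q₂ p))
    (he : ∀ z : B × D', f z.1 = i z.2 → ∃! p, q₁ p = z.1 ∧ q₂ p = z.2) :
    ∃ cP : DP f i ⟶ (Functor.const _).obj (Under.mk (CommRingCat.ofHom (algebraMap A P))),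
      Nonempty (IsColimit (Cocone.mk _ cP)) ∧
      (∀ s, ((natπ₁ f i).app s).right ≫ ((cB f i).app s).right = (cP.app s).right ≫ CommRingCat.ofHom q₁.toRingHom) ∧
      (∀ s, ((natπ₂ f i).app s).right ≫ ((cD' f i).app s).right = (cP.app s).right ≫ CommRingCat.ofHom q₂.toRingHom) := by
  haveI := isFiltered (f := f) hi hnil
  have hcompat : ∀ (s : Stage f i) (x : QP s), f (gB s x.1.1) = i (gD' s x.1.2) := fun s x =>
    (gD_φm s x.1.1).symm.trans ((congrArg (gD s) x.2).trans (gD_ψm s x.1.2))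
  choose g hg hguniq using fun (s : Stage f i) (x : QP s) => he (_, _) (hcompat s x)
  have huniq : ∀ (s : Stage f i) (x : QP s) (p : P), q₁ p = gB s x.1.1 → q₂ p = gD' s x.1.2 → g s x = p :=
    fun s x p h1 h2 => (hguniq s x p ⟨h1, h2⟩).symm
  let gP : ∀ s : Stage f i, QP s →ₐ[A] P := fun s =>
    { toFun := g s
      map_one' := huniq s 1 1 (by simp) (by simp)
      map_mul' := fun x y => huniq s _ _ (by simp [(hg s x).1, (hg s y).1]) (by simp [(hg s x).2, (hg s y).2])
      map_zero' := huniq s 0 0 (by simp) (by simp)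
      map_add' := fun x y => huniq s _ _ (by simp [(hg s x).1, (hg s y).1]) (by simp [(hg s x).2, (hg s y).2])
      commutes' := fun a => huniq s _ _ (by simp) (by simp) }
  let cP : DP f i ⟶ (Functor.const _).obj (Under.mk (CommRingCat.ofHom (algebraMap A P))) :=
    { app := fun s => mkHom (S := QP s) (T := P) (gP s)
      naturality := fun s t φ => Under.UnderMorphism.ext (CommRingCat.hom_ext (RingHom.ext fun (x : QP s) =>
        huniq t (tP (leOfHom φ) x) (g s x) ((hg s x).1.trans (gB_t (leOfHom φ) x.1.1).symm)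
          ((hg s x).2.trans (gD'_t (leOfHom φ) x.1.2).symm))) }
  refine ⟨cP, ⟨IntPair.isColimitUnder _ _ (fun (p : P) => ?_) fun s x hx => ?_⟩,
    fun s => CommRingCat.hom_ext (RingHom.ext fun x => (hg s x).1.symm),
    fun s => CommRingCat.hom_ext (RingHom.ext fun x => (hg s x).2.symm)⟩
  · obtain ⟨s, h, h', -⟩ := exists_stage (f := f) hi hnil {q₁ p} {q₂ p} ∅ ∅ ∅ (by simp) (by simp) (by simp)
    let e : s.E := ⟨q₁ p, h (Finset.mem_singleton_self _)⟩
    let d : s.F := ⟨q₂ p, h' (Finset.mem_singleton_self _)⟩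
    let z : MvPolynomial (s.E ⊕ s.F) A := X (.inl e) - X (.inr d)
    have hfq : f (q₁ p) = i (q₂ p) := hq p
    have hz : evD f i s.E s.F z = 0 := by simp [z, evD, e, d, hfq]
    obtain ⟨r, hsr, -, a, a', -, -, h1⟩ := exists_ge hi hnil s s ∅ ∅ {z} (by simp) (by simp)
      (fun q hq => by rw [Finset.mem_singleton.1 hq]; exact hz)
    have h2 := Ideal.Quotient.eq_zero_iff_mem.2 (h1 z (Finset.mem_singleton_self z))
    rw [map_sub, map_sub, sub_eq_zero, rename_X, rename_X] at h2
    let x : QP r := ⟨(Ideal.Quotient.mk _ (X ⟨q₁ p, a e.2⟩), Ideal.Quotient.mk _ (X ⟨q₂ p, a' d.2⟩)), by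
      refine (AlgHom.mem_equalizer _ _ _).2 ?_
      simpa [φm, ψm, e, d] using h2⟩
    exact ⟨r, x, huniq r x p (aeval_X (R := A) (fun e : r.E => e.1) ⟨q₁ p, a e.2⟩).symm
      (aeval_X (R := A) (fun e : r.F => e.1) ⟨q₂ p, a' d.2⟩).symm⟩
  · obtain ⟨⟨b, d⟩, hbd⟩ := x
    obtain ⟨pb, rfl⟩ := Ideal.Quotient.mk_surjective b
    obtain ⟨pd, rfl⟩ := Ideal.Quotient.mk_surjective d
    have h0 : g s ⟨_, hbd⟩ = 0 := hx
    have hb : ev s.E pb = 0 := ((hg s ⟨_, hbd⟩).1.symm.trans (congrArg q₁ h0)).trans (map_zero q₁)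
    have hd : ev s.F pd = 0 := ((hg s ⟨_, hbd⟩).2.symm.trans (congrArg q₂ h0)).trans (map_zero q₂)
    obtain ⟨r, hsr, -, a, a', h1, h2, -⟩ := exists_ge hi hnil s s {pb} {pd} ∅
      (fun q hq => by rw [Finset.mem_singleton.1 hq]; exact hb)
      (fun q hq => by rw [Finset.mem_singleton.1 hq]; exact hd) (by simp)
    exact ⟨r, homOfLE hsr, Subtype.ext (Prod.ext
      (Ideal.Quotient.eq_zero_iff_mem.2 (h1 pb (Finset.mem_singleton_self pb)))
      (Ideal.Quotient.eq_zero_iff_mem.2 (h2 pd (Finset.mem_singleton_self pd))))⟩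

omit hi hnil in
theorem isPullback (s : Stage f i) :
    CategoryTheory.IsPullback ((natπ₁ f i).app s).right ((natπ₂ f i).app s).right
      ((natφ f i).app s).right ((natψ f i).app s).right :=
  IsPullback.of_isLimit (CommRingCat.pullbackConeIsLimit (CommRingCat.ofHom (φm s).toRingHom)
    (CommRingCat.ofHom (ψm s).toRingHom))

end Groth.Agent.LimTop61.NilPair
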