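import Groth.Agent.LimTop61.Stalks

set_option autoImplicit false
set_option backward.isDefEq.respectTransparency false
set_option backward.defeqAttrib.useBackward true
universe u

open CategoryTheory CategoryTheory.Limits AlgebraicGeometry Topology

namespace Groth.Agent.LimTop61

variable {I : Type u} [SmallCategory I] (D : I ⥤ Scheme.{u}) (c : Cone D)

lemma isIso_stalkTrans {i j : I} (φ : j ⟶ i) [IsOpenImmersion (D.map φ)] (s : c.pt) :
    IsIso (stalkTrans D c φ s) := by
  let e := (D.obj i).presheaf.stalkCongr (Inseparable.of_eq (π_apply D c φ s).symm)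
  have : IsIso ((D.obj i).presheaf.stalkSpecializes (specializes_of_eq (π_apply D c φ s))) :=
    inferInstanceAs (IsIso e.hom)
  rw [stalkTrans]
  infer_instance

variable [IsCofiltered I] (hc : IsLimit c)
  [∀ (i j : I) (f : i ⟶ j), IsAffineHom (D.map f)]
  (hoi : ∀ (i j : I) (φ : i ⟶ j), IsOpenImmersion (D.map φ))

include hc hoi

lemma isEmbedding_π (i : I) : IsEmbedding (c.π.app i) := by
  refine ⟨⟨le_antisymm (continuous_iff_le_induced.mp (c.π.app i).continuous) ?_⟩, ?_⟩
  · intro U hU
    have hU' : IsOpen U := hU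
    refine isOpen_induced_iff.mpr ?_
    refine ⟨⋃₀ {W : Set (D.obj i) | IsOpen W ∧ ⇑(c.π.app i) ⁻¹' W ⊆ U}, isOpen_sUnion fun W hW => hW.1, ?_⟩
    refine Set.Subset.antisymm ?_ ?_
    · rintro x ⟨W, ⟨-, hW⟩, hx⟩
      exact hW hx
    · intro x hx
      obtain ⟨_, ⟨k, V, hV, rfl⟩, hxV, hVU⟩ := TopologicalSpace.Opens.isBasis_iff_nbhd.mp
        (isBasis_preimage_isAffineOpen D c hc) (U := ⟨U, hU'⟩) hx
      obtain ⟨m, a, b, -⟩ := IsCofilteredOrEmpty.cone_objs i k
      have := hoi _ _ a
      refine ⟨D.map a '' (⇑(D.map b) ⁻¹' V), ⟨(D.map a).isOpenEmbedding.isOpenMap _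
        (V.2.preimage (D.map b).continuous), ?_⟩, ⟨c.π.app m x, ?_, π_apply D c a x⟩⟩
      · rintro y ⟨z, hz, hzy⟩
        refine hVU (show c.π.app k y ∈ V from ?_)
        have : z = c.π.app m y :=
          (D.map a).isOpenEmbedding.injective (hzy.trans (π_apply D c a y).symm)
        rw [← π_apply D c b y, ← this]
        exact hz
      · show D.map b (c.π.app m x) ∈ V
        rw [π_apply]
        exact hxV
  · intro s t h
    refine eq_of_forall_π_apply_eq D c hc fun k => ?_
    obtain ⟨m, a, b, -⟩ := IsCofilteredOrEmpty.cone_objs i k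
    have := hoi _ _ a
    have hm : c.π.app m s = c.π.app m t :=
      (D.map a).isOpenEmbedding.injective (by rw [π_apply, π_apply]; exact h)
    rw [← π_apply D c b s, ← π_apply D c b t, hm]

lemma isIso_stalkMap_π (i : I) (s : c.pt) : IsIso ((c.π.app i).stalkMap s) := by
  rw [ConcreteCategory.isIso_iff_bijective]
  refine ⟨(injective_iff_map_eq_zero ((c.π.app i).stalkMap s).hom).mpr fun x hx => ?_, fun g => ?_⟩
  · obtain ⟨j, φ, hj⟩ := exists_stalkTrans_eq_zero D c hc s x hx
    have := hoi _ _ φ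
    have := isIso_stalkTrans D c φ s
    exact (ConcreteCategory.bijective_of_isIso (stalkTrans D c φ s)).1
      (hj.trans (map_zero _).symm)
  · obtain ⟨k, x, hx⟩ := exists_stalkMap_π_eq D c hc s g
    obtain ⟨m, a, b, -⟩ := IsCofilteredOrEmpty.cone_objs i k
    have := hoi _ _ a
    have := isIso_stalkTrans D c a s
    obtain ⟨y, hy⟩ := (ConcreteCategory.bijective_of_isIso (stalkTrans D c a s)).2
      (stalkTrans D c b s x)
    refine ⟨y, ?_⟩
    have := congrArg (fun z => (c.π.app m).stalkMap s z) hy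
    simp only [π_stalkMap_stalkTrans] at this
    exact this.trans hx

end Groth.Agent.LimTop61
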