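import Groth.Agent.Fin57.GenericFinite

/-!
Quasi-finite morphisms: images of nowhere dense sets and finiteness over a dense open.
-/

set_option autoImplicit false
set_option linter.style.haveILetI false
set_option backward.isDefEq.respectTransparency.types false

universe u

open CategoryTheory AlgebraicGeometry TopologicalSpace

namespace Groth.Agent.LimTop61

section Algebra

variable {A B : Type u} [CommRing A] [CommRing B]

theorem exists_isNilpotent_mul_of_minimal {q : Ideal B} (hq : q ∈ minimalPrimes B) {j : B} (hj : j ∈ q) :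
    ∃ s ∉ q, IsNilpotent (s * j) := by
  have := hq.1.1
  by_contra h
  push Not at h
  let S : Submonoid B := q.primeCompl ⊔ Submonoid.powers j
  have hd : Disjoint ((⊥ : Ideal B) : Set B) (S : Set B) := by
    rw [Set.disjoint_left]
    intro x hx hxS
    obtain ⟨s, hs, _, ⟨n, rfl⟩, rfl⟩ := Submonoid.mem_sup.1 hxS
    refine h s hs ⟨n + 1, ?_⟩
    have : s * j ^ n = 0 := hx
    rw [mul_pow, pow_succ s, mul_comm (s ^ n), pow_succ j, mul_mul_mul_comm, this, zero_mul]
  obtain ⟨q', hq'P, -, hq'⟩ := Ideal.exists_le_prime_disjoint (⊥ : Ideal B) S hd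
  have hle : q' ≤ q := fun x hx => by
    by_contra hxq
    exact Set.disjoint_left.1 hq' hx (Submonoid.mem_sup_left (show x ∈ q.primeCompl from hxq))
  exact Set.disjoint_left.1 hq' (hq.2 ⟨hq'P, bot_le⟩ hle hj)
    (Submonoid.mem_sup_right (Submonoid.mem_powers j))

variable [Algebra A B]

/-- A closed set without interior in a quasi-finite algebra misses the preimage of some nonempty
basic open. -/
theorem exists_avoid_of_quasiFinite [Algebra.FiniteType A B] [Algebra.QuasiFinite A B] (I : Ideal B)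
    (hI : ∀ b : B, (∀ q : PrimeSpectrum B, b ∉ q.asIdeal → I ≤ q.asIdeal) → IsNilpotent b)
    (g₀ : A) (hg₀ : ¬ IsNilpotent g₀) :
    ∃ g : A, ¬ IsNilpotent (g₀ * g) ∧
      ∀ q : PrimeSpectrum B, I ≤ q.asIdeal → algebraMap A B (g₀ * g) ∈ q.asIdeal := by
  classical
  obtain ⟨p₀, hp₀, hgp₀⟩ : ∃ p ∈ minimalPrimes A, g₀ ∉ p := by
    by_contra hc
    push Not at hc
    exact hg₀ (mem_nilradical.1 (by
      rw [nilradical, ← Ideal.sInf_minimalPrimes]; exact Ideal.mem_sInf.2 fun p hp => hc p hp))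
  have := hp₀.1.1
  obtain ⟨g₁, hg₁, hint⟩ := Fin57.exists_notMem_forall_isIntegral_pow_mul (B := B) p₀ hp₀
    ((Algebra.QuasiFinite.finite_comap_preimage_singleton (R := A) (S := B) ⟨p₀, hp₀.1.1⟩).subset
      fun q hq => PrimeSpectrum.ext hq)
  obtain ⟨GB, hGB⟩ := (‹Algebra.FiniteType A B› : Algebra.FiniteType A B).out
  let ψ := algebraMap A B
  choose N hN using hint
  let M := GB.sum N
  let P : Subalgebra A B := Algebra.adjoin A ((fun b => ψ g₁ ^ M * b) '' (GB : Set B))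
  have hPfg : (Subalgebra.toSubmodule P).FG := fg_adjoin_of_finite ((GB.finite_toSet).image _) (by
    rintro _ ⟨b, hb, rfl⟩
    obtain ⟨k, hk⟩ := le_iff_exists_add.1 (Finset.single_le_sum (fun _ _ => Nat.zero_le _) hb : N b ≤ M)
    show IsIntegral A (ψ g₁ ^ M * b)
    rw [show M = N b + k from hk, pow_add, mul_comm (ψ g₁ ^ N b), mul_assoc]
    exact (isIntegral_algebraMap.pow k).mul (hN b))
  obtain ⟨k, s, hs⟩ := Submodule.fg_iff_exists_fin_generating_family.1 hPfg
  have hPB : ∀ b : B, ∃ m : ℕ, ψ g₁ ^ m * b ∈ P := by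
    intro b
    have hb : b ∈ Algebra.adjoin A (GB : Set B) := hGB ▸ Algebra.mem_top
    induction hb using Algebra.adjoin_induction with
    | mem x hx => exact ⟨M, Algebra.subset_adjoin ⟨x, hx, rfl⟩⟩
    | algebraMap a => exact ⟨0, by simpa using P.algebraMap_mem a⟩
    | add x y _ _ hx hy =>
      obtain ⟨a, ha⟩ := hx; obtain ⟨c, hc⟩ := hy
      refine ⟨a + c, ?_⟩
      rw [mul_add, pow_add]
      refine P.add_mem ?_ ?_
      · rw [mul_comm (ψ g₁ ^ a), mul_assoc]
        exact P.mul_mem (pow_mem (P.algebraMap_mem g₁) c) ha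
      · rw [mul_assoc]
        exact P.mul_mem (pow_mem (P.algebraMap_mem g₁) a) hc
    | mul x y _ _ hx hy =>
      obtain ⟨a, ha⟩ := hx; obtain ⟨c, hc⟩ := hy
      exact ⟨a + c, by rw [pow_add, mul_mul_mul_comm]; exact P.mul_mem ha hc⟩
  let Good : ℕ → Prop := fun n => ∃ h : A, ¬ IsNilpotent (g₀ * g₁ * h) ∧ ∃ e : Fin n → B,
    ∀ b : B, ∃ (m : ℕ) (c : Fin n → A), ψ (g₀ * g₁ * h) ^ m * b - ∑ i, ψ (c i) * e i ∈ I
  have hk : Good k := by
    refine ⟨1, fun hn => ?_, s, fun b => ?_⟩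
    · rw [mul_one] at hn
      rcases (hp₀.1.1).mem_or_mem (nilradical_le_prime p₀ (mem_nilradical.2 hn)) with h | h
      exacts [hgp₀ h, hg₁ h]
    · obtain ⟨m, hm⟩ := hPB b
      have hm' : ψ (g₀ * g₁) ^ m * b ∈ Subalgebra.toSubmodule P := by
        rw [map_mul, mul_pow, mul_assoc]
        exact P.mul_mem (pow_mem (P.algebraMap_mem g₀) m) hm
      rw [← hs, Submodule.mem_span_range_iff_exists_fun] at hm'
      obtain ⟨c, hc⟩ := hm'
      refine ⟨m, c, ?_⟩
      simp only [Algebra.smul_def] at hc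
      rw [mul_one, hc, sub_self]
      exact zero_mem _
  have hex : ∃ n, Good n := ⟨k, hk⟩
  obtain ⟨h, hG, e, he⟩ := Nat.find_spec hex
  generalize hn : Nat.find hex = n at e he
  by_cases hcase : ∃ (a : A) (m : ℕ), ¬ IsNilpotent (g₀ * g₁ * h * a) ∧ ψ (g₀ * g₁ * h * a) ^ m ∈ I
  · obtain ⟨a, m, ha, hm⟩ := hcase
    exact ⟨g₁ * h * a, by simpa [mul_assoc] using ha, fun q hq => by
      rw [← mul_assoc, ← mul_assoc]; exact q.isPrime.mem_of_pow_mem m (hq hm)⟩
  exfalso
  push Not at hcase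
  have hker : ∀ c : Fin n → A, ∑ i, ψ (c i) * e i ∈ I → ∀ i, IsNilpotent (g₀ * g₁ * h * c i) := by
    intro c hc i
    by_contra hi
    obtain ⟨n', rfl⟩ : ∃ n', n = n' + 1 := ⟨n - 1, by have := i.2; omega⟩
    have hgood : Good n' := by
      refine ⟨h * c i, by rwa [← mul_assoc], e ∘ i.succAbove, fun b => ?_⟩
      obtain ⟨m, d, hd⟩ := he b
      set G := g₀ * g₁ * h
      refine ⟨m + 1, fun j => G * c i ^ m * (c i * d (i.succAbove j) - d i * c (i.succAbove j)), ?_⟩
      rw [Fin.sum_univ_succAbove _ i] at hd hc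
      have h1 := I.add_mem (I.mul_mem_left (ψ G * ψ (c i) ^ (m + 1)) hd)
        (I.mul_mem_left (ψ G * ψ (c i) ^ m * ψ (d i)) hc)
      convert h1 using 1
      rw [show g₀ * g₁ * (h * c i) = G * c i from (mul_assoc _ _ _).symm]
      simp only [Function.comp_apply, map_mul, map_sub, map_pow, sub_mul, mul_sub, mul_add,
        Finset.mul_sum, mul_pow, Finset.sum_sub_distrib]
      simp only [mul_assoc, mul_comm, mul_left_comm, pow_succ]
      ring
    exact Nat.find_min hex (hn ▸ Nat.lt_succ_self n') hgood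
  set G := g₀ * g₁ * h with hGdef
  choose m c hmc using he
  let j : Fin k → B := fun i => ψ G ^ m (s i) * s i - ∑ l, ψ (c (s i) l) * e l
  have hjI : ∀ i, j i ∈ I := fun i => hmc (s i)
  let J := Ideal.span (Set.range j)
  -- on `D(G)` the ideal is given by finitely many elements
  have hIJ : ∀ q : PrimeSpectrum B, ψ G ∉ q.asIdeal → J ≤ q.asIdeal → I ≤ q.asIdeal := by
    intro q hGq hJq x hx
    obtain ⟨a, ha⟩ := hPB x
    have ha' : ψ G ^ a * x ∈ Subalgebra.toSubmodule P := by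
      rw [hGdef, show g₀ * g₁ * h = g₀ * h * g₁ from mul_right_comm _ _ _, map_mul, mul_pow, mul_assoc]
      exact P.mul_mem (pow_mem (P.algebraMap_mem _) a) ha
    rw [← hs, Submodule.mem_span_range_iff_exists_fun] at ha'
    obtain ⟨d, hd⟩ := ha'
    simp only [Algebra.smul_def] at hd
    let L := Finset.univ.sum fun i => m (s i)
    let c' : Fin n → A := fun l => ∑ i, d i * G ^ (L - m (s i)) * c (s i) l
    have hiL : ∀ i, m (s i) ≤ L := fun i =>
      Finset.single_le_sum (f := fun i => m (s i)) (fun _ _ => Nat.zero_le _) (Finset.mem_univ i)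
    have key : ψ G ^ L * (ψ G ^ a * x) - ∑ l, ψ (c' l) * e l =
        ∑ i, ψ (d i) * ψ G ^ (L - m (s i)) * j i := by
      rw [← hd]
      simp only [c', j, map_sum, map_mul, map_pow, Finset.sum_mul, Finset.mul_sum, mul_sub,
        Finset.sum_sub_distrib]
      rw [Finset.sum_comm (f := fun l i => _)]
      congr 1
      · refine Finset.sum_congr rfl fun i _ => ?_
        conv_lhs => rw [← Nat.sub_add_cancel (hiL i), pow_add]
        ring
      · simp only [mul_assoc]
    have hc' : ∑ l, ψ (c' l) * e l ∈ I := by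
      have h1 := I.mul_mem_left (ψ G ^ L) (I.mul_mem_left (ψ G ^ a) hx)
      have h2 : ∑ i, ψ (d i) * ψ G ^ (L - m (s i)) * j i ∈ I :=
        Ideal.sum_mem _ fun i _ => I.mul_mem_left _ (hjI i)
      rw [← key] at h2
      simpa using I.sub_mem h1 h2
    have hnil := hker c' hc'
    have h3 : ψ G * (ψ G ^ L * (ψ G ^ a * x)) ∈ q.asIdeal := by
      rw [show ψ G ^ L * (ψ G ^ a * x) = (∑ i, ψ (d i) * ψ G ^ (L - m (s i)) * j i) +
        ∑ l, ψ (c' l) * e l from eq_add_of_sub_eq key, mul_add, Finset.mul_sum, Finset.mul_sum]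
      refine q.asIdeal.add_mem (Ideal.sum_mem _ fun i _ => q.asIdeal.mul_mem_left _
        (q.asIdeal.mul_mem_left _ (hJq (Ideal.subset_span ⟨i, rfl⟩)))) (Ideal.sum_mem _ fun l _ => ?_)
      rw [← mul_assoc, ← map_mul]
      exact q.asIdeal.mul_mem_right _
        (nilradical_le_prime q.asIdeal (mem_nilradical.2 ((hnil l).map ψ)))
    simpa [q.isPrime.mul_mem_iff_mem_or_mem, hGq, mt (q.isPrime.mem_of_pow_mem L) hGq,
      mt (q.isPrime.mem_of_pow_mem a) hGq] using h3
  -- a minimal point in the closed set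
  obtain ⟨p, hp, hGp⟩ : ∃ p ∈ minimalPrimes A, G ∉ p := by
    by_contra hc
    push Not at hc
    exact hG (mem_nilradical.1 (by
      rw [nilradical, ← Ideal.sInf_minimalPrimes]; exact Ideal.mem_sInf.2 fun p hp => hc p hp))
  have := hp.1.1
  have hdisj : Disjoint (I : Set B) ((p.primeCompl.map (ψ : A →* B)) : Set B) := by
    rw [Set.disjoint_left]
    rintro _ hx ⟨a, ha, rfl⟩
    refine hcase a 1 (fun hn => ?_) ?_
    · rcases this.mem_or_mem (nilradical_le_prime p (mem_nilradical.2 hn)) with h | h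
      exacts [hGp h, ha h]
    · rw [pow_one, map_mul]
      exact I.mul_mem_left _ hx
  obtain ⟨q, hqP, hIq, hqd⟩ := Ideal.exists_le_prime_disjoint I (p.primeCompl.map (ψ : A →* B)) hdisj
  have hqp : q.comap ψ ≤ p := fun a ha => by
    by_contra hap
    exact Set.disjoint_left.1 hqd ha ⟨a, hap, rfl⟩
  have hqp' : q.comap ψ = p := le_antisymm hqp (hp.2 ⟨hqP.comap _, bot_le⟩ hqp)
  have hqmin : q ∈ minimalPrimes B := by
    refine ⟨⟨hqP, bot_le⟩, fun q' hq' hle => ?_⟩
    have := hq'.1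
    refine (Algebra.QuasiFinite.eq_of_le_of_under_eq (R := A) q' q hle ?_).ge
    exact le_antisymm (Ideal.comap_mono hle)
      (hqp'.trans_le (hp.2 ⟨hq'.1.comap _, bot_le⟩ ((Ideal.comap_mono hle).trans hqp)))
  have hj : ∀ i, ∃ t ∉ q, IsNilpotent (t * j i) := fun i =>
    exists_isNilpotent_mul_of_minimal hqmin (hIq (hjI i))
  choose t ht hjt using hj
  let b := ψ G * ∏ i, t i
  have hbq : b ∉ q := fun hb => by
    rcases hqP.mem_or_mem hb with h | h
    · exact hGp (hqp'.le h)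
    · obtain ⟨i, -, hi⟩ := hqP.prod_mem_iff.1 h
      exact ht i hi
  refine hbq (nilradical_le_prime q (mem_nilradical.2 (hI b fun q' hb => ?_)))
  refine hIJ q' (fun h => hb (q'.asIdeal.mul_mem_right _ h)) (Ideal.span_le.2 ?_)
  rintro _ ⟨i, rfl⟩
  refine (q'.isPrime.mem_or_mem (nilradical_le_prime q'.asIdeal (mem_nilradical.2 (hjt i)))).resolve_left
    fun h => hb (q'.asIdeal.mul_mem_left _ ?_)
  exact Ideal.mem_of_dvd _ (Finset.dvd_prod_of_mem t (Finset.mem_univ i)) h

end Algebra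

variable {X Y : Scheme.{u}} (f : Y ⟶ X) [LocallyQuasiFinite f] [LocallyOfFiniteType f] [QuasiCompact f]

/-- A closed set without interior avoids the preimage of a nonempty basic open. -/
theorem exists_basicOpen_avoid {U : X.Opens} (hU : IsAffineOpen U) (hne : (U : Set X).Nonempty)
    (T : Set Y) (hT : IsClosed T) (hT' : IsNowhereDense T) :
    ∃ g : Γ(X, U), (X.basicOpen g : Set X).Nonempty ∧ ∀ y ∈ T, f y ∉ X.basicOpen g := by
  classical
  obtain ⟨S, hS, hSU⟩ := isCompact_iff_finite_and_eq_biUnion_affineOpens.1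
    (f.isCompact_preimage hU.isCompact)
  have hnil : ∀ g : Γ(X, U), (X.basicOpen g : Set X).Nonempty ↔ ¬ IsNilpotent g := fun g => by
    rw [← PrimeSpectrum.basicOpen_eq_bot_iff, ← hU.fromSpec_preimage_basicOpen]
    constructor
    · rintro ⟨x, hx⟩ h
      obtain ⟨z, hz⟩ : x ∈ Set.range hU.fromSpec := hU.range_fromSpec.ge (X.basicOpen_le g hx)
      have : z ∈ hU.fromSpec ⁻¹ᵁ X.basicOpen g := show hU.fromSpec z ∈ X.basicOpen g from hz ▸ hx
      rwa [h] at this
    · intro h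
      obtain ⟨z, hz⟩ := SetLike.exists_of_lt (bot_lt_iff_ne_bot.2 h) |>.imp fun z hz => hz.1
      exact ⟨_, hz⟩
  have key : ∀ s : Finset Y.affineOpens, (∀ W ∈ s, W.1 ≤ f ⁻¹ᵁ U) →
      ∃ g : Γ(X, U), ¬ IsNilpotent g ∧ ∀ y ∈ T, (∃ W ∈ s, y ∈ W.1) → f y ∉ X.basicOpen g := by
    intro s
    induction s using Finset.induction_on with
    | empty =>
      refine fun _ => ⟨1, ?_, fun y _ ⟨W, hW, _⟩ => absurd hW (Finset.notMem_empty W)⟩
      rw [← hnil, X.basicOpen_of_isUnit isUnit_one]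
      exact hne
    | insert W s hWs ih =>
      intro hle
      obtain ⟨g₀, hg₀, hg₀T⟩ := ih fun V hV => hle V (Finset.mem_insert_of_mem hV)
      have hWU : W.1 ≤ f ⁻¹ᵁ U := hle W (Finset.mem_insert_self W s)
      letI := (f.appLE U W.1 hWU).hom.toAlgebra
      haveI : Algebra.FiniteType Γ(X, U) Γ(Y, W) :=
        RingHom.finiteType_algebraMap.1 (f.finiteType_appLE hU W.2 hWU)
      haveI : Algebra.QuasiFinite Γ(X, U) Γ(Y, W) := by
        have := LocallyQuasiFinite.quasiFinite_appLE (f := f) hU W.2 hWU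
        exact this
      obtain ⟨I, hI⟩ := (PrimeSpectrum.isClosed_iff_zeroLocus_ideal _).1
        (hT.preimage W.2.fromSpec.continuous)
      have hmem : ∀ q : PrimeSpectrum Γ(Y, W), W.2.fromSpec q ∈ T ↔ I ≤ q.asIdeal := fun q =>
        (Set.ext_iff.1 hI q).trans Iff.rfl
      obtain ⟨g, hg, hgI⟩ := exists_avoid_of_quasiFinite I (fun b hb => by
        rw [← PrimeSpectrum.basicOpen_eq_bot_iff, ← le_bot_iff]
        intro q hq
        have : (W.2.fromSpec '' ((PrimeSpectrum.basicOpen b : Opens (PrimeSpectrum Γ(Y, W))) : Set (PrimeSpectrum Γ(Y, W)))) ⊆ interior T :=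
          interior_maximal (by rintro _ ⟨q', hq', rfl⟩; exact (hmem q').2 (hb q' (by exact hq')))
            (W.2.fromSpec.isOpenEmbedding.isOpenMap _ (PrimeSpectrum.basicOpen b).2)
        rw [hT.isNowhereDense_iff.1 hT'] at this
        exact (this ⟨q, hq, rfl⟩).elim) g₀ hg₀
      refine ⟨g₀ * g, hg, fun y hy ⟨V, hV, hyV⟩ hfy => ?_⟩
      rw [X.basicOpen_mul] at hfy
      rcases Finset.mem_insert.1 hV with rfl | hV
      · obtain ⟨q, rfl⟩ : y ∈ Set.range V.2.fromSpec := V.2.range_fromSpec.ge hyV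
        have h1 := hgI q ((hmem q).1 hy)
        have h2 : V.2.fromSpec q ∈ f ⁻¹ᵁ X.basicOpen (g₀ * g) := by
          rw [X.basicOpen_mul]; exact hfy
        have h3 : V.2.fromSpec q ∈ Y.basicOpen (f.appLE U V.1 hWU (g₀ * g)) := by
          rw [Scheme.basicOpen_appLE]; exact ⟨hyV, h2⟩
        have h4 : q ∈ V.2.fromSpec ⁻¹ᵁ Y.basicOpen (f.appLE U V.1 hWU (g₀ * g)) := h3
        rw [V.2.fromSpec_preimage_basicOpen] at h4
        exact h4 h1
      · exact hg₀T y hy ⟨V, hV, hyV⟩ hfy.1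
  obtain ⟨g, hg, hgT⟩ := key hS.toFinset fun W hW =>
    hSU ▸ le_biSup (fun V : Y.affineOpens => V.1) (hS.mem_toFinset.1 hW)
  refine ⟨g, (hnil g).2 hg, fun y hy hfy => hgT y hy ?_ hfy⟩
  obtain ⟨W, hW, hyW⟩ : ∃ W ∈ S, y ∈ W.1 := by
    have : y ∈ f ⁻¹ᵁ U := X.basicOpen_le g hfy
    rw [hSU] at this
    simpa only [TopologicalSpace.Opens.mem_iSup, exists_prop] using this
  exact ⟨W, hS.mem_toFinset.2 hW, hyW⟩

/-- Images of nowhere dense closed sets are nowhere dense. -/
theorem isNowhereDense_image (T : Set Y) (hT : IsClosed T) (hT' : IsNowhereDense T) :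
    IsNowhereDense (f '' T) := by
  rw [IsNowhereDense, Set.eq_empty_iff_forall_notMem]
  intro x hx
  obtain ⟨_, ⟨U, hU, rfl⟩, hxU, hUi⟩ :=
    X.isBasis_affineOpens.exists_subset_of_mem_open hx isOpen_interior
  obtain ⟨g, ⟨z, hz⟩, hg⟩ := exists_basicOpen_avoid f hU ⟨x, hxU⟩ T hT hT'
  obtain ⟨_, hzD, y, hy, rfl⟩ :=
    mem_closure_iff.1 (interior_subset (hUi (X.basicOpen_le g hz))) _ (X.basicOpen g).2 hz
  exact hg y hy hzD

omit [LocallyQuasiFinite f] [LocallyOfFiniteType f] [QuasiCompact f] in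
theorem isNowhereDense_union {Z : Type*} [TopologicalSpace Z] {s t : Set Z} (hs : IsClosed s)
    (hs' : IsNowhereDense s) (ht : IsClosed t) (ht' : IsNowhereDense t) : IsNowhereDense (s ∪ t) := by
  rw [(hs.union ht).isNowhereDense_iff, interior_union_isClosed_of_interior_empty hs
    (ht.isNowhereDense_iff.1 ht'), hs.isNowhereDense_iff.1 hs']

/-- A quasi-finite morphism is finite over a dense open. -/
theorem exists_dense_isFinite : ∃ U : X.Opens, Dense (U : Set X) ∧ IsFinite (f ∣_ U) := by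
  classical
  let ι := {D : X.Opens // IsFinite (f ∣_ D)}
  refine ⟨⨆ D : ι, D.1, ?_, Fin57.isFinite_restrict_iSup f (fun D : ι => D.1) fun D => D.2⟩
  rw [dense_iff_inter_open]
  intro O hO ⟨x, hxO⟩
  obtain ⟨_, ⟨U, hU, rfl⟩, hxU, hUO⟩ := X.isBasis_affineOpens.exists_subset_of_mem_open hxO hO
  obtain ⟨S, hS, hSU⟩ := isCompact_iff_finite_and_eq_biUnion_affineOpens.1
    (f.isCompact_preimage hU.isCompact)
  let fr : Finset Y.affineOpens → Set Y := fun s => ⋃ W ∈ s, frontier (W.1 : Set Y)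
  have hfr : ∀ s, IsClosed (fr s) ∧ IsNowhereDense (fr s) := by
    intro s
    induction s using Finset.induction_on with
    | empty => simp [fr, isNowhereDense_empty]
    | insert W s hWs ih =>
      have h1 : IsClosed (frontier (W.1 : Set Y)) := isClosed_frontier
      have h2 : IsNowhereDense (frontier (W.1 : Set Y)) := by
        rw [h1.isNowhereDense_iff, ← frontier_compl]; exact interior_frontier W.1.2.isClosed_compl
      simp only [fr, Finset.set_biUnion_insert]
      exact ⟨h1.union ih.1, isNowhereDense_union h1 h2 ih.1 ih.2⟩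
  obtain ⟨g, ⟨z, hz⟩, hg⟩ := exists_basicOpen_avoid f hU ⟨x, hxU⟩ _ (hfr hS.toFinset).1 (hfr hS.toFinset).2
  let D := X.basicOpen g
  have hSle : ∀ W ∈ S, W.1 ≤ f ⁻¹ᵁ U := fun W hW =>
    hSU ▸ le_biSup (fun V : Y.affineOpens => V.1) hW
  have hclosed : ∀ W ∈ S, ∀ y ∈ closure (W.1 : Set Y), f y ∈ D → y ∈ W.1 := fun W hW y hy hfy => by
    by_contra hyW
    refine hg y (Set.mem_biUnion (hS.mem_toFinset.2 hW) ⟨hy, ?_⟩) hfy
    exact fun h => hyW (interior_subset h)
  haveI := hS.fintype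
  let e := Fintype.equivFin S
  let P : S → Y.Opens := fun W =>
    ⟨((f ⁻¹ᵁ D : Y.Opens) : Set Y) ∩ W.1.1 ∩ (⋃ V ∈ {V : S | e V < e W}, closure (V.1.1 : Set Y))ᶜ,
      ((f ⁻¹ᵁ D).2.inter W.1.1.2).inter
        ((Set.toFinite _).isClosed_biUnion fun _ _ => isClosed_closure).isOpen_compl⟩
  have hPdisj : Pairwise fun a b => Disjoint (P a) (P b) := fun a b hab => by
    show Disjoint (P a) (P b)
    rw [← TopologicalSpace.Opens.coe_disjoint, Set.disjoint_left]
    intro y ha hb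
    rcases lt_or_gt_of_ne (e.injective.ne hab) with h | h
    · exact hb.2 (Set.mem_biUnion h (subset_closure ha.1.2))
    · exact ha.2 (Set.mem_biUnion h (subset_closure hb.1.2))
  have hPcov : ⨆ W, P W = f ⁻¹ᵁ D := by
    refine le_antisymm (iSup_le fun W y hy => hy.1.1) fun y hy => ?_
    obtain ⟨W₀, hW₀, hyW₀⟩ : ∃ W ∈ S, y ∈ W.1 := by
      have : y ∈ f ⁻¹ᵁ U := X.basicOpen_le g hy
      rw [hSU] at this
      simpa only [TopologicalSpace.Opens.mem_iSup, exists_prop] using this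
    let T := Finset.univ.filter fun V : S => y ∈ V.1.1
    obtain ⟨W, hW, hWmin⟩ := T.exists_min_image e ⟨⟨W₀, hW₀⟩, by simp [T, hyW₀]⟩
    refine TopologicalSpace.Opens.mem_iSup.2 ⟨W, ⟨hy, (Finset.mem_filter.1 hW).2⟩, fun h => ?_⟩
    obtain ⟨V, hV, hyV⟩ := Set.mem_iUnion₂.1 h
    exact (hWmin V (by simp [T, hclosed V.1 V.2 y hyV hy])).not_gt hV
  have hPaff : ∀ W, IsAffineOpen (P W) := fun W => by
    let V := Y.basicOpen (f.appLE U W.1.1 (hSle W.1 W.2) g)
    have hV : (V : Set Y) = (W.1.1 : Set Y) ∩ f ⁻¹' (D : Set X) := by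
      simp only [V, Scheme.basicOpen_appLE]; rfl
    have hPV : P W ≤ V := fun y hy => hV.ge ⟨hy.1.2, hy.1.1⟩
    let i := Y.homOfLE hPV
    haveI : IsAffine V.toScheme := W.1.2.basicOpen _
    have hr : IsClosed (Set.range i) := by
      have e1 : Set.range i = V.ι ⁻¹' (⋃ V' ∈ {V' : S | e V' < e W}, (V'.1.1 : Set Y))ᶜ := by
        ext v
        constructor
        · rintro ⟨w, rfl⟩ h
          have : (i w).1 = w.1 := Y.homOfLE_apply hPV w
          obtain ⟨V', h1, h2⟩ := Set.mem_iUnion₂.1 h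
          exact w.2.2 (Set.mem_biUnion h1 (subset_closure (show w.1 ∈ V'.1.1 from this ▸ h2)))
        · intro h
          have hv := hV.le v.2
          refine ⟨⟨v.1, ⟨hv.2, hv.1⟩, fun h' => ?_⟩, Subtype.ext (Y.homOfLE_apply hPV _)⟩
          obtain ⟨V', h1, h2⟩ := Set.mem_iUnion₂.1 h'
          exact h (Set.mem_biUnion h1 (hclosed V'.1 V'.2 _ h2 hv.2))
      rw [e1]
      exact ((isOpen_biUnion fun V' _ => V'.1.1.2).isClosed_compl).preimage V.ι.continuous
    haveI : IsClosedImmersion i := IsClosedImmersion.of_isPreimmersion i hr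
    exact isAffine_of_isAffineHom i
  have haff : IsAffineOpen (f ⁻¹ᵁ D) := hPcov ▸ IsAffineOpen.iSup_of_disjoint hPaff hPdisj
  obtain ⟨η, hη, hηz⟩ := Norm57.exists_isMax'_specializes z
  obtain ⟨D', -, hηD', hD'D, -, hfin⟩ := Fin57.exists_isFinite_restrict f hη
    (f.finite_preimage_singleton η) (hU.basicOpen g) (hηz.mem_open D.2 hz) haff le_rfl
    fun y hy => show f y ∈ D from (show f y = η from hy).symm ▸ hηz.mem_open D.2 hz
  exact ⟨η, hUO (X.basicOpen_le g (hD'D hηD')), TopologicalSpace.Opens.mem_iSup.2 ⟨⟨D', hfin⟩, hηD'⟩⟩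

end Groth.Agent.LimTop61
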