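import Groth.Agent.LimTop61.Reduced
import Groth.Agent.LimTop61.OpenImm
import Groth.Agent.LimTop61.Descent

set_option autoImplicit false
set_option backward.isDefEq.respectTransparency false
universe u

open CategoryTheory CategoryTheory.Limits AlgebraicGeometry Topology

namespace Groth.Agent.LimTop61

/-- An open immersion killing the nilradical of an affine open has reduced stalks there. -/
lemma isReduced_stalk_of_nilradical_map_eq_zero {X Y : Scheme.{u}} (f : X ⟶ Y) [IsOpenImmersion f]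
    {U : Y.Opens} (hU : IsAffineOpen U)
    (h : ∀ a ∈ nilradical Γ(Y, U), f.app U a = 0) (x : X) (hx : f x ∈ U) :
    _root_.IsReduced (X.presheaf.stalk x) := by
  let ρ := Y.presheaf.germ U (f x) hx
  let := ρ.hom.toAlgebra
  have hloc := hU.isLocalization_stalk ⟨f x, hx⟩
  refine ⟨fun g ⟨n, hn⟩ => ?_⟩
  obtain ⟨g', rfl⟩ := (ConcreteCategory.bijective_of_isIso (f.stalkMap x)).2 g
  have hz : g' ^ n = 0 := (ConcreteCategory.bijective_of_isIso (f.stalkMap x)).1
    (by rw [map_pow, hn, map_zero])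
  obtain ⟨a, s, rfl⟩ := IsLocalization.exists_mk'_eq (hU.primeIdealOf ⟨f x, hx⟩).asIdeal.primeCompl g'
  rw [← IsLocalization.mk'_pow, IsLocalization.mk'_eq_zero_iff] at hz
  obtain ⟨t, ht⟩ := hz
  have hnil : (t : Γ(Y, U)) * a ∈ nilradical Γ(Y, U) := by
    refine mem_nilradical.mpr ⟨n + 1, ?_⟩
    calc ((t : Γ(Y, U)) * a) ^ (n + 1) = (t : Γ(Y, U)) ^ n * a * ((t : Γ(Y, U)) * a ^ n) := by ring
      _ = 0 := by rw [ht, mul_zero]
  have hmap : f.stalkMap x (Y.presheaf.germ U (f x) hx ((t : Γ(Y, U)) * a)) = 0 := by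
    rw [Scheme.Hom.germ_stalkMap_apply, h _ hnil, map_zero]
  have hzero : Y.presheaf.germ U (f x) hx ((t : Γ(Y, U)) * a) = 0 :=
    (ConcreteCategory.bijective_of_isIso (f.stalkMap x)).1 (hmap.trans (map_zero _).symm)
  have : IsLocalization.mk' (Y.presheaf.stalk (f x)) a s = 0 := by
    rw [IsLocalization.mk'_eq_zero_iff]
    obtain ⟨t', ht'⟩ := (IsLocalization.map_eq_zero_iff
      (hU.primeIdealOf ⟨f x, hx⟩).asIdeal.primeCompl (Y.presheaf.stalk (f x)) _).mp hzero
    refine ⟨t' * t, ?_⟩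
    rw [Submonoid.coe_mul, mul_assoc]
    exact ht'
  rw [this, map_zero]

variable {I : Type u} [SmallCategory I] [IsCofiltered I] (D : I ⥤ Scheme.{u}) (c : Cone D)
  (hc : IsLimit c) [∀ (i j : I) (f : i ⟶ j), IsAffineHom (D.map f)]
  (hoi : ∀ (i j : I) (φ : i ⟶ j), IsOpenImmersion (D.map φ))

include hc hoi

/-- For open immersions, reducedness of the limit descends when the nilradical is of finite
type. -/
lemma eventually_isReduced (i₀ : I) [CompactSpace (D.obj i₀)]
    (hN : ∀ U : (D.obj i₀).affineOpens, (nilradical Γ(D.obj i₀, U)).FG) (h : IsReduced c.pt) :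
    ∃ (i : I) (_ : i ⟶ i₀), ∀ (j : I) (_ : j ⟶ i), IsReduced (D.obj j) := by
  classical
  obtain ⟨S, hS, hcov⟩ := (isCompact_and_isOpen_iff_finite_and_eq_biUnion_affineOpens
    (X := D.obj i₀) (U := Set.univ)).mp ⟨isCompact_univ, isOpen_univ⟩
  have hone (U : (D.obj i₀).affineOpens) : ∃ (k : I) (φ : k ⟶ i₀),
      ∀ a ∈ nilradical Γ(D.obj i₀, U), (D.map φ).app U a = 0 := by
    obtain ⟨G, hG⟩ := hN U
    have hg (g : G) : ∃ (k : I) (φ : k ⟶ i₀), (D.map φ).app U g.1 = 0 := by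
      refine exists_app_map_eq_zero_of_isLimit D c hc U.2.isCompact g.1 ?_
      have hnil : IsNilpotent g.1 := mem_nilradical.mp (hG ▸ Ideal.subset_span g.2)
      have : _root_.IsReduced Γ(((Functor.const I).obj c.pt).obj i₀, c.π.app i₀ ⁻¹ᵁ U.1) :=
        h.component_reduced _
      exact (hnil.map ((c.π.app i₀).app U).hom).eq_zero
    choose k φ hk using hg
    obtain ⟨l, ψ, ψ', hψ⟩ := IsCofiltered.wideCospan φ
    refine ⟨l, ψ, fun a ha => ?_⟩
    rw [← hG] at ha
    have hle : Ideal.span (G : Set Γ(D.obj i₀, U)) ≤ RingHom.ker ((D.map ψ).app U).hom := by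
      rw [Ideal.span_le]
      intro g hg'
      have := congrArg (fun z => (D.map (ψ' ⟨g, hg'⟩)).app _ z) (hk ⟨g, hg'⟩)
      simp only [map_zero, ← ConcreteCategory.comp_apply, ← Scheme.Hom.comp_app] at this
      rw [SetLike.mem_coe, RingHom.mem_ker]
      have e : D.map ψ = D.map (ψ' ⟨g, hg'⟩) ≫ D.map (φ ⟨g, hg'⟩) := by rw [← D.map_comp, hψ]
      have key : ∀ {f' : D.obj l ⟶ D.obj i₀} (_ : D.map ψ = f'), f'.app U g = 0 →
          (D.map ψ).app U g = 0 := by
        rintro f' rfl hf'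
        exact hf'
      exact key e this
    exact hle ha
  have : Finite S := hS
  choose k φ hk using fun U : S => hone U.1
  obtain ⟨i, ψ, ψ', hψ⟩ := IsCofiltered.wideCospan φ
  refine ⟨i, ψ, fun j χ => ?_⟩
  have (x : D.obj j) : _root_.IsReduced ((D.obj j).presheaf.stalk x) := by
    obtain ⟨U, hUS, hxU⟩ := Set.mem_iUnion₂.mp (hcov.le (Set.mem_univ (D.map (χ ≫ ψ) x)))
    have := hoi _ _ (χ ≫ ψ)
    refine isReduced_stalk_of_nilradical_map_eq_zero (D.map (χ ≫ ψ)) U.2 (fun a ha => ?_) x hxU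
    have e : D.map (χ ≫ ψ) = D.map (χ ≫ ψ' ⟨U, hUS⟩) ≫ D.map (φ ⟨U, hUS⟩) := by
      rw [← D.map_comp, Category.assoc, hψ]
    have key : ∀ {f' : D.obj j ⟶ D.obj i₀} (_ : D.map (χ ≫ ψ) = f'), f'.app U.1 a = 0 →
        (D.map (χ ≫ ψ)).app U.1 a = 0 := by
      rintro f' rfl hf'
      exact hf'
    refine key e ?_
    rw [Scheme.Hom.comp_app, ConcreteCategory.comp_apply, hk ⟨U, hUS⟩ a ha, map_zero]
  exact isReduced_of_isReduced_stalk _

/-- For open immersions into a Noetherian stage, irreducibility of the limit descends. -/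
lemma eventually_irreducible (i₀ : I) [TopologicalSpace.NoetherianSpace (D.obj i₀)]
    (h : IrreducibleSpace c.pt) :
    ∃ (i : I) (_ : i ⟶ i₀), ∀ (j : I) (_ : j ⟶ i), IrreducibleSpace (D.obj j) := by
  let W : (D.obj i₀).Opens :=
    ⟨(closure (Set.range (c.π.app i₀)))ᶜ, isClosed_closure.isOpen_compl⟩
  obtain ⟨i, φ, hi⟩ := exists_map_preimage_le_map_preimage D c hc (i := i₀) (U := W) (V := ⊥)
    (TopologicalSpace.NoetherianSpace.isCompact _)
    (fun x hx => hx (subset_closure ⟨x, rfl⟩))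
  refine ⟨i, φ, fun j ψ => ?_⟩
  have hoij := hoi _ _ (ψ ≫ φ)
  have hcl : ∀ y : D.obj j, y ∈ closure (Set.range (c.π.app j)) := by
    intro y
    rw [(D.map (ψ ≫ φ)).isOpenEmbedding.isInducing.closure_eq_preimage_closure_image]
    rw [← Set.range_comp]
    have : (⇑(D.map (ψ ≫ φ)) ∘ ⇑(c.π.app j)) = ⇑(c.π.app i₀) :=
      funext fun x => π_apply D c _ x
    rw [this]
    by_contra hy
    have := hi (show D.map ψ y ∈ D.map φ ⁻¹ᵁ W from by
      show D.map φ (D.map ψ y) ∈ W
      rw [← Scheme.Hom.comp_apply, ← D.map_comp]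
      exact hy)
    exact this
  refine { isPreirreducible_univ := ?_, toNonempty := h.toNonempty.map (c.π.app j) }
  have hd : closure (Set.range (c.π.app j)) = Set.univ := Set.eq_univ_of_forall hcl
  rw [← hd, ← Set.image_univ]
  exact (h.isPreirreducible_univ.image _ (c.π.app j).continuous.continuousOn).closure

end Groth.Agent.LimTop61
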