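import Groth.Agent.FlatMor68.FibreStalk
import Groth.Agent.Curves2.NormalCriterion
import Groth.Agent.Henz21.SchemeFinitePart
import Groth.Agent.Sga84.Top
import Mathlib.RingTheory.Flat.TorsionFree

/-!
Flat schemes over a discrete valuation ring with reduced special fibre.
-/

set_option autoImplicit false
set_option backward.isDefEq.respectTransparency false
set_option backward.defeqAttrib.useBackward true

universe u

open CategoryTheory CategoryTheory.Limits AlgebraicGeometry IsLocalRing

namespace Groth.Agent.LimTop61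

variable {R : Type u} [CommRing R] [IsDomain R] [IsDiscreteValuationRing R] {X : Scheme.{u}}
  (f : X ⟶ Spec (CommRingCat.of R))

/-- The global function attached to an element of the base. -/
noncomputable def baseFun (r : R) : Γ(X, ⊤) := f.appTop ((Scheme.ΓSpecIso (CommRingCat.of R)).inv r)

theorem basicOpen_baseFun (r : R) : X.basicOpen (baseFun f r) = f ⁻¹ᵁ PrimeSpectrum.basicOpen r := by
  rw [baseFun, ← Scheme.preimage_basicOpen_top, basicOpen_eq_of_affine]

theorem mem_basicOpen_uniformizer {π : R} (hπ : Irreducible π) (s : Spec (CommRingCat.of R)) :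
    s ∈ PrimeSpectrum.basicOpen π ↔ s = (⟨⊥, Ideal.isPrime_bot⟩ : PrimeSpectrum R) := by
  constructor
  · intro hs
    refine PrimeSpectrum.ext ?_
    by_contra hne
    have hm : s.asIdeal = IsLocalRing.maximalIdeal R := by
      have : s.asIdeal.IsMaximal := Ideal.IsPrime.isMaximal s.isPrime hne
      exact IsLocalRing.eq_maximalIdeal this
    exact hs (show π ∈ s.asIdeal by rw [hm, hπ.maximalIdeal_eq]; exact Ideal.mem_span_singleton_self π)
  · rintro rfl h
    exact hπ.ne_zero h

/-- The uniformizer in the stalk at a point of the special fibre. -/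
theorem exists_uniformizer_stalk [Flat f] {π : R} (hπ : Irreducible π) (x : X)
    (hx : f x = closedPoint R) :
    let t := X.presheaf.germ ⊤ x trivial (baseFun f π)
    t ∈ maximalIdeal (X.presheaf.stalk x) ∧ t ∈ nonZeroDivisors (X.presheaf.stalk x) ∧
      (maximalIdeal ((Spec (CommRingCat.of R)).presheaf.stalk (f x))).map (f.stalkMap x).hom =
        Ideal.span {t} := by
  intro t
  let S := Spec (CommRingCat.of R)
  let e : R →+* S.presheaf.stalk (f x) :=
    ((Scheme.ΓSpecIso (CommRingCat.of R)).inv ≫ S.presheaf.germ ⊤ (f x) trivial).hom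
  have het : f.stalkMap x (e π) = t := by
    exact Scheme.Hom.germ_stalkMap_apply f ⊤ x trivial _
  letI := e.toAlgebra
  haveI : IsLocalization.AtPrime (S.presheaf.stalk (f x)) (f x).asIdeal :=
    StructureSheaf.IsLocalization.to_stalk R (f x)
  have hp : (f x).asIdeal = maximalIdeal R := congrArg PrimeSpectrum.asIdeal hx
  have hmax : maximalIdeal (S.presheaf.stalk (f x)) = Ideal.span {e π} := by
    rw [← IsLocalization.AtPrime.map_eq_maximalIdeal (f x).asIdeal (S.presheaf.stalk (f x)), hp,
      hπ.maximalIdeal_eq, Ideal.map_span, Set.image_singleton]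
    rfl
  refine ⟨?_, ?_, ?_⟩
  · rw [← het, mem_maximalIdeal, mem_nonunits_iff]
    intro hu
    have := IsLocalHom.map_nonunit (self := f.toLRSHom.prop x) _ hu
    exact (mem_maximalIdeal _).1 (hmax.ge (Ideal.mem_span_singleton_self _)) this
  · rw [← het]
    algebraize [(f.stalkMap x).hom]
    haveI : Module.Flat (S.presheaf.stalk (f x)) (X.presheaf.stalk x) := Flat.stalkMap f x
    have hreg : IsSMulRegular (S.presheaf.stalk (f x)) (e π) := by
      haveI : IsDomain (S.presheaf.stalk (f x)) := IsLocalization.isDomain_of_le_nonZeroDivisors (S.presheaf.stalk (f x))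
        (f x).asIdeal.primeCompl_le_nonZeroDivisors
      refine IsSMulRegular.of_ne_zero fun h0 => hπ.ne_zero ?_
      exact IsLocalization.injective (M := (f x).asIdeal.primeCompl) (S.presheaf.stalk (f x))
        (f x).asIdeal.primeCompl_le_nonZeroDivisors (h0.trans (map_zero (algebraMap R _)).symm)
    have hreg' := Module.Flat.isSMulRegular_of_isRegular
      (M := X.presheaf.stalk x) (isLeftRegular_iff_isRegular.1 hreg)
    exact mem_nonZeroDivisors_iff_right.2 fun z hz => hreg' (by
      show e π • z = e π • (0 : X.presheaf.stalk x)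
      rw [smul_zero, Algebra.smul_def, mul_comm]; exact hz)
  · rw [hmax, Ideal.map_span, Set.image_singleton]
    exact congrArg (fun t => Ideal.span {t}) het

theorem isReduced_quotient_stalk [Flat f] {π : R} (hπ : Irreducible π) (x : X) (hx : f x = closedPoint R)
    (hred : IsReduced (f.fiber (closedPoint R))) :
    _root_.IsReduced (X.presheaf.stalk x ⧸ Ideal.span {X.presheaf.germ ⊤ x trivial (baseFun f π)}) := by
  rw [← (exists_uniformizer_stalk f hπ x hx).2.2]
  have : IsReduced (f.fiber (f x)) := hx ▸ hred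
  exact isReduced_of_injective (FlatMor68.FibreStalk.fibreStalkEquivAt f x).toRingHom
    (FlatMor68.FibreStalk.fibreStalkEquivAt f x).injective

theorem isReduced_of_specialFibre [Flat f] [IsProper f] (hred : IsReduced (f.fiber (closedPoint R))) :
    IsReduced X := by
  obtain ⟨π, hπ⟩ := IsDiscreteValuationRing.exists_irreducible R
  haveI : IsNoetherianRing (CommRingCat.of R) := inferInstanceAs (IsNoetherianRing R)
  haveI : IsLocallyNoetherian X := LocallyOfFiniteType.isLocallyNoetherian f
  have hz : ∀ z : X, f z = closedPoint R → _root_.IsReduced (X.presheaf.stalk z) := fun z hz => by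
    obtain ⟨h1, h2, -⟩ := exists_uniformizer_stalk f hπ z hz
    exact Curves2.isReduced_of_quotient h1 h2 (isReduced_quotient_stalk f hπ z hz hred)
  suffices h : ∀ x : X, _root_.IsReduced (X.presheaf.stalk x) from
    isReduced_of_isReduced_stalk X
  intro x
  obtain ⟨z, hxz, hzc⟩ := Henz21.exists_specializes_closedPoint f x
  have := hz z hzc
  obtain ⟨_, ⟨U, hU, rfl⟩, hzU, -⟩ :=
    X.isBasis_affineOpens.exists_subset_of_mem_open (Set.mem_univ z) isOpen_univ
  have hxU : x ∈ U := hxz.mem_open U.2 hzU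
  let p := hU.primeIdealOf ⟨x, hxU⟩
  let q := hU.primeIdealOf ⟨z, hzU⟩
  have hpq : p.asIdeal ≤ q.asIdeal := by
    rw [PrimeSpectrum.asIdeal_le_asIdeal, PrimeSpectrum.le_iff_specializes,
      ← hU.fromSpec.isOpenEmbedding.isInducing.specializes_iff, hU.fromSpec_primeIdealOf,
      hU.fromSpec_primeIdealOf]
    exact hxz
  letI := TopCat.Presheaf.algebra_section_stalk X.presheaf ⟨z, hzU⟩
  letI := TopCat.Presheaf.algebra_section_stalk X.presheaf ⟨x, hxU⟩
  haveI := hU.isLocalization_stalk ⟨z, hzU⟩
  haveI := hU.isLocalization_stalk ⟨x, hxU⟩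
  refine ⟨fun a ⟨n, hn⟩ => ?_⟩
  obtain ⟨b, s, rfl⟩ := IsLocalization.exists_mk'_eq p.asIdeal.primeCompl a
  rw [← IsLocalization.mk'_pow, IsLocalization.mk'_eq_zero_iff] at hn
  obtain ⟨t, ht⟩ := hn
  rw [IsLocalization.mk'_eq_zero_iff]
  have hnil : IsNilpotent ((t : Γ(X, U)) * b) := ⟨n + 1, by
    rw [mul_pow, pow_succ b, pow_succ (t : Γ(X, U))]
    calc _ = (t : Γ(X, U)) ^ n * b * ((t : Γ(X, U)) * b ^ n) := by ring
      _ = 0 := by rw [ht, mul_zero]⟩
  have h0 : algebraMap Γ(X, U) (X.presheaf.stalk z) ((t : Γ(X, U)) * b) = 0 :=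
    IsReduced.eq_zero _ (hnil.map _)
  obtain ⟨t', ht'⟩ := (IsLocalization.map_eq_zero_iff q.asIdeal.primeCompl (X.presheaf.stalk z) _).1 h0
  exact ⟨⟨t'.1 * t.1, fun h => ((p.isPrime.mem_or_mem h).elim (fun h => t'.2 (hpq h)) t.2)⟩,
    by rw [mul_assoc]; exact ht'⟩

theorem isReduced_genericFibre [IsReduced X] :
    IsReduced (f.fiber (⟨⊥, Ideal.isPrime_bot⟩ : PrimeSpectrum R)) := by
  obtain ⟨π, hπ⟩ := IsDiscreteValuationRing.exists_irreducible R
  set η : Spec (CommRingCat.of R) := (⟨⊥, Ideal.isPrime_bot⟩ : PrimeSpectrum R) with hη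
  suffices h : ∀ z : f.fiber η, _root_.IsReduced ((f.fiber η).presheaf.stalk z) from
    isReduced_of_isReduced_stalk _
  intro z
  have hz : f (f.fiberι η z) = η := (f.range_fiberι η).le ⟨z, rfl⟩
  have hbot : maximalIdeal ((Spec (CommRingCat.of R)).presheaf.stalk (f (f.fiberι η z))) = ⊥ := by
    rw [← isField_iff_maximalIdeal_eq, hz]
    have : η = genericPoint (Spec (CommRingCat.of R)) := (genericPoint_eq_bot_of_affine (CommRingCat.of R)).symm
    rw [this]
    exact Field.toIsField (Spec (CommRingCat.of R)).functionField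
  have e := FlatMor68.FibreStalk.fibreStalkEquiv f η z
  rw [hbot, Ideal.map_bot] at e
  exact isReduced_of_injective ((RingEquiv.quotientBot _).symm.trans e).symm.toRingHom
    ((RingEquiv.quotientBot _).symm.trans e).symm.injective

omit [IsDomain R] [IsDiscreteValuationRing R] in
/-- Inverting a nonzerodivisor with reduced quotient in a local ring gives no idempotents. -/
theorem preconnected_away {C : Type u} [CommRing C] [IsLocalRing C] {t : C} (ht : t ∈ maximalIdeal C)
    (htnzd : t ∈ nonZeroDivisors C) (hred : _root_.IsReduced (C ⧸ Ideal.span {t})) :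
    PreconnectedSpace (PrimeSpectrum (Localization.Away t)) := by
  let L := Localization.Away t
  have hinj : Function.Injective (algebraMap C L) :=
    IsLocalization.injective (M := Submonoid.powers t) L (Submonoid.powers_le.2 htnzd)
  have key : ∀ (n : ℕ) (c : C), c * c = t ^ n * c → c = 0 ∨ c = t ^ n := by
    intro n
    induction n with
    | zero =>
      intro c hc
      rw [pow_zero, one_mul] at hc
      rcases IsLocalRing.isUnit_or_isUnit_one_sub_self c with h | h
      · exact Or.inr (by rw [pow_zero]; exact h.mul_left_cancel (hc.trans (mul_one c).symm))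
      · exact Or.inl (h.mul_left_cancel (by rw [mul_zero, sub_mul, one_mul, hc, sub_self]))
    | succ n ih =>
      intro c hc
      obtain ⟨d, rfl⟩ := Ideal.mem_span_singleton'.1 (Curves2.mem_span_of_pow_mem hred (a := c) (m := 2) (by
        rw [sq, hc, pow_succ]
        exact Ideal.mul_mem_right _ _ (Ideal.mul_mem_left _ _ (Ideal.mem_span_singleton_self t))))
      have hd : (t * t) * (d * d) = (t * t) * (t ^ n * d) := by
        calc _ = d * t * (d * t) := by ring
          _ = t ^ (n + 1) * (d * t) := hc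
          _ = _ := by ring
      have := (mul_cancel_left_mem_nonZeroDivisors (mul_mem htnzd htnzd)).1 hd
      rcases ih d this with h | h
      · exact Or.inl (by rw [h, zero_mul])
      · exact Or.inr (by rw [h, pow_succ])
  rw [preconnectedSpace_iff_clopen]
  intro Z hZ
  obtain ⟨e, he, rfl⟩ := PrimeSpectrum.exists_idempotent_basicOpen_eq_of_isClopen hZ
  obtain ⟨⟨c, _, n, rfl⟩, hce⟩ := IsLocalization.surj (Submonoid.powers t) e
  change e * algebraMap C L (t ^ n) = algebraMap C L c at hce
  have hc : c * c = t ^ n * c := hinj (by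
    rw [map_mul, map_mul, ← hce]
    linear_combination (algebraMap C L (t ^ n) * algebraMap C L (t ^ n)) * he.eq)
  have hu : IsUnit (algebraMap C L (t ^ n)) := IsLocalization.map_units L (⟨t ^ n, n, rfl⟩ : Submonoid.powers t)
  rcases key n c hc with h | h
  · left
    have : e = 0 := hu.mul_left_eq_zero.1 (by rw [hce, h, map_zero])
    simp [this]
  · right
    have : e = 1 := hu.mul_left_injective (show e * algebraMap C L (t ^ n) = 1 * algebraMap C L (t ^ n) by rw [one_mul, hce, h])
    simp [this]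

theorem connectedSpace_genericFibre [Flat f] [ConnectedSpace X]
    (hred : IsReduced (f.fiber (closedPoint R))) :
    ConnectedSpace (f.fiber (⟨⊥, Ideal.isPrime_bot⟩ : PrimeSpectrum R)) := by
  obtain ⟨π, hπ⟩ := IsDiscreteValuationRing.exists_irreducible R
  set η : Spec (CommRingCat.of R) := (⟨⊥, Ideal.isPrime_bot⟩ : PrimeSpectrum R) with hη
  let G : X.Opens := f ⁻¹ᵁ PrimeSpectrum.basicOpen π
  have hG : ∀ x, x ∈ G ↔ f x = η := fun x => mem_basicOpen_uniformizer hπ (f x)
  have hgen : ∀ x : X, ∃ y, y ⤳ x ∧ f y = η := fun x => by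
    obtain ⟨y, hy1, hy2⟩ := Flat.generalizingMap f
      (show η ⤳ f x from (PrimeSpectrum.le_iff_specializes η (f x)).1 bot_le)
    exact ⟨y, hy1, hy2⟩
  suffices hc : _root_.IsConnected (G : Set X) by
    have e : (f ⁻¹' {η}) = (G : Set X) := Set.ext fun x => (hG x).symm
    haveI : ConnectedSpace (f ⁻¹' {η}) := by rw [e]; exact isConnected_iff_connectedSpace.1 hc
    exact (f.fiberHomeo η).symm.surjective.connectedSpace (f.fiberHomeo η).symm.continuous
  have hne : (G : Set X).Nonempty := by
    obtain ⟨x⟩ := ConnectedSpace.toNonempty (α := X)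
    obtain ⟨y, -, hy⟩ := hgen x
    exact ⟨y, (hG y).2 hy⟩
  refine ⟨hne, fun u v hu hv huv hu' hv' => ?_⟩
  by_contra hemp
  have hdisj : ∀ y, y ∈ G → y ∈ u → y ∈ v → False := fun y hy h1 h2 => hemp ⟨y, hy, h1, h2⟩
  let A : Set G := G.ι ⁻¹' u
  let B : Set G := G.ι ⁻¹' v
  have hAc : IsClosed A := ⟨by
    have : Aᶜ = B := Set.ext fun y => ⟨fun h => (huv y.2).resolve_left h, fun h h' => hdisj _ y.2 h' h⟩
    rw [this]; exact hv.preimage G.ι.continuous⟩
  have hBc : IsClosed B := ⟨by
    have : Bᶜ = A := Set.ext fun y => ⟨fun h => (huv y.2).resolve_right h, fun h h' => hdisj _ y.2 h h'⟩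
    rw [this]; exact hu.preimage G.ι.continuous⟩
  haveI : QuasiCompact G.ι := by
    haveI : QuasiCompact (Scheme.Opens.ι (X := Spec (CommRingCat.of R)) (PrimeSpectrum.basicOpen π)) :=
      haveI := isAffineHom_of_isAffine
      (quasiCompact_iff_compactSpace _).2 (isCompact_iff_compactSpace.1
        (PrimeSpectrum.isCompact_basicOpen π))
    exact MorphismProperty.of_isPullback (isPullback_morphismRestrict f _) ‹_›
  obtain ⟨x, hxA, hxB⟩ : (closure (G.ι '' A) ∩ closure (G.ι '' B)).Nonempty := by
    have key := isPreconnected_closed_iff.1 (isPreconnected_univ (α := X)) (closure (G.ι '' A)) (closure (G.ι '' B))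
      isClosed_closure isClosed_closure ?_ ?_ ?_
    · simpa using key
    · intro x _
      obtain ⟨y, hyx, hy⟩ := hgen x
      rcases huv ((hG y).2 hy) with h | h
      · exact Or.inl (hyx.mem_closed isClosed_closure (subset_closure ⟨⟨y, (hG y).2 hy⟩, h, rfl⟩))
      · exact Or.inr (hyx.mem_closed isClosed_closure (subset_closure ⟨⟨y, (hG y).2 hy⟩, h, rfl⟩))
    · obtain ⟨y, hy, hyu⟩ := hu'; exact ⟨y, trivial, subset_closure ⟨⟨y, hy⟩, hyu, rfl⟩⟩
    · obtain ⟨y, hy, hyv⟩ := hv'; exact ⟨y, trivial, subset_closure ⟨⟨y, hy⟩, hyv, rfl⟩⟩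
  obtain ⟨a, haA, hax⟩ := Sga84.exists_specializes_of_mem_closure G.ι hAc hxA
  obtain ⟨b, hbB, hbx⟩ := Sga84.exists_specializes_of_mem_closure G.ι hBc hxB
  have hxG : f x ≠ η := fun h => by
    have hxG := (hG x).2 h
    have ha : a ⤳ (⟨x, hxG⟩ : G) := subtype_specializes_iff _ _ |>.2 hax
    have hb : b ⤳ (⟨x, hxG⟩ : G) := subtype_specializes_iff _ _ |>.2 hbx
    exact hdisj x hxG (ha.mem_closed hAc haA) (hb.mem_closed hBc hbB)
  have hxc : f x = closedPoint R := by
    refine PrimeSpectrum.ext ?_
    have : (f x).asIdeal.IsMaximal := Ideal.IsPrime.isMaximal (f x).isPrime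
      fun h => hxG (PrimeSpectrum.ext h)
    exact IsLocalRing.eq_maximalIdeal this
  let C := X.presheaf.stalk x
  let t : C := X.presheaf.germ ⊤ x trivial (baseFun f π)
  obtain ⟨ht, htnzd, -⟩ := exists_uniformizer_stalk f hπ x hxc
  haveI hCred := isReduced_quotient_stalk f hπ x hxc hred
  let pt := X.fromSpecStalk x
  have hpt : ∀ y : PrimeSpectrum C, pt y ∈ G ↔ t ∉ y.asIdeal := fun y => by
    show y ∈ pt ⁻¹ᵁ (f ⁻¹ᵁ PrimeSpectrum.basicOpen π) ↔ _
    rw [← basicOpen_baseFun, Scheme.preimage_basicOpen_top, basicOpen_eq_of_affine',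
      Scheme.fromSpecStalk_appTop]
    change (Scheme.ΓSpecIso _).hom ((Scheme.ΓSpecIso C).inv (X.presheaf.germ ⊤ x trivial (baseFun f π)))
      ∉ y.asIdeal ↔ _
    rw [← ConcreteCategory.comp_apply, Iso.inv_hom_id]
    rfl
  haveI : PreconnectedSpace (PrimeSpectrum (Localization.Away t)) := preconnected_away ht htnzd hCred
  have hconn : _root_.IsPreconnected (PrimeSpectrum.basicOpen t : Set (PrimeSpectrum C)) := by
    rw [← PrimeSpectrum.localization_away_comap_range (Localization.Away t) t]
    exact isPreconnected_range (PrimeSpectrum.continuous_comap _)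
  have hrange : ∀ y : X, y ⤳ x → ∃ c, pt c = y := fun y hy => by
    have : y ∈ Set.range pt := by rw [Scheme.range_fromSpecStalk]; exact hy
    exact this
  obtain ⟨a', ha'⟩ := hrange _ hax
  obtain ⟨b', hb'⟩ := hrange _ hbx
  obtain ⟨c, hc, hcu, hcv⟩ := hconn (pt ⁻¹' u) (pt ⁻¹' v) (hu.preimage pt.continuous) (hv.preimage pt.continuous)
    (fun y hy => huv ((hpt y).2 hy))
    ⟨a', (hpt a').1 (by rw [ha']; exact a.2), by show pt a' ∈ u; rw [ha']; exact haA⟩
    ⟨b', (hpt b').1 (by rw [hb']; exact b.2), by show pt b' ∈ v; rw [hb']; exact hbB⟩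
  exact hdisj _ ((hpt c).2 hc) hcu hcv

end Groth.Agent.LimTop61
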