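import Groth.Agent.Prufer29.Saturated
import Groth.Agent.FlatMor68.FibreStalk
import Groth.Agent.Henz21.SchemeFinitePart
import Mathlib.RingTheory.Flat.TorsionFree
import Mathlib.RingTheory.Valuation.LocalSubring
import Mathlib.RingTheory.Nakayama

/-!
Proper flat schemes over valuation rings with reduced special fibre have reduced fibres.
-/

set_option autoImplicit false
set_option linter.style.haveILetI false
set_option backward.isDefEq.respectTransparency false
set_option backward.defeqAttrib.useBackward true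

universe u

open CategoryTheory CategoryTheory.Limits AlgebraicGeometry IsLocalRing

namespace Groth.Agent.LimTop61

section Algebra

variable {R B : Type u} [CommRing R] [IsDomain R] [ValuationRing R] [CommRing B] [Algebra R B]

/-- An element of the extension of an ideal is a single multiple. -/
theorem exists_eq_mul_of_mem_map (I : Ideal R) {b : B} (hb : b ∈ I.map (algebraMap R B)) :
    ∃ r ∈ I, ∃ c : B, b = algebraMap R B r * c := by
  induction hb using Submodule.span_induction with
  | mem x hx => obtain ⟨r, hr, rfl⟩ := hx; exact ⟨r, hr, 1, (mul_one _).symm⟩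
  | zero => exact ⟨0, I.zero_mem, 0, by simp⟩
  | add x y _ _ hx hy =>
    obtain ⟨r, hr, c, rfl⟩ := hx; obtain ⟨r', hr', c', rfl⟩ := hy
    rcases ValuationRing.cond r r' with ⟨w, hw | hw⟩
    · exact ⟨r, hr, c + algebraMap R B w * c', by rw [← hw, map_mul]; ring⟩
    · exact ⟨r', hr', algebraMap R B w * c + c', by rw [← hw, map_mul]; ring⟩
  | smul a x _ hx =>
    obtain ⟨r, hr, c, rfl⟩ := hx
    exact ⟨r, hr, a * c, by rw [smul_eq_mul]; ring⟩

/-- The nilradical vanishes at a prime over the maximal ideal with reduced fibre. -/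
theorem eq_zero_at_prime [Algebra.FiniteType R B]
    (htf : ∀ (r : R) (b : B), r ≠ 0 → algebraMap R B r * b = 0 → b = 0)
    (q : Ideal B) [q.IsPrime] (hq : q.comap (algebraMap R B) = maximalIdeal R)
    (hred : ∀ (b : B) (k : ℕ), b ^ k ∈ (maximalIdeal R).map (algebraMap R B) →
      ∃ s ∉ q, s * b ∈ (maximalIdeal R).map (algebraMap R B))
    {a : B} (ha : IsNilpotent a) : ∃ s ∉ q, s * a = 0 := by
  classical
  obtain ⟨n, φ, hφ⟩ := Algebra.FiniteType.iff_quotient_mvPolynomial''.1 ‹Algebra.FiniteType R B›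
  let P : Prufer29.Saturated.Vec R n 1 →ₗ[MvPolynomial (Fin n) R] MvPolynomial (Fin n) R := LinearMap.proj 0
  let N : Ideal B := nilradical B
  let N' : Submodule (MvPolynomial (Fin n) R) (MvPolynomial (Fin n) R) := N.comap φ.toRingHom
  let M : Submodule (MvPolynomial (Fin n) R) (Prufer29.Saturated.Vec R n 1) := Submodule.comap P N'
  have hR : ∀ (p : Ideal R) [p.IsPrime], ValuationRing (Localization.AtPrime p) := fun p _ =>
    haveI := IsLocalization.isDomain_of_le_nonZeroDivisors (Localization.AtPrime p)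
      p.primeCompl_le_nonZeroDivisors
    ValuationRing.iff_dvd_total.2 ⟨fun x y => by
      obtain ⟨a, s, rfl⟩ := IsLocalization.exists_mk'_eq p.primeCompl x
      obtain ⟨b, t, rfl⟩ := IsLocalization.exists_mk'_eq p.primeCompl y
      obtain ⟨c, hc | hc⟩ := ValuationRing.cond (a * t) (b * s)
      · refine Or.inl ⟨algebraMap R _ c, ?_⟩
        rw [IsLocalization.mk'_eq_iff_eq_mul]
        apply (IsLocalization.map_units (Localization.AtPrime p) s).mul_left_injective
        show algebraMap R _ b * algebraMap R _ s.1 = (IsLocalization.mk' _ _ _ * _ * _) * _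
        have h := IsLocalization.mk'_spec (Localization.AtPrime p) a s
        have hc' := congrArg (algebraMap R (Localization.AtPrime p)) hc
        simp only [map_mul] at hc'
        linear_combination -hc' - algebraMap R _ t.1 * algebraMap R _ c * h
      · refine Or.inr ⟨algebraMap R _ c, ?_⟩
        rw [IsLocalization.mk'_eq_iff_eq_mul]
        apply (IsLocalization.map_units (Localization.AtPrime p) t).mul_left_injective
        show algebraMap R _ a * algebraMap R _ t.1 = (IsLocalization.mk' _ _ _ * _ * _) * _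
        have h := IsLocalization.mk'_spec (Localization.AtPrime p) b t
        have hc' := congrArg (algebraMap R (Localization.AtPrime p)) hc
        simp only [map_mul] at hc'
        linear_combination -hc' - algebraMap R _ s.1 * algebraMap R _ c * h⟩
  have hM : M.FG := Prufer29.Saturated.fg_of_saturated (fun r hr v hv => by
    show φ (v 0) ∈ nilradical B
    have hv' : φ (r • v 0) ∈ nilradical B := by exact hv
    obtain ⟨k, hk⟩ := mem_nilradical.1 hv'
    refine mem_nilradical.2 ⟨k, htf (r ^ k) _ (pow_ne_zero k hr) ?_⟩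
    rw [map_smul, Algebra.smul_def, mul_pow, ← map_pow] at hk
    exact hk) hR
  have hNfg : N.FG := by
    have h1 : N'.FG := by
      have := hM.map P
      rwa [show M.map P = N' from Submodule.map_comap_eq_of_surjective
        (fun x => ⟨fun _ => x, rfl⟩ : Function.Surjective P) _] at this
    have h2 := Ideal.FG.map (h1 : (N.comap φ.toRingHom).FG) φ.toRingHom
    have e : (N.comap φ.toRingHom).map φ.toRingHom = N := Ideal.map_comap_of_surjective φ.toRingHom hφ N
    rwa [e] at h2
  let L := Localization.AtPrime q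
  let ψ := algebraMap B L
  have hle : N.map ψ ≤ maximalIdeal L • N.map ψ := by
    refine Ideal.map_le_iff_le_comap.2 fun b hb => ?_
    obtain ⟨k, hk⟩ := mem_nilradical.1 hb
    obtain ⟨s, hs, hsb⟩ := hred b k (by rw [hk]; exact zero_mem _)
    obtain ⟨r, hr, c, hc⟩ := exists_eq_mul_of_mem_map _ hsb
    have hsu : IsUnit (ψ s) := IsLocalization.map_units L (⟨s, hs⟩ : q.primeCompl)
    by_cases hr0 : r = 0
    · rw [hr0, map_zero, zero_mul] at hc
      rw [Ideal.mem_comap, (hsu.mul_right_eq_zero).1 (by rw [← map_mul, hc, map_zero] : ψ s * ψ b = 0)]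
      exact zero_mem _
    have hcN : c ∈ N := mem_nilradical.2 ⟨k, htf (r ^ k) _ (pow_ne_zero k hr0) (by
      rw [map_pow, ← mul_pow, ← hc, mul_pow, hk, mul_zero])⟩
    have h1 : ψ s * ψ b ∈ maximalIdeal L • N.map ψ := by
      rw [← map_mul, hc, map_mul]
      refine Ideal.mul_mem_mul ?_ (Ideal.mem_map_of_mem _ hcN)
      rw [IsLocalization.AtPrime.to_map_mem_maximal_iff L q]
      exact hq.ge hr
    exact (Ideal.unit_mul_mem_iff_mem _ hsu).1 h1
  have hbot : N.map ψ = ⊥ := Submodule.eq_bot_of_le_smul_of_le_jacobson_bot _ _ (hNfg.map ψ) hle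
    (IsLocalRing.jacobson_eq_maximalIdeal _ bot_ne_top).ge
  have : ψ a = 0 := by
    rw [← Ideal.mem_bot, ← hbot]; exact Ideal.mem_map_of_mem _ (mem_nilradical.2 ha)
  obtain ⟨⟨s, hs⟩, hsa⟩ := (IsLocalization.map_eq_zero_iff q.primeCompl L _).1 this
  exact ⟨s, hs, hsa⟩

/-- Every fibre is reduced near a prime over the maximal ideal with reduced fibre. -/
theorem mem_map_at_prime [Algebra.FiniteType R B] [Module.Flat R B]
    (q : Ideal B) [q.IsPrime] (hq : q.comap (algebraMap R B) = maximalIdeal R)
    (hred : ∀ (b : B) (k : ℕ), b ^ k ∈ (maximalIdeal R).map (algebraMap R B) →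
      ∃ s ∉ q, s * b ∈ (maximalIdeal R).map (algebraMap R B))
    (p : Ideal R) [p.IsPrime] {a : B} {k : ℕ} (ha : a ^ k ∈ p.map (algebraMap R B)) :
    ∃ s ∉ q, s * a ∈ p.map (algebraMap R B) := by
  let J := p.map (algebraMap R B)
  let R' := R ⧸ p
  let B' := B ⧸ J
  have htf : ∀ (r : R) (b : B), r ≠ 0 → algebraMap R B r * b = 0 → b = 0 := fun r b hr h0 => by
    have : IsSMulRegular B r := Module.Flat.isSMulRegular_of_isRegular (isRegular_of_ne_zero hr)
    exact this (by show r • b = r • (0 : B); rw [smul_zero, Algebra.smul_def, h0])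
  letI : Algebra R' B' := Ideal.Quotient.algebraQuotientOfLEComap Ideal.le_comap_map
  haveI : IsScalarTower R R' B' := IsScalarTower.of_algebraMap_eq fun r => rfl
  haveI : Algebra.FiniteType R B' := Algebra.FiniteType.of_surjective (Ideal.Quotient.mkₐ R J) Ideal.Quotient.mk_surjective
  haveI : Algebra.FiniteType R' B' := Algebra.FiniteType.of_restrictScalars_finiteType R R' B'
  haveI : ValuationRing R' := Function.Surjective.valuationRing (Ideal.Quotient.mk p) Ideal.Quotient.mk_surjective
  have hpm : p ≤ maximalIdeal R := le_maximalIdeal (Ideal.IsPrime.ne_top ‹_›)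
  have hJq : J ≤ q := Ideal.map_le_iff_le_comap.2 (hpm.trans hq.ge)
  let q' := q.map (Ideal.Quotient.mk J)
  haveI : q'.IsPrime := Ideal.map_isPrime_of_surjective Ideal.Quotient.mk_surjective (by rwa [Ideal.mk_ker])
  have hq'c : q'.comap (Ideal.Quotient.mk J) = q := Ideal.comap_map_mk hJq
  have hm : maximalIdeal R' = (maximalIdeal R).map (Ideal.Quotient.mk p) :=
    (IsLocalRing.map_maximalIdeal_of_surjective _ Ideal.Quotient.mk_surjective).symm
  have hmB : (maximalIdeal R').map (algebraMap R' B') =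
      ((maximalIdeal R).map (algebraMap R B)).map (Ideal.Quotient.mk J) := by
    rw [hm, Ideal.map_map, Ideal.map_map]; rfl
  have hq' : q'.comap (algebraMap R' B') = maximalIdeal R' := by
    refine Ideal.comap_injective_of_surjective (Ideal.Quotient.mk p) Ideal.Quotient.mk_surjective ?_
    rw [Ideal.comap_comap, hm, Ideal.comap_map_mk hpm, ← hq, ← hq'c, Ideal.comap_comap]
    rfl
  obtain ⟨s', hs', hsa⟩ := eq_zero_at_prime (R := R') (B := B') (fun r b hr h0 => by
      obtain ⟨r, rfl⟩ := Ideal.Quotient.mk_surjective r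
      obtain ⟨b, rfl⟩ := Ideal.Quotient.mk_surjective b
      rw [Ne, Ideal.Quotient.eq_zero_iff_mem] at hr
      change Ideal.Quotient.mk J (algebraMap R B r * b) = 0 at h0
      rw [Ideal.Quotient.eq_zero_iff_mem] at h0 ⊢
      obtain ⟨π, hπ, c, hc⟩ := exists_eq_mul_of_mem_map p h0
      obtain ⟨w, hw | hw⟩ := ValuationRing.cond r π
      · have hwp : w ∈ p := (‹p.IsPrime›.mem_or_mem (hw ▸ hπ)).resolve_left hr
        have hb : b - algebraMap R B w * c = 0 := htf r _ (fun h => hr (h ▸ p.zero_mem)) (by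
          rw [mul_sub, hc, ← hw, map_mul]; ring)
        rw [sub_eq_zero.1 hb]
        exact Ideal.mul_mem_right _ _ (Ideal.mem_map_of_mem _ hwp)
      · exact absurd (hw ▸ p.mul_mem_right w hπ) hr)
    q' hq' (fun b' k hb => by
      obtain ⟨b, rfl⟩ := Ideal.Quotient.mk_surjective b'
      rw [hmB, ← map_pow, ← Ideal.mem_comap, Ideal.comap_map_mk (Ideal.map_mono hpm)] at hb
      obtain ⟨s, hs, hsb⟩ := hred b k hb
      refine ⟨Ideal.Quotient.mk J s, fun h => hs (hq'c.le h), ?_⟩
      rw [hmB, ← map_mul]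
      exact Ideal.mem_map_of_mem _ hsb) (a := Ideal.Quotient.mk J a)
    ⟨k, by rw [← map_pow, Ideal.Quotient.eq_zero_iff_mem]; exact ha⟩
  obtain ⟨s, rfl⟩ := Ideal.Quotient.mk_surjective s'
  refine ⟨s, fun h => hs' (Ideal.mem_map_of_mem _ h), ?_⟩
  rwa [← map_mul, Ideal.Quotient.eq_zero_iff_mem] at hsa

end Algebra

variable {R : Type u} [CommRing R] [IsDomain R] [ValuationRing R] {X : Scheme.{u}}
  (f : X ⟶ Spec (CommRingCat.of R))

theorem reduced_of_specialFibre [IsProper f] [Flat f] (hred : IsReduced (f.fiber (closedPoint R))) :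
    IsReduced X ∧ ∀ s, IsReduced (f.fiber s) := by
  let S := Spec (CommRingCat.of R)
  -- reducedness of the fibre stalks and of the stalks
  suffices key : ∀ x : X, _root_.IsReduced (X.presheaf.stalk x) ∧
      _root_.IsReduced (X.presheaf.stalk x ⧸ (maximalIdeal (S.presheaf.stalk (f x))).map (f.stalkMap x).hom) by
    haveI := fun x => (key x).1
    refine ⟨isReduced_of_isReduced_stalk X, fun s => ?_⟩
    suffices h : ∀ z : f.fiber s, _root_.IsReduced ((f.fiber s).presheaf.stalk z) from
      isReduced_of_isReduced_stalk _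
    intro z
    haveI := (key (f.fiberι s z)).2
    exact isReduced_of_injective (FlatMor68.FibreStalk.fibreStalkEquiv f s z).symm.toRingHom
      (FlatMor68.FibreStalk.fibreStalkEquiv f s z).symm.injective
  intro x
  obtain ⟨z, hxz, hzc⟩ := Henz21.exists_specializes_closedPoint f x
  obtain ⟨_, ⟨U, hU, rfl⟩, hzU, -⟩ :=
    X.isBasis_affineOpens.exists_subset_of_mem_open (Set.mem_univ z) isOpen_univ
  replace hU : IsAffineOpen U := hU
  have hxU : x ∈ U := hxz.mem_open U.2 hzU
  let B := Γ(X, U)
  let ρ : CommRingCat.of R ⟶ Γ(X, U) := (Scheme.ΓSpecIso _).inv ≫ f.appLE ⊤ U le_top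
  letI : Algebra R B := ρ.hom.toAlgebra
  haveI : Module.Flat R B := by
    refine (RingHom.flat_algebraMap_iff).1 ?_
    refine RingHom.Flat.comp (RingHom.Flat.of_bijective (ConcreteCategory.bijective_of_isIso
      (Scheme.ΓSpecIso (CommRingCat.of R)).inv)) ?_
    exact f.flat_appLE (isAffineOpen_top S) hU le_top
  haveI : Algebra.FiniteType R B := by
    refine RingHom.finiteType_algebraMap.1 ?_
    exact RingHom.FiniteType.comp (f.finiteType_appLE (isAffineOpen_top S) hU le_top)
      (RingHom.FiniteType.of_surjective _ (ConcreteCategory.bijective_of_isIso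
        (Scheme.ΓSpecIso (CommRingCat.of R)).inv).2)
  -- comparison with the stalks of the base
  have hmax : ∀ y (hy : y ∈ U), (maximalIdeal (S.presheaf.stalk (f y))).map (f.stalkMap y).hom =
      ((f y).asIdeal.map (algebraMap R B)).map (X.presheaf.germ U y hy).hom ∧
      (hU.primeIdealOf ⟨y, hy⟩).asIdeal.comap (algebraMap R B) = (f y).asIdeal := fun y hy => by
    let e : R →+* S.presheaf.stalk (f y) :=
      ((Scheme.ΓSpecIso (CommRingCat.of R)).inv ≫ S.presheaf.germ ⊤ (f y) trivial).hom
    have hm : maximalIdeal (S.presheaf.stalk (f y)) = (f y).asIdeal.map e := by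
      letI := e.toAlgebra
      haveI : IsLocalization.AtPrime (S.presheaf.stalk (f y)) (f y).asIdeal :=
        StructureSheaf.IsLocalization.to_stalk R (f y)
      exact (IsLocalization.AtPrime.map_eq_maximalIdeal (f y).asIdeal (S.presheaf.stalk (f y))).symm
    have hc : (f.stalkMap y).hom.comp e = (X.presheaf.germ U y hy).hom.comp (algebraMap R B) := by
      show ((Scheme.ΓSpecIso _).inv ≫ S.presheaf.germ ⊤ (f y) trivial ≫ f.stalkMap y).hom =
        (((Scheme.ΓSpecIso _).inv ≫ f.appLE ⊤ U le_top) ≫ X.presheaf.germ U y hy).hom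
      rw [Scheme.Hom.germ_stalkMap, Category.assoc, Scheme.Hom.appLE, Category.assoc,
        TopCat.Presheaf.germ_res]
    refine ⟨?_, ?_⟩
    · rw [hm, Ideal.map_map, Ideal.map_map, hc]
    · letI := TopCat.Presheaf.algebra_section_stalk X.presheaf ⟨y, hy⟩
      haveI := hU.isLocalization_stalk ⟨y, hy⟩
      have h1 : (maximalIdeal (X.presheaf.stalk y)).comap (X.presheaf.germ U y hy).hom =
          (hU.primeIdealOf ⟨y, hy⟩).asIdeal :=
        IsLocalization.AtPrime.under_maximalIdeal (X.presheaf.stalk y) (hU.primeIdealOf ⟨y, hy⟩).asIdeal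
      rw [← h1, Ideal.comap_comap, ← hc, ← Ideal.comap_comap]
      haveI : IsLocalHom (f.stalkMap y).hom := f.toLRSHom.prop y
      rw [((IsLocalRing.local_hom_TFAE _).out 0 4 rfl rfl).1 inferInstance]
      letI := e.toAlgebra
      haveI : IsLocalization.AtPrime (S.presheaf.stalk (f y)) (f y).asIdeal :=
        StructureSheaf.IsLocalization.to_stalk R (f y)
      exact IsLocalization.AtPrime.under_maximalIdeal (S.presheaf.stalk (f y)) (f y).asIdeal
  have hzm : (f z).asIdeal = maximalIdeal R := congrArg PrimeSpectrum.asIdeal hzc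
  let q := hU.primeIdealOf ⟨z, hzU⟩
  let p' := hU.primeIdealOf ⟨x, hxU⟩
  have hpq : p'.asIdeal ≤ q.asIdeal := by
    rw [PrimeSpectrum.asIdeal_le_asIdeal, PrimeSpectrum.le_iff_specializes,
      ← hU.fromSpec.isOpenEmbedding.isInducing.specializes_iff, hU.fromSpec_primeIdealOf,
      hU.fromSpec_primeIdealOf]
    exact hxz
  letI := TopCat.Presheaf.algebra_section_stalk X.presheaf ⟨z, hzU⟩
  haveI := hU.isLocalization_stalk ⟨z, hzU⟩
  have hloc : ∀ (b : B) (k : ℕ), b ^ k ∈ (maximalIdeal R).map (algebraMap R B) →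
      ∃ s ∉ q.asIdeal, s * b ∈ (maximalIdeal R).map (algebraMap R B) := fun b k hb => by
    have hr : IsReduced (f.fiber (f z)) := hzc ▸ hred
    haveI : _root_.IsReduced (X.presheaf.stalk z ⧸ (maximalIdeal (S.presheaf.stalk (f z))).map (f.stalkMap z).hom) :=
      isReduced_of_injective (FlatMor68.FibreStalk.fibreStalkEquivAt f z).toRingHom
        (FlatMor68.FibreStalk.fibreStalkEquivAt f z).injective
    have h1 : X.presheaf.germ U z hzU b ∈ (maximalIdeal (S.presheaf.stalk (f z))).map (f.stalkMap z).hom := by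
      rw [← Ideal.Quotient.eq_zero_iff_mem]
      refine IsReduced.eq_zero _ ⟨k, ?_⟩
      rw [← map_pow, Ideal.Quotient.eq_zero_iff_mem, (hmax z hzU).1, hzm, ← map_pow]
      exact Ideal.mem_map_of_mem _ hb
    rw [(hmax z hzU).1, hzm] at h1
    exact (IsLocalization.algebraMap_mem_map_algebraMap_iff q.asIdeal.primeCompl (X.presheaf.stalk z) _ _).1 h1
  have main : ∀ (p : Ideal R) [p.IsPrime] (b : B) (k : ℕ), b ^ k ∈ p.map (algebraMap R B) →
      ∃ s ∉ p'.asIdeal, s * b ∈ p.map (algebraMap R B) := fun p _ b k hb => by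
    obtain ⟨s, hs, h⟩ := mem_map_at_prime q.asIdeal ((hmax z hzU).2.trans hzm) hloc p hb
    exact ⟨s, fun h' => hs (hpq h'), h⟩
  letI := TopCat.Presheaf.algebra_section_stalk X.presheaf ⟨x, hxU⟩
  haveI := hU.isLocalization_stalk ⟨x, hxU⟩
  have conc : ∀ (p : Ideal R) [p.IsPrime],
      ((p.map (algebraMap R B)).map (algebraMap B (X.presheaf.stalk x))).IsRadical := fun p _ c ⟨k, hk⟩ => by
    obtain ⟨b, t, rfl⟩ := IsLocalization.exists_mk'_eq p'.asIdeal.primeCompl c
    rw [← IsLocalization.mk'_pow, IsLocalization.mk'_mem_map_algebraMap_iff] at hk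
    obtain ⟨u', hu', huk⟩ := hk
    obtain ⟨s, hs, hsb⟩ := main p (u' * b) (k + 1) (by
      convert Ideal.mul_mem_left (p.map (algebraMap R B)) (u' ^ k * b) huk using 1
      ring)
    rw [IsLocalization.mk'_mem_map_algebraMap_iff]
    exact ⟨s * u', p'.asIdeal.primeCompl.mul_mem hs hu', by rw [mul_assoc]; exact hsb⟩
  refine ⟨?_, ?_⟩
  · have := conc ⊥
    rw [Ideal.map_bot, Ideal.map_bot] at this
    exact ⟨fun c hc => by simpa using this (mem_nilradical.2 hc)⟩
  · rw [(hmax x hxU).1]
    exact (Ideal.isRadical_iff_quotient_reduced _).1 (conc (f x).asIdeal)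

end Groth.Agent.LimTop61
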