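import Mathlib
import Groth.Prelude.Def_RelSpec
import Groth.Agent.EGAProj74.AlgExtend

/-!
The relative spectrum of a filtered colimit of quasi-coherent algebras is the limit of the
relative spectra.
-/

set_option autoImplicit false
set_option backward.isDefEq.respectTransparency false

universe u

open CategoryTheory CategoryTheory.Limits AlgebraicGeometry TopologicalSpace Opposite

noncomputable section

namespace Groth.Agent.LimTop61

open Groth.Agent.EGAProj74

variable {S : Scheme.{u}}

/-- Restriction of an algebra to the affine opens. -/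
def affVal : RelSpec.QCAlg S ⥤ (S.AffineZariskiSiteᵒᵖ ⥤ CommRingCat.{u}) where
  obj B := (Scheme.AffineZariskiSite.toOpensFunctor S).op ⋙ B.presheaf
  map φ := (Scheme.AffineZariskiSite.toOpensFunctor S).op.whiskerLeft φ.hom

variable {J : Type u} [SmallCategory J] [IsFiltered J] (A : J ⥤ RelSpec.QCAlg S)

/-- The pointwise colimit. -/
abbrev affColim : S.AffineZariskiSiteᵒᵖ ⥤ CommRingCat.{u} := colimit (A ⋙ affVal)

/-- Its structure map through a chosen index. -/
def affStr : (Scheme.AffineZariskiSite.toOpensFunctor S).op ⋙ S.presheaf ⟶ affColim A :=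
  (Scheme.AffineZariskiSite.toOpensFunctor S).op.whiskerLeft (A.obj (IsFiltered.nonempty (C := J)).some).str ≫
    colimit.ι (A ⋙ affVal) _

theorem affStr_eq (j : J) :
    (Scheme.AffineZariskiSite.toOpensFunctor S).op.whiskerLeft (A.obj j).str ≫
      colimit.ι (A ⋙ affVal) j = affStr A := by
  have : IsConnected J := IsFiltered.isConnected J
  refine constant_of_preserves_morphisms
    (fun j => (Scheme.AffineZariskiSite.toOpensFunctor S).op.whiskerLeft (A.obj j).str ≫
      colimit.ι (A ⋙ affVal) j) (fun j j' φ => ?_) j (IsFiltered.nonempty (C := J)).some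
  conv_lhs => rw [← colimit.w (A ⋙ affVal) φ]
  rw [← Category.assoc]
  congr 1
  change Functor.whiskerLeft _ _ ≫ Functor.whiskerLeft _ (A.map φ).hom = _
  rw [← Functor.whiskerLeft_comp, (A.map φ).comm]

theorem affStr_app (j : J) (U : S.AffineZariskiSiteᵒᵖ) :
    (A.obj j).str.app (op U.unop.1) ≫ (colimit.ι (A ⋙ affVal) j).app U = (affStr A).app U :=
  NatTrans.congr_app (affStr_eq A j) U

/-- Evaluation of the colimit. -/
def affColimit (U : S.AffineZariskiSiteᵒᵖ) :
    IsColimit (((evaluation S.AffineZariskiSiteᵒᵖ CommRingCat.{u}).obj U).mapCocone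
      (colimit.cocone (A ⋙ affVal))) :=
  isColimitOfPreserves _ (colimit.isColimit _)

theorem affStr_coequifibered : (affStr A).Coequifibered := by
  intro U V f
  refine IsPushout.of_isColimit' ⟨(affStr A).naturality f⟩ ?_
  refine PushoutCocone.isColimitAux' _ fun s => ?_
  have hp := fun j : J => (A.obj j).coequifibered f
  have hcond : ∀ j : J,
      ((Scheme.AffineZariskiSite.toOpensFunctor S).op ⋙ S.presheaf).map f ≫ s.inl =
        (A.obj j).str.app (op U.unop.1) ≫ (colimit.ι (A ⋙ affVal) j).app U ≫ s.inr := by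
    intro j
    rw [← Category.assoc, affStr_app]
    exact s.condition
  let t : Cocone ((A ⋙ affVal) ⋙ (evaluation _ CommRingCat.{u}).obj V) :=
    { pt := s.pt
      ι :=
        { app := fun j => (hp j).desc s.inl ((colimit.ι (A ⋙ affVal) j).app U ≫ s.inr) (hcond j)
          naturality := fun j j' φ => by
            refine Eq.trans ?_ (Category.comp_id _).symm
            apply (hp j).hom_ext
            · refine Eq.trans ?_ ((hp j).inl_desc _ _ _).symm
              refine Eq.trans ?_ ((hp j').inl_desc s.inl ((colimit.ι (A ⋙ affVal) j').app U ≫ s.inr) (hcond j'))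
              change (A.obj j).str.app (op V.unop.1) ≫ (A.map φ).hom.app (op V.unop.1) ≫ _ = _
              rw [← Category.assoc, ← NatTrans.comp_app, (A.map φ).comm]
              rfl
            · refine Eq.trans ?_ ((hp j).inr_desc _ _ _).symm
              have h1 := ((A ⋙ affVal).map φ).naturality f
              have h2 := (hp j').inr_desc s.inl ((colimit.ι (A ⋙ affVal) j').app U ≫ s.inr) (hcond j')
              have h3 := NatTrans.congr_app (colimit.w (A ⋙ affVal) φ) U
              refine ((reassoc_of% h1) _).trans ?_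
              refine (congrArg (_ ≫ ·) h2).trans ?_
              refine (Category.assoc _ _ _).symm.trans ?_
              exact congrArg (· ≫ s.inr) h3 } }
  refine ⟨(affColimit A V).desc t, ?_, ?_, fun {m} hm₁ hm₂ => ?_⟩
  · change (affStr A).app V ≫ _ = _
    rw [← affStr_app A (IsFiltered.nonempty (C := J)).some V, Category.assoc]
    erw [(affColimit A V).fac t]
    exact (hp _).inl_desc _ _ _
  · refine (affColimit A U).hom_ext fun j => ?_
    change (colimit.ι (A ⋙ affVal) j).app U ≫ (affColim A).map f ≫ _ = _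
    rw [← reassoc_of% ((colimit.ι (A ⋙ affVal) j).naturality f)]
    erw [(affColimit A V).fac t]
    exact (hp j).inr_desc _ _ _
  · refine (affColimit A V).hom_ext fun j => ?_
    rw [(affColimit A V).fac t j]
    refine ((hp j).hom_ext ?_ ?_)
    · refine Eq.trans ?_ ((hp j).inl_desc _ _ _).symm
      change (A.obj j).str.app (op V.unop.1) ≫ (colimit.ι (A ⋙ affVal) j).app V ≫ m = _
      rw [← Category.assoc, affStr_app]
      exact hm₁
    · refine Eq.trans ?_ ((hp j).inr_desc _ _ _).symm
      change (affVal.obj (A.obj j)).map f ≫ (colimit.ι (A ⋙ affVal) j).app V ≫ m = _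
      have h1 := (colimit.ι (A ⋙ affVal) j).naturality f
      simp only [Functor.comp_obj] at h1
      rw [reassoc_of% h1]
      exact congrArg (_ ≫ ·) hm₂

/-- The colimit as affine data. -/
def affData : AffAlgData S := ⟨affColim A, affStr A, affStr_coequifibered A⟩

variable {A} (c : Cocone A) (hc : IsColimit c)

include hc

/-- Over an affine open, a colimit of quasi-coherent algebras is a colimit of rings. -/
theorem nonempty_isColimit_affine (U : S.AffineZariskiSite) :
    Nonempty (IsColimit (((evaluation S.AffineZariskiSiteᵒᵖ CommRingCat.{u}).obj (op U)).mapCocone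
      (affVal.mapCocone c))) := by
  let D := affData A
  have hnat : ∀ {V W : S.AffineZariskiSite} (i : W ⟶ V),
      D.F.map i.op ≫ D.gammaIso.inv.app (op W) = D.gammaIso.inv.app (op V) ≫
        D.alg.presheaf.map (homOfLE (Scheme.AffineZariskiSite.toOpens_mono i.le)).op :=
    fun i => D.gammaIso.inv.naturality i.op
  have hstrinv : ∀ V : S.AffineZariskiSite,
      (affStr A).app (op V) ≫ D.gammaIso.inv.app (op V) = D.alg.str.app (op V.1) := by
    intro V
    have := NatTrans.congr_app D.str_gammaIso (op V)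
    change _ = (affStr A).app (op V) at this
    rw [← this]
    simp
    rfl
  choose κ hκ _ using fun j : J => existsUnique_algHom (A := A.obj j) (B := D.alg)
    (fun V => (colimit.ι (A ⋙ affVal) j).app (op V) ≫ D.gammaIso.inv.app (op V))
    (fun {V W} i => by
      rw [Category.assoc, ← hnat i]
      have h1 := (colimit.ι (A ⋙ affVal) j).naturality i.op
      exact (reassoc_of% h1) _)
    (fun V => by rw [← Category.assoc]; exact (congrArg (· ≫ _) (affStr_app A j (op V))).trans (hstrinv V))
  let cD : Cocone A :=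
    { pt := D.alg
      ι :=
        { app := κ
          naturality := fun j j' φ => by
            refine (algHom_ext_affine fun V => ?_).trans (Category.comp_id _).symm
            rw [RelSpec.QCAlg.comp_hom, NatTrans.comp_app, hκ, hκ, ← Category.assoc]
            congr 1
            exact NatTrans.congr_app (colimit.w (A ⋙ affVal) φ) (op V) } }
  let d : affColim A ⟶ affVal.obj c.pt := colimit.desc (A ⋙ affVal) (affVal.mapCocone c)
  have hd : ∀ j, colimit.ι (A ⋙ affVal) j ≫ d = affVal.map (c.ι.app j) := fun j => colimit.ι_desc _ _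
  obtain ⟨θ, hθ, -⟩ := existsUnique_algHom (A := D.alg) (B := c.pt)
    (fun V => D.gammaIso.hom.app (op V) ≫ d.app (op V))
    (fun {V W} i => by
      have h0 := D.gammaIso.hom.naturality i.op
      have h1 := d.naturality i.op
      rw [Category.assoc]
      refine ((reassoc_of% h0) _).trans ?_
      exact congrArg (_ ≫ ·) h1)
    (fun V => by
      have := NatTrans.congr_app D.str_gammaIso (op V)
      rw [← Category.assoc]
      refine (congrArg (· ≫ d.app (op V)) this).trans ?_
      change (affStr A).app (op V) ≫ _ = _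
      rw [← affStr_app A (IsFiltered.nonempty (C := J)).some (op V), Category.assoc,
        ← NatTrans.comp_app, hd]
      exact NatTrans.congr_app (c.ι.app _).comm (op V.1))
  let ψ : c.pt ⟶ D.alg := hc.desc cD
  have hid : ψ ≫ θ = 𝟙 _ := by
    refine hc.hom_ext fun j => ?_
    rw [hc.fac_assoc, Category.comp_id]
    refine algHom_ext_affine fun V => ?_
    change (κ j).hom.app _ ≫ θ.hom.app _ = _
    rw [hκ, hθ]
    simp only [Category.assoc, Iso.inv_hom_id_app_assoc]
    exact NatTrans.congr_app (hd j) (op V)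
  have hψ : ∀ j, (c.ι.app j).hom.app (op U.1) ≫ ψ.hom.app (op U.1) =
      (colimit.ι (A ⋙ affVal) j).app (op U) ≫ D.gammaIso.inv.app (op U) := fun j => by
    rw [← NatTrans.comp_app, ← RelSpec.QCAlg.comp_hom, hc.fac]
    exact hκ j U
  refine ⟨(affColimit A (op U)).ofIsoColimit (Cocone.ext
    ⟨d.app (op U), ψ.hom.app (op U.1) ≫ D.gammaIso.hom.app (op U), ?_, ?_⟩ fun j => ?_)⟩
  · refine (affColimit A (op U)).hom_ext fun j => ?_
    change (colimit.ι (A ⋙ affVal) j).app (op U) ≫ d.app (op U) ≫ _ ≫ _ =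
      (colimit.ι (A ⋙ affVal) j).app (op U) ≫ 𝟙 _
    rw [← Category.assoc, ← NatTrans.comp_app, hd, Category.comp_id]
    change (c.ι.app j).hom.app (op U.1) ≫ _ ≫ _ = _
    rw [reassoc_of% hψ j, Iso.inv_hom_id_app]
    exact Category.comp_id _
  · have := congrArg (fun q => q.hom.app (op U.1)) hid
    change ψ.hom.app (op U.1) ≫ θ.hom.app (op U.1) = _ at this
    rw [hθ U] at this
    rw [Category.assoc]
    exact this
  · exact NatTrans.congr_app (hd j) (op U)

/-- The family of morphisms into the spectrum of a colimit is jointly monic. -/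
theorem relSpec_colim_hom_ext {T : Scheme.{u}} {w w' : T ⟶ c.pt.spec}
    (h : ∀ j, w ≫ RelSpec.QCAlg.specMap (c.ι.app j) = w' ≫ RelSpec.QCAlg.specMap (c.ι.app j)) :
    w = w' := by
  have hπ : w' ≫ c.pt.π = w ≫ c.pt.π := by
    have e := RelSpec.QCAlg.specMap_π (c.ι.app (IsFiltered.nonempty (C := J)).some)
    refine (congrArg (w' ≫ ·) e).symm.trans ?_
    refine Eq.trans ?_ (congrArg (w ≫ ·) e)
    exact (Category.assoc _ _ _).symm.trans
      ((congrArg (· ≫ (A.obj (IsFiltered.nonempty (C := J)).some).π) (h _).symm).trans (Category.assoc _ _ _))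
  have hcov : TopologicalSpace.IsOpenCover (fun U : S.affineOpens => (w ≫ c.pt.π) ⁻¹ᵁ U.1) := by
    refine TopologicalSpace.IsOpenCover.comap ?_ _
    exact iSup_affineOpens_eq_top S
  refine (T.openCoverOfIsOpenCover _ hcov).hom_ext _ _ fun U => ?_
  change ((w ≫ c.pt.π) ⁻¹ᵁ U.1).ι ≫ w = ((w ≫ c.pt.π) ⁻¹ᵁ U.1).ι ≫ w'
  let V := (w ≫ c.pt.π) ⁻¹ᵁ U.1
  have hr : ∀ g : T ⟶ c.pt.spec, g ≫ c.pt.π = w ≫ c.pt.π →
      Set.range (V.ι ≫ g).base ⊆ Set.range (c.pt.ι U.1 U.2).base := by
    intro g hg
    rintro _ ⟨x, rfl⟩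
    change (V.ι ≫ g).base x ∈ (c.pt.ι U.1 U.2).opensRange
    rw [← c.pt.π_preimage U.1 U.2]
    have hx := x.2
    change (w ≫ c.pt.π).base x.1 ∈ U.1 at hx
    rw [← hg] at hx
    exact hx
  obtain ⟨hcol⟩ := nonempty_isColimit_affine c hc ⟨U.1, U.2⟩
  have hlim := isLimitOfPreserves Scheme.Spec hcol.op
  rw [← IsOpenImmersion.lift_fac (c.pt.ι U.1 U.2) _ (hr w rfl),
    ← IsOpenImmersion.lift_fac (c.pt.ι U.1 U.2) _ (hr w' hπ)]
  congr 1
  refine hlim.hom_ext fun j => ?_
  change _ ≫ Spec.map ((c.ι.app j.unop).hom.app (op U.1)) = _ ≫ Spec.map ((c.ι.app j.unop).hom.app (op U.1))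
  have e : ∀ (g : T ⟶ c.pt.spec) (hg : g ≫ c.pt.π = w ≫ c.pt.π),
      IsOpenImmersion.lift (c.pt.ι U.1 U.2) (V.ι ≫ g) (hr g hg) ≫
        Spec.map ((c.ι.app j.unop).hom.app (op U.1)) ≫ (A.obj j.unop).ι U.1 U.2 =
      V.ι ≫ g ≫ RelSpec.QCAlg.specMap (c.ι.app j.unop) := fun g hg =>
    ((congrArg (_ ≫ ·) (RelSpec.QCAlg.ι_specMap U.1 U.2 (c.ι.app j.unop)).symm).trans
      (Category.assoc _ _ _).symm).trans
      ((congrArg (· ≫ _) (IsOpenImmersion.lift_fac _ _ (hr g hg))).trans (Category.assoc _ _ _))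
  rw [← cancel_mono ((A.obj j.unop).ι U.1 U.2), Category.assoc, Category.assoc]
  exact ((e w rfl).trans (congrArg (V.ι ≫ ·) (h _))).trans (e w' hπ).symm

/-- The relative spectrum of a filtered colimit is the limit of the relative spectra. -/
theorem existsUnique_lift_relSpec (T : Scheme.{u}) (v : ∀ j : J, T ⟶ (A.obj j).spec)
    (hv : ∀ (j j' : J) (φ : j ⟶ j'), v j' ≫ RelSpec.QCAlg.specMap (A.map φ) = v j) :
    ∃! w : T ⟶ c.pt.spec, ∀ j : J, w ≫ RelSpec.QCAlg.specMap (c.ι.app j) = v j := by
  have : IsConnected J := IsFiltered.isConnected J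
  let t : T ⟶ S := v (IsFiltered.nonempty (C := J)).some ≫ (A.obj _).π
  have ht : ∀ j, v j ≫ (A.obj j).π = t := fun j =>
    constant_of_preserves_morphisms (fun j => v j ≫ (A.obj j).π)
      (fun j j' φ => by rw [← hv j j' φ, Category.assoc, RelSpec.QCAlg.specMap_π]) j _
  have hcov : TopologicalSpace.IsOpenCover (fun U : S.affineOpens => t ⁻¹ᵁ U.1) := by
    refine TopologicalSpace.IsOpenCover.comap ?_ _
    exact iSup_affineOpens_eq_top S
  let 𝒰 := T.openCoverOfIsOpenCover _ hcov
  have hloc : ∀ U : S.affineOpens, ∃ m : ((t ⁻¹ᵁ U.1 : T.Opens) : Scheme.{u}) ⟶ c.pt.spec,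
      ∀ j, m ≫ RelSpec.QCAlg.specMap (c.ι.app j) = (t ⁻¹ᵁ U.1).ι ≫ v j := by
    intro U
    have hr : ∀ j, Set.range ((t ⁻¹ᵁ U.1).ι ≫ v j).base ⊆ Set.range ((A.obj j).ι U.1 U.2).base := by
      intro j
      rintro _ ⟨x, rfl⟩
      change ((t ⁻¹ᵁ U.1).ι ≫ v j).base x ∈ ((A.obj j).ι U.1 U.2).opensRange
      rw [← (A.obj j).π_preimage U.1 U.2]
      have hx := x.2
      change t.base x.1 ∈ U.1 at hx
      have := congrArg (fun q : T ⟶ S => q.base x.1) (ht j)
      change (v j ≫ (A.obj j).π).base x.1 ∈ U.1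
      exact Eq.mpr (congrArg (· ∈ U.1) this) hx
    obtain ⟨hcol⟩ := nonempty_isColimit_affine c hc ⟨U.1, U.2⟩
    have hlim := isLimitOfPreserves Scheme.Spec hcol.op
    let l : Cone ((((A ⋙ affVal) ⋙ (evaluation S.AffineZariskiSiteᵒᵖ CommRingCat.{u}).obj
        (op ⟨U.1, U.2⟩))).op ⋙ Scheme.Spec) :=
      { pt := (t ⁻¹ᵁ U.1 : T.Opens)
        π :=
          { app := fun j => IsOpenImmersion.lift _ _ (hr j.unop)
            naturality := fun j j' φ => by
              refine (cancel_mono ((A.obj j'.unop).ι U.1 U.2)).1 ?_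
              refine ((congrArg (· ≫ _) (Category.id_comp _)).trans (IsOpenImmersion.lift_fac _ _ (hr j'.unop))).trans ?_
              refine Eq.trans ?_ ((congrArg (_ ≫ ·) (RelSpec.QCAlg.ι_specMap U.1 U.2 (A.map φ.unop))).trans
                (Category.assoc _ _ _).symm)
              refine Eq.trans ?_ (Category.assoc _ _ _)
              refine Eq.trans ?_ (congrArg (· ≫ _) (IsOpenImmersion.lift_fac _ _ (hr j.unop))).symm
              refine Eq.trans ?_ (Category.assoc _ _ _).symm
              exact congrArg (_ ≫ ·) (hv _ _ φ.unop).symm } }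
    refine ⟨hlim.lift l ≫ c.pt.ι U.1 U.2, fun j => ?_⟩
    refine (Category.assoc _ _ _).trans ((congrArg (_ ≫ ·) (RelSpec.QCAlg.ι_specMap U.1 U.2 (c.ι.app j))).trans ?_)
    have := hlim.fac l (op j)
    change _ ≫ Spec.map ((c.ι.app j).hom.app (op U.1)) = _ at this
    refine ((reassoc_of% this) _).trans ?_
    exact IsOpenImmersion.lift_fac _ _ _
  choose m hm using hloc
  refine ⟨𝒰.glueMorphisms m (fun U U' => relSpec_colim_hom_ext c hc fun j => ?_), fun j => ?_,
    fun w hw => relSpec_colim_hom_ext c hc fun j => ?_⟩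
  · rw [Category.assoc, Category.assoc, hm, hm, ← Category.assoc, ← Category.assoc]
    exact congrArg (· ≫ v j) pullback.condition
  · refine 𝒰.hom_ext _ _ fun U => ?_
    rw [← Category.assoc, Scheme.Cover.ι_glueMorphisms, hm]
    rfl
  · rw [hw]
    symm
    refine 𝒰.hom_ext _ _ fun U => ?_
    rw [← Category.assoc, Scheme.Cover.ι_glueMorphisms, hm]
    rfl

end Groth.Agent.LimTop61
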