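import Groth.Agent.AlgSub72.Gen
import Mathlib.AlgebraicGeometry.Morphisms.Immersion
import Mathlib.AlgebraicGeometry.Morphisms.FiniteType

/-!
An immersion into the relative spectrum of a quasi-coherent algebra is an immersion into the
spectrum of a subalgebra of finite type.
-/

set_option autoImplicit false
set_option backward.isDefEq.respectTransparency false

universe u

open CategoryTheory CategoryTheory.Limits AlgebraicGeometry TopologicalSpace Opposite

namespace Groth.Agent.LimTop61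

variable {X Y : Scheme.{u}} {f : X ⟶ Y} [LocallyOfFiniteType f] {C : RelSpec.QCAlg Y}
  {g : X ⟶ C.spec} (hg : g ≫ C.π = f) [IsImmersion g]

include hg

/-- Near every point, finitely many sections decide that `g` stays an immersion after replacing `C`
by a subalgebra. -/
theorem exists_local_sections (x : X) :
    ∃ (V : Y.affineOpens) (S : Set (C.presheaf.obj (op V.1))) (Xb : X.Opens),
      S.Finite ∧ x ∈ Xb ∧
      ∀ (C' : RelSpec.QCAlg Y) (φ : C' ⟶ C),
        S ⊆ Set.range (φ.hom.app (op V.1)) →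
        ∃ W' : C'.spec.Opens, (g ≫ RelSpec.QCAlg.specMap φ) ⁻¹ᵁ W' = Xb ∧
          IsImmersion (Xb.ι ≫ g ≫ RelSpec.QCAlg.specMap φ) := by
  obtain ⟨_, ⟨V, hV, rfl⟩, hxV, -⟩ :=
    Y.isBasis_affineOpens.exists_subset_of_mem_open (Set.mem_univ (C.π (g x))) isOpen_univ
  have hx1 : g x ∈ C.π ⁻¹ᵁ V := hxV
  rw [C.π_preimage V hV] at hx1
  obtain ⟨w, hw⟩ := hx1
  have hwc : w ∈ (C.ι V hV) ⁻¹ᵁ g.coborderRange := by
    show C.ι V hV w ∈ g.coborderRange
    rw [hw]; exact subset_coborder (Set.mem_range_self x)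
  obtain ⟨_, ⟨_, ⟨b, rfl⟩, rfl⟩, hwb, hble⟩ :=
    PrimeSpectrum.isBasis_basic_opens.exists_subset_of_mem_open hwc ((C.ι V hV) ⁻¹ᵁ g.coborderRange).2
  let CV : CommRingCat.{u} := C.presheaf.obj (op V)
  let Cb : CommRingCat.{u} := CommRingCat.of (Localization.Away (b : CV))
  let al : CV ⟶ Cb := CommRingCat.ofHom (algebraMap CV (Localization.Away (b : CV)))
  have hal : IsOpenImmersion (Spec.map al) := IsOpenImmersion.of_isLocalization (b : CV)
  have halr : Set.range (Spec.map al) = (PrimeSpectrum.basicOpen (b : CV) : Set (PrimeSpectrum CV)) :=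
    PrimeSpectrum.localization_away_comap_range (Localization.Away (b : CV)) (b : CV)
  let O : Spec Cb ⟶ C.spec := Spec.map al ≫ C.ι V hV
  have : IsOpenImmersion O := inferInstance
  have hOcb : Set.range O ⊆ Set.range g.coborderRange.ι := by
    rintro _ ⟨z, rfl⟩
    rw [Scheme.Opens.range_ι]
    exact hble (halr ▸ Set.mem_range_self z)
  let O₁ := IsOpenImmersion.lift g.coborderRange.ι O hOcb
  have hO₁ : O₁ ≫ g.coborderRange.ι = O := IsOpenImmersion.lift_fac _ _ _
  have hw1 : pullback.fst g O ≫ g.liftCoborder = pullback.snd g O ≫ O₁ := by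
    rw [← cancel_mono g.coborderRange.ι, Category.assoc, Category.assoc, hO₁,
      Scheme.Hom.liftCoborder_ι, pullback.condition]
  have hsq : IsPullback (pullback.fst g O) (pullback.snd g O) g.liftCoborder O₁ := by
    have h0 := IsPullback.of_hasPullback g O
    refine ⟨⟨hw1⟩, ⟨PullbackCone.IsLimit.mk _ (fun s => pullback.lift s.fst s.snd ?_)
      (fun s => pullback.lift_fst _ _ _) (fun s => pullback.lift_snd _ _ _)
      (fun s m h1 h2 => pullback.hom_ext (by simpa using h1) (by simpa using h2))⟩⟩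
    have := congrArg (· ≫ g.coborderRange.ι) s.condition
    simpa [hO₁, Scheme.Hom.liftCoborder_ι] using this
  have hsnd : IsClosedImmersion (pullback.snd g O) :=
    MorphismProperty.of_isPullback (P := @IsClosedImmersion) hsq inferInstance
  obtain ⟨I, e, he⟩ := IsClosedImmersion.Spec_iff.mp hsnd
  let R : CommRingCat.{u} := CommRingCat.of (Cb ⧸ I)
  let χ₀ : Cb ⟶ R := CommRingCat.ofHom (Ideal.Quotient.mk I)
  let j : Spec R ⟶ X := e.inv ≫ pullback.fst g O
  have hje : e.inv ≫ pullback.snd g O = Spec.map χ₀ := by rw [he, Iso.inv_hom_id_assoc]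
  have hjg : j ≫ g = Spec.map χ₀ ≫ O := by
    simp only [j, Category.assoc, pullback.condition]
    rw [← Category.assoc, hje]
  have hjoi : IsOpenImmersion j := inferInstance
  let ψ : CV ⟶ R := al ≫ χ₀
  -- finite type
  have hft : (C.str.app (op V) ≫ ψ).hom.FiniteType := by
    rw [← HasRingHomProperty.Spec_iff (P := @LocallyOfFiniteType)]
    have : LocallyOfFiniteType (Spec.map (C.str.app (op V) ≫ ψ) ≫ hV.fromSpec) := by
      have : Spec.map (C.str.app (op V) ≫ ψ) ≫ hV.fromSpec = j ≫ f := by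
        rw [← hg, reassoc_of% hjg]
        simp only [O, ψ, Category.assoc, Spec.map_comp, C.ι_π]
      rw [this]; infer_instance
    exact locallyOfFiniteType_of_comp _ hV.fromSpec
  obtain ⟨T, hT⟩ : ∃ T : Set R, T.Finite ∧
      Subring.closure (Set.range (C.str.app (op V) ≫ ψ).hom ∪ T) = ⊤ := by
    let _ := (C.str.app (op V) ≫ ψ).hom.toAlgebra
    obtain ⟨⟨T, hT⟩⟩ := hft
    refine ⟨(T : Set R), T.finite_toSet, ?_⟩
    have h1 := congrArg Subalgebra.toSubring hT
    rw [Algebra.adjoin_eq_ring_closure, Algebra.top_toSubring] at h1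
    exact h1
  have hnum : ∀ r : R, ∃ (a : CV) (n : ℕ), r * ψ b ^ n = ψ a := by
    intro r
    obtain ⟨q, rfl⟩ := Ideal.Quotient.mk_surjective r
    obtain ⟨⟨a, ⟨_, n, rfl⟩⟩, ha⟩ :=
      IsLocalization.surj (Submonoid.powers (b : CV)) (q : Localization.Away (b : CV))
    refine ⟨a, n, ?_⟩
    have := congrArg χ₀ ha
    rw [map_mul] at this
    simp only [map_pow] at this
    exact this
  choose num den hnum using hnum
  refine ⟨⟨V, hV⟩, insert b (num '' T), j.opensRange, (hT.1.image num).insert b, ?_, ?_⟩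
  · -- the point lies in the open
    have hxO : g x ∈ Set.range O := by
      obtain ⟨z, hz⟩ := halr.ge hwb
      exact ⟨z, (congrArg (C.ι V hV) hz).trans hw⟩
    obtain ⟨z, hz⟩ := hxO
    obtain ⟨p, hp, -⟩ := Scheme.Pullback.exists_preimage_pullback x z hz.symm
    refine ⟨e.hom p, ?_⟩
    rw [← hp, ← Scheme.Hom.comp_apply, ← Category.assoc]
    simp only [j, Iso.hom_inv_id_assoc]
    simp
  intro C' φ hS
  obtain ⟨b', hb'⟩ := hS (Set.mem_insert b _)
  let CV' : CommRingCat.{u} := C'.presheaf.obj (op V)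
  let φV : CV' ⟶ CV := φ.hom.app (op V)
  let Cb' : CommRingCat.{u} := CommRingCat.of (Localization.Away (b' : CV'))
  let al' : CV' ⟶ Cb' := CommRingCat.ofHom (algebraMap CV' (Localization.Away (b' : CV')))
  have hal' : IsOpenImmersion (Spec.map al') := IsOpenImmersion.of_isLocalization (b' : CV')
  have halr' : Set.range (Spec.map al') =
      (PrimeSpectrum.basicOpen (b' : CV') : Set (PrimeSpectrum CV')) :=
    PrimeSpectrum.localization_away_comap_range (Localization.Away (b' : CV')) (b' : CV')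
  have hu : IsUnit ((φV ≫ ψ).hom b') := by
    show IsUnit (χ₀ (al (φV b')))
    rw [show φV b' = b from hb']
    exact (IsLocalization.Away.algebraMap_isUnit (S := Localization.Away (b : CV)) (b : CV)).map χ₀.hom
  let L : Cb' ⟶ R := CommRingCat.ofHom (IsLocalization.Away.lift (b' : CV') hu)
  have hL : al' ≫ L = φV ≫ ψ :=
    CommRingCat.hom_ext (IsLocalization.Away.lift_comp (b' : CV') hu)
  have hL' : ∀ z, L (al' z) = ψ (φV z) := fun z => congr($hL z)
  have hLs : Function.Surjective L := by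
    rw [← RingHom.range_eq_top, eq_top_iff, ← hT.2, Subring.closure_le]
    rintro r (⟨a, rfl⟩ | hr)
    · refine ⟨al' ((C'.str.app (op V)) a), (hL' _).trans ?_⟩
      exact congrArg ψ congr($(φ.comm).app (op V) a)
    · obtain ⟨a', ha'⟩ := hS (Set.mem_insert_of_mem b ⟨r, hr, rfl⟩)
      obtain ⟨v, hv⟩ := (IsLocalization.Away.algebraMap_isUnit (S := Localization.Away (b' : CV'))
        (b' : CV')).exists_right_inv
      refine ⟨al' a' * v ^ den r, ?_⟩
      have h1 : L (al' b') * L v = 1 := by rw [← map_mul, show al' b' * v = 1 from hv, map_one]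
      rw [hL', show φV b' = b from hb'] at h1
      rw [map_mul, map_pow, hL', show φV a' = num r from ha', ← hnum r, mul_assoc, ← mul_pow, h1,
        one_pow, mul_one]
  let W := Spec.map al' ≫ C'.ι V hV
  have hcomp : j ≫ g ≫ RelSpec.QCAlg.specMap φ = Spec.map L ≫ W := by
    rw [reassoc_of% hjg]
    simp only [O, W, Category.assoc, RelSpec.QCAlg.ι_specMap, ← Spec.map_comp_assoc]
    rw [hL]
  have : IsClosedImmersion (Spec.map L) := IsClosedImmersion.spec_of_surjective L hLs
  refine ⟨W.opensRange, ?_, ?_⟩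
  · refine SetLike.coe_injective (Set.ext fun z => ⟨?_, ?_⟩)
    · rintro ⟨p, hp⟩
      change W p = _ at hp
      have hzV : g z ∈ C.π ⁻¹ᵁ V := by
        show C.π (g z) ∈ V
        rw [← RelSpec.QCAlg.specMap_π φ, Scheme.Hom.comp_apply,
          ← Scheme.Hom.comp_apply g, ← hp, ← Scheme.Hom.mem_preimage, C'.π_preimage V hV]
        exact ⟨_, rfl⟩
      rw [C.π_preimage V hV] at hzV
      obtain ⟨q, hq⟩ := hzV
      have h2 : (C'.ι V hV) (Spec.map φV q) = W p := by
        rw [hp, ← Scheme.Hom.comp_apply, ← RelSpec.QCAlg.ι_specMap, Scheme.Hom.comp_apply, hq,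
          ← Scheme.Hom.comp_apply]
      have h3 : Spec.map φV q = Spec.map al' p :=
        (C'.ι V hV).isOpenEmbedding.injective h2
      have h4 : Spec.map φV q ∈ Set.range (Spec.map al') := ⟨p, h3.symm⟩
      rw [halr'] at h4
      have h5 : q ∈ (PrimeSpectrum.basicOpen (b : CV) : Set (PrimeSpectrum CV)) := by
        have : (φV b' : CV) ∉ q.asIdeal := h4
        rwa [show φV b' = b from hb'] at this
      obtain ⟨t, ht⟩ := halr.ge h5
      have hzt : g z = O t := hq.symm.trans (congrArg (C.ι V hV) ht.symm)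
      obtain ⟨y, hy, -⟩ := Scheme.Pullback.exists_preimage_pullback z t hzt
      refine ⟨e.hom y, ?_⟩
      change j (e.hom y) = z
      rw [← hy, ← Scheme.Hom.comp_apply, ← Category.assoc]
      simp
    · rintro ⟨p, rfl⟩
      refine ⟨Spec.map L p, ?_⟩
      change W (Spec.map L p) = (g ≫ RelSpec.QCAlg.specMap φ) (j p)
      rw [← Scheme.Hom.comp_apply, ← Scheme.Hom.comp_apply, hcomp]
  · rw [← Scheme.Hom.isoOpensRange_inv_comp j, Category.assoc, hcomp]
    infer_instance

/-- An immersion into a relative spectrum stays an immersion after replacing the algebra by a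
subalgebra containing suitable finite sets of sections over finitely many affine opens. -/
theorem exists_finite_sections [CompactSpace X] :
    ∃ (t : Finset X) (V : X → Y.affineOpens) (S : ∀ x, Set (C.presheaf.obj (op (V x).1))),
      (∀ x, (S x).Finite) ∧ ∀ (C' : RelSpec.QCAlg Y) (φ : C' ⟶ C),
        (∀ x ∈ t, S x ⊆ Set.range (φ.hom.app (op (V x).1))) →
        IsImmersion (g ≫ RelSpec.QCAlg.specMap φ) := by
  choose V S Xb hS hx hloc using exists_local_sections hg
  obtain ⟨t, ht⟩ := isCompact_univ.elim_finite_subcover (fun x => (Xb x : Set X)) (fun x => (Xb x).2)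
    (fun x _ => Set.mem_iUnion.mpr ⟨x, hx x⟩)
  refine ⟨t, V, S, hS, fun C' φ hφ => ?_⟩
  have hφ' : ∀ y : t, S y ⊆ Set.range (φ.hom.app (op (V y).1)) := fun y => hφ y.1 y.2
  choose W' hW' himm using fun y : t => hloc y.1 C' φ (hφ' y)
  let U' : C'.spec.Opens := ⨆ y, W' y
  let h := g ≫ RelSpec.QCAlg.specMap φ
  have hrange : Set.range h ⊆ Set.range U'.ι := by
    rintro _ ⟨z, rfl⟩
    rw [Scheme.Opens.range_ι]
    obtain ⟨y, hy, hz⟩ := Set.mem_iUnion₂.mp (ht (Set.mem_univ z))
    exact Opens.mem_iSup.mpr ⟨⟨y, hy⟩, (hW' ⟨y, hy⟩).ge hz⟩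
  let l := IsOpenImmersion.lift U'.ι h hrange
  have hl : l ≫ U'.ι = h := IsOpenImmersion.lift_fac _ _ _
  suffices IsImmersion l by
    show IsImmersion h
    rw [← hl]; infer_instance
  refine IsZariskiLocalAtTarget.of_iSup_eq_top (P := @IsImmersion) (fun y => U'.ι ⁻¹ᵁ W' y) ?_ fun y => ?_
  · rw [← Scheme.Hom.preimage_iSup]
    exact Scheme.Opens.ι_preimage_self _
  have e2 : l ⁻¹ᵁ U'.ι ⁻¹ᵁ W' y = Xb y.1 := by
    rw [← Scheme.Hom.comp_preimage, hl]; exact hW' y
  have : IsImmersion ((l ⁻¹ᵁ U'.ι ⁻¹ᵁ W' y).ι ≫ h) := by rw [e2]; exact himm y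
  have : IsImmersion ((l ∣_ (U'.ι ⁻¹ᵁ W' y)) ≫ (U'.ι ⁻¹ᵁ W' y).ι ≫ U'.ι) := by
    rw [morphismRestrict_ι_assoc, hl]; infer_instance
  exact IsImmersion.of_comp _ ((U'.ι ⁻¹ᵁ W' y).ι ≫ U'.ι)

end Groth.Agent.LimTop61
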