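import Groth.Agent.LimTop61.VersalClopen
import Groth.Agent.LimTop61.ZmtFactor
import Groth.Agent.H98Nis.Chain

/-!
The universal finite open of a quasi-finite morphism of finite presentation between affine schemes.
-/

set_option autoImplicit false
set_option backward.isDefEq.respectTransparency false
set_option backward.defeqAttrib.useBackward true

universe u

open CategoryTheory CategoryTheory.Limits AlgebraicGeometry TensorProduct Topology

namespace Groth.Agent.LimTop61

theorem exists_versal_clopen {T Y : Scheme.{u}} [IsAffine Y] (π : T ⟶ Y) [IsFinite π]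
    [LocallyOfFinitePresentation π] :
    ∃ (Yr : Scheme.{u}) (a : Yr ⟶ Y) (W : (pullback π a).Opens), IsAffine Yr ∧
      LocallyOfFinitePresentation a ∧ IsClosed (W : Set ↑(pullback π a)) ∧
      ∀ (Y' : Scheme.{u}) (b : Y' ⟶ Y) (W' : (pullback π b).Opens), IsAffine Y' →
        IsClosed (W' : Set ↑(pullback π b)) →
        ∃ (c : Y' ⟶ Yr) (hc : c ≫ a = b),
          pullback.map π b π a (𝟙 T) c (𝟙 Y) ((Category.comp_id π).trans (Category.id_comp π).symm)
            ((Category.comp_id b).trans hc.symm) ⁻¹ᵁ W = W' := by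
  have : IsAffine T := isAffine_of_isAffineHom π
  let A := Γ(Y, ⊤)
  let B := Γ(T, ⊤)
  algebraize [π.appTop.hom]
  have hpi : π = T.isoSpec.hom ≫ Spec.map π.appTop ≫ Y.isoSpec.inv := by
    rw [← Category.assoc, Scheme.isoSpec_hom_naturality, Category.assoc, Iso.hom_inv_id, Category.comp_id]
  have : Module.Finite A B := ((HasAffineProperty.iff_of_isAffine (P := @IsFinite)).1 inferInstance).2
  have : Algebra.FinitePresentation A B :=
    (HasRingHomProperty.iff_of_isAffine (P := @LocallyOfFinitePresentation)).1 ‹_›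
  obtain ⟨R, _, _, hR, e, he, hver⟩ := exists_versal_idempotent A B
  let aS (R : Type u) [CommRing R] [Algebra A R] : Spec (.of R) ⟶ Y :=
    Spec.map (CommRingCat.ofHom (algebraMap A R)) ≫ Y.isoSpec.inv
  let pT (R : Type u) [CommRing R] [Algebra A R] : Spec (.of (R ⊗[A] B)) ⟶ T :=
    Spec.map (CommRingCat.ofHom (Algebra.TensorProduct.includeRight : B →ₐ[A] R ⊗[A] B).toRingHom) ≫ T.isoSpec.inv
  let pR (R : Type u) [CommRing R] [Algebra A R] : Spec (.of (R ⊗[A] B)) ⟶ Spec (.of R) :=
    Spec.map (CommRingCat.ofHom (Algebra.TensorProduct.includeLeftRingHom : R →+* R ⊗[A] B))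
  have sq (R : Type u) [CommRing R] [Algebra A R] : IsPullback (pT R) (pR R) π (aS R) := by
    refine (isPullback_SpecMap_of_isPushout _ _ _ _
      (CommRingCat.isPushout_tensorProduct A R B)).flip.of_iso (Iso.refl _) T.isoSpec.symm
        (Iso.refl _) Y.isoSpec.symm (by simp [pT]) (by simp [pR]) ?_ (by simp [aS])
    rw [hpi]
    simp only [Iso.symm_hom, Iso.inv_hom_id_assoc]
    rfl
  let o : (Spec (.of (R ⊗[A] B))).Opens := PrimeSpectrum.basicOpen e
  refine ⟨Spec (.of R), aS R, (sq R).isoPullback.inv ⁻¹ᵁ o, inferInstance, ?_, ?_, ?_⟩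
  · have : LocallyOfFinitePresentation (Spec.map (CommRingCat.ofHom (algebraMap A R))) :=
      (HasRingHomProperty.Spec_iff (P := @LocallyOfFinitePresentation)).2
        (RingHom.finitePresentation_algebraMap.2 hR)
    infer_instance
  · exact (PrimeSpectrum.isClopen_iff.2 ⟨e, he, rfl⟩).isClosed.preimage
      (sq R).isoPullback.inv.continuous
  · intro Y' b W' hY' hW'
    let A' := Γ(Y', ⊤)
    algebraize [b.appTop.hom]
    have hb : b = Y'.isoSpec.hom ≫ aS A' := by
      change b = Y'.isoSpec.hom ≫ Spec.map b.appTop ≫ Y.isoSpec.inv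
      rw [← Category.assoc, Scheme.isoSpec_hom_naturality, Category.assoc, Iso.hom_inv_id, Category.comp_id]
    have sq' : IsPullback (pT A') (pR A' ≫ Y'.isoSpec.inv) π b :=
      (sq A').of_iso (Iso.refl _) (Iso.refl _) Y'.isoSpec.symm (Iso.refl _) (by simp) (by simp)
        (by simp) (by simp [hb])
    let U : (Spec (.of (A' ⊗[A] B))).Opens := sq'.isoPullback.hom ⁻¹ᵁ W'
    obtain ⟨e', he', hU⟩ := PrimeSpectrum.exists_idempotent_basicOpen_eq_of_isClopen
      (s := (U : Set (Spec (.of (A' ⊗[A] B))))) (show IsClopen (U : Set (Spec (.of (A' ⊗[A] B)))) from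
        ⟨hW'.preimage sq'.isoPullback.hom.continuous, U.2⟩)
    obtain ⟨φ, hφ⟩ := hver A' e' he'
    have hca : (Y'.isoSpec.hom ≫ Spec.map (CommRingCat.ofHom φ.toRingHom)) ≫ aS R = b := by
      rw [hb, Category.assoc]
      simp only [aS, ← Spec.map_comp_assoc]
      congr 3
      ext x
      exact φ.commutes x
    refine ⟨_, hca, ?_⟩
    let m := pullback.map π b π (aS R) (𝟙 T) (Y'.isoSpec.hom ≫ Spec.map (CommRingCat.ofHom φ.toRingHom))
      (𝟙 Y) ((Category.comp_id π).trans (Category.id_comp π).symm)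
      ((Category.comp_id b).trans hca.symm)
    let ψ : Spec (.of (A' ⊗[A] B)) ⟶ Spec (.of (R ⊗[A] B)) :=
      Spec.map (CommRingCat.ofHom (Algebra.TensorProduct.map φ (AlgHom.id A B)).toRingHom)
    have hcomm : sq'.isoPullback.hom ≫ m = ψ ≫ (sq R).isoPullback.hom := by
      apply pullback.hom_ext
      · simp only [m, Category.assoc, pullback.lift_fst, IsPullback.isoPullback_hom_fst,
          Category.comp_id]
        simp only [pT, ψ, ← Spec.map_comp_assoc]
        congr 3
        ext x
        exact ((Algebra.TensorProduct.map_tmul φ (AlgHom.id A B) 1 x).trans (by simp)).symm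
      · simp only [m, Category.assoc, pullback.lift_snd, IsPullback.isoPullback_hom_snd,
          IsPullback.isoPullback_hom_snd_assoc, Iso.inv_hom_id_assoc]
        simp only [pR, ψ, ← Spec.map_comp]
        congr 1
    have hψ : ψ ⁻¹ᵁ o = U := by
      refine TopologicalSpace.Opens.ext ?_
      rw [hU, ← hφ]
      rfl
    have key : sq'.isoPullback.hom ⁻¹ᵁ (m ⁻¹ᵁ (sq R).isoPullback.inv ⁻¹ᵁ o) = U := by
      rw [← hψ, ← Scheme.Hom.comp_preimage, ← Scheme.Hom.comp_preimage, hcomm, Category.assoc,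
        Iso.hom_inv_id, Category.comp_id]
    calc m ⁻¹ᵁ (sq R).isoPullback.inv ⁻¹ᵁ o
        = sq'.isoPullback.inv ⁻¹ᵁ sq'.isoPullback.hom ⁻¹ᵁ (m ⁻¹ᵁ (sq R).isoPullback.inv ⁻¹ᵁ o) := by
          rw [← Scheme.Hom.comp_preimage sq'.isoPullback.inv, Iso.inv_hom_id]; rfl
      _ = W' := by
          rw [key, ← Scheme.Hom.comp_preimage, Iso.inv_hom_id]; rfl

/-- An open subscheme that maps finitely. -/
theorem isFinite_opens_of_closed {X P Z : Scheme.{u}} (q : X ⟶ P) [IsOpenImmersion q] (s : P ⟶ Z)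
    [IsFinite s] (W : P.Opens) (hW : IsClosed (W : Set P)) (hr : (W : Set P) ⊆ Set.range q) :
    IsFinite ((q ⁻¹ᵁ W).ι ≫ q ≫ s) := by
  have : IsClosedImmersion W.ι := IsClosedImmersion.of_isPreimmersion _ (by
    rw [Scheme.Opens.range_ι]; exact hW)
  have : Surjective (q ∣_ W) := ⟨fun w => by
    obtain ⟨x, hx⟩ := hr w.2
    refine ⟨⟨x, show q x ∈ W from hx.symm ▸ w.2⟩, ?_⟩
    exact Subtype.ext ((morphismRestrict_base_coe q W _).trans hx)⟩
  have : IsIso (q ∣_ W) := (MorphismProperty.isomorphisms.iff _).1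
    ((isomorphisms_eq_isOpenImmersion_inf_surjective.symm ▸ ⟨inferInstance, inferInstance⟩))
  rw [← morphismRestrict_ι_assoc]
  infer_instance

/-- The universal finite open: the statement of S1445. -/
theorem exists_universal_finite_open {X Y : Scheme.{u}} (f : X ⟶ Y) [IsAffine X] [IsAffine Y]
    [LocallyQuasiFinite f] [LocallyOfFinitePresentation f] :
    ∃ (Yu : Scheme.{u}) (a : Yu ⟶ Y) (Uu : (pullback f a).Opens), LocallyOfFinitePresentation a ∧
      QuasiCompact a ∧ QuasiSeparated a ∧ IsFinite (Uu.ι ≫ pullback.snd f a) ∧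
      ∀ (Y' : Scheme.{u}) (b : Y' ⟶ Y) (U' : (pullback f b).Opens), IsAffine Y' →
        IsFinite (U'.ι ≫ pullback.snd f b) →
        ∃ (c : Y' ⟶ Yu) (hc : c ≫ a = b),
          (pullback.map f b f a (𝟙 X) c (𝟙 Y) ((Category.comp_id f).trans (Category.id_comp f).symm)
            ((Category.comp_id b).trans hc.symm)) ⁻¹ᵁ Uu = U' := by
  obtain ⟨T, j, π, hj, hjc, hπ, hπp, hjπ⟩ := exists_openImmersion_finite_fp f
  obtain ⟨Yr, a, W, hYr, ha, hW, hver⟩ := exists_versal_clopen π
  have : IsAffine T := isAffine_of_isAffineHom π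
  have : IsAffine (pullback π a) := isAffine_of_isAffineHom (pullback.snd π a)
  let K : Set ↑(pullback π a) := (W : Set _) \ pullback.fst π a ⁻¹' Set.range j
  let Z : Set Yr := pullback.snd π a '' K
  have hZcl : IsClosed Z := (pullback.snd π a).isClosedMap _
    (hW.inter (by
      exact (j.isOpenEmbedding.isOpen_range.preimage (pullback.fst π a).continuous).isClosed_compl))
  have hjo : IsConstructible (Set.range j) :=
    (isCompact_range j.continuous).isConstructible j.isOpenEmbedding.isOpen_range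
  have hKc : IsConstructible K :=
    ((hW.isCompact).isConstructible W.2).sdiff ((pullback.fst π a).isConstructible_preimage hjo)
  let O : Yr.Opens := ⟨Zᶜ, hZcl.isOpen_compl⟩
  have hOc : IsCompact (O : Set Yr) :=
    H98Nis.isCompact_of_isConstructible ((pullback.snd π a).isConstructible_image hKc).compl
  have : CompactSpace O.toScheme := isCompact_iff_compactSpace.1 hOc
  let au : O.toScheme ⟶ Y := O.ι ≫ a
  let mu := pullback.map π au π a (𝟙 T) O.ι (𝟙 Y) ((Category.comp_id π).trans (Category.id_comp π).symm)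
    (Category.comp_id au)
  let qu := pullback.map f au π au j (𝟙 _) (𝟙 Y) (by simp [hjπ]) (by simp)
  let Wu := mu ⁻¹ᵁ W
  have hWu : (Wu : Set ↑(pullback π au)) ⊆ Set.range qu := by
    intro p hp
    rw [Scheme.Pullback.range_map]
    refine ⟨?_, _, rfl⟩
    by_contra hn
    have hK : mu p ∈ K := ⟨hp, fun h => hn (by
      rw [Set.mem_preimage, ← Scheme.Hom.comp_apply, pullback.lift_fst, Category.comp_id] at h
      exact h)⟩
    have h1 : pullback.snd π a (mu p) = O.ι (pullback.snd π au p) := by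
      rw [← Scheme.Hom.comp_apply, pullback.lift_snd, Scheme.Hom.comp_apply]
    exact (pullback.snd π au p).2 ⟨mu p, hK, h1⟩
  have hfs : qu ≫ pullback.snd π au = pullback.snd f au := by simp [qu]
  refine ⟨O.toScheme, au, qu ⁻¹ᵁ Wu, inferInstance, inferInstance, inferInstance, ?_, ?_⟩
  · rw [← hfs]
    exact isFinite_opens_of_closed qu _ _ (hW.preimage mu.continuous) hWu
  intro Y' b U' hY' hU'
  let qb := pullback.map f b π b j (𝟙 _) (𝟙 Y) (by simp [hjπ]) (by simp)
  have : IsFinite ((U'.ι ≫ qb) ≫ pullback.snd π b) := by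
    simpa [qb] using hU'
  have : IsFinite (U'.ι ≫ qb) := IsFinite.of_comp _ (pullback.snd π b)
  let W' : (pullback π b).Opens := qb ''ᵁ U'
  have hW' : IsClosed (W' : Set ↑(pullback π b)) := by
    have h2 : Set.range (U'.ι ≫ qb) = W' := by
      rw [Scheme.Hom.comp_base, TopCat.coe_comp, Set.range_comp, Scheme.Opens.range_ι]
      rfl
    exact h2 ▸ (U'.ι ≫ qb).isClosedMap.isClosed_range
  obtain ⟨c, hc, hcW⟩ := hver Y' b W' hY' hW'
  let m := pullback.map π b π a (𝟙 T) c (𝟙 Y) ((Category.comp_id π).trans (Category.id_comp π).symm)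
    ((Category.comp_id b).trans hc.symm)
  have hm : IsPullback m (pullback.snd π b) (pullback.snd π a) c := by
    refine IsPullback.of_right ?_ (pullback.lift_snd _ _ _) (IsPullback.of_hasPullback π a)
    rw [show m ≫ pullback.fst π a = pullback.fst π b by simp [m], hc]
    exact IsPullback.of_hasPullback π b
  have hcO : Set.range c ⊆ Set.range O.ι := by
    rw [Scheme.Opens.range_ι]
    rintro _ ⟨y, rfl⟩ ⟨p, hp, hpy⟩
    obtain ⟨p', hp1, -⟩ := Scheme.exists_preimage_of_isPullback hm p y hpy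
    have hp' : p' ∈ W' := by
      rw [← hcW]
      exact show m p' ∈ W from hp1 ▸ hp.1
    obtain ⟨x, -, rfl⟩ := hp'
    refine hp.2 ⟨pullback.fst f b x, ?_⟩
    rw [← hp1]
    change (pullback.fst f b ≫ j) x = (qb ≫ m ≫ pullback.fst π a) x
    simp [m, qb]
  let c' := IsOpenImmersion.lift O.ι c hcO
  have hc' : c' ≫ O.ι = c := IsOpenImmersion.lift_fac _ _ _
  refine ⟨c', by rw [← hc, ← hc', Category.assoc], ?_⟩
  rw [← Scheme.Hom.comp_preimage, ← Scheme.Hom.comp_preimage]
  have h3 : (pullback.map f b f au (𝟙 X) c' (𝟙 Y) ((Category.comp_id f).trans (Category.id_comp f).symm)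
      ((Category.comp_id b).trans (show c' ≫ au = b by rw [← hc, ← hc', Category.assoc]).symm) ≫ qu) ≫ mu
      = qb ≫ m := by
    apply pullback.hom_ext <;> simp [qu, mu, qb, m, hc']
  rw [h3, Scheme.Hom.comp_preimage, hcW, Scheme.Hom.preimage_image_eq]

end Groth.Agent.LimTop61
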