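import Groth.Agent.LimTop61.ZmtFactor
import Groth.Agent.LimTop61.BaseChange
import Groth.Agent.LimTop61.Descent
import Groth.Agent.LimDesc62.QuasiFinite
import Groth.Agent.LimDesc62.Affine
import Groth.Agent.Lim60.RingBridge
import Groth.Agent.H98Nis.Chain
import Mathlib.AlgebraicGeometry.Morphisms.UniversallyOpen

/-!
Universal openness of a locally quasi-finite morphism of finite presentation is tested by one
constructible set over an affine space, hence descends to a stage of a limit.
-/

set_option autoImplicit false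
set_option backward.isDefEq.respectTransparency false
set_option backward.defeqAttrib.useBackward true

universe u

open CategoryTheory CategoryTheory.Limits AlgebraicGeometry TensorProduct MorphismProperty Topology

namespace Groth.Agent.LimTop61

section FormImage

variable {R B : Type u} [CommRing R] [CommRing B] [Algebra R B] {d : ℕ} (b : Fin d → B)
  (V : Set (PrimeSpectrum B))

/-- The part over `V` of the locus where the generic linear combination of `b` is invertible. -/
def formSet : Set (PrimeSpectrum (MvPolynomial (Fin d) B)) :=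
  PrimeSpectrum.comap MvPolynomial.C ⁻¹' V ∩
    (PrimeSpectrum.basicOpen (∑ i, MvPolynomial.X i * MvPolynomial.C (b i)) : Set (PrimeSpectrum _))

variable (R) in
/-- Its image in the affine space over the base. -/
def formImage : Set (PrimeSpectrum (MvPolynomial (Fin d) R)) :=
  PrimeSpectrum.comap (MvPolynomial.map (algebraMap R B)) '' formSet b V

lemma image_inter_basicOpen_eq (C : Type u) [CommRing C] [Algebra R C] (c : Fin d → C) :
    PrimeSpectrum.comap (algebraMap C (C ⊗[R] B)) ''
      (PrimeSpectrum.comap (Algebra.TensorProduct.includeRight (R := R) (A := C)).toRingHom ⁻¹' V ∩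
        (PrimeSpectrum.basicOpen (∑ i, c i ⊗ₜ[R] b i) : Set (PrimeSpectrum _))) =
      PrimeSpectrum.comap (MvPolynomial.eval₂Hom (algebraMap R C) c) ⁻¹' formImage R b V := by
  let := MvPolynomial.algebraMvPolynomial (R := R) (S := B) (σ := Fin d)
  let ev : MvPolynomial (Fin d) R →+* C := MvPolynomial.eval₂Hom (algebraMap R C) c
  let Ψ : MvPolynomial (Fin d) B →+* C ⊗[R] B :=
    MvPolynomial.eval₂Hom Algebra.TensorProduct.includeRight.toRingHom
      (fun i => Algebra.TensorProduct.includeLeftRingHom (c i))
  have hs' := CommRingCat.isPushout_tensorProduct R C B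
  have hB : CommRingCat.ofHom (algebraMap R C) =
      CommRingCat.ofHom (algebraMap R (MvPolynomial (Fin d) R)) ≫ CommRingCat.ofHom ev := by
    ext a; simp [ev]
  have hC : CommRingCat.ofHom
      (Algebra.TensorProduct.includeRight (R := R) (A := C) (B := B)).toRingHom =
      CommRingCat.ofHom (algebraMap B (MvPolynomial (Fin d) B)) ≫ CommRingCat.ofHom Ψ := by
    ext a; simp [Ψ]
  rw [hB] at hs'
  erw [hC] at hs'
  have hsq := IsPushout.of_left hs' (by
      ext1
      refine MvPolynomial.ringHom_ext (fun a => ?_) (fun i => ?_)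
      · simp [ev, Ψ]
      · simp [ev, Ψ])
    (CommRingCat.isPushout_of_isPushout R (MvPolynomial (Fin d) R) B (MvPolynomial (Fin d) B))
  have himg := Scheme.image_preimage_eq_of_isPullback
    (isPullback_SpecMap_of_isPushout _ _ _ _ hsq.flip) (formSet b V)
  have hpre : PrimeSpectrum.comap Ψ ⁻¹' formSet b V =
      PrimeSpectrum.comap (Algebra.TensorProduct.includeRight (R := R) (A := C)).toRingHom ⁻¹' V ∩
        (PrimeSpectrum.basicOpen (∑ i, c i ⊗ₜ[R] b i) : Set (PrimeSpectrum _)) := by
    rw [show ∑ i, c i ⊗ₜ[R] b i = Ψ (∑ i, MvPolynomial.X i * MvPolynomial.C (b i)) by simp [Ψ],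
      show (Algebra.TensorProduct.includeRight (R := R) (A := C) (B := B)).toRingHom =
        Ψ.comp MvPolynomial.C from RingHom.ext fun x => by simp [Ψ]]
    rfl
  rw [← hpre]
  exact himg

end FormImage

variable {T S : Scheme.{u}}

/-- A constructible set over an affine scheme testing universal openness of all base changes. -/
theorem exists_universallyOpen_test (a : T ⟶ S) [IsAffine T] [IsAffine S] [LocallyQuasiFinite a]
    [LocallyOfFinitePresentation a] :
    ∃ (P : Scheme.{u}) (g : P ⟶ S) (E : Set P), IsAffine P ∧ IsConstructible E ∧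
      ∀ {S' : Scheme.{u}} (b : S' ⟶ S), IsAffine S' →
        (UniversallyOpen (pullback.snd a b) ↔ IsOpen (pullback.fst g b ⁻¹' E)) := by
  obtain ⟨Tb, j, π, hj, hjc, hπ, hπp, hjπ⟩ := exists_openImmersion_finite_fp a
  have : IsAffine Tb := isAffine_of_isAffineHom π
  let R := Γ(S, ⊤)
  let B := Γ(Tb, ⊤)
  algebraize [π.appTop.hom]
  have hpi : π = Tb.isoSpec.hom ≫ Spec.map π.appTop ≫ S.isoSpec.inv := by
    rw [← Category.assoc, Scheme.isoSpec_hom_naturality, Category.assoc, Iso.hom_inv_id, Category.comp_id]
  have : Module.Finite R B := ((HasAffineProperty.iff_of_isAffine (P := @IsFinite)).1 inferInstance).2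
  obtain ⟨d, g₀, hg₀⟩ := Module.Finite.exists_fin (R := R) (M := B)
  let aS (C : Type u) [CommRing C] [Algebra R C] : Spec (.of C) ⟶ S :=
    Spec.map (CommRingCat.ofHom (algebraMap R C)) ≫ S.isoSpec.inv
  let pT (C : Type u) [CommRing C] [Algebra R C] : Spec (.of (C ⊗[R] B)) ⟶ Tb :=
    Spec.map (CommRingCat.ofHom (Algebra.TensorProduct.includeRight : B →ₐ[R] C ⊗[R] B).toRingHom) ≫
      Tb.isoSpec.inv
  let pC (C : Type u) [CommRing C] [Algebra R C] : Spec (.of (C ⊗[R] B)) ⟶ Spec (.of C) :=
    Spec.map (CommRingCat.ofHom (algebraMap C (C ⊗[R] B)))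
  have sq (C : Type u) [CommRing C] [Algebra R C] : IsPullback (pT C) (pC C) π (aS C) := by
    refine (isPullback_SpecMap_of_isPushout _ _ _ _
      (CommRingCat.isPushout_tensorProduct R C B)).flip.of_iso (Iso.refl _) Tb.isoSpec.symm
        (Iso.refl _) S.isoSpec.symm (by simp [pT]) (by simp [pC]; rfl) ?_ (by simp [aS])
    rw [hpi]
    simp only [Iso.symm_hom, Iso.inv_hom_id_assoc]
    rfl
  let V : Set (PrimeSpectrum B) := Tb.isoSpec.inv ⁻¹' Set.range j
  -- openness of a base change to an affine scheme, on basic opens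
  have key1 (C : Type u) [CommRing C] [Algebra R C] :
      IsOpenMap (pullback.snd a (aS C)) ↔ ∀ t : C ⊗[R] B,
        IsOpen (PrimeSpectrum.comap (algebraMap C (C ⊗[R] B)) ''
          (PrimeSpectrum.comap (Algebra.TensorProduct.includeRight (R := R) (A := C)).toRingHom ⁻¹' V ∩
            (PrimeSpectrum.basicOpen t : Set (PrimeSpectrum _)))) := by
    let j' : pullback a (aS C) ⟶ Spec (.of (C ⊗[R] B)) :=
      (sq C).lift (pullback.fst a (aS C) ≫ j) (pullback.snd a (aS C))
        (by rw [Category.assoc, hjπ]; exact pullback.condition)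
    have hj1 : j' ≫ pT C = pullback.fst a (aS C) ≫ j := IsPullback.lift_fst _ _ _ _
    have hj2 : j' ≫ pC C = pullback.snd a (aS C) := IsPullback.lift_snd _ _ _ _
    have hsq : IsPullback (pullback.fst a (aS C)) j' j (pT C) := by
      refine IsPullback.of_bot ?_ hj1.symm (sq C)
      rw [hj2, hjπ]
      exact IsPullback.of_hasPullback a (aS C)
    have : IsOpenImmersion j' := MorphismProperty.of_isPullback hsq ‹_›
    have hrange : Set.range j' =
        PrimeSpectrum.comap (Algebra.TensorProduct.includeRight (R := R) (A := C)).toRingHom ⁻¹' V := by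
      have := Scheme.image_preimage_eq_of_isPullback hsq Set.univ
      rw [Set.preimage_univ, Set.image_univ, Set.image_univ] at this
      exact this
    have himg (W : Set (PrimeSpectrum (C ⊗[R] B))) : pullback.snd a (aS C) '' (j' ⁻¹' W) =
        PrimeSpectrum.comap (algebraMap C (C ⊗[R] B)) ''
          (PrimeSpectrum.comap (Algebra.TensorProduct.includeRight (R := R) (A := C)).toRingHom ⁻¹' V ∩ W) := by
      rw [← hrange, ← hj2, Scheme.Hom.comp_base, TopCat.coe_comp, Set.image_comp,
        Set.image_preimage_eq_range_inter]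
      rfl
    constructor
    · intro h t
      rw [← himg]
      exact h _ ((PrimeSpectrum.basicOpen t).2.preimage j'.continuous)
    · intro h U hU
      have hU' : IsOpen (j' '' U) := j'.isOpenEmbedding.isOpenMap U hU
      obtain ⟨ts, hts⟩ := PrimeSpectrum.isTopologicalBasis_basic_opens.open_eq_sUnion hU'
      have hUeq : U = j' ⁻¹' (j' '' U) := (j'.isOpenEmbedding.injective.preimage_image U).symm
      rw [hUeq, hts.2, Set.preimage_sUnion, Set.image_iUnion₂]
      refine isOpen_iUnion fun s => isOpen_iUnion fun hs => ?_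
      obtain ⟨t, rfl⟩ := hts.1 hs
      exact (himg _).symm ▸ h t
  let E : Set (PrimeSpectrum (MvPolynomial (Fin d) R)) := formImage R g₀ V
  refine ⟨Spec (.of (MvPolynomial (Fin d) R)), aS (MvPolynomial (Fin d) R), E, inferInstance, ?_, ?_⟩
  · let := MvPolynomial.algebraMvPolynomial (R := R) (S := B) (σ := Fin d)
    have hpb := isPullback_SpecMap_of_isPushout _ _ _ _
      (CommRingCat.isPushout_of_isPushout R (MvPolynomial (Fin d) R) B (MvPolynomial (Fin d) B))
    have hπ' : LocallyOfFinitePresentation (Spec.map (CommRingCat.ofHom (algebraMap R B))) :=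
      (HasRingHomProperty.Spec_iff (P := @LocallyOfFinitePresentation)).2
        ((HasRingHomProperty.iff_of_isAffine (P := @LocallyOfFinitePresentation)).1 hπp)
    have : CompactSpace (Spec (.of (MvPolynomial (Fin d) R))) :=
      inferInstanceAs (CompactSpace (PrimeSpectrum (MvPolynomial (Fin d) R)))
    have hm : LocallyOfFinitePresentation (Spec.map (CommRingCat.ofHom
        (MvPolynomial.map (algebraMap R B) : MvPolynomial (Fin d) R →+* _))) :=
      MorphismProperty.of_isPullback hpb.flip hπ'
    have hV : IsConstructible V :=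
      Tb.isoSpec.inv.isConstructible_preimage
        ((isCompact_range j.continuous).isConstructible j.isOpenEmbedding.isOpen_range)
    refine (Spec.map (CommRingCat.ofHom (MvPolynomial.map (algebraMap R B)))).isConstructible_image ?_
    refine IsConstructible.inter ?_ ?_
    · exact (Spec.map (CommRingCat.ofHom (MvPolynomial.C (σ := Fin d) (R := B)))).isConstructible_preimage hV
    · exact (PrimeSpectrum.isCompact_basicOpen _).isConstructible PrimeSpectrum.isOpen_basicOpen
  intro S' b hS'
  let A := Γ(S', ⊤)
  algebraize [b.appTop.hom]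
  have hb : b = S'.isoSpec.hom ≫ aS A := by
    change b = S'.isoSpec.hom ≫ Spec.map b.appTop ≫ S.isoSpec.inv
    rw [← Category.assoc, Scheme.isoSpec_hom_naturality, Category.assoc, Iso.hom_inv_id, Category.comp_id]
  let EA : Set (PrimeSpectrum (MvPolynomial (Fin d) A)) :=
    PrimeSpectrum.comap (MvPolynomial.map (algebraMap R A)) ⁻¹' E
  have hE : IsOpen (pullback.fst (aS (MvPolynomial (Fin d) R)) b ⁻¹' E) ↔ IsOpen EA := by
    let := MvPolynomial.algebraMvPolynomial (R := R) (S := A) (σ := Fin d)
    have hpb : IsPullback (Spec.map (CommRingCat.ofHom (MvPolynomial.map (algebraMap R A))))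
        (Spec.map (CommRingCat.ofHom (algebraMap A (MvPolynomial (Fin d) A))) ≫ S'.isoSpec.inv)
        (aS (MvPolynomial (Fin d) R)) b :=
      (isPullback_SpecMap_of_isPushout _ _ _ _
        (CommRingCat.isPushout_of_isPushout R (MvPolynomial (Fin d) R) A (MvPolynomial (Fin d) A))).of_iso
        (Iso.refl _) (Iso.refl _) S'.isoSpec.symm S.isoSpec.symm (by simp) (by simp) (by simp [aS])
        (by simp [hb, aS])
    have := hpb.isoPullback.hom.homeomorph.isOpen_preimage
      (s := pullback.fst (aS (MvPolynomial (Fin d) R)) b ⁻¹' E)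
    rw [← this]
    have e : hpb.isoPullback.hom.homeomorph ⁻¹' (pullback.fst (aS (MvPolynomial (Fin d) R)) b ⁻¹' E) = EA := by
      rw [← Set.preimage_comp]
      change (hpb.isoPullback.hom ≫ pullback.fst _ b) ⁻¹' E = EA
      rw [IsPullback.isoPullback_hom_fst]
      rfl
    rw [e]
  rw [hE]
  constructor
  · intro h
    let C := MvPolynomial (Fin d) A
    have hC : Spec.map (CommRingCat.ofHom (algebraMap A C)) ≫ S'.isoSpec.inv ≫ b = aS C := by
      rw [hb, Iso.inv_hom_id_assoc]
      simp only [aS, ← Spec.map_comp_assoc]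
      rfl
    have hopen : IsOpenMap (pullback.snd a (aS C)) := by
      rw [← hC, ← Category.assoc]
      have : UniversallyOpen (pullback.snd (pullback.snd a b)
          (Spec.map (CommRingCat.ofHom (algebraMap A C)) ≫ S'.isoSpec.inv)) :=
        MorphismProperty.pullback_snd _ _ h
      rw [← pullbackLeftPullbackSndIso_inv_snd_snd]
      exact ((pullbackLeftPullbackSndIso a b _).inv ≫ pullback.snd _ _).isOpenMap
    have := (key1 C).1 hopen (∑ i, MvPolynomial.X i ⊗ₜ[R] g₀ i)
    rw [image_inter_basicOpen_eq] at this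
    have e : (MvPolynomial.eval₂Hom (algebraMap R C) MvPolynomial.X) =
        MvPolynomial.map (algebraMap R A) :=
      MvPolynomial.ringHom_ext
        (fun r => (MvPolynomial.eval₂Hom_C _ _ _).trans (MvPolynomial.map_C (algebraMap R A) r).symm)
        (fun i => (MvPolynomial.eval₂Hom_X' _ _ _).trans (MvPolynomial.map_X (algebraMap R A) i).symm)
    rw [e] at this
    exact this
  intro hopen
  refine ⟨universally_mk' _ _ fun {T'} g' _ ↦ ?_⟩
  wlog hT : ∃ C, T' = Spec C generalizing T'
  · refine (IsZariskiLocalAtTarget.iff_of_openCover T'.affineCover).mpr fun i ↦ ?_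
    refine (MorphismProperty.cancel_left_of_respectsIso _
      ((pullbackRightPullbackFstIso ..).inv ≫ (pullbackSymmetry ..).hom) _).mp ?_
    simpa [Scheme.Cover.pullbackHom] using! this _ _ ⟨_, rfl⟩
  obtain ⟨C, rfl⟩ := hT
  obtain ⟨ψ, hψ⟩ := Spec.map_surjective (g' ≫ S'.isoSpec.hom)
  algebraize [ψ.hom, ψ.hom.comp (algebraMap R A)]
  have hC : g' ≫ b = aS C := by
    rw [hb, ← Category.assoc, ← hψ]
    simp only [aS, ← Spec.map_comp_assoc]
    rfl
  refine (MorphismProperty.cancel_left_of_respectsIso _ (pullbackSymmetry _ _).hom _).mp ?_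
  rw [pullbackSymmetry_hom_comp_fst]
  refine (MorphismProperty.cancel_left_of_respectsIso _ (pullbackLeftPullbackSndIso a b g').inv _).mp ?_
  rw [pullbackLeftPullbackSndIso_inv_snd_snd]
  suffices h2 : ∀ w, w = aS C → topologically @IsOpenMap (pullback.snd a w) from h2 _ hC
  rintro w rfl
  refine (key1 C).2 fun t => ?_
  obtain ⟨c, rfl⟩ : ∃ c : Fin d → C, ∑ i, c i ⊗ₜ[R] g₀ i = t := by
    induction t using TensorProduct.induction_on with
    | zero => exact ⟨0, by simp⟩
    | tmul x y =>
      obtain ⟨w, rfl⟩ := (Submodule.mem_span_range_iff_exists_fun R).1 (hg₀ ▸ Submodule.mem_top : y ∈ _)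
      exact ⟨fun i => w i • x, by simp [TensorProduct.tmul_sum, TensorProduct.smul_tmul]⟩
    | add x y hx hy =>
      obtain ⟨cx, rfl⟩ := hx
      obtain ⟨cy, rfl⟩ := hy
      exact ⟨cx + cy, by simp [TensorProduct.add_tmul, Finset.sum_add_distrib]⟩
  rw [image_inter_basicOpen_eq]
  have e : MvPolynomial.eval₂Hom (algebraMap R C) c =
      (MvPolynomial.eval₂Hom (algebraMap A C) c).comp (MvPolynomial.map (algebraMap R A)) :=
    MvPolynomial.ringHom_ext (fun r => by simp [IsScalarTower.algebraMap_apply R A C]) (fun i => by simp)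
  rw [e, PrimeSpectrum.comap_comp, Set.preimage_comp]
  exact hopen.preimage (PrimeSpectrum.continuous_comap _)

/-- Universal openness descends to a stage for locally quasi-finite morphisms of finite
presentation between affine schemes. -/
theorem descProp_universallyOpen_aux : LimDesc62.DescProp.{u}
    (((@LocallyOfFinitePresentation ⊓ @LocallyQuasiFinite) ⊓ @IsAffineHom) ⊓ LimDesc62.targetAff)
    @UniversallyOpen := by
  constructor
  intro I _ _ D c hc _ i _ _ T a _ _ ha h
  obtain ⟨⟨⟨hlfp, hlqf⟩, haff⟩, hS : IsAffine (D.obj i)⟩ := ha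
  have : LocallyOfFinitePresentation a := hlfp
  have : LocallyQuasiFinite a := hlqf
  have : IsAffineHom a := haff
  have : IsAffine T := isAffine_of_isAffineHom a
  obtain ⟨P, g, E, hP, hE, htest⟩ := exists_universallyOpen_test a
  have : IsAffineHom (c.π.app i) := isAffineHom_π_app D c hc i
  have hpt : IsAffine c.pt := isAffine_of_isAffineHom (c.π.app i)
  let D' := bcDiagram D g
  let c' := bcCone D c g (pullback.fst g (c.π.app i)) (pullback.snd g (c.π.app i)) pullback.condition
  have hc' : IsLimit c' := isLimitBcCone D c hc g _ _ (IsPullback.of_hasPullback _ _)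
  have hopen : IsOpen (pullback.fst g (c.π.app i) ⁻¹' E) := (htest (c.π.app i) hpt).1 h
  have : IsAffineHom g := inferInstance
  have : IsAffineHom (pullback.snd g (c.π.app i)) :=
    MorphismProperty.pullback_snd (P := @IsAffineHom) g (c.π.app i) ‹_›
  have : IsAffine (pullback g (c.π.app i)) :=
    @isAffine_of_isAffineHom _ _ (pullback.snd g (c.π.app i)) ‹_› hpt
  let U : c'.pt.Opens := ⟨_, hopen⟩
  have hU : IsCompact (U : Set c'.pt) := H98Nis.isCompact_of_isConstructible
    (Y := pullback g (c.π.app i)) ((pullback.fst g (c.π.app i)).isConstructible_preimage hE)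
  obtain ⟨k, -, W, hW, hWU⟩ := exists_preimage_eq_over D' c' hc' (Over.mk (𝟙 i)) U hU
  have hfst : c'.π.app k ≫ pullback.fst g (D.map k.hom) = pullback.fst g (c.π.app i) :=
    pullback.lift_fst _ _ _
  let G : Set (D'.obj k) := pullback.fst g (D.map k.hom) ⁻¹' E
  have hG : IsConstructible G := (pullback.fst g (D.map k.hom)).isConstructible_preimage hE
  have hWc : IsConstructible (W : Set (D'.obj k)) := hW.isConstructible W.2
  have hGW : c'.π.app k ⁻¹' ((G \ W) ∪ ((W : Set (D'.obj k)) \ G)) = ∅ := by
    have h1 : c'.π.app k ⁻¹' G = pullback.fst g (c.π.app i) ⁻¹' E := by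
      rw [← hfst]; rfl
    have h2 : c'.π.app k ⁻¹' (W : Set (D'.obj k)) = pullback.fst g (c.π.app i) ⁻¹' E :=
      congrArg SetLike.coe hWU
    rw [Set.preimage_union, Set.preimage_sdiff, Set.preimage_sdiff, h1, h2]
    simp
  obtain ⟨l, ψ, hl⟩ := LimDesc62.exists_preimage_constructible_eq_empty D' c' hc'
    ((hG.sdiff hWc).union (hWc.sdiff hG)) hGW
  refine ⟨l.left, l.hom, (htest (D.map l.hom) (isAffine_of_isAffineHom (D.map l.hom))).2 ?_⟩
  have e : pullback.fst g (D.map l.hom) ⁻¹' E = D'.map ψ ⁻¹' (W : Set (D'.obj k)) := by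
    have h1 : D'.map ψ ≫ pullback.fst g (D.map k.hom) = pullback.fst g (D.map l.hom) :=
      pullback.lift_fst _ _ _
    rw [← h1]
    ext x
    have := Set.eq_empty_iff_forall_notMem.1 hl x
    simp only [Set.mem_preimage, Set.mem_union, Set.mem_sdiff, G, not_or, not_and, not_not] at this
    exact ⟨fun hx => this.1 hx, fun hx => this.2 hx⟩
  rw [e]
  exact W.2.preimage (D'.map ψ).continuous

/-- Universal openness descends to a stage for locally quasi-finite morphisms of finite
presentation. -/
theorem descProp_universallyOpen : LimDesc62.DescProp.{u}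
    (@LocallyOfFinitePresentation ⊓ @LocallyQuasiFinite) @UniversallyOpen := by
  have := LimDesc62.isStableUnderBaseChange_lfp.{u}
  exact LimDesc62.DescProp.of_affine (Lim60.descProp_of_source
    (fun j f _ hf => by
      obtain ⟨h1 : LocallyOfFinitePresentation f, h2 : LocallyQuasiFinite f⟩ := hf
      exact ⟨(inferInstance : LocallyOfFinitePresentation (j ≫ f)),
        (inferInstance : LocallyQuasiFinite (j ≫ f))⟩)
    descProp_universallyOpen_aux)

/-- Locally quasi-finite and universally open descend together. -/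
theorem descProp_lqf_universallyOpen : LimDesc62.DescProp.{u}
    @LocallyOfFinitePresentation (@LocallyQuasiFinite ⊓ @UniversallyOpen) := by
  have := LimDesc62.isStableUnderBaseChange_lfp.{u}
  refine LimDesc62.DescProp.of_stage (Q := @LocallyQuasiFinite) (fun _ _ _ hf => hf.1)
    (LimDesc62.descProp_locallyQuasiFinite.mono_hyp
      (fun _ _ f (hf : LocallyOfFinitePresentation f) => (inferInstance : LocallyOfFiniteType f))) ?_
  constructor
  intro I _ _ D c hc _ i _ _ T a _ _ ha h
  obtain ⟨j, φ, hj⟩ := descProp_universallyOpen.desc D c hc i a ha h.2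
  exact ⟨j, φ, MorphismProperty.pullback_snd (P := @LocallyQuasiFinite) _ _ ha.2, hj⟩

end Groth.Agent.LimTop61
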