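import Mathlib

/-!
A versal family of clopen subschemes of a finite scheme of finite presentation.
-/

set_option autoImplicit false
set_option backward.isDefEq.respectTransparency false
set_option backward.defeqAttrib.useBackward true

universe u

open CategoryTheory CategoryTheory.Limits AlgebraicGeometry TensorProduct

namespace Groth.Agent.LimTop61

/-- Idempotents of base changes of a finite algebra of finite presentation are induced from a versal
one over an algebra of finite presentation. -/
theorem exists_versal_idempotent (A B : Type u) [CommRing A] [CommRing B] [Algebra A B]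
    [Module.Finite A B] [Algebra.FinitePresentation A B] :
    ∃ (R : Type u) (_ : CommRing R) (_ : Algebra A R), Algebra.FinitePresentation A R ∧
      ∃ e : R ⊗[A] B, IsIdempotentElem e ∧
        ∀ (A' : Type u) [CommRing A'] [Algebra A A'] (e' : A' ⊗[A] B), IsIdempotentElem e' →
          ∃ φ : R →ₐ[A] A', Algebra.TensorProduct.map φ (AlgHom.id A B) e = e' := by
  classical
  have : Module.FinitePresentation A B := .of_finite_of_finitePresentation A B
  obtain ⟨C, _, _, _, _, _, q, hq⟩ := Module.Finite.exists_free_surjective A B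
  obtain ⟨s, hs⟩ := Module.FinitePresentation.fg_ker q.toLinearMap hq
  let b := Module.Free.chooseBasis A C
  let κ := Module.Free.ChooseBasisIndex A C
  let P := MvPolynomial (κ ⊕ s) A
  let bP := Algebra.TensorProduct.basis P b
  let cP : P ⊗[A] C := ∑ i, (MvPolynomial.X (Sum.inl i) : P) ⊗ₜ[A] b i
  let z : P ⊗[A] C := cP * cP - cP - ∑ l : s, (MvPolynomial.X (Sum.inr l) : P) ⊗ₜ[A] (l : C)
  let I : Ideal P := Ideal.span (Set.range fun i => bP.repr z i)
  have hI : I.FG := ⟨Finset.univ.image fun i => bP.repr z i, by simp [I]⟩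
  let mR : P →ₐ[A] P ⧸ I := Ideal.Quotient.mkₐ A I
  have hz : Algebra.TensorProduct.map mR (AlgHom.id A C) z = 0 := by
    rw [← bP.sum_repr z, map_sum]
    refine Finset.sum_eq_zero fun i _ => ?_
    have : mR (bP.repr z i) = 0 :=
      Ideal.Quotient.eq_zero_iff_mem.2 (Ideal.subset_span ⟨i, rfl⟩)
    simp [bP, TensorProduct.smul_tmul', this]
  let ρ {A' : Type u} [CommRing A'] [Algebra A A'] (φ : P →ₐ[A] A') : P ⊗[A] C →ₐ[A] A' ⊗[A] B :=
    Algebra.TensorProduct.map φ q
  have hsq (l : s) : q (l : C) = 0 :=
    (hs.le (Submodule.subset_span l.2) : (l : C) ∈ LinearMap.ker q.toLinearMap)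
  have hρz {A' : Type u} [CommRing A'] [Algebra A A'] (φ : P →ₐ[A] A') :
      ρ φ z = ρ φ cP * ρ φ cP - ρ φ cP := by
    simp [z, ρ, hsq]
  refine ⟨P ⧸ I, inferInstance, inferInstance, Algebra.FinitePresentation.quotient hI, ρ mR cP, ?_,
    fun A' _ _ e' he' => ?_⟩
  · have h0 : ρ mR z = 0 := by
      rw [show ρ mR = (Algebra.TensorProduct.map (AlgHom.id A (P ⧸ I)) q).comp
        (Algebra.TensorProduct.map mR (AlgHom.id A C)) from Algebra.TensorProduct.ext'
          (fun p c => by simp [ρ]), AlgHom.comp_apply, hz, map_zero]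
    rw [hρz, sub_eq_zero] at h0
    exact h0
  · obtain ⟨c', hc'⟩ := LinearMap.lTensor_surjective A' (g := q.toLinearMap) hq e'
    let bA := Algebra.TensorProduct.basis A' b
    have hexact := lTensor_exact A' (f := (Finsupp.linearCombination A (Subtype.val : s → C)))
      (g := q.toLinearMap) (by
        intro x
        rw [← LinearMap.mem_ker, ← hs, ← LinearMap.coe_range, Finsupp.range_linearCombination,
          Subtype.range_coe_subtype]
        rfl) hq
    have hc'' : Algebra.TensorProduct.map (AlgHom.id A A') q c' = e' := hc'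
    have h0 : LinearMap.lTensor A' q.toLinearMap (c' * c' - c') = 0 := by
      change Algebra.TensorProduct.map (AlgHom.id A A') q (c' * c' - c') = 0
      rw [map_sub, map_mul, hc'', he'.eq, sub_self]
    obtain ⟨w, hw⟩ := (hexact _).1 h0
    let w' := TensorProduct.finsuppScalarRight A A A' s w
    have hww : c' * c' - c' = ∑ l : s, w' l ⊗ₜ[A] (l : C) := by
      rw [← hw]
      clear hw
      induction w using TensorProduct.induction_on with
      | zero => simp [w']
      | tmul a v =>
        simp only [w', LinearMap.lTensor_tmul, Finsupp.linearCombination_apply,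
          TensorProduct.finsuppScalarRight_apply_tmul_apply]
        rw [Finsupp.sum_fintype _ _ (fun _ => by simp), TensorProduct.tmul_sum]
        exact Finset.sum_congr rfl fun l _ => (TensorProduct.smul_tmul _ _ _).symm
      | add x y hx hy =>
        simp only [w', map_add, Finsupp.add_apply, TensorProduct.add_tmul,
          Finset.sum_add_distrib] at hx hy ⊢
        rw [hx, hy]
    let φ : P →ₐ[A] A' := MvPolynomial.aeval (Sum.elim (fun i => bA.repr c' i) w')
    let Φ := Algebra.TensorProduct.map φ (AlgHom.id A C)
    have hφl : ∀ i, φ (MvPolynomial.X (Sum.inl i)) = bA.repr c' i := fun i =>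
      MvPolynomial.aeval_X _ _
    have hφr : ∀ l, φ (MvPolynomial.X (Sum.inr l)) = w' l := fun l => MvPolynomial.aeval_X _ _
    have hΦc : Φ cP = c' := by
      conv_rhs => rw [← bA.sum_repr c']
      simp [Φ, cP, hφl, bA, TensorProduct.smul_tmul']; rfl
    have hΦz : Φ z = 0 := by
      simp only [z, map_sub, map_mul, map_sum, hΦc]
      rw [hww, sub_eq_zero]
      simp [Φ, hφr]
    have hφI : ∀ a ∈ I, φ a = 0 := by
      change I ≤ RingHom.ker φ.toRingHom
      rw [Ideal.span_le]
      rintro _ ⟨i, rfl⟩
      have : Φ z = ∑ j, φ (bP.repr z j) • bA j := by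
        conv_lhs => rw [← bP.sum_repr z]
        simp [Φ, bP, bA, TensorProduct.smul_tmul']
      rw [hΦz] at this
      exact Fintype.linearIndependent_iff.1 bA.linearIndependent _ this.symm i
    refine ⟨Ideal.Quotient.liftₐ I φ hφI, ?_⟩
    rw [← AlgHom.comp_apply, ← hc'', ← hΦc]
    change _ = (Algebra.TensorProduct.map (AlgHom.id A A') q).comp Φ cP
    congr 1
    exact Algebra.TensorProduct.ext' fun p c => by simp [ρ, Φ, mR]

end Groth.Agent.LimTop61
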